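import Groth.Agent.L29.Dual.Devissage
import Groth.Prelude.Def_CAlg
import Mathlib.RingTheory.Ideal.AssociatedPrime.Finiteness

/-!
Depth of a finite module as the least degree in which `Hom(M, W[-i])` is nonzero, `W` a normalized
dualizing complex.
-/

universe u

open CategoryTheory CategoryTheory.Limits
open scoped Pointwise

attribute [local instance] HasDerivedCategory.standard

set_option backward.isDefEq.respectTransparency false

namespace Groth.L29.HomD

variable {A : Type u} [CommRing A] [IsNoetherianRing A] [IsLocalRing A] {W : Dual.D A}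

open IsLocalRing

/-- the residue field has a nonzero map to a normalized dualizing complex -/
theorem nontrivial_residueField (hW : Dual.IsDualizing A W) (hn : Dual.IsNormalized A W) :
    Nontrivial (Dual.inD A (ResidueField A) ⟶ W⟦(0 : ℤ)⟧) := by
  rw [← not_subsingleton_iff_nontrivial]
  intro h0
  have hall : ∀ i : ℤ, Subsingleton (Dual.inD A (ResidueField A) ⟶ W⟦i⟧) := fun i => by
    rcases eq_or_ne i 0 with rfl | hi
    exacts [h0, hn i hi]
  have hshift : ∀ (k i : ℤ) (M : Type u) [AddCommGroup M] [Module A M],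
      Subsingleton (Dual.inD A M ⟶ W⟦k + i⟧) → Subsingleton (Dual.inD A M ⟶ (W⟦k⟧)⟦i⟧) :=
    fun k i M _ _ h => (Linear.homCongr A (Iso.refl (Dual.inD A M))
      ((shiftFunctorAdd' (Dual.D A) k i (k + i) rfl).app W)).toEquiv.symm.subsingleton
  -- all shifts of `W` are good and normalized
  have hzero : ∀ k : ℤ, Subsingleton (Dual.HD A W k) := fun k => by
    have hgood := good_of_isDualizing hW
    obtain ⟨a, ha⟩ := hgood.low
    let W' : Dual.D A := W⟦k - 1⟧
    have hn' : Dual.IsNormalized A W' := fun i _ => hshift (k - 1) i _ (hall _)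
    have hgood' : Good W' := by
      refine ⟨⟨a - (k - 1), fun M _ _ i hi => hshift (k - 1) i M (ha M _ (by lia))⟩, fun i => ?_⟩
      haveI := hgood.fin (k - 1 + i)
      exact Module.Finite.equiv
        (Groth.L10.hShiftIso (A := ModuleCat.{u} A) W (k - 1) i _ rfl).toLinearEquiv.symm
    haveI : Subsingleton (Dual.inD A A ⟶ (shiftFunctor (Dual.D A) (k - 1) ⋙
        shiftFunctor (Dual.D A) (1 : ℤ)).obj W) := subsingleton_of_pos W' hgood' hn' A 1 (by lia)
    haveI : Subsingleton (Dual.inD A A ⟶ W⟦k⟧) :=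
      (Linear.homCongr A (Iso.refl (Dual.inD A A))
        ((shiftFunctorAdd' (Dual.D A) (k - 1) 1 k (by lia)).app W)).toEquiv.subsingleton
    exact (evalShiftEquiv W k).toEquiv.symm.subsingleton
  have hW0 : IsZero W := by
    have hH : ∀ i : ℤ, IsZero ((DerivedCategory.homologyFunctor (ModuleCat.{u} A) i).obj W) :=
      fun i => haveI := hzero i; ModuleCat.isZero_of_subsingleton _
    haveI : DerivedCategory.IsLE W 0 := (DerivedCategory.isLE_iff W 0).2 fun i _ => hH i
    haveI : DerivedCategory.IsGE W 1 := (DerivedCategory.isGE_iff W 1).2 fun i _ => hH i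
    exact DerivedCategory.TStructure.t.isZero W 0 1 (by lia)
  exact one_ne_zero (hW.toEnd_bijective.1 (hW0.eq_of_src _ _) : (1 : A) = 0)

/-- a regular sequence of length `r` kills the degrees `-δ`, `δ < r` -/
theorem subsingleton_of_regular (hW : Dual.IsDualizing A W) (hn : Dual.IsNormalized A W) :
    ∀ (rs : List A) (M : Type u) [AddCommGroup M] [Module A M] [Module.Finite A M],
      RingTheory.Sequence.IsWeaklyRegular M rs → (∀ r ∈ rs, r ∈ maximalIdeal A) →
      ∀ δ : ℕ, δ < rs.length → Subsingleton (Dual.inD A M ⟶ W⟦(-(δ : ℤ))⟧) := by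
  intro rs
  induction rs with
  | nil => intro M _ _ _ _ _ δ hδ; simp at hδ
  | cons x rs ih =>
    intro M _ _ _ hreg hmem δ hδ
    rw [RingTheory.Sequence.isWeaklyRegular_cons_iff] at hreg
    let f := x • (LinearMap.id : M →ₗ[A] M)
    have hgood := good_of_isDualizing hW
    haveI := finite_hom W hgood M (-(δ : ℤ))
    have hex := exact_left W f (Submodule.mkQ (x • ⊤ : Submodule A M)) (fun a b h => hreg.1 h)
      (Submodule.mkQ_surjective _) (exact_smul x) (-(δ : ℤ))
    have hQ : Subsingleton (Dual.inD A (QuotSMulTop x M) ⟶ W⟦-(δ : ℤ) + 1⟧) := by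
      rcases δ with _ | δ
      · exact subsingleton_of_pos W hgood hn _ _ (by simp)
      · rw [show -((δ + 1 : ℕ) : ℤ) + 1 = -(δ : ℤ) by push_cast; ring]
        exact ih _ hreg.2 (fun r hr => hmem r (List.mem_cons_of_mem _ hr)) δ (by simpa using hδ)
    refine SuppDim.subsingleton_of_smul_surjective (hmem x List.mem_cons_self) fun φ => ?_
    obtain ⟨ψ, hψ⟩ := (hex φ).1 (hQ.elim _ _)
    exact ⟨ψ, by rw [← hψ, pre_smul, pre_id]; rfl⟩

/-- a regular sequence whose length is a nonvanishing degree -/
theorem exists_regular_nontrivial (hW : Dual.IsDualizing A W) (hn : Dual.IsNormalized A W) :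
    ∀ (d : ℕ) (M : Type u) [AddCommGroup M] [Module A M] [Module.Finite A M] [Nontrivial M],
      Module.supportDim A M ≤ (d : WithBot ℕ∞) →
      ∃ rs : List A, RingTheory.Sequence.IsWeaklyRegular M rs ∧ (∀ r ∈ rs, r ∈ maximalIdeal A) ∧
        Nontrivial (Dual.inD A M ⟶ W⟦(-(rs.length : ℤ))⟧) := by
  intro d
  induction d using Nat.strong_induction_on with
  | _ d ih =>
    intro M _ _ _ _ hM
    have hgood := good_of_isDualizing hW
    by_cases hx : ∃ x ∈ maximalIdeal A, IsSMulRegular M x
    · obtain ⟨x, hxm, hreg⟩ := hx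
      haveI : Nontrivial (QuotSMulTop x M) := by
        rw [← not_subsingleton_iff_nontrivial]
        intro hs
        refine not_nontrivial_iff_subsingleton.2
          (SuppDim.subsingleton_of_smul_surjective (N := M) hxm fun m => ?_) ‹Nontrivial M›
        obtain ⟨y, -, hy⟩ := (Submodule.mem_smul_pointwise_iff_exists m x ⊤).1
          ((Submodule.Quotient.mk_eq_zero _).1 (hs.elim (Submodule.Quotient.mk m) 0))
        exact ⟨y, hy⟩
      have hdim := Module.supportDim_quotSMulTop_succ_eq_supportDim hreg hxm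
      obtain ⟨d', hd', hQd⟩ : ∃ d' < d, Module.supportDim A (QuotSMulTop x M) ≤ (d' : WithBot ℕ∞) := by
        have hne := Module.supportDim_ne_bot_of_nontrivial A (QuotSMulTop x M)
        rw [← hdim] at hM
        revert hM hne
        generalize Module.supportDim A (QuotSMulTop x M) = s
        intro hle hne
        obtain ⟨s, rfl⟩ := WithBot.ne_bot_iff_exists.1 hne
        have hle' : s + 1 ≤ (d : ℕ∞) := WithBot.coe_le_coe.1 hle
        obtain ⟨k, rfl⟩ := ENat.ne_top_iff_exists.1 (show s ≠ ⊤ by rintro rfl; simp at hle')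
        exact ⟨k, by exact_mod_cast hle', le_rfl⟩
      obtain ⟨rs, hrs, hmem, hnt⟩ := ih d' hd' (QuotSMulTop x M) hQd
      refine ⟨x :: rs, (RingTheory.Sequence.isWeaklyRegular_cons_iff _ _ _).2 ⟨hreg, hrs⟩, fun r hr => ?_, ?_⟩
      · rcases List.mem_cons.1 hr with rfl | hr
        exacts [hxm, hmem r hr]
      rw [← not_subsingleton_iff_nontrivial]
      intro hs
      refine not_nontrivial_iff_subsingleton.2 ?_ hnt
      have hvan : Subsingleton (Dual.inD A M ⟶ W⟦-(rs.length : ℤ)⟧) :=
        subsingleton_of_regular hW hn (x :: rs) M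
          ((RingTheory.Sequence.isWeaklyRegular_cons_iff _ _ _).2 ⟨hreg, hrs⟩)
          (fun r hr => by rcases List.mem_cons.1 hr with rfl | hr; exacts [hxm, hmem r hr])
          rs.length (by simp)
      let f := x • (LinearMap.id : M →ₗ[A] M)
      have hex := exact_right W f (Submodule.mkQ (x • ⊤ : Submodule A M)) (fun a b h => hreg h)
        (Submodule.mkQ_surjective _) (exact_smul x) (-((x :: rs).length : ℤ))
      have hi : -((x :: rs).length : ℤ) + 1 = -(rs.length : ℤ) := by simp
      rw [← hi] at hvan ⊢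
      refine subsingleton_of_forall_eq 0 fun φ => ?_
      obtain ⟨ψ, rfl⟩ := (hex φ).1 (hvan.elim _ _)
      rw [hs.elim ψ 0, map_zero]
    · push Not at hx
      refine ⟨[], RingTheory.Sequence.IsWeaklyRegular.nil A M, by simp, ?_⟩
      have hsub : ((maximalIdeal A : Ideal A) : Set A) ⊆ ⋃ p ∈ associatedPrimes A M, p := by
        rw [biUnion_associatedPrimes_eq_zero_divisors A M]
        intro a ha
        obtain ⟨y, z, hyz, hne⟩ : ∃ y z : M, a • y = a • z ∧ y ≠ z := by
          simpa [IsSMulRegular, Function.Injective] using hx a ha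
        exact ⟨y - z, sub_ne_zero.2 hne, by rw [smul_sub, hyz, sub_self]⟩
      obtain ⟨P, hP, hle⟩ := ((maximalIdeal A).subset_union_prime_finite (associatedPrimes.finite A M)
        (f := id) 0 0 fun _ h _ _ => h.isPrime).1 hsub
      obtain rfl : P = maximalIdeal A := le_antisymm (le_maximalIdeal hP.isPrime.ne_top) hle
      obtain ⟨-, g, hg⟩ := (isAssociatedPrime_iff_exists_injective_linearMap _ _).1 hP
      rw [← not_subsingleton_iff_nontrivial]
      intro hs
      refine not_nontrivial_iff_subsingleton.2 ?_ (nontrivial_residueField hW hn)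
      haveI : Subsingleton (Dual.inD A M ⟶ W⟦(0 : ℤ)⟧) := by simpa using hs
      haveI := subsingleton_of_pos W hgood hn (M ⧸ LinearMap.range g) ((0 : ℤ) + 1) (by lia)
      refine subsingleton_of_forall_eq 0 fun φ => ?_
      obtain ⟨ψ, hψ⟩ := (exact_left W g (LinearMap.range g).mkQ hg (Submodule.mkQ_surjective _)
        g.exact_map_mkQ_range 0 φ).1 (Subsingleton.elim _ _)
      rw [← hψ, Subsingleton.elim ψ 0, map_zero]

/-- the depth is the first nonvanishing degree -/
theorem depth_spec (hW : Dual.IsDualizing A W) (hn : Dual.IsNormalized A W) (M : Type u)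
    [AddCommGroup M] [Module A M] [Module.Finite A M] [Nontrivial M] :
    ∃ n : ℕ, LocCoh.depth A M = n ∧
      (∀ δ : ℕ, δ < n → Subsingleton (Dual.inD A M ⟶ W⟦(-(δ : ℤ))⟧)) ∧
      Nontrivial (Dual.inD A M ⟶ W⟦(-(n : ℤ))⟧) := by
  obtain ⟨d, hd⟩ : ∃ d : ℕ, Module.supportDim A M ≤ (d : WithBot ℕ∞) := by
    have h := Module.supportDim_ne_bot_of_nontrivial A M
    have hlt : Module.supportDim A M < ⊤ :=
      lt_of_le_of_lt (Module.supportDim_le_ringKrullDim A M) ringKrullDim_lt_top
    revert h hlt
    generalize Module.supportDim A M = s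
    intro h hlt
    obtain ⟨s, rfl⟩ := WithBot.ne_bot_iff_exists.1 h
    obtain ⟨k, rfl⟩ := ENat.ne_top_iff_exists.1 (show s ≠ ⊤ by rintro rfl; exact lt_irrefl _ hlt)
    exact ⟨k, le_rfl⟩
  obtain ⟨rs, hrs, hmem, hnt⟩ := exists_regular_nontrivial hW hn d M hd
  refine ⟨rs.length, ?_, fun δ hδ => subsingleton_of_regular hW hn rs M hrs hmem δ hδ, hnt⟩
  unfold LocCoh.depth LocCoh.idealDepth
  rw [if_neg fun h => top_ne_bot (α := Submodule A M)
    (Submodule.eq_bot_of_le_smul_of_le_jacobson_bot (maximalIdeal A) (⊤ : Submodule A M)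
      Module.Finite.fg_top h.ge (maximalIdeal_le_jacobson _))]
  refine le_antisymm (iSup₂_le fun ss ⟨hss, hmem'⟩ => ?_) (le_iSup₂_of_le rs ⟨hrs, hmem⟩ le_rfl)
  by_contra h
  exact not_nontrivial_iff_subsingleton.2
    (subsingleton_of_regular hW hn ss M hss hmem' rs.length (by exact_mod_cast not_le.1 h)) hnt

end Groth.L29.HomD
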