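import Groth.Agent.L29.Dual.Biduality
import Mathlib.RingTheory.Ideal.Quotient.Operations

/-!
A dualizing complex has exactly one degree at a residue field.
-/

universe u

open CategoryTheory CategoryTheory.Limits CategoryTheory.Pretriangulated

attribute [local instance] HasDerivedCategory.standard

set_option backward.isDefEq.respectTransparency false

namespace Groth.L29.HomD

variable {A : Type u} [CommRing A]

local notation "tt" => DerivedCategory.TStructure.t

/-- transport of `IsDualizing` along an isomorphism -/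
theorem isDualizing_of_iso {X Y : Dual.D A} (e : X ≅ Y) (h : Dual.IsDualizing A X) :
    Dual.IsDualizing A Y where
  isNoetherianRing := h.isNoetherianRing
  finite_injective_dimension := by
    obtain ⟨a, b, hab⟩ := h.finite_injective_dimension
    exact ⟨a, b, fun M _ _ i hi =>
      haveI := hab M i hi
      (Linear.homCongr A (Iso.refl (Dual.inD A M)) ((shiftFunctor (Dual.D A) i).mapIso e)).symm.toEquiv.subsingleton⟩
  finite_cohomology i :=
    haveI := h.finite_cohomology i
    Module.Finite.equiv ((DerivedCategory.homologyFunctor (ModuleCat.{u} A) i).mapIso e).toLinearEquiv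
  toEnd_bijective := by
    have : (fun a : A => a • 𝟙 Y) = (Linear.homCongr A e e) ∘ fun a : A => a • 𝟙 X := by
      funext a
      rw [Function.comp_apply, map_smul]
      congr 1
      simp [Linear.homCongr]
    rw [this]
    exact (Linear.homCongr A e e).bijective.comp h.toEnd_bijective
  ext_self_subsingleton i hi :=
    haveI := h.ext_self_subsingleton i hi
    (Linear.homCongr A e ((shiftFunctor (Dual.D A) i).mapIso e)).symm.toEquiv.subsingleton

lemma isGE_of_lower {W : Dual.D A} (a : ℤ) (h : ∀ (M : Type u) [AddCommGroup M] [Module A M] (i : ℤ),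
    i < a → Subsingleton (Dual.inD A M ⟶ W⟦i⟧)) : W.IsGE a :=
  (DerivedCategory.isGE_iff W a).2 fun i hi =>
    haveI := h A i hi
    haveI := (evalShiftEquiv W i).symm.toEquiv.subsingleton
    ModuleCat.isZero_of_subsingleton _

variable (W : Dual.D A)

/-- `Hom(M^n, W[i]) = Hom(M, W[i])^n` -/
noncomputable def prePiEquiv (M : Type u) [AddCommGroup M] [Module A M] (n : ℕ) (i : ℤ) :
    (Dual.inD A (Fin n → M) ⟶ W⟦i⟧) ≃ₗ[A] (Fin n → (Dual.inD A M ⟶ W⟦i⟧)) :=
  LinearEquiv.ofBijective (LinearMap.pi fun j => pre W (LinearMap.single A (fun _ : Fin n => M) j) i) <| by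
    have hadd : ∀ (φ : Dual.inD A (Fin n → M) ⟶ W⟦i⟧),
        φ = ∑ j, pre W (LinearMap.proj j) i (pre W (LinearMap.single A (fun _ : Fin n => M) j) i φ) := by
      intro φ
      let P : ((Fin n → M) →ₗ[A] (Fin n → M)) →+ (Dual.inD A (Fin n → M) ⟶ W⟦i⟧) :=
        { toFun := fun f => pre W f i φ
          map_zero' := by rw [pre_zero]; rfl
          map_add' := fun f g => by rw [pre_add]; rfl }
      have hid : (LinearMap.id : (Fin n → M) →ₗ[A] _) =
          ∑ j, (LinearMap.single A (fun _ : Fin n => M) j) ∘ₗ LinearMap.proj j := by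
        refine LinearMap.ext fun x => ?_
        simp [Finset.univ_sum_single]
      calc φ = P LinearMap.id := by simp [P, pre_id]
        _ = _ := by
          rw [hid, map_sum]
          refine Finset.sum_congr rfl fun j _ => ?_
          change pre W _ i φ = _
          rw [pre_comp]; rfl
    constructor
    · rw [injective_iff_map_eq_zero]
      intro φ hφ
      rw [hadd φ]
      refine Finset.sum_eq_zero fun j _ => ?_
      rw [show pre W (LinearMap.single A (fun _ : Fin n => M) j) i φ = 0 from congrFun hφ j, map_zero]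
    · intro ψ
      refine ⟨∑ j, pre W (LinearMap.proj j) i (ψ j), funext fun k => ?_⟩
      rw [LinearMap.pi_apply, map_sum, Finset.sum_eq_single k]
      · rw [← LinearMap.comp_apply, ← pre_comp, LinearMap.proj_comp_single_same, pre_id]; rfl
      · intro j _ hj
        rw [← LinearMap.comp_apply, ← pre_comp, LinearMap.proj_comp_single_ne A _ j k hj, pre_zero]; rfl
      · simp

variable (m : Ideal A) [m.IsMaximal]

/-- a finite module killed by a maximal ideal is a power of the residue field -/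
lemma exists_equiv_pow (H : Type u) [AddCommGroup H] [Module A H] [Module.Finite A H]
    (h : ∀ x ∈ m, ∀ y : H, x • y = 0) : ∃ r : ℕ, Nonempty (H ≃ₗ[A] (Fin r → A ⧸ m)) := by
  letI := Ideal.Quotient.field m
  have htor : Module.IsTorsionBySet A H m := fun y x => h x.1 x.2 y
  letI : Module (A ⧸ m) H := htor.module
  haveI : IsScalarTower A (A ⧸ m) H := Module.IsTorsionBySet.isScalarTower htor
  haveI : Module.Finite (A ⧸ m) H := Module.Finite.of_restrictScalars_finite A (A ⧸ m) H
  exact ⟨_, ⟨(Module.finBasis (A ⧸ m) H).equivFun.restrictScalars A⟩⟩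

/-- vanishing of `Hom(Y, W[l])` from the degrees of `W` at the residue field -/
lemma subsingleton_of_degrees (Y : Dual.D A) (lo hi l : ℤ) [Y.IsGE lo] [Y.IsLE hi]
    (hY : ∀ n, lo ≤ n → n ≤ hi → Module.Finite A (Dual.HD A Y n) ∧
      ∀ x ∈ m, ∀ y : Dual.HD A Y n, x • y = 0)
    (hW : ∀ n, lo ≤ n → n ≤ hi → Subsingleton (Dual.inD A (A ⧸ m) ⟶ W⟦l + n⟧)) :
    Subsingleton (Y ⟶ W⟦l⟧) := by
  refine bounded_induction (fun Z => Subsingleton (Z ⟶ W⟦l⟧)) ?_ ?_ ?_ Y lo hi ?_
  · intro X Z e hX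
    haveI := hX
    exact ((Linear.homCongr A e (Iso.refl _)).symm.toEquiv).subsingleton
  · intro T hT h1 h3
    exact subsingleton_of_triangle T hT _ h1 h3
  · intro X hX
    exact ⟨fun p q => hX.eq_of_src p q⟩
  · intro n h1 h2
    obtain ⟨hf, hk⟩ := hY n h1 h2
    haveI := hW n h1 h2
    obtain ⟨r, ⟨e⟩⟩ := exists_equiv_pow m (Dual.HD A Y n) hk
    haveI : Subsingleton (Dual.inD A (Dual.HD A Y n) ⟶ W⟦l + n⟧) :=
      ((preEquiv W e (l + n)).symm.trans (prePiEquiv W (A ⧸ m) r (l + n))).toEquiv.subsingleton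
    exact (singleHomEquiv W _ n l).toEquiv.subsingleton

omit [m.IsMaximal] in
lemma smul_hom_residue (i : ℤ) (x : A) (hx : x ∈ m) (φ : Dual.inD A (A ⧸ m) ⟶ W⟦i⟧) : x • φ = 0 := by
  have h : x • (LinearMap.id : (A ⧸ m) →ₗ[A] A ⧸ m) = 0 := by
    refine LinearMap.ext fun q => ?_
    obtain ⟨q, rfl⟩ := Ideal.Quotient.mk_surjective q
    exact Ideal.Quotient.eq_zero_iff_mem.2 (Ideal.mul_mem_right _ _ hx)
  have := pre_smul W x (LinearMap.id : (A ⧸ m) →ₗ[A] A ⧸ m) i
  rw [h, pre_zero, pre_id] at this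
  exact (LinearMap.congr_fun this φ).symm

/-- a dualizing complex has one degree at each residue field, of rank one -/
theorem residue_degree [IsNoetherianRing A] {ω : Dual.D A} (hω : Dual.IsDualizing A ω) :
    ∃ n : ℤ, (∀ i : ℤ, i ≠ n → Subsingleton (Dual.inD A (A ⧸ m) ⟶ ω⟦i⟧)) ∧
      Nonempty ((Dual.inD A (A ⧸ m) ⟶ ω⟦n⟧) ≃ₗ[A] (A ⧸ m)) := by
  obtain ⟨a, b, hab0⟩ := hω.finite_injective_dimension
  haveI := isGE_of_lower a fun M _ _ i hi => hab0 M i (Or.inl hi)
  obtain ⟨I, _, hinj, _, ⟨eI⟩⟩ := exists_injRep ω a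
  haveI : ∀ n, Injective (I.X n) := fun n =>
    haveI := hinj n
    Module.injective_object_of_injective_module A (I.X n)
  have hI := isDualizing_of_iso eI.symm hω
  have hab : ∀ (M : Type u) [AddCommGroup M] [Module A M] (i : ℤ),
      (i < a ∨ b < i) → Subsingleton (Dual.inD A M ⟶ (DRing.toD I)⟦i⟧) := fun M _ _ i hi =>
    haveI := hab0 M i hi
    (Linear.homCongr A (Iso.refl (Dual.inD A M)) ((shiftFunctor (Dual.D A) i).mapIso eI)).toEquiv.subsingleton
  suffices h : ∃ n : ℤ, (∀ i : ℤ, i ≠ n → Subsingleton (Dual.inD A (A ⧸ m) ⟶ (DRing.toD I)⟦i⟧)) ∧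
      Nonempty ((Dual.inD A (A ⧸ m) ⟶ (DRing.toD I)⟦n⟧) ≃ₗ[A] (A ⧸ m)) by
    obtain ⟨n, h1, ⟨h2⟩⟩ := h
    refine ⟨n, fun i hi => ?_, ⟨(Linear.homCongr A (Iso.refl (Dual.inD A (A ⧸ m)))
      ((shiftFunctor (Dual.D A) n).mapIso eI)).symm ≪≫ₗ h2⟩⟩
    haveI := h1 i hi
    exact (Linear.homCongr A (Iso.refl (Dual.inD A (A ⧸ m)))
      ((shiftFunctor (Dual.D A) i).mapIso eI)).symm.toEquiv.subsingleton
  clear hω eI hab0
  let κ : ModuleCat.{u} A := ModuleCat.of A (A ⧸ m)
  haveI : Module.Finite A κ := inferInstanceAs (Module.Finite A (A ⧸ m))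
  have bid := fun l => biduality I a b hab hI.toEnd_bijective hI.ext_self_subsingleton l κ inferInstance
  let W' := DRing.toD I
  let X := DRing.toD (HM I κ)
  let K : ℤ → Prop := fun j => Nontrivial (Dual.inD A (A ⧸ m) ⟶ W'⟦j⟧)
  have hgood := good_of_isDualizing hI
  have hX : ∀ n, Module.Finite A (Dual.HD A X n) ∧ ∀ x ∈ m, ∀ y : Dual.HD A X n, x • y = 0 := by
    intro n
    haveI := finite_hom W' hgood (A ⧸ m) n
    let e := homologyEquiv κ I n
    refine ⟨Module.Finite.equiv (show (Dual.inD A (A ⧸ m) ⟶ W'⟦n⟧) ≃ₗ[A] _ from e.symm), fun x hx y => e.injective ?_⟩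
    rw [map_smul, map_zero]
    exact smul_hom_residue W' m n x hx (e y)
  have hnotK : ∀ n, ¬ K n → Subsingleton (Dual.inD A (A ⧸ m) ⟶ W'⟦n⟧) := fun n hn =>
    not_nontrivial_iff_subsingleton.1 hn
  haveI hκ : Nontrivial κ := Ideal.Quotient.nontrivial_iff.2 (Ideal.IsMaximal.ne_top ‹_›)
  haveI : X.IsGE a := isGE_HM I a b hab κ
  haveI : X.IsLE b := isLE_HM I a b hab κ
  have hKne : ∃ j, K j := by
    by_contra h
    push Not at h
    haveI := subsingleton_of_degrees W' m X a b 0 (fun n _ _ => hX n) (fun n _ _ => hnotK _ (h _))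
    haveI : Subsingleton (G I κ 0) := this
    exact not_subsingleton κ ((bid 0).2 rfl).1.subsingleton
  have hKb : ∀ j, K j → a ≤ j ∧ j ≤ b := fun j hj => by
    by_contra h
    haveI := hab (A ⧸ m) j (by lia)
    exact not_subsingleton_iff_nontrivial.2 hj this
  classical
  obtain ⟨p, hp, hpmin⟩ := Int.exists_least_of_bdd ⟨a, fun j hj => (hKb j hj).1⟩ hKne
  obtain ⟨q, hq, hqmax⟩ := Int.exists_greatest_of_bdd ⟨b, fun j hj => (hKb j hj).2⟩ hKne
  have hdeg : ∀ n, ¬ K n → IsZero ((DerivedCategory.homologyFunctor (ModuleCat.{u} A) n).obj X) :=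
    fun n hn =>
      haveI := hnotK n hn
      haveI := (homologyEquiv κ I n).toEquiv.subsingleton
      ModuleCat.isZero_of_subsingleton _
  haveI : X.IsGE p := (DerivedCategory.isGE_iff X p).2 fun n hn => hdeg n fun h => by
    have := hpmin n h; lia
  haveI : X.IsLE q := (DerivedCategory.isLE_iff X q).2 fun n hn => hdeg n fun h => by
    have := hqmax n h; lia
  -- the top cohomology
  obtain ⟨hHf, hHk⟩ := hX q
  obtain ⟨r, ⟨er⟩⟩ := exists_equiv_pow m (Dual.HD A X q) hHk
  let R := ((tt).truncGE q).obj X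
  haveI : DerivedCategory.IsGE R q := inferInstance
  haveI : DerivedCategory.IsLE R q := inferInstanceAs ((tt).IsLE (((tt).truncGE q).obj X) q)
  obtain ⟨eR⟩ := Groth.L10.exists_iso_single_H (A := ModuleCat.{u} A) R q
  haveI := Groth.L10.isIso_H_π (A := ModuleCat.{u} A) q q le_rfl X
  let eR' : R ≅ (DerivedCategory.singleFunctor (ModuleCat.{u} A) q).obj
      ((DerivedCategory.homologyFunctor (ModuleCat.{u} A) q).obj X) :=
    eR ≪≫ (DerivedCategory.singleFunctor _ q).mapIso
      (asIso ((DerivedCategory.homologyFunctor _ q).map (((tt).truncGEπ q).app X))).symm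
  -- restriction along the truncation is injective
  let ρ : (R ⟶ W'⟦p - q⟧) →ₗ[A] G I κ (p - q) := Linear.leftComp A _ (((tt).truncGEπ q).app X)
  let Y := (((tt).truncLT q).obj X)⟦(1 : ℤ)⟧
  have hρ : Function.Injective ρ := by
    rw [injective_iff_map_eq_zero]
    intro ψ hψ
    obtain ⟨g, rfl⟩ := Triangle.yoneda_exact₃ _ ((tt).triangleLTGE_distinguished q X) ψ hψ
    let L := ((tt).truncLT q).obj X
    haveI hLGE : DerivedCategory.IsGE L p := by
      rw [DerivedCategory.isGE_iff]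
      intro i hi
      by_cases hiq : i < q
      · have := Groth.L10.isIso_H_ι (A := ModuleCat.{u} A) q i hiq X
        exact (DerivedCategory.isZero_of_isGE X p i hi).of_iso
          (asIso ((DerivedCategory.homologyFunctor _ i).map (((tt).truncLTι q).app X)))
      · exact Groth.L10.isZero_H_LT (A := ModuleCat.{u} A) q i (by lia) X
    haveI hLLE : DerivedCategory.IsLE L (q - 1) := inferInstanceAs ((tt).IsLE L (q - 1))
    haveI : DerivedCategory.IsGE Y (p - 1) := (tt).isGE_shift L p 1 (p - 1) (by lia)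
    haveI : DerivedCategory.IsLE Y (q - 2) := (tt).isLE_shift L (q - 1) 1 (q - 2) (by lia)
    haveI : Subsingleton (Y ⟶ W'⟦p - q⟧) := by
      refine subsingleton_of_degrees W' m Y (p - 1) (q - 2) (p - q) (fun n _ hn => ?_)
        (fun n _ hn => hnotK _ fun h => by have := hpmin _ h; lia)
      haveI := Groth.L10.isIso_H_ι (A := ModuleCat.{u} A) q (n + 1) (by lia) X
      let e : Dual.HD A Y n ≃ₗ[A] Dual.HD A X (n + 1) :=
        (Groth.L10.hShiftIso (A := ModuleCat.{u} A) L 1 n (n + 1) (by lia) ≪≫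
          asIso ((DerivedCategory.homologyFunctor _ (n + 1)).map (((tt).truncLTι q).app X))).toLinearEquiv
      haveI := (hX (n + 1)).1
      refine ⟨Module.Finite.equiv e.symm, fun x hx y => e.injective ?_⟩
      rw [map_smul, map_zero]
      exact (hX (n + 1)).2 x hx (e y)
    rw [Subsingleton.elim (α := Y ⟶ W'⟦p - q⟧) g 0]
    exact comp_zero
  let σ : (Fin r → (Dual.inD A (A ⧸ m) ⟶ W'⟦p - q + q⟧)) ≃ₗ[A] (R ⟶ W'⟦p - q⟧) :=
    (prePiEquiv W' (A ⧸ m) r (p - q + q)).symm ≪≫ₗ preEquiv W' er (p - q + q) ≪≫ₗ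
      (singleHomEquiv W' _ q (p - q)).symm ≪≫ₗ Linear.homCongr A eR'.symm (Iso.refl _)
  haveI hp' : Nontrivial (Dual.inD A (A ⧸ m) ⟶ W'⟦p - q + q⟧) := by
    rw [show p - q + q = p by lia]; exact hp
  have hr : 0 < r := by
    by_contra h
    obtain rfl : r = 0 := by lia
    haveI : Subsingleton (Dual.HD A X q) := er.toEquiv.subsingleton
    exact not_subsingleton_iff_nontrivial.2 hq (homologyEquiv κ I q).symm.toEquiv.subsingleton
  haveI : Nonempty (Fin r) := ⟨⟨0, hr⟩⟩
  haveI : Nontrivial (G I κ (p - q)) := (hρ.comp σ.injective).nontrivial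
  have hpq : p = q := by
    by_contra h
    exact not_subsingleton_iff_nontrivial.2 ‹Nontrivial (G I κ (p - q))› ((bid _).1 (by lia))
  subst hpq
  refine ⟨p, fun i hi => hnotK i fun h => by have := hpmin i h; have := hqmax i h; lia, ?_⟩
  -- the rank is one
  haveI : IsIso (((tt).truncGEπ p).app X) :=
    ((tt).isGE_iff_isIso_truncGEπ_app p X).1 inferInstance
  let e0 : (Dual.inD A (A ⧸ m) ⟶ W'⟦p - p + p⟧) ≃ₗ[A] (Fin r → A ⧸ m) :=
    (homologyEquiv κ I (p - p + p)).symm ≪≫ₗ
      (eqToIso (congrArg (fun n => (DerivedCategory.homologyFunctor (ModuleCat.{u} A) n).obj X)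
        (show p - p + p = p by lia))).toLinearEquiv ≪≫ₗ er
  let etot : (Fin r → (Fin r → A ⧸ m)) ≃ₗ[A] (A ⧸ m) :=
    LinearEquiv.piCongrRight (fun _ => e0.symm) ≪≫ₗ σ ≪≫ₗ
      Linear.homCongr A (asIso (((tt).truncGEπ p).app X)).symm
        ((shiftFunctorZero' (Dual.D A) (p - p) (by lia)).app W' ≪≫
          ((shiftFunctorZero (Dual.D A) ℤ).app W').symm) ≪≫ₗ
      (LinearEquiv.ofBijective _ ((bid 0).2 rfl)).symm
  have hlen := etot.length_eq
  haveI : IsSimpleModule A (A ⧸ m) := isSimpleModule_iff_isCoatom.mpr Ideal.IsMaximal.out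
  have hsimple : Module.length A (A ⧸ m) = 1 := Module.length_eq_one A _
  rw [Module.length_pi_of_fintype, Finset.sum_const, Finset.card_univ, Fintype.card_fin,
    Module.length_pi_of_fintype, Finset.sum_const, Finset.card_univ, Fintype.card_fin, hsimple] at hlen
  obtain rfl : r = 1 := by
    have h : r * r = 1 := by
      simp only [nsmul_eq_mul, mul_one] at hlen
      exact_mod_cast hlen
    exact Nat.eq_one_of_mul_eq_one_right h
  exact ⟨(eqToIso (congrArg (fun n => ModuleCat.of A (Dual.inD A (A ⧸ m) ⟶ W'⟦n⟧))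
    (show p = p - p + p by lia))).toLinearEquiv ≪≫ₗ e0 ≪≫ₗ LinearEquiv.funUnique (Fin 1) A (A ⧸ m)⟩

end Groth.L29.HomD
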