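import Groth.Agent.L29.Dual.Biduality
import Groth.Agent.L29.Dual.ResidueDegree

/-!
The lowest degree of a module with respect to a normalized dualizing complex.
-/

universe u

open CategoryTheory CategoryTheory.Limits CategoryTheory.Pretriangulated

attribute [local instance] HasDerivedCategory.standard

set_option backward.isDefEq.respectTransparency false

namespace Groth.L29.HomD

variable {A : Type u} [CommRing A] [IsNoetherianRing A]

/-- finiteness and support dimension of `Hom(Y, W)` by dévissage -/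
lemma supportDim_hom_le (W Y : Dual.D A) (lo hi l : ℤ) [Y.IsGE lo] [Y.IsLE hi] (c : WithBot ℕ∞)
    (h : ∀ n, lo ≤ n → n ≤ hi →
      Module.supportDim A (Dual.inD A (Dual.HD A Y n) ⟶ W⟦l + n⟧) ≤ c) :
    Module.supportDim A (Y ⟶ W⟦l⟧) ≤ c := by
  refine bounded_induction (fun Z => Module.supportDim A (Z ⟶ W⟦l⟧) ≤ c) ?_ ?_ ?_ Y lo hi ?_
  · intro X Z e hX
    exact (Module.supportDim_eq_of_equiv (Linear.homCongr A e (Iso.refl (W⟦l⟧)))).ge.trans hX
  · intro T hT h1 h3
    refine (SuppDim.supportDim_le_max_of_exact (Linear.leftComp A (W⟦l⟧) T.mor₂)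
      (Linear.leftComp A (W⟦l⟧) T.mor₁) fun φ => ⟨fun hφ => ?_, ?_⟩).trans (max_le h3 h1)
    · obtain ⟨ψ, hψ⟩ := Triangle.yoneda_exact₂ _ hT φ hφ
      exact ⟨ψ, hψ.symm⟩
    · rintro ⟨ψ, rfl⟩
      exact ((Category.assoc _ _ _).symm.trans
        ((congrArg (· ≫ ψ) (comp_distTriang_mor_zero₁₂ _ hT)).trans zero_comp))
  · intro X hX
    haveI : Subsingleton (X ⟶ W⟦l⟧) := ⟨fun p q => hX.eq_of_src p q⟩
    rw [Module.supportDim_eq_bot_of_subsingleton]
    exact bot_le
  · intro n h1 h2
    exact (Module.supportDim_eq_of_equiv (singleHomEquiv W _ n l)).le.trans (h n h1 h2)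

variable [IsLocalRing A]

/-- the lowest degree -/
theorem nontrivial_lowest {ω : Dual.D A} (hω : Dual.IsDualizing A ω) (hn : Dual.IsNormalized A ω)
    (M : Type u) [AddCommGroup M] [Module A M] [Module.Finite A M] [Nontrivial M] (d : ℕ)
    (hd : Module.supportDim A M = d) : Nontrivial (Dual.inD A M ⟶ ω⟦(-(d : ℤ))⟧) := by
  obtain ⟨a, b, hab0⟩ := hω.finite_injective_dimension
  haveI := isGE_of_lower a fun M _ _ i hi => hab0 M i (Or.inl hi)
  obtain ⟨I, _, hinj, _, ⟨eI⟩⟩ := exists_injRep ω a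
  haveI : ∀ n, Injective (I.X n) := fun n =>
    haveI := hinj n
    Module.injective_object_of_injective_module A (I.X n)
  have hI := isDualizing_of_iso eI.symm hω
  let eHom := fun (N : Type u) [AddCommGroup N] [Module A N] (i : ℤ) =>
    Linear.homCongr A (Iso.refl (Dual.inD A N)) ((shiftFunctor (Dual.D A) i).mapIso eI)
  have hab : ∀ (M : Type u) [AddCommGroup M] [Module A M] (i : ℤ),
      (i < a ∨ b < i) → Subsingleton (Dual.inD A M ⟶ (DRing.toD I)⟦i⟧) := fun M _ _ i hi =>
    haveI := hab0 M i hi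
    (eHom M i).toEquiv.subsingleton
  have hnI : Dual.IsNormalized A (DRing.toD I) := fun i hi =>
    haveI := hn i hi
    (eHom (IsLocalRing.ResidueField A) i).toEquiv.subsingleton
  have hgood := good_of_isDualizing hI
  rw [← not_subsingleton_iff_nontrivial]
  intro h0
  haveI hsub : Subsingleton (Dual.inD A M ⟶ (DRing.toD I)⟦-(d : ℤ)⟧) := (eHom M _).toEquiv.subsingleton
  let κ := ModuleCat.of A M
  let X := DRing.toD (HM I κ)
  have hbd := fun i => bound (DRing.toD I) hgood hnI d M hd.le i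
  have hz : ∀ i : ℤ, (i ≤ -(d : ℤ) ∨ 0 < i) → Subsingleton (Dual.HD A X i) := fun i hi => by
    haveI : Subsingleton (Dual.inD A M ⟶ (DRing.toD I)⟦i⟧) := by
      rcases eq_or_ne i (-(d : ℤ)) with rfl | hne
      exacts [hsub, (hbd i).1 (by lia)]
    exact (homologyEquiv κ I i).toEquiv.subsingleton
  haveI : X.IsGE (-(d : ℤ) + 1) := (DerivedCategory.isGE_iff X _).2 fun i hi =>
    haveI := hz i (by lia); ModuleCat.isZero_of_subsingleton _
  haveI : X.IsLE 0 := (DerivedCategory.isLE_iff X 0).2 fun i hi =>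
    haveI := hz i (by lia); ModuleCat.isZero_of_subsingleton _
  have hfin : ∀ n, Module.Finite A (Dual.HD A X n) := fun n =>
    haveI := finite_hom (DRing.toD I) hgood M n
    Module.Finite.equiv (show (Dual.inD A M ⟶ (DRing.toD I)⟦n⟧) ≃ₗ[A] _ from (homologyEquiv κ I n).symm)
  have bid := biduality I a b hab hI.toEnd_bijective hI.ext_self_subsingleton 0 κ ‹Module.Finite A M›
  have heq := Module.supportDim_eq_of_equiv (LinearEquiv.ofBijective (theta I κ) (bid.2 rfl))
  rcases Nat.eq_zero_or_pos d with rfl | hdpos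
  · haveI : X.IsGE 1 := by simpa using (inferInstance : X.IsGE (-((0 : ℕ) : ℤ) + 1))
    have hX0 : IsZero X := DerivedCategory.TStructure.t.isZero X 0 1 (by lia)
    haveI : Subsingleton (G I κ 0) := ⟨fun p q => hX0.eq_of_src p q⟩
    exact not_subsingleton M (bid.2 rfl).1.subsingleton
  have hle : Module.supportDim A (G I κ 0) ≤ ((d - 1 : ℕ) : WithBot ℕ∞) := by
    refine supportDim_hom_le (DRing.toD I) X (-(d : ℤ) + 1) 0 0 _ fun n h1 h2 => ?_
    obtain ⟨k, hk⟩ : ∃ k : ℕ, Module.supportDim A (Dual.HD A X n) ≤ (k : WithBot ℕ∞) :=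
      ⟨(-n).toNat, (Module.supportDim_eq_of_equiv (homologyEquiv κ I n)).le.trans (hbd n).2⟩
    haveI := hfin n
    refine le_trans (bound (DRing.toD I) hgood hnI k (Dual.HD A X n) hk (0 + n)).2 ?_
    exact_mod_cast (show (-(0 + n)).toNat ≤ d - 1 by lia)
  rw [← heq, show Module.supportDim A κ = Module.supportDim A M from rfl, hd] at hle
  have : d ≤ d - 1 := by exact_mod_cast hle
  lia

end Groth.L29.HomD
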