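import Groth.Agent.L29.Dual.DualFlat
import Groth.Agent.L29.Dual.Depth
import Groth.Agent.L29.Dual.TopDegree

/-!
A ring with a dualizing module is Cohen–Macaulay.
-/

universe u

open CategoryTheory CategoryTheory.Limits IsLocalRing
open scoped TensorProduct

attribute [local instance] HasDerivedCategory.standard

set_option backward.isDefEq.respectTransparency false

namespace Groth.L29.HomD

/-- over a local ring -/
theorem supportDim_eq_depth_of_dualizing_module {A : Type u} [CommRing A] [IsLocalRing A]
    [IsNoetherianRing A] (W : Type u) [AddCommGroup W] [Module A W]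
    (h : Dual.IsDualizing A (Dual.inD A W)) :
    Module.supportDim A A = ((LocCoh.depth A A : ℕ∞) : WithBot ℕ∞) := by
  obtain ⟨n, hn, -⟩ := residue_degree (maximalIdeal A) h
  let ω := (Dual.inD A W)⟦n⟧
  have hω : Dual.IsDualizing A ω := isDualizing_shift h n
  have hnorm : Dual.IsNormalized A ω := fun i hi =>
    haveI : Subsingleton (Dual.inD A (ResidueField A) ⟶ (Dual.inD A W)⟦n + i⟧) := hn (n + i) (by lia)
    (homShiftEquiv _ (Dual.inD A W) n i (n + i) rfl).toEquiv.subsingleton
  have hone : ∀ k : ℤ, Nontrivial (Dual.inD A A ⟶ ω⟦k⟧) → n + k = 0 := fun k hk => by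
    by_contra hne
    haveI : Subsingleton (Dual.HD A (Dual.inD A W) (n + k)) := by
      rcases lt_or_gt_of_ne hne with hlt | hgt
      · exact ModuleCat.subsingleton_of_isZero (DerivedCategory.isZero_of_isGE _ 0 _ hlt)
      · exact ModuleCat.subsingleton_of_isZero (DerivedCategory.isZero_of_isLE _ 0 _ hgt)
    exact not_subsingleton_iff_nontrivial.2 hk
      ((homShiftEquiv _ (Dual.inD A W) n k (n + k) rfl).trans
        (evalShiftEquiv (Dual.inD A W) (n + k))).toEquiv.subsingleton
  obtain ⟨d, hd⟩ : ∃ d : ℕ, Module.supportDim A A = d := by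
    have hne := Module.supportDim_ne_bot_of_nontrivial A A
    have hlt : Module.supportDim A A < ⊤ :=
      lt_of_le_of_lt (Module.supportDim_le_ringKrullDim A A) ringKrullDim_lt_top
    revert hne hlt
    generalize Module.supportDim A A = s
    intro hne hlt
    obtain ⟨s, rfl⟩ := WithBot.ne_bot_iff_exists.1 hne
    obtain ⟨k, rfl⟩ := ENat.ne_top_iff_exists.1 (show s ≠ ⊤ by rintro rfl; exact lt_irrefl _ hlt)
    exact ⟨k, rfl⟩
  obtain ⟨e, he, -, hnt⟩ := depth_spec hω hnorm A
  have h1 := hone _ (nontrivial_lowest hω hnorm A d hd)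
  have h2 := hone _ hnt
  obtain rfl : d = e := by lia
  rw [hd, he]
  rfl

end Groth.L29.HomD
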