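import Groth.Agent.L29.Dual.RegularDual
import Groth.Agent.L29.Dual.DualizingModule
import Groth.Agent.L06.ExtDim
import Mathlib.Algebra.Category.ModuleCat.Ext.Finite

/-!
Finite injective dimension, Gorenstein local rings and dualizing complexes.
-/

universe u

open CategoryTheory CategoryTheory.Abelian IsLocalRing
open scoped Pointwise

attribute [local instance] HasDerivedCategory.standard

set_option backward.isDefEq.respectTransparency false

namespace Groth.L29.Gorenstein

variable {A : Type u} [CommRing A]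

lemma subsingleton_of_iso {X X' : ModuleCat.{u} A} (M : ModuleCat.{u} A) (e : X ≅ X') (i : ℕ)
    [Subsingleton (Ext X' M i)] : Subsingleton (Ext X M i) := by
  refine subsingleton_of_forall_eq 0 fun z => ?_
  rw [← Ext.mk₀_id_comp z, ← e.hom_inv_id, ← Ext.mk₀_comp_mk₀, Ext.comp_assoc_of_second_deg_zero,
    Subsingleton.elim ((Ext.mk₀ e.inv).comp z (zero_add i)) 0, Ext.comp_zero]

/-- vanishing on the residue field spreads to finite modules -/
theorem subsingleton_ext_of_residueField [IsLocalRing A] [IsNoetherianRing A] (M : ModuleCat.{u} A)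
    [Module.Finite A M] (N₀ : ℕ)
    (h : ∀ i : ℕ, N₀ ≤ i → Subsingleton (Ext (ModuleCat.of A (ResidueField A)) M i)) :
    ∀ (d : ℕ) (N : Type u) [AddCommGroup N] [Module A N] [Module.Finite A N],
      Module.supportDim A N ≤ (d : WithBot ℕ∞) → ∀ i : ℕ, N₀ ≤ i →
        Subsingleton (Ext (ModuleCat.of A N) M i) := by
  intro d
  induction d using Nat.strong_induction_on with
  | _ d ih =>
    intro N _ _ _ hN
    refine IsNoetherianRing.induction_on_isQuotientEquivQuotientPrime A ‹Module.Finite A N›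
      (motive := fun N _ _ _ => Module.supportDim A N ≤ (d : WithBot ℕ∞) → ∀ i : ℕ, N₀ ≤ i →
        Subsingleton (Ext (ModuleCat.of A N) M i)) ?_ ?_ ?_ hN
    · intro P _ _ _ _ _ i _
      refine subsingleton_of_forall_eq 0 fun z => ?_
      have h0 : 𝟙 (ModuleCat.of A P) = 0 := (ModuleCat.isZero_of_subsingleton _).eq_of_src _ _
      rw [← Ext.mk₀_id_comp z, h0, Ext.mk₀_zero, Ext.zero_comp]
    · intro P _ _ _ p e hP i hi
      by_cases hp : p.1 = maximalIdeal A
      · haveI := h i hi
        exact subsingleton_of_iso M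
          ((e ≪≫ₗ Submodule.quotEquivOfEq _ _ hp : P ≃ₗ[A] ResidueField A).toModuleIso) i
      obtain ⟨x, hxm, hxp⟩ : ∃ x ∈ maximalIdeal A, x ∉ p.1 := by
        by_contra! h'
        exact hp (le_antisymm (le_maximalIdeal p.2.ne_top) h')
      have hreg : IsSMulRegular P x := by
        intro y z hyz
        refine e.injective ?_
        obtain ⟨c, hc⟩ := Ideal.Quotient.mk_surjective (e y)
        obtain ⟨c', hc'⟩ := Ideal.Quotient.mk_surjective (e z)
        have h2 := congrArg e hyz
        simp only [map_smul, ← hc, ← hc'] at h2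
        rw [← hc, ← hc', Ideal.Quotient.eq]
        have h3 : x * c - x * c' ∈ p.1 := Ideal.Quotient.eq.1 h2
        rw [← mul_sub] at h3
        exact (p.2.mem_or_mem h3).resolve_left hxp
      haveI : Nontrivial P :=
        haveI := Ideal.Quotient.nontrivial_iff.2 p.2.ne_top
        e.toEquiv.nontrivial
      have hdim := Module.supportDim_quotSMulTop_succ_eq_supportDim hreg hxm
      obtain ⟨d', hd, hd'⟩ : ∃ d', d' < d ∧
          Module.supportDim A (QuotSMulTop x P) ≤ (d' : WithBot ℕ∞) := by
        have hle := hP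
        rw [← hdim] at hle
        have hne : Module.supportDim A (QuotSMulTop x P) ≠ ⊥ := by
          intro h'
          rw [h', WithBot.bot_add] at hdim
          exact Module.supportDim_ne_bot_of_nontrivial A P hdim.symm
        revert hle hne
        generalize Module.supportDim A (QuotSMulTop x P) = s
        intro hle hne
        obtain ⟨s, rfl⟩ := WithBot.ne_bot_iff_exists.1 hne
        have hle' : s + 1 ≤ (d : ℕ∞) := WithBot.coe_le_coe.1 hle
        obtain ⟨k, rfl⟩ := ENat.ne_top_iff_exists.1 (show s ≠ ⊤ by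
          rintro rfl; simp at hle')
        have : k + 1 ≤ d := by exact_mod_cast hle'
        exact ⟨d - 1, by lia, WithBot.coe_le_coe.2 (Nat.cast_le.2 (show k ≤ d - 1 by lia))⟩
      haveI := ih d' hd (QuotSMulTop x P) hd' (i + 1) (by lia)
      let S := HomD.sc (x • (LinearMap.id : P →ₗ[A] P)) (Submodule.mkQ (x • ⊤ : Submodule A P))
        (HomD.exact_smul x)
      have hS : S.ShortExact :=
        HomD.sc_shortExact _ _ (fun a b h' => hreg h') (Submodule.mkQ_surjective _) _
      refine SuppDim.subsingleton_of_smul_surjective hxm fun z => ?_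
      obtain ⟨y, hy⟩ := Ext.contravariant_sequence_exact₁ hS M z (add_comm 1 i)
        (Subsingleton.elim (α := Ext (ModuleCat.of A (QuotSMulTop x P)) M (i + 1)) _ _)
      refine ⟨y, ?_⟩
      rw [← hy]
      change x • y = (Ext.mk₀ (x • 𝟙 (ModuleCat.of A P))).comp y (zero_add i)
      rw [Ext.mk₀_smul, Ext.smul_comp, Ext.mk₀_id_comp]
    · intro N₁ _ _ _ N₂ _ _ _ N₃ _ _ _ f g hf hg hfg h₁ h₃ hN₂ i hi
      have hS := HomD.sc_shortExact f g hf hg hfg
      haveI := h₁ ((Module.supportDim_le_of_injective f hf).trans hN₂) i hi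
      haveI := h₃ ((Module.supportDim_le_of_surjective g hg).trans hN₂) i hi
      refine subsingleton_of_forall_eq 0 fun z => ?_
      obtain ⟨y, hy⟩ := Ext.contravariant_sequence_exact₂ hS M z
        (Subsingleton.elim (α := Ext (ModuleCat.of A N₁) M i) _ _)
      rw [← hy, Subsingleton.elim (α := Ext (ModuleCat.of A N₃) M i) y 0, Ext.comp_zero]

theorem finite_injdim_iff [IsLocalRing A] [IsNoetherianRing A] (M : ModuleCat.{u} A)
    [Module.Finite A M] :
    (∃ n : ℕ, HasInjectiveDimensionLT M n) ↔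
      ∃ N : ℕ, ∀ i : ℕ, N ≤ i → Subsingleton (Ext (ModuleCat.of A (ResidueField A)) M i) := by
  refine ⟨fun ⟨n, hn⟩ => ⟨n, fun i hi => HasInjectiveDimensionLT.subsingleton M n i hi _⟩,
    fun ⟨N, hN⟩ => ⟨N + 1, ?_⟩⟩
  obtain ⟨d, hd⟩ := Groth.L01.exists_dim_eq_nat (R := A)
  exact Groth.L06.ExtDim.hasInjectiveDimensionLT_of_forall_quotient N M fun I =>
    subsingleton_ext_of_residueField M N hN d (A ⧸ I)
      ((Module.supportDim_le_ringKrullDim _ _).trans hd.le) (N + 1) (by lia)

theorem isDualizing_self_of_injdim [IsNoetherianRing A] (n : ℕ)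
    (h : HasInjectiveDimensionLT (ModuleCat.of A A) n) : Dual.IsDualizing A (Dual.inD A A) := by
  refine ⟨inferInstance, ⟨0, n, fun M _ _ i hi => ?_⟩, HomD.finite_HD_single A, ?_, fun i hi => ?_⟩
  · rcases hi with hi | hi
    · exact HomD.subsingleton_hom_self_neg M i hi
    · obtain ⟨j, rfl⟩ := Int.eq_ofNat_of_zero_le (show 0 ≤ i by lia)
      haveI := HasInjectiveDimensionLT.subsingleton (ModuleCat.of A A) n j (by lia) (ModuleCat.of A M)
      exact (Ext.homEquiv (X := ModuleCat.of A M) (Y := ModuleCat.of A A) (n := j)).symm.subsingleton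
  · let e : (Dual.inD A A ⟶ Dual.inD A A) ≃ₗ[A] A := HomD.evalEquiv (Dual.inD A A) ≪≫ₗ
      ((DerivedCategory.singleFunctorCompHomologyFunctorIso (ModuleCat.{u} A) 0).app
        (ModuleCat.of A A)).toLinearEquiv
    let u := e.symm 1
    have h1 : ∀ φ : Dual.inD A A ⟶ Dual.inD A A, φ = e φ • u := fun φ =>
      e.injective (by rw [map_smul, LinearEquiv.apply_symm_apply, smul_eq_mul, mul_one])
    have hu : IsUnit (e (𝟙 (Dual.inD A A))) := by
      refine IsUnit.of_mul_eq_one (e (u ≫ u)) ?_
      have h2 : (𝟙 (Dual.inD A A)) ≫ u = u := Category.id_comp u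
      rw [h1 (𝟙 _), Linear.smul_comp] at h2
      simpa [u] using congrArg e h2
    refine ⟨fun a b hab => ?_, fun φ => ?_⟩
    · have := congrArg e hab
      rw [map_smul, map_smul] at this
      exact hu.mul_right_cancel this
    · obtain ⟨c, hc⟩ := hu
      refine ⟨e φ * ↑c⁻¹, e.injective ?_⟩
      rw [map_smul, ← hc, smul_eq_mul, mul_assoc, Units.inv_mul, mul_one]
  · haveI : Subsingleton (Dual.HD A (Dual.inD A A) i) := by
      rcases lt_or_gt_of_ne hi with h' | h'
      · exact ModuleCat.subsingleton_of_isZero (DerivedCategory.isZero_of_isGE _ 0 i h')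
      · exact ModuleCat.subsingleton_of_isZero (DerivedCategory.isZero_of_isLE _ 0 i h')
    exact (HomD.evalShiftEquiv (Dual.inD A A) i).toEquiv.subsingleton

theorem exists_injdim_of_isDualizing [IsNoetherianRing A] (h : Dual.IsDualizing A (Dual.inD A A)) :
    ∃ n : ℕ, HasInjectiveDimensionLT (ModuleCat.of A A) n := by
  obtain ⟨a, b, hab⟩ := h.finite_injective_dimension
  refine ⟨b.toNat + 1, Groth.L06.ExtDim.hasInjectiveDimensionLT_of_forall_quotient b.toNat _ fun I => ?_⟩
  haveI := hab (A ⧸ I) ((b.toNat + 1 : ℕ) : ℤ) (Or.inr (by lia))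
  exact (Ext.homEquiv (X := ModuleCat.of A (A ⧸ I)) (Y := ModuleCat.of A A) (n := b.toNat + 1)).subsingleton

theorem isGorensteinLocalRing_iff_isDualizing [IsLocalRing A] [IsNoetherianRing A] :
    LocCoh.IsGorensteinLocalRing A ↔ Dual.IsDualizing A (Dual.inD A A) :=
  ⟨fun h => let ⟨n, hn⟩ := h.exists_hasInjectiveDimensionLT; isDualizing_self_of_injdim n hn,
    fun h => ⟨exists_injdim_of_isDualizing h⟩⟩

end Groth.L29.Gorenstein
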