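import Groth.Agent.L29.Dual.DualBC
import Mathlib.RingTheory.TensorProduct.Quotient
import Mathlib.RingTheory.Localization.BaseChange

/-!
Localisation, completion-like maps and unramified local maps preserve dualizing complexes.
-/

universe u

open CategoryTheory CategoryTheory.Limits
open scoped TensorProduct

attribute [local instance] HasDerivedCategory.standard

set_option backward.isDefEq.respectTransparency false

namespace Groth.L29.FlatBC

open Groth.L29.HomD

variable {A B : Type u} [CommRing A] [CommRing B] [Algebra A B] [IsNoetherianRing A]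
  [IsNoetherianRing B] {W : Dual.D A}

/-- localisations -/
theorem isDualizing_L_localization (S : Submonoid A) [IsLocalization S B] [Module.Flat A B]
    (hW : Dual.IsDualizing A W) : Dual.IsDualizing B ((L A B).obj W) := by
  obtain ⟨a, b, hab⟩ := hW.finite_injective_dimension
  haveI := isGE_of_lower a fun M _ _ i hi => hab M i (Or.inl hi)
  refine isDualizing_L hW b fun N _ _ _ i hi => ?_
  obtain ⟨n, g, hg⟩ := Module.Finite.exists_fin' B N
  letI : Module A N := Module.compHom N (algebraMap A B)
  haveI : IsScalarTower A B N := IsScalarTower.of_algebraMap_smul fun _ _ => rfl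
  let M : Submodule A N := Submodule.span A (Set.range fun j => g (Pi.single j 1))
  haveI : Module.Finite A M := Module.Finite.iff_fg.2 (Submodule.fg_span (Set.finite_range _))
  haveI : IsLocalizedModule S M.subtype := by
    refine ⟨fun s => ?_, fun y => ?_, fun {x y} h => ⟨1, by rw [Subtype.val_injective h]⟩⟩
    · have hu : IsUnit (algebraMap A B s) := IsLocalization.map_units B s
      rw [Module.End.isUnit_iff]
      constructor
      · intro x y hxy
        have : algebraMap A B s • x = algebraMap A B s • y := by
          simpa [Module.algebraMap_end_apply, algebraMap_smul] using hxy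
        exact hu.smul_left_cancel.1 this
      · intro y
        refine ⟨(hu.unit⁻¹ : Bˣ).1 • y, ?_⟩
        rw [Module.algebraMap_end_apply, ← algebraMap_smul B (s : A), smul_smul, IsUnit.mul_val_inv, one_smul]
    · obtain ⟨c, rfl⟩ := hg y
      obtain ⟨⟨s, hs⟩, hint⟩ := IsLocalization.exist_integer_multiples_of_finite S c
      choose d hd using fun j => hint j
      refine ⟨⟨∑ j, d j • ⟨g (Pi.single j 1), Submodule.subset_span ⟨j, rfl⟩⟩, ⟨s, hs⟩⟩, ?_⟩
      simp only [map_sum, map_smul, Submodule.subtype_apply, Submonoid.smul_def]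
      have hc : c = ∑ j, c j • Pi.single j (1 : B) := by
        funext k
        simp [Finset.sum_apply, Pi.single_apply]
      conv_lhs => rw [hc, map_sum, Finset.smul_sum]
      refine Finset.sum_congr rfl fun j _ => ?_
      rw [map_smul, ← algebraMap_smul B (d j), hd j, smul_assoc]
  have hbc : IsBaseChange B M.subtype := IsLocalizedModule.isBaseChange S B M.subtype
  haveI := hab M i (Or.inr hi)
  exact subsingleton_hom_baseChange a M i N hbc.equiv

/-- flat maps inducing an isomorphism modulo an ideal in the Jacobson radical -/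
theorem isDualizing_L_quot_iso [Module.Flat A B] (I : Ideal A)
    (hs : Function.Surjective ((Ideal.Quotient.mk (I.map (algebraMap A B))).comp (algebraMap A B)))
    (hJ : I.map (algebraMap A B) ≤ (⊥ : Ideal B).jacobson) (hW : Dual.IsDualizing A W) :
    Dual.IsDualizing B ((L A B).obj W) := by
  obtain ⟨a, b, hab⟩ := hW.finite_injective_dimension
  haveI := isGE_of_lower a fun M _ _ i hi => hab M i (Or.inl hi)
  refine isDualizing_L hW b fun N _ _ _ i hi => ?_
  refine subsingleton_hom_of_jacobson (good_L a hW.finite_cohomology) _ hJ b (fun N _ _ _ hN i hi => ?_) N i hi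
  letI : Module A N := Module.compHom N (algebraMap A B)
  haveI : IsScalarTower A B N := IsScalarTower.of_algebraMap_smul fun _ _ => rfl
  have hlift : ∀ b : B, ∃ x : A, b - algebraMap A B x ∈ I.map (algebraMap A B) := fun b => by
    obtain ⟨x, hx⟩ := hs (Ideal.Quotient.mk _ b)
    exact ⟨x, Ideal.Quotient.eq.1 hx.symm⟩
  have hkill : ∀ x ∈ I.map (algebraMap A B), ∀ y : N, x • y = 0 := fun x hx y =>
    Module.mem_annihilator.1 (hN hx) y
  haveI : Module.Finite A N := by
    obtain ⟨S, hS⟩ := (Module.Finite.fg_top : (⊤ : Submodule B N).FG)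
    refine ⟨⟨S, eq_top_iff.2 fun y hy' => ?_⟩⟩
    clear hy'
    have hy : y ∈ Submodule.span B (S : Set N) := hS ▸ Submodule.mem_top
    induction hy using Submodule.span_induction with
    | mem x hx => exact Submodule.subset_span hx
    | zero => exact zero_mem _
    | add x y _ _ hx hy => exact add_mem hx hy
    | smul c x _ hx =>
      obtain ⟨r, hr⟩ := hlift c
      have : c • x = r • x := by
        rw [← algebraMap_smul B r, ← sub_eq_zero, ← sub_smul]
        exact hkill _ hr x
      rw [this]
      exact Submodule.smul_mem _ _ hx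
  haveI := hab N i (Or.inr hi)
  let f : B ⊗[A] N →ₗ[B] N := (LinearMap.id : N →ₗ[A] N).liftBaseChange B
  have hone : ∀ t : B ⊗[A] N, t = (1 : B) ⊗ₜ[A] f t := fun t => by
    induction t with
    | zero => simp
    | add s t hs' ht => rw [map_add, TensorProduct.tmul_add, ← hs', ← ht]
    | tmul c y =>
      obtain ⟨r, hr⟩ := hlift c
      have hz : ∀ z ∈ I.map (algebraMap A B), (z ⊗ₜ[A] y : B ⊗[A] N) = 0 := fun z hz => by
        have : ∀ w : B, ∀ z ∈ I.map (algebraMap A B), ((w * z) ⊗ₜ[A] y : B ⊗[A] N) = 0 := by
          intro w z hz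
          induction hz using Submodule.span_induction generalizing w with
          | mem z hz =>
            obtain ⟨x, hx, rfl⟩ := hz
            rw [mul_comm, ← Algebra.smul_def, TensorProduct.smul_tmul, ← algebraMap_smul B x y,
              hkill _ (Ideal.mem_map_of_mem _ hx) y, TensorProduct.tmul_zero]
          | zero => simp
          | add p q _ _ hp hq => rw [mul_add, TensorProduct.add_tmul, hp, hq, add_zero]
          | smul d p _ hp => rw [smul_eq_mul, ← mul_assoc]; exact hp _
        simpa using this 1 z hz
      have h1 : c ⊗ₜ[A] y = algebraMap A B r ⊗ₜ[A] y := by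
        rw [← sub_eq_zero, ← TensorProduct.sub_tmul]
        exact hz _ hr
      have h2 : f (c ⊗ₜ[A] y) = r • y := by
        change c • y = r • y
        rw [← algebraMap_smul B r, ← sub_eq_zero, ← sub_smul]
        exact hkill _ hr y
      rw [h2, h1, ← TensorProduct.smul_tmul, Algebra.smul_def, mul_one]
  exact subsingleton_hom_baseChange a N i N (LinearEquiv.ofBijective f
    ⟨fun s t h => by rw [hone s, hone t, h], fun y => ⟨(1 : B) ⊗ₜ y, one_smul B y⟩⟩)

/-- flat local maps with `m B = n` -/
theorem isDualizing_L_local [IsLocalRing A] [IsLocalRing B] [Module.Flat A B]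
    (hm : (IsLocalRing.maximalIdeal A).map (algebraMap A B) = IsLocalRing.maximalIdeal B)
    (hW : Dual.IsDualizing A W) :
    Dual.IsDualizing B ((L A B).obj W) ∧
      (Dual.IsNormalized A W → Dual.IsNormalized B ((L A B).obj W)) := by
  obtain ⟨a, b, hab⟩ := hW.finite_injective_dimension
  haveI := isGE_of_lower a fun M _ _ i hi => hab M i (Or.inl hi)
  let e : (B ⊗[A] (A ⧸ IsLocalRing.maximalIdeal A)) ≃ₗ[B] (B ⧸ IsLocalRing.maximalIdeal B) :=
    (Algebra.TensorProduct.quotIdealMapEquivTensorQuot B (IsLocalRing.maximalIdeal A)).symm.toLinearEquiv ≪≫ₗ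
      Submodule.quotEquivOfEq _ _ hm
  constructor
  · refine isDualizing_L hW b fun N _ _ _ i hi => ?_
    refine subsingleton_hom_of_jacobson (good_L a hW.finite_cohomology) _
      (IsLocalRing.maximalIdeal_le_jacobson _) b (fun N _ _ _ hN i hi => ?_) N i hi
    refine subsingleton_hom_of_primes _ i N fun r hr => ?_
    obtain ⟨r, hrp⟩ := r
    obtain rfl : r = IsLocalRing.maximalIdeal B :=
      le_antisymm (IsLocalRing.le_maximalIdeal hrp.ne_top) (hN.trans hr)
    haveI := hab (A ⧸ IsLocalRing.maximalIdeal A) i (Or.inr hi)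
    exact subsingleton_hom_baseChange a (A ⧸ IsLocalRing.maximalIdeal A) i _ e
  · intro hn i hi
    haveI : Subsingleton (Dual.inD A (A ⧸ IsLocalRing.maximalIdeal A) ⟶ W⟦i⟧) := hn i hi
    exact subsingleton_hom_baseChange a (A ⧸ IsLocalRing.maximalIdeal A) i _ e

end Groth.L29.FlatBC
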