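import Groth.Agent.L29.Dual.LocalDualityPairing
import Groth.Agent.L04.LC.ExtCompare
import Groth.Prelude.Def_Wider
import Mathlib.Algebra.Category.ModuleCat.FilteredColimits
import Mathlib.CategoryTheory.Filtered.Basic

/-!
Local duality for Mathlib's local cohomology modules.
-/

universe u

open CategoryTheory CategoryTheory.Limits IsLocalRing CategoryTheory.Abelian Opposite

attribute [local instance] HasDerivedCategory.standard

set_option backward.isDefEq.respectTransparency false

namespace Groth.L29.LocDual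

open Groth.L29.HomD

variable {A : Type u} [CommRing A] [IsLocalRing A] [IsNoetherianRing A]

/-- the diagram computing `Hⁱ_m(M)` -/
noncomputable abbrev lcDiagram (M : ModuleCat.{u} A) (i : ℕ) : (ℕᵒᵖ)ᵒᵖ ⥤ ModuleCat.{u} A :=
  localCohomology.diagram (localCohomology.idealPowersDiagram (maximalIdeal A)) i ⋙
    (evaluation (ModuleCat.{u} A) (ModuleCat.{u} A)).obj M

/-- the terms of the diagram as morphisms in the derived category -/
noncomputable def termEquiv (M : ModuleCat.{u} A) (i : ℕ) (j : (ℕᵒᵖ)ᵒᵖ) :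
    (lcDiagram M i).obj j ≃ₗ[A]
      (P A j.unop.unop ⟶ ((DerivedCategory.singleFunctor (ModuleCat.{u} A) 0).obj M)⟦(i : ℤ)⟧) :=
  (Groth.L04.LC.extIso A i (Q j.unop.unop) M).toLinearEquiv ≪≫ₗ Ext.homLinearEquiv (R := A)

lemma termEquiv_map (M : ModuleCat.{u} A) (i : ℕ) {j j' : (ℕᵒᵖ)ᵒᵖ} (g : j ⟶ j')
    (a : (lcDiagram M i).obj j) :
    termEquiv M i j' ((lcDiagram M i).map g a) = res g.unop.unop.le ≫ termEquiv M i j a := by
  obtain ⟨b, rfl⟩ : ∃ b, (Groth.L04.LC.extIso A i (Q j.unop.unop) M).inv.hom b = a :=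
    ⟨(Groth.L04.LC.extIso A i (Q j.unop.unop) M).hom.hom a,
      Iso.hom_inv_id_apply (Groth.L04.LC.extIso A i (Q j.unop.unop) M) a⟩
  have hp : (localCohomology.ringModIdeals (localCohomology.idealPowersDiagram (maximalIdeal A))).map g.unop =
      proj (A := A) g.unop.unop.le :=
    ModuleCat.hom_ext (Submodule.linearMap_qext _ rfl)
  have h1 : (lcDiagram M i).map g ((Groth.L04.LC.extIso A i (Q j.unop.unop) M).inv.hom b) =
      (Groth.L04.LC.extIso A i (Q j'.unop.unop) M).inv.hom
        ((Ext.mk₀ (proj g.unop.unop.le)).comp b (zero_add i)) := by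
    rw [← Groth.L04.LC.extIso_inv_naturality_left i (proj (A := A) g.unop.unop.le) M b, ← hp]
    rfl
  rw [h1]
  change Ext.homEquiv ((Groth.L04.LC.extIso A i (Q j'.unop.unop) M).hom.hom
      ((Groth.L04.LC.extIso A i (Q j'.unop.unop) M).inv.hom _)) =
    res g.unop.unop.le ≫ Ext.homEquiv ((Groth.L04.LC.extIso A i (Q j.unop.unop) M).hom.hom
      ((Groth.L04.LC.extIso A i (Q j.unop.unop) M).inv.hom b))
  rw [Iso.inv_hom_id_apply, Iso.inv_hom_id_apply]
  exact (Ext.singleFunctor_map_comp_hom _ b).symm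

theorem nonempty_H_equiv {ω : Dual.D A} (hω : Dual.IsDualizing A ω) (hn : Dual.IsNormalized A ω)
    {E : Type u} [AddCommGroup E] [Module A E] (f : ResidueField A →ₗ[A] E)
    (hf : InjHull.IsInjectiveHull f) (M : Type u) [AddCommGroup M] [Module A M] [Module.Finite A M]
    (i : ℕ) :
    Nonempty (LocCoh.H (maximalIdeal A) i M ≃ₗ[A]
      ((Dual.inD A M ⟶ ω⟦(-(i : ℤ))⟧) →ₗ[A] E)) := by
  obtain ⟨S⟩ := exists_pairing hω hn f hf
  let X : Dual.D A := (Dual.inD A M)⟦(i : ℤ)⟧
  obtain ⟨d, hd⟩ := Groth.L01.exists_dim_eq_nat (R := A)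
  obtain ⟨hinjX, hsurjX⟩ := LD.finite S d M ((Module.supportDim_le_ringKrullDim _ _).trans hd.le) (i : ℤ)
  haveI : Module.Finite A (X ⟶ ω) := S.finite M i
  obtain ⟨n, p, hp⟩ := Module.Finite.exists_fin' A (X ⟶ ω)
  let N0 : Type u := (Fin n → A) ⧸ LinearMap.ker p
  let e : N0 ≃ₗ[A] (X ⟶ ω) := p.quotKerEquivOfSurjective hp
  let back : ((X ⟶ ω) →ₗ[A] E) ≃ₗ[A] (N0 →ₗ[A] E) := e.symm.arrowCongr (LinearEquiv.refl A E)
  let D := lcDiagram (ModuleCat.of A M) i
  let c : Cocone D :=
    { pt := ModuleCat.of A (N0 →ₗ[A] E)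
      ι :=
        { app := fun j => ModuleCat.ofHom (back.toLinearMap.comp
            ((pair S j.unop.unop X).comp (termEquiv (ModuleCat.of A M) i j).toLinearMap))
          naturality := fun j j' g => ModuleCat.hom_ext (LinearMap.ext fun a => by
            change back (pair S j'.unop.unop X (termEquiv (ModuleCat.of A M) i j' (D.map g a))) = _
            rw [termEquiv_map, pair_res]
            rfl) } }
  let Φ : ↥(colimit D) →ₗ[A] (N0 →ₗ[A] E) := (colimit.desc D c).hom
  have hι : ∀ j a, Φ (colimit.ι D j a) =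
      back (pair S j.unop.unop X (termEquiv (ModuleCat.of A M) i j a)) := fun j a =>
    LinearMap.congr_fun (congrArg ModuleCat.Hom.hom (colimit.ι_desc c j)) a
  haveI : PreservesFilteredColimitsOfSize.{0, 0} (forget (ModuleCat.{u} A)) :=
    preservesFilteredColimitsOfSize_shrink.{0, u, 0, u} _
  haveI : PreservesColimit D (forget (ModuleCat.{u} A)) :=
    (PreservesFilteredColimitsOfSize.preserves_filtered_colimits _).preservesColimit
  have hbij : Function.Bijective Φ := by
    constructor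
    · rw [injective_iff_map_eq_zero]
      intro z hz
      obtain ⟨j, a, rfl⟩ := Concrete.colimit_exists_rep D z
      rw [hι, LinearEquiv.map_eq_zero_iff] at hz
      obtain ⟨l, hl, hl0⟩ := hinjX _ _ hz
      let g : j ⟶ op (op l) := (homOfLE hl).op.op
      have h0 : D.map g a = 0 := by
        apply (termEquiv (ModuleCat.of A M) i (op (op l))).injective
        rw [termEquiv_map, map_zero]
        exact hl0
      rw [← colimit.w D g, ModuleCat.comp_apply, h0, map_zero]
    · intro φ
      obtain ⟨k, x, hx⟩ := hsurjX (back.symm φ)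
      refine ⟨colimit.ι D (op (op k)) ((termEquiv (ModuleCat.of A M) i (op (op k))).symm x), ?_⟩
      rw [hι, LinearEquiv.apply_symm_apply, hx, LinearEquiv.apply_symm_apply]
  exact ⟨(colimitObjIsoColimitCompEvaluation
      (localCohomology.diagram (localCohomology.idealPowersDiagram (maximalIdeal A)) i)
      (ModuleCat.of A M)).toLinearEquiv ≪≫ₗ LinearEquiv.ofBijective Φ hbij ≪≫ₗ back.symm ≪≫ₗ
    (shiftTo (Dual.inD A M) ω i).arrowCongr (LinearEquiv.refl A E)⟩

end Groth.L29.LocDual
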