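import Groth.Agent.L29.Dual.LocDegree
import Mathlib.RingTheory.KrullDimension.NonZeroDivisors

/-!
The dimension function of a dualizing complex.
-/

universe u

open CategoryTheory CategoryTheory.Limits CategoryTheory.Pretriangulated
open scoped Pointwise

attribute [local instance] HasDerivedCategory.standard

set_option backward.isDefEq.respectTransparency false

namespace Groth.L29.HomD

variable {A : Type u} [CommRing A]

/-- localised Nakayama -/
lemma lz_of_smul_surjective {q : Ideal A} [hq : q.IsPrime] {M : Type*} [AddCommGroup M] [Module A M]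
    [Module.Finite A M] {x : A} (hx : x ∈ q) (h : ∀ φ : M, ∃ s ∉ q, ∃ ψ : M, s • φ = x • ψ) :
    LZ q M := by
  have hquot : LZ q (M ⧸ (x • ⊤ : Submodule A M)) := by
    intro y
    obtain ⟨φ, rfl⟩ := Submodule.mkQ_surjective _ y
    obtain ⟨s, hs, ψ, hψ⟩ := h φ
    refine ⟨s, hs, ?_⟩
    rw [← map_smul, Submodule.mkQ_apply, Submodule.Quotient.mk_eq_zero, hψ]
    exact Submodule.smul_mem_pointwise_smul _ _ _ Submodule.mem_top
  obtain ⟨s, hs, hsM⟩ := hquot.exists_smul
  obtain ⟨P, hmon, -, hcoeff, hzero⟩ := LinearMap.exists_monic_and_natDegree_eq_and_coeff_mem_pow_and_aeval_eq_zero A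
    (s • (LinearMap.id : M →ₗ[A] M)) (Ideal.span {x}) (by
      rintro - ⟨φ, rfl⟩
      rw [Submodule.ideal_span_singleton_smul]
      simpa using (Submodule.Quotient.mk_eq_zero _).1
        ((Submodule.Quotient.mk_smul _ s φ).trans (hsM (Submodule.Quotient.mk φ))))
  refine LZ.of_smul_eq_zero (s := P.eval s) (fun hmem => hs (hq.mem_of_pow_mem P.natDegree ?_)) fun φ => ?_
  · rw [Polynomial.eval_eq_sum_range, Finset.sum_range_succ, hmon.coeff_natDegree, one_mul] at hmem
    refine (Ideal.add_mem_iff_right _ (Ideal.sum_mem _ fun k hk => Ideal.mul_mem_right _ _ ?_)).1 hmem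
    have hk' := Finset.mem_range.1 hk
    exact (Ideal.span_le.2 (Set.singleton_subset_iff.2 hx))
      (Ideal.pow_le_self (by lia) (hcoeff k))
  · have h2 : Polynomial.aeval (algebraMap A (Module.End A M) s) P = 0 := by
      rw [Algebra.algebraMap_eq_smul_one]; exact hzero
    rw [Polynomial.aeval_algebraMap_apply, Polynomial.aeval_def, Algebra.algebraMap_self,
      Polynomial.eval₂_id] at h2
    exact LinearMap.congr_fun h2 φ

variable [IsNoetherianRing A] {ω : Dual.D A}

/-- the dimension function of a dualizing complex -/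
noncomputable def dimFun (hω : Dual.IsDualizing A ω) (p : PrimeSpectrum A) : ℤ :=
  -Classical.choose (existsUnique_degree hω p.asIdeal)

lemma not_lz_iff_eq (hω : Dual.IsDualizing A ω) (p : PrimeSpectrum A) (i : ℤ) :
    ¬ LZ p.asIdeal (Dual.inD A (A ⧸ p.asIdeal) ⟶ ω⟦i⟧) ↔ i = -dimFun hω p := by
  obtain ⟨h1, h2⟩ := Classical.choose_spec (existsUnique_degree hω p.asIdeal)
  rw [dimFun, neg_neg]
  exact ⟨fun h => by_contra fun hne => h (h2 i hne), fun h => h ▸ h1⟩

lemma lz_of_ne (hω : Dual.IsDualizing A ω) (p : PrimeSpectrum A) {i : ℤ} (h : i ≠ -dimFun hω p) :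
    LZ p.asIdeal (Dual.inD A (A ⧸ p.asIdeal) ⟶ ω⟦i⟧) :=
  not_not.1 fun hh => h ((not_lz_iff_eq hω p i).1 hh)

theorem dimFun_covBy (hω : Dual.IsDualizing A ω) (p q : PrimeSpectrum A) (h : p ⋖ q) :
    dimFun hω p = dimFun hω q + 1 := by
  have hgood := good_of_isDualizing hω
  have hle : p.asIdeal ≤ q.asIdeal := h.1.le
  obtain ⟨x, hxq, hxp⟩ := Set.exists_of_ssubset (show p.asIdeal < q.asIdeal from h.1)
  let f := x • (LinearMap.id : (A ⧸ p.asIdeal) →ₗ[A] A ⧸ p.asIdeal)
  have hf : Function.Injective f := by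
    intro y z hyz
    obtain ⟨y, rfl⟩ := Ideal.Quotient.mk_surjective y
    obtain ⟨z, rfl⟩ := Ideal.Quotient.mk_surjective z
    rw [Ideal.Quotient.eq]
    have h3 : x * y - x * z ∈ p.asIdeal := Ideal.Quotient.eq.1 hyz
    rw [← mul_sub] at h3
    exact (p.2.mem_or_mem h3).resolve_left hxp
  by_contra hne
  -- multiplication by `x` is onto at `q` in the degree of `p`
  have key : LZ q.asIdeal (Dual.inD A (A ⧸ p.asIdeal) ⟶ ω⟦-dimFun hω p⟧) := by
    haveI := finite_hom ω hgood (A ⧸ p.asIdeal) (-dimFun hω p)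
    refine lz_of_smul_surjective hxq fun φ => ?_
    have hex := exact_left ω f
      (Submodule.mkQ (x • ⊤ : Submodule A (A ⧸ p.asIdeal))) hf (Submodule.mkQ_surjective _)
      (exact_smul x) (-dimFun hω p)
    have hQ : LZ q.asIdeal
        (Dual.inD A (QuotSMulTop x (A ⧸ p.asIdeal)) ⟶ ω⟦-dimFun hω p + 1⟧) := by
      refine lz_hom_of_primes ω q.asIdeal _ _ fun r hr hrq => ?_
      have hxr : x ∈ r.asIdeal := hr (Module.mem_annihilator.2 fun y => by
        obtain ⟨y, rfl⟩ := Submodule.mkQ_surjective _ y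
        rw [← map_smul, Submodule.mkQ_apply, Submodule.Quotient.mk_eq_zero]
        exact Submodule.smul_mem_pointwise_smul _ _ _ Submodule.mem_top)
      have hpr : p.asIdeal ≤ r.asIdeal := le_trans (fun a ha => Module.mem_annihilator.2 fun y => by
        obtain ⟨y, rfl⟩ := Submodule.mkQ_surjective _ y
        obtain ⟨b, rfl⟩ := Ideal.Quotient.mk_surjective y
        rw [← map_smul, show a • Ideal.Quotient.mk p.asIdeal b = 0 from
          Ideal.Quotient.eq_zero_iff_mem.2 (Ideal.mul_mem_right _ _ ha), map_zero]) hr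
      obtain rfl : r = q := by
        rcases h.eq_or_eq (show p ≤ r from hpr) (show r ≤ q from hrq) with e | e
        · exact absurd (e ▸ hxr) hxp
        · exact e
      exact lz_of_ne hω r (by lia)
    obtain ⟨s, hs, h0⟩ := hQ (delta ω f _ hf (Submodule.mkQ_surjective _) (exact_smul x) _ φ)
    obtain ⟨ψ, hψ⟩ := (hex (s • φ)).1 (by rw [map_smul]; exact h0)
    refine ⟨s, hs, ψ, ?_⟩
    rw [← hψ, pre_smul, pre_id]
    rfl
  exact (not_lz_iff_eq hω p _).2 rfl (key.mono hle)

instance wellFoundedLT_primeSpectrum : WellFoundedLT (PrimeSpectrum A) :=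
  ⟨Subrelation.wf (fun {a b} (h : a < b) =>
      (Ideal.height_strict_mono_of_isPrime (show a.asIdeal < b.asIdeal from h) : _ < _))
    (InvImage.wf (fun p : PrimeSpectrum A => p.asIdeal.height) wellFounded_lt)⟩

theorem dimFun_strictAnti (hω : Dual.IsDualizing A ω) : StrictAnti (dimFun hω) := by
  intro p q hpq
  revert hpq
  refine WellFoundedLT.induction (motive := fun q => p < q → dimFun hω q < dimFun hω p) q ?_
  intro q ih hpq
  haveI : WellFoundedGT (PrimeSpectrum A) :=
    ⟨Subrelation.wf (fun {a b} (h : b < a) => (show b.asIdeal < a.asIdeal from h))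
      (InvImage.wf (fun p : PrimeSpectrum A => p.asIdeal) wellFounded_gt)⟩
  obtain ⟨r, ⟨hpr, hrq⟩, hmax⟩ := wellFounded_gt.has_min {r | p ≤ r ∧ r < q} ⟨p, le_rfl, hpq⟩
  have hcov : r ⋖ q := ⟨hrq, fun s hrs hsq => hmax s ⟨hpr.trans hrs.le, hsq⟩ hrs⟩
  have h1 := dimFun_covBy hω r q hcov
  rcases hpr.eq_or_lt with rfl | hlt
  · lia
  · have := ih r hrq hlt; lia

theorem dimFun_bounded (hω : Dual.IsDualizing A ω) :
    ∃ a b : ℤ, ∀ p, a ≤ dimFun hω p ∧ dimFun hω p ≤ b := by
  obtain ⟨a, b, h⟩ := hω.finite_injective_dimension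
  refine ⟨-b, -a, fun p => ?_⟩
  by_contra hc
  haveI := h (A ⧸ p.asIdeal) (-dimFun hω p) (by lia)
  exact (not_lz_iff_eq hω p _).2 rfl LZ.of_subsingleton

/-- at a minimal prime the cohomology of `ω` sees only the degree of the prime -/
theorem not_lz_HD_iff (hω : Dual.IsDualizing A ω) (p : PrimeSpectrum A)
    (hp : p.asIdeal ∈ minimalPrimes A) (i : ℤ) :
    ¬ LZ p.asIdeal (Dual.HD A ω i) ↔ i = -dimFun hω p := by
  have hother : ∀ (N : Type u) [AddCommGroup N] [Module A N] [Module.Finite A N] (j : ℤ),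
      j ≠ -dimFun hω p → LZ p.asIdeal (Dual.inD A N ⟶ ω⟦j⟧) := fun N _ _ _ j hj =>
    lz_hom_of_primes ω _ j N fun r _ hrp => by
      obtain rfl : r = p := PrimeSpectrum.ext (le_antisymm hrp (hp.2 ⟨r.2, bot_le⟩ hrp))
      exact lz_of_ne hω r hj
  constructor
  · refine fun h => by_contra fun hne => h ?_
    exact (hother A i hne).of_surjective (evalShiftEquiv ω i).toLinearMap (LinearEquiv.surjective _)
  · rintro rfl h
    have h2 := h.of_injective (evalShiftEquiv ω (-dimFun hω p)).toLinearMap (LinearEquiv.injective _)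
    have gen : ∀ j i : ℤ, j + 1 = i →
        LZ p.asIdeal (Dual.inD A p.asIdeal ⟶ ω⟦j⟧) → LZ p.asIdeal (Dual.inD A A ⟶ ω⟦i⟧) →
        LZ p.asIdeal (Dual.inD A (A ⧸ p.asIdeal) ⟶ ω⟦i⟧) := by
      rintro j i rfl h1 h2
      refine LZ.of_exact _ _ (exact_right ω p.asIdeal.subtype p.asIdeal.mkQ
        p.asIdeal.injective_subtype (Submodule.mkQ_surjective _)
        (LinearMap.exact_subtype_mkQ _) j) h1 h2
    exact (not_lz_iff_eq hω p _).2 rfl
      (gen (-dimFun hω p - 1) _ (by ring) (hother p.asIdeal _ (by lia)) h2)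

end Groth.L29.HomD
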