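import Groth.Agent.L29.Dual.Gorenstein
import Groth.Agent.L29.Dual.DualFlat
import Groth.Agent.L29.Dual.LocalDualityH
import Groth.Agent.S0299
import Groth.Agent.S0371

/-!
Gorenstein rings of finite dimension; top local cohomology of a Gorenstein local ring.
-/

universe u

open CategoryTheory IsLocalRing

attribute [local instance] HasDerivedCategory.standard

set_option backward.isDefEq.respectTransparency false

namespace Groth.L29.Gorenstein

variable {A : Type u} [CommRing A] [IsNoetherianRing A]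

open Groth.L29.FlatBC in
/-- base change of `A[0]` to a flat algebra -/
noncomputable def selfL (B : Type u) [CommRing B] [Algebra A B] [Module.Flat A B] :
    (L A B).obj (Dual.inD A A) ≅ Dual.inD B B :=
  singleL B A ≪≫ (DerivedCategory.singleFunctor (ModuleCat.{u} B) 0).mapIso
    (TensorProduct.AlgebraTensorModule.rid A B B).toModuleIso

theorem finite_injdim_self_iff :
    (∃ n : ℕ, HasInjectiveDimensionLT (ModuleCat.of A A) n) ↔
      (LocCoh.IsGorensteinRing A ∧ ringKrullDim A < ⊤) := by
  constructor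
  · rintro ⟨n, hn⟩
    have h := isDualizing_self_of_injdim n hn
    refine ⟨⟨fun p hp => ?_⟩, Groth.Agent.S0371.result A (Dual.inD A A) h⟩
    haveI : Module.Flat A (Localization.AtPrime p) := IsLocalization.flat _ p.primeCompl
    exact isGorensteinLocalRing_iff_isDualizing.2 (HomD.isDualizing_of_iso (selfL _)
      (FlatBC.isDualizing_L_localization p.primeCompl h))
  · rintro ⟨hG, hdim⟩
    haveI : ∀ p : PrimeSpectrum A, Module.Flat A (Localization.AtPrime p.asIdeal) := fun p =>
      IsLocalization.flat _ p.asIdeal.primeCompl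
    refine exists_injdim_of_isDualizing (FlatBC.isDualizing_of_pointwise hdim (HomD.finite_HD_single A) 0
      (fun i hi => ModuleCat.subsingleton_of_isZero (DerivedCategory.isZero_of_isGE (Dual.inD A A) 0 i hi))
      (fun p => ?_))
    haveI := hG.isGorensteinLocalRing_localization p.asIdeal
    exact HomD.isDualizing_of_iso (selfL _).symm (isGorensteinLocalRing_iff_isDualizing.1 inferInstance)

/-- a dualizing `A[0]` is normalized after shifting by the dimension -/
theorem exists_normalized_self [LocCoh.IsGorensteinLocalRing A] (n : ℕ) (hn : ringKrullDim A = n) :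
    Dual.IsDualizing A ((Dual.inD A A)⟦(n : ℤ)⟧) ∧ Dual.IsNormalized A ((Dual.inD A A)⟦(n : ℤ)⟧) := by
  have h := isGorensteinLocalRing_iff_isDualizing.1 (inferInstance : LocCoh.IsGorensteinLocalRing A)
  obtain ⟨m, hm, -⟩ := HomD.residue_degree (maximalIdeal A) h
  have hω : Dual.IsDualizing A ((Dual.inD A A)⟦m⟧) := HomD.isDualizing_shift h m
  have hnorm : Dual.IsNormalized A ((Dual.inD A A)⟦m⟧) := fun i hi =>
    haveI : Subsingleton (Dual.inD A (ResidueField A) ⟶ (Dual.inD A A)⟦m + i⟧) := hm (m + i) (by lia)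
    (HomD.homShiftEquiv _ (Dual.inD A A) m i (m + i) rfl).toEquiv.subsingleton
  have hd : Module.supportDim A A = n := by rw [Module.supportDim_self_eq_ringKrullDim, hn]
  have hnt := HomD.nontrivial_lowest hω hnorm A n hd
  obtain rfl : m = n := by
    by_contra hne
    haveI : Subsingleton (Dual.HD A (Dual.inD A A) (m + -(n : ℤ))) := by
      rcases lt_or_gt_of_ne (show m + -(n : ℤ) ≠ 0 by lia) with h' | h'
      · exact ModuleCat.subsingleton_of_isZero (DerivedCategory.isZero_of_isGE _ 0 _ h')
      · exact ModuleCat.subsingleton_of_isZero (DerivedCategory.isZero_of_isLE _ 0 _ h')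
    exact not_subsingleton_iff_nontrivial.2 hnt
      ((HomD.homShiftEquiv _ _ m (-(n : ℤ)) (m + -(n : ℤ)) rfl).trans
        (HomD.evalShiftEquiv (Dual.inD A A) (m + -(n : ℤ)))).toEquiv.subsingleton
  exact ⟨hω, hnorm⟩

theorem exists_isInjectiveHull_H_top [LocCoh.IsGorensteinLocalRing A] (n : ℕ)
    (hn : ringKrullDim A = n) :
    ∃ f : ResidueField A →ₗ[A] LocCoh.H (maximalIdeal A) n A, InjHull.IsInjectiveHull f := by
  obtain ⟨hω, hnorm⟩ := exists_normalized_self n hn
  obtain ⟨E, _, _, f, hf⟩ := Groth.Agent.S0299.result A (ResidueField A)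
  obtain ⟨e⟩ := LocDual.nonempty_H_equiv hω hnorm f hf A n
  let eA : (Dual.inD A A ⟶ ((Dual.inD A A)⟦(n : ℤ)⟧)⟦(-(n : ℤ))⟧) ≃ₗ[A] A :=
    HomD.homShiftEquiv _ _ (n : ℤ) (-(n : ℤ)) 0 (by lia) ≪≫ₗ HomD.evalShiftEquiv (Dual.inD A A) 0 ≪≫ₗ
      ((DerivedCategory.singleFunctorCompHomologyFunctorIso (ModuleCat.{u} A) 0).app
        (ModuleCat.of A A)).toLinearEquiv
  let φ : E ≃ₗ[A] LocCoh.H (maximalIdeal A) n A :=
    (e ≪≫ₗ eA.arrowCongr (LinearEquiv.refl A E) ≪≫ₗ LinearMap.ringLmapEquivSelf A A E).symm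
  refine ⟨φ.toLinearMap ∘ₗ f, { injective := φ.injective.comp hf.injective, essential := ?_, isInjective := ?_ }⟩
  · intro N hN h0
    refine hf.essential (N.comap φ.toLinearMap) (fun h => hN ?_) ?_
    · rw [← Submodule.map_comap_eq_of_surjective φ.surjective N, h, Submodule.map_bot]
    · rw [Submodule.eq_bot_iff] at h0 ⊢
      rintro x ⟨hx, y, rfl⟩
      exact φ.injective ((h0 _ ⟨hx, y, rfl⟩).trans (map_zero _).symm)
  · exact Groth.L04.injective_of_linearEquiv φ hf.isInjective

end Groth.L29.Gorenstein
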