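import Groth.Agent.L29.Dual.Unique
import Groth.Agent.L29.Dual.Depth
import Groth.Agent.L29.Dual.TopDegree
import Groth.Agent.L29.Dual.DualFlat
import Groth.Agent.L29.Dual.GorensteinRing
import Groth.Agent.L04.CMBasic
import Groth.Agent.L04.SupportLoc
import Mathlib.RingTheory.Localization.BaseChange
import Mathlib.Data.Int.Interval
import Mathlib.RingTheory.Spectrum.Prime.FreeLocus

/-!
Cohen–Macaulay and Gorenstein loci in the presence of a dualizing complex.
-/

universe u

open CategoryTheory IsLocalRing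
open scoped TensorProduct

attribute [local instance] HasDerivedCategory.standard

set_option backward.isDefEq.respectTransparency false

namespace Groth.L29.Loci

open Groth.L29.HomD

section Local

variable {A : Type u} [CommRing A] [IsLocalRing A] [IsNoetherianRing A] {ω : Dual.D A}

/-- Cohen–Macaulay means one degree -/
theorem isCM_iff (hω : Dual.IsDualizing A ω) (M : Type u) [AddCommGroup M] [Module A M]
    [Module.Finite A M] [Nontrivial M] :
    LocCoh.IsCohenMacaulayModule A M ↔
      ∀ i j : ℤ, Nontrivial (Dual.inD A M ⟶ ω⟦i⟧) → Nontrivial (Dual.inD A M ⟶ ω⟦j⟧) → i = j := by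
  obtain ⟨n, hn, hnn⟩ := Unique.exists_normalized_shift hω
  obtain ⟨m, hm, h1, h2⟩ := depth_spec hn hnn M
  obtain ⟨d, hd⟩ : ∃ d : ℕ, Module.supportDim A M = d := by
    have hne := Module.supportDim_ne_bot_of_nontrivial A M
    have hlt : Module.supportDim A M < ⊤ :=
      lt_of_le_of_lt (Module.supportDim_le_ringKrullDim A M) ringKrullDim_lt_top
    revert hne hlt
    generalize Module.supportDim A M = s
    intro hne hlt
    obtain ⟨s, rfl⟩ := WithBot.ne_bot_iff_exists.1 hne
    obtain ⟨k, rfl⟩ := ENat.ne_top_iff_exists.1 (show s ≠ ⊤ by rintro rfl; exact lt_irrefl _ hlt)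
    exact ⟨k, rfl⟩
  have hlow := nontrivial_lowest hn hnn M d hd
  have hmd : m ≤ d := by
    by_contra h
    exact not_subsingleton_iff_nontrivial.2 hlow (h1 d (by omega))
  let e := fun i : ℤ => homShiftEquiv (Dual.inD A M) ω n i (n + i) rfl
  constructor
  · intro hCM i j hi hj
    unfold LocCoh.IsCohenMacaulayModule at hCM
    rw [hm, hd] at hCM
    obtain rfl : d = m := by exact_mod_cast hCM
    have key : ∀ i : ℤ, Nontrivial (Dual.inD A M ⟶ ω⟦i⟧) → i = n - d := by
      intro i hi
      by_contra hne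
      have hb := bound (ω⟦n⟧) (good_of_isDualizing hn) hnn d M hd.le (i - n)
      haveI : Nontrivial (Dual.inD A M ⟶ (ω⟦n⟧)⟦i - n⟧) :=
        (homShiftEquiv (Dual.inD A M) ω n (i - n) i (by lia)).toEquiv.nontrivial
      have hin : -(d : ℤ) ≤ i - n ∧ i - n ≤ 0 := by
        by_contra h
        exact not_subsingleton_iff_nontrivial.2 this (hb.1 (by lia))
      obtain ⟨δ, hδ⟩ := Int.eq_ofNat_of_zero_le (show 0 ≤ n - i by lia)
      haveI := h1 δ (by lia)
      exact not_subsingleton_iff_nontrivial.2 ‹Nontrivial (Dual.inD A M ⟶ (ω⟦n⟧)⟦i - n⟧)›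
        (show Subsingleton (Dual.inD A M ⟶ (ω⟦n⟧)⟦i - n⟧) by
          rw [show i - n = -(δ : ℤ) by lia]; infer_instance)
    rw [key i hi, key j hj]
  · intro h
    haveI := h2
    haveI := hlow
    have := h (n + -(m : ℤ)) (n + -(d : ℤ)) (e _).symm.toEquiv.nontrivial (e _).symm.toEquiv.nontrivial
    unfold LocCoh.IsCohenMacaulayModule
    rw [hm, hd, show d = m by lia]
    rfl

/-- Gorenstein means one degree, free of rank one -/
theorem isGorenstein_iff (hω : Dual.IsDualizing A ω) :
    LocCoh.IsGorensteinLocalRing A ↔ ∃ i : ℤ, (∀ j : ℤ, j ≠ i → Subsingleton (Dual.HD A ω j)) ∧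
      Nonempty (Dual.HD A ω i ≃ₗ[A] A) := by
  constructor
  · intro h
    obtain ⟨n, ⟨e⟩⟩ := Unique.exists_shift_iso
      (Gorenstein.isGorensteinLocalRing_iff_isDualizing.1 h) hω
    let eH := fun j : ℤ => (((DerivedCategory.homologyFunctor (ModuleCat.{u} A) j).mapIso e) ≪≫
      Groth.L10.hShiftIso (A := ModuleCat.{u} A) (Dual.inD A A) n j (n + j) rfl).toLinearEquiv
    refine ⟨-n, fun j hj => ?_, ⟨eH (-n) ≪≫ₗ ?_⟩⟩
    · haveI : Subsingleton (Dual.HD A (Dual.inD A A) (n + j)) := by
        rcases lt_or_gt_of_ne (show n + j ≠ 0 by lia) with h' | h'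
        · exact ModuleCat.subsingleton_of_isZero (DerivedCategory.isZero_of_isGE _ 0 _ h')
        · exact ModuleCat.subsingleton_of_isZero (DerivedCategory.isZero_of_isLE _ 0 _ h')
      exact (eH j).toEquiv.subsingleton
    · rw [show n + -n = (0 : ℤ) by lia]
      exact ((DerivedCategory.singleFunctorCompHomologyFunctorIso (ModuleCat.{u} A) 0).app
        (ModuleCat.of A A)).toLinearEquiv
  · rintro ⟨i, hz, ⟨e⟩⟩
    haveI : DerivedCategory.IsGE ω i := (DerivedCategory.isGE_iff ω i).2 fun j hj =>
      haveI := hz j (by lia); ModuleCat.isZero_of_subsingleton _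
    haveI : DerivedCategory.IsLE ω i := (DerivedCategory.isLE_iff ω i).2 fun j hj =>
      haveI := hz j (by lia); ModuleCat.isZero_of_subsingleton _
    obtain ⟨eω⟩ := Groth.L10.exists_iso_single_H (A := ModuleCat.{u} A) ω i
    let e2 : ω⟦i⟧ ≅ Dual.inD A A := (shiftFunctor (Dual.D A) i).mapIso eω ≪≫
      ((DerivedCategory.singleFunctors (ModuleCat.{u} A)).shiftIso i 0 i (by lia)).app _ ≪≫
      (DerivedCategory.singleFunctor (ModuleCat.{u} A) 0).mapIso e.toModuleIso
    exact Gorenstein.isGorensteinLocalRing_iff_isDualizing.2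
      (isDualizing_of_iso e2 (isDualizing_shift hω i))

end Local

section Global

variable {A : Type u} [CommRing A] [IsNoetherianRing A] {ω : Dual.D A}

/-- the condition of lying in the support of at most one `Hom(M, ω⟦i⟧)` -/
def AtMostOne (ω : Dual.D A) (M : Type u) [AddCommGroup M] [Module A M] (p : PrimeSpectrum A) : Prop :=
  ∀ i j : ℤ, p ∈ Module.support A (Dual.inD A M ⟶ ω⟦i⟧) →
    p ∈ Module.support A (Dual.inD A M ⟶ ω⟦j⟧) → i = j

theorem exists_range (hω : Dual.IsDualizing A ω) : ∃ a b : ℤ, ∀ (M : Type u) [AddCommGroup M]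
    [Module A M] (i : ℤ), (i < a ∨ b < i) → Module.support A (Dual.inD A M ⟶ ω⟦i⟧) = ∅ := by
  obtain ⟨a, b, hab⟩ := hω.finite_injective_dimension
  exact ⟨a, b, fun M _ _ i hi => haveI := hab M i hi; Module.support_eq_empty⟩

theorem isClosed_support_hom (hω : Dual.IsDualizing A ω) (M : Type u) [AddCommGroup M] [Module A M]
    [Module.Finite A M] (i : ℤ) : IsClosed (Module.support A (Dual.inD A M ⟶ ω⟦i⟧)) := by
  haveI := finite_hom ω (good_of_isDualizing hω) M i
  rw [Module.support_eq_zeroLocus]
  exact PrimeSpectrum.isClosed_zeroLocus _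

theorem isOpen_atMostOne (hω : Dual.IsDualizing A ω) (M : Type u) [AddCommGroup M] [Module A M]
    [Module.Finite A M] : IsOpen {p : PrimeSpectrum A | AtMostOne ω M p} := by
  obtain ⟨a, b, hab⟩ := exists_range hω
  let S : Finset (ℤ × ℤ) := (Finset.Icc a b ×ˢ Finset.Icc a b).filter fun q => q.1 ≠ q.2
  have hS : {p : PrimeSpectrum A | AtMostOne ω M p}ᶜ = ⋃ q ∈ S,
      Module.support A (Dual.inD A M ⟶ ω⟦q.1⟧) ∩ Module.support A (Dual.inD A M ⟶ ω⟦q.2⟧) := by
    ext p
    simp only [Set.mem_compl_iff, Set.mem_setOf_eq, Set.mem_iUnion, Set.mem_inter_iff, AtMostOne]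
    constructor
    · intro h
      push Not at h
      obtain ⟨i, j, hi, hj, hij⟩ := h
      have hr : ∀ l : ℤ, p ∈ Module.support A (Dual.inD A M ⟶ ω⟦l⟧) → a ≤ l ∧ l ≤ b := fun l hl => by
        by_contra h'
        rw [hab M l (by lia)] at hl
        exact hl
      exact ⟨(i, j), by simp [S, hr i hi, hr j hj, hij], hi, hj⟩
    · rintro ⟨q, hq, h1, h2⟩ h
      exact (Finset.mem_filter.1 hq).2 (h _ _ h1 h2)
  rw [← isClosed_compl_iff, hS]
  exact S.finite_toSet.isClosed_biUnion fun q _ =>
    (isClosed_support_hom hω M q.1).inter (isClosed_support_hom hω M q.2)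

variable (p : PrimeSpectrum A)

theorem mem_support_hom_iff (hω : Dual.IsDualizing A ω) (M : Type u) [AddCommGroup M] [Module A M]
    [Module.Finite A M] (N : Type u) [AddCommGroup N] [Module (Localization.AtPrime p.asIdeal) N]
    [Module.Flat A (Localization.AtPrime p.asIdeal)]
    (e : (Localization.AtPrime p.asIdeal ⊗[A] M) ≃ₗ[Localization.AtPrime p.asIdeal] N) (i : ℤ) :
    p ∈ Module.support A (Dual.inD A M ⟶ ω⟦i⟧) ↔
      Nontrivial (Dual.inD (Localization.AtPrime p.asIdeal) N ⟶
        ((FlatBC.L A (Localization.AtPrime p.asIdeal)).obj ω)⟦i⟧) := by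
  obtain ⟨a, b, hab⟩ := hω.finite_injective_dimension
  haveI := isGE_of_lower a fun M _ _ i hi => hab M i (Or.inl hi)
  rw [Module.mem_support_iff,
    (LocalizedModule.equivTensorProduct p.asIdeal.primeCompl (Dual.inD A M ⟶ ω⟦i⟧)).nontrivial_congr,
    ((FlatBC.homEquiv (B := Localization.AtPrime p.asIdeal) (W := ω) a M i).trans
      (HomD.preEquiv _ e i).symm).toEquiv.nontrivial_congr]

theorem atMostOne_iff_isCM (hω : Dual.IsDualizing A ω) (M : Type u) [AddCommGroup M] [Module A M]
    [Module.Finite A M] :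
    AtMostOne ω M p ↔ (Subsingleton (LocalizedModule p.asIdeal.primeCompl M) ∨
      LocCoh.IsCohenMacaulayModule (Localization.AtPrime p.asIdeal)
        (LocalizedModule p.asIdeal.primeCompl M)) := by
  haveI : Module.Flat A (Localization.AtPrime p.asIdeal) := IsLocalization.flat _ p.asIdeal.primeCompl
  let B := Localization.AtPrime p.asIdeal
  let N := LocalizedModule p.asIdeal.primeCompl M
  let e : (B ⊗[A] M) ≃ₗ[B] N := (LocalizedModule.equivTensorProduct p.asIdeal.primeCompl M).symm
  haveI : Module.Finite B N := Module.Finite.equiv e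
  have hB := FlatBC.isDualizing_L_localization (B := B) p.asIdeal.primeCompl hω
  rcases subsingleton_or_nontrivial N with hN | hN
  · refine ⟨fun _ => Or.inl hN, fun _ i j hi _ => absurd ((mem_support_hom_iff p hω M N e i).1 hi) ?_⟩
    rw [not_nontrivial_iff_subsingleton]
    exact HomD.subsingleton_of_module _ i
  · rw [or_iff_right (not_subsingleton_iff_nontrivial.2 hN), isCM_iff hB N]
    simp only [AtMostOne, mem_support_hom_iff p hω M N e]
    exact Iff.rfl

theorem atMostOne_iff_isCMLocalRing (hω : Dual.IsDualizing A ω) :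
    AtMostOne ω A p ↔ LocCoh.IsCohenMacaulayLocalRing (Localization.AtPrime p.asIdeal) := by
  haveI : Module.Flat A (Localization.AtPrime p.asIdeal) := IsLocalization.flat _ p.asIdeal.primeCompl
  let B := Localization.AtPrime p.asIdeal
  have hB := FlatBC.isDualizing_L_localization (B := B) p.asIdeal.primeCompl hω
  haveI := hB.isNoetherianRing
  simp only [AtMostOne, mem_support_hom_iff p hω A B (TensorProduct.AlgebraTensorModule.rid A B B)]
  rw [← isCM_iff hB B]
  exact ⟨fun h => ⟨h⟩, fun h => h.supportDim_eq_depth⟩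

/-- at a minimal prime of the support the localization is Cohen–Macaulay -/
theorem isCM_of_minimal (M : Type u) [AddCommGroup M] [Module A M] [Module.Finite A M]
    (hp : p ∈ Module.support A M) (hmin : ∀ q ∈ Module.support A M, q ≤ p → q = p) :
    LocCoh.IsCohenMacaulayModule (Localization.AtPrime p.asIdeal)
      (LocalizedModule p.asIdeal.primeCompl M) := by
  let B := Localization.AtPrime p.asIdeal
  haveI : Nontrivial (LocalizedModule p.asIdeal.primeCompl M) := Module.mem_support_iff.1 hp
  haveI : Module.Finite B (LocalizedModule p.asIdeal.primeCompl M) :=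
    Module.Finite.equiv (LocalizedModule.equivTensorProduct p.asIdeal.primeCompl M).symm
  haveI : IsNoetherianRing B := IsLocalization.isNoetherianRing p.asIdeal.primeCompl B inferInstance
  haveI : Subsingleton (Module.support B (LocalizedModule p.asIdeal.primeCompl M)) := by
    refine ⟨fun q q' => Subtype.ext (PrimeSpectrum.localization_comap_injective B p.asIdeal.primeCompl ?_)⟩
    have key : ∀ r : PrimeSpectrum B, r ∈ Module.support B (LocalizedModule p.asIdeal.primeCompl M) →
        PrimeSpectrum.comap (algebraMap A B) r = p := fun r hr =>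
      hmin _ ((Groth.L04.support_localization p.asIdeal r).1 hr) (by
        change r.asIdeal.comap (algebraMap A B) ≤ p.asIdeal
        conv_rhs => rw [← IsLocalization.AtPrime.comap_maximalIdeal B p.asIdeal]
        exact Ideal.comap_mono (le_maximalIdeal r.isPrime.ne_top))
    rw [key _ q.2, key _ q'.2]
  rw [Groth.L04.isCohenMacaulayModule_iff_supportDim_le, Module.supportDim]
  exact (Order.krullDim_nonpos_of_subsingleton).trans (WithBot.coe_le_coe.2 zero_le)

theorem support_subset_closure_isCM (M : Type u) [AddCommGroup M] [Module A M] [Module.Finite A M] :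
    Module.support A M ⊆ closure ({p : PrimeSpectrum A | LocCoh.IsCohenMacaulayModule
      (Localization.AtPrime p.asIdeal) (LocalizedModule p.asIdeal.primeCompl M)} ∩ Module.support A M) := by
  intro p hp
  rw [Module.support_eq_zeroLocus] at hp
  obtain ⟨q, hq, hqp⟩ := Ideal.exists_minimalPrimes_le
    (show Module.annihilator A M ≤ p.asIdeal from hp)
  have hqs : (⟨q, hq.1.1⟩ : PrimeSpectrum A) ∈ Module.support A M := by
    rw [Module.support_eq_zeroLocus]; exact hq.1.2
  have hmem : ({⟨q, hq.1.1⟩} : Set (PrimeSpectrum A)) ⊆ {p : PrimeSpectrum A |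
      LocCoh.IsCohenMacaulayModule (Localization.AtPrime p.asIdeal)
        (LocalizedModule p.asIdeal.primeCompl M)} ∩ Module.support A M := by
    rw [Set.singleton_subset_iff]
    refine ⟨isCM_of_minimal _ M hqs fun r hr hrq => ?_, hqs⟩
    rw [Module.support_eq_zeroLocus] at hr
    exact PrimeSpectrum.ext (le_antisymm hrq (hq.2 ⟨r.isPrime, hr⟩ hrq))
  refine closure_mono hmem ?_
  rw [PrimeSpectrum.closure_singleton]
  exact hqp

theorem dense_isCMLocalRing :
    Dense {p : PrimeSpectrum A | LocCoh.IsCohenMacaulayLocalRing (Localization.AtPrime p.asIdeal)} := by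
  intro p
  obtain ⟨q, hq, hqp⟩ := Ideal.exists_minimalPrimes_le (bot_le : (⊥ : Ideal A) ≤ p.asIdeal)
  haveI := hq.1.1
  let B := Localization.AtPrime q
  haveI : IsNoetherianRing B := IsLocalization.isNoetherianRing q.primeCompl B inferInstance
  haveI : Subsingleton (Module.support B B) := by
    refine ⟨fun r r' => Subtype.ext (PrimeSpectrum.localization_comap_injective B q.primeCompl ?_)⟩
    have key : ∀ r : PrimeSpectrum B, PrimeSpectrum.comap (algebraMap A B) r = ⟨q, hq.1.1⟩ := fun r => by
      have hle : r.asIdeal.comap (algebraMap A B) ≤ q := by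
        conv_rhs => rw [← IsLocalization.AtPrime.comap_maximalIdeal B q]
        exact Ideal.comap_mono (le_maximalIdeal r.isPrime.ne_top)
      exact PrimeSpectrum.ext (le_antisymm hle (hq.2 ⟨Ideal.IsPrime.comap _, bot_le⟩ hle))
    rw [key, key]
  have hmem : ({⟨q, hq.1.1⟩} : Set (PrimeSpectrum A)) ⊆
      {p : PrimeSpectrum A | LocCoh.IsCohenMacaulayLocalRing (Localization.AtPrime p.asIdeal)} := by
    rw [Set.singleton_subset_iff]
    refine ⟨?_⟩
    change LocCoh.IsCohenMacaulayModule B B
    rw [Groth.L04.isCohenMacaulayModule_iff_supportDim_le, Module.supportDim]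
    exact (Order.krullDim_nonpos_of_subsingleton).trans (WithBot.coe_le_coe.2 zero_le)
  refine closure_mono hmem ?_
  rw [PrimeSpectrum.closure_singleton]
  exact hqp

theorem mem_iff_gorenstein (hω : Dual.IsDualizing A ω) :
    LocCoh.IsGorensteinLocalRing (Localization.AtPrime p.asIdeal) ↔
      ∃ i : ℤ, (∀ j : ℤ, j ≠ i → p ∉ Module.support A (Dual.HD A ω j)) ∧
        p ∈ Module.freeLocus A (Dual.HD A ω i) ∧ Module.rankAtStalk (Dual.HD A ω i) p = 1 := by
  haveI : Module.Flat A (Localization.AtPrime p.asIdeal) := IsLocalization.flat _ p.asIdeal.primeCompl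
  let B := Localization.AtPrime p.asIdeal
  have hB := FlatBC.isDualizing_L_localization (B := B) p.asIdeal.primeCompl hω
  haveI := hB.isNoetherianRing
  haveI := fun j => hω.finite_cohomology j
  let e := fun j : ℤ => (FlatBC.hEquiv A B ω j).trans
    (LocalizedModule.equivTensorProduct p.asIdeal.primeCompl (Dual.HD A ω j)).symm
  rw [isGorenstein_iff hB]
  refine exists_congr fun i => and_congr (forall_congr' fun j => imp_congr_right fun _ => ?_) ?_
  · rw [Module.notMem_support_iff]
    exact (e j).toEquiv.subsingleton_congr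
  · constructor
    · rintro ⟨f⟩
      have f' := ((e i).symm.trans f)
      haveI : Module.Free B (LocalizedModule p.asIdeal.primeCompl (Dual.HD A ω i)) :=
        Module.Free.of_equiv f'.symm
      exact ⟨this, f'.finrank_eq.trans (Module.finrank_self B)⟩
    · rintro ⟨hfree, hrk⟩
      haveI : Module.Free B (LocalizedModule p.asIdeal.primeCompl (Dual.HD A ω i)) := hfree
      haveI : Module.Finite B (LocalizedModule p.asIdeal.primeCompl (Dual.HD A ω i)) :=
        Module.Finite.equiv (LocalizedModule.equivTensorProduct p.asIdeal.primeCompl _).symm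
      exact ⟨(e i).trans (LinearEquiv.ofFinrankEq _ B (hrk.trans (Module.finrank_self B).symm))⟩

omit p in
theorem isOpen_gorenstein (hω : Dual.IsDualizing A ω) :
    IsOpen {p : PrimeSpectrum A | LocCoh.IsGorensteinLocalRing (Localization.AtPrime p.asIdeal)} := by
  haveI := fun j => hω.finite_cohomology j
  haveI := fun j => Module.finitePresentation_of_finite A (Dual.HD A ω j)
  obtain ⟨a, b, hab'⟩ := hω.finite_injective_dimension
  have hab : ∀ j : ℤ, (j < a ∨ b < j) → Subsingleton (Dual.HD A ω j) := fun j hj =>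
    haveI := hab' A j hj
    (evalShiftEquiv ω j).symm.toEquiv.subsingleton
  rw [show {p : PrimeSpectrum A | LocCoh.IsGorensteinLocalRing (Localization.AtPrime p.asIdeal)} =
    ⋃ i : ℤ, (⋃ j ∈ (Finset.Icc a b).erase i, Module.support A (Dual.HD A ω j))ᶜ ∩
      Subtype.val '' ((fun x : Module.freeLocus A (Dual.HD A ω i) =>
        Module.rankAtStalk (Dual.HD A ω i) x.1) ⁻¹' {1}) from ?_]
  · refine isOpen_iUnion fun i => IsOpen.inter ?_ (Module.isOpen_freeLocus.isOpenMap_subtype_val _
      (Module.isLocallyConstant_rankAtStalk_freeLocus _))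
    refine ((Finset.finite_toSet _).isClosed_biUnion fun j _ => ?_).isOpen_compl
    rw [Module.support_eq_zeroLocus]
    exact PrimeSpectrum.isClosed_zeroLocus _
  ext p
  simp only [Set.mem_setOf_eq, mem_iff_gorenstein p hω, Set.mem_iUnion, Set.mem_inter_iff,
    Set.mem_compl_iff, Finset.mem_erase, Finset.mem_Icc]
  refine exists_congr fun i => and_congr ⟨fun h => fun ⟨j, ⟨hj, _⟩, hm⟩ => h j hj hm, fun h j hj hm =>
    h ⟨j, ⟨hj, ?_⟩, hm⟩⟩ ⟨fun h => ⟨⟨p, h.1⟩, h.2, rfl⟩, ?_⟩
  · by_contra hc
    haveI := hab j (by lia)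
    simp [Module.support_eq_empty] at hm
  · rintro ⟨⟨q, hq⟩, hq1, rfl⟩
    exact ⟨hq, hq1⟩

end Global

end Groth.L29.Loci
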