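import Groth.Agent.L29.Dual.Coind

/-!
Dualizing complexes along finite ring maps, without assuming an adjoint: the coinduced complex.
-/

universe u

open CategoryTheory CategoryTheory.Limits

attribute [local instance] HasDerivedCategory.standard

set_option backward.isDefEq.respectTransparency false

namespace Groth.L29.RestrictAdj

open Groth.L29.HomD

variable {A B : Type u} [CommRing A] [CommRing B] (φ : A →+* B)

/-- the transposition, additively -/
noncomputable def transposeHom (I : DRing.Cx A) [I.IsKInjective] (X : Dual.D B) :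
    (X ⟶ DRing.toD (coindCx φ I)) ≃+ ((DRing.restrictD φ).obj X ⟶ DRing.toD I) :=
  AddEquiv.ofBijective (AddMonoidHom.mk' (transpose φ I) fun g g' => by
    simp [transpose, Functor.map_add, Preadditive.add_comp]) (transpose_bijective φ I X)

lemma transpose_smul (I : DRing.Cx A) (a : A) {X : Dual.D B} (g : X ⟶ DRing.toD (coindCx φ I)) :
    transpose φ I (φ a • g) = a • transpose φ I g := by
  rw [show φ a • g = (φ a • 𝟙 X) ≫ g by rw [Linear.smul_comp, Category.id_comp], transpose_comp,
    restrictD_map_smul_id, Linear.smul_comp, Category.id_comp]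

/-- `Hom(M, C⟦i⟧) = Hom(res M, I⟦i⟧)` -/
noncomputable def homShift (I : DRing.Cx A) [I.IsKInjective] (M : ModuleCat.{u} B) (i : ℤ) :
    (Dual.inD B M ⟶ (DRing.toD (coindCx φ I))⟦i⟧) ≃
      (Dual.inD A ((ModuleCat.restrictScalars.{u} φ).obj M) ⟶ (DRing.toD I)⟦i⟧) :=
  (shiftLeft _ _ i).toEquiv.trans ((transposeHom φ I _).toEquiv.trans
    ((Iso.homCongr (((DRing.restrictD φ).commShiftIso (-i)).app _ ≪≫
      (shiftFunctor (Dual.D A) (-i)).mapIso (restrictSingle φ M)) (Iso.refl _)).trans
      (shiftLeft _ _ i).toEquiv.symm))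

/-- finiteness of maps into the coinduced complex -/
lemma finite_hom_coind (I : DRing.Cx A) [I.IsKInjective] (M : ModuleCat.{u} B) (i : ℤ)
    (h : Module.Finite A (Dual.inD A ((ModuleCat.restrictScalars.{u} φ).obj M) ⟶ (DRing.toD I)⟦i⟧)) :
    Module.Finite B (Dual.inD B M ⟶ (DRing.toD (coindCx φ I))⟦i⟧) := by
  let X := (shiftFunctor (Dual.D B) (-i)).obj (Dual.inD B M)
  haveI hA : Module.Finite A ((DRing.restrictD φ).obj X ⟶ DRing.toD I) :=
    Module.Finite.equiv ((shiftLeft _ (DRing.toD I) i).trans (Linear.homCongr A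
      (((DRing.restrictD φ).commShiftIso (-i)).app _ ≪≫
        (shiftFunctor (Dual.D A) (-i)).mapIso (restrictSingle φ M)).symm (Iso.refl _)))
  suffices hX : Module.Finite B (X ⟶ DRing.toD (coindCx φ I)) from
    Module.Finite.equiv (shiftLeft _ _ i).symm
  let e := transposeHom φ I X
  let f : ((DRing.restrictD φ).obj X ⟶ DRing.toD I) →ₛₗ[φ] (X ⟶ DRing.toD (coindCx φ I)) :=
    { toFun := e.symm
      map_add' := e.symm.map_add
      map_smul' := fun a x => e.injective (by
        rw [e.apply_symm_apply]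
        change _ = transpose φ I (φ a • e.symm x)
        rw [transpose_smul]
        exact congrArg (a • ·) (e.apply_symm_apply x).symm) }
  obtain ⟨S, hS⟩ := hA.fg_top
  classical
  refine ⟨⟨S.image f, eq_top_iff.2 fun y hy => ?_⟩⟩
  clear hy
  obtain ⟨x, rfl⟩ := e.symm.surjective y
  have hx : x ∈ Submodule.span A (S : Set ((DRing.restrictD φ).obj X ⟶ DRing.toD I)) := hS ▸ Submodule.mem_top
  change f x ∈ _
  induction hx using Submodule.span_induction with
  | mem x hx => exact Submodule.subset_span (Finset.mem_coe.2 (Finset.mem_image.2 ⟨x, hx, rfl⟩))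
  | zero => simp
  | add x y _ _ hx hy => rw [map_add]; exact add_mem hx hy
  | smul a x _ hx => rw [LinearMap.map_smulₛₗ]; exact Submodule.smul_mem _ _ hx

/-- finite maps carry dualizing complexes to dualizing complexes -/
theorem exists_dualizing_of_finite [IsNoetherianRing A] [IsNoetherianRing B]
    (hfin : Module.Finite A (ringRes φ)) {ω : Dual.D A} (hω : Dual.IsDualizing A ω) :
    ∃ ω' : Dual.D B, Dual.IsDualizing B ω' := by
  obtain ⟨a, b, hab0⟩ := hω.finite_injective_dimension
  haveI := isGE_of_lower a fun M _ _ i hi => hab0 M i (Or.inl hi)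
  obtain ⟨I, _, hinj, _, ⟨eI⟩⟩ := exists_injRep ω a
  haveI : ∀ n, Injective (I.X n) := fun n =>
    haveI := hinj n
    Module.injective_object_of_injective_module A (I.X n)
  have hI := isDualizing_of_iso eI.symm hω
  have hab : ∀ (M : Type u) [AddCommGroup M] [Module A M] (i : ℤ),
      (i < a ∨ b < i) → Subsingleton (Dual.inD A M ⟶ (DRing.toD I)⟦i⟧) := fun M _ _ i hi =>
    haveI := hab0 M i hi
    (Linear.homCongr A (Iso.refl (Dual.inD A M)) ((shiftFunctor (Dual.D A) i).mapIso eI)).toEquiv.subsingleton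
  have bid := fun l => biduality I a b hab hI.toEnd_bijective hI.ext_self_subsingleton l (ringRes φ) hfin
  let eF : (DRing.restrictD φ).obj (DRing.toD (coindCx φ I)) ≅ DRing.toD (HM I (ringRes φ)) :=
    (ModuleCat.restrictScalars.{u} φ).mapDerivedCategoryFactors.app (coindCx φ I) ≪≫ DerivedCategory.Q.mapIso (resCoindIso φ I)
  refine ⟨DRing.toD (coindCx φ I), inferInstance, ⟨a, b, fun M _ _ i hi => ?_⟩, fun i => ?_, ?_, fun i hi => ?_⟩
  · haveI := hab ((ModuleCat.restrictScalars.{u} φ).obj (ModuleCat.of B M)) i hi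
    exact (homShift φ I (ModuleCat.of B M) i).subsingleton
  · haveI := finite_hom_coind φ I (ModuleCat.of B B) i
      (finite_hom (DRing.toD I) (good_of_isDualizing hI) (ringRes φ) i)
    exact Module.Finite.equiv (evalShiftEquiv (DRing.toD (coindCx φ I)) i)
  · refine ((transpose_bijective φ I _).of_comp_iff' _).1 ?_
    have h2 := ((Iso.homCongr eF.symm ((shiftFunctorZero (Dual.D A) ℤ).app (DRing.toD I))).bijective.comp
      ((bid 0).2 rfl))
    have h3 : (transpose φ I ∘ fun c : B => c • 𝟙 (DRing.toD (coindCx φ I))) =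
        fun c : B => (Iso.homCongr eF.symm ((shiftFunctorZero (Dual.D A) ℤ).app (DRing.toD I)))
          (theta I (ringRes φ) c) := funext fun c => by
      simp [transpose_smul_id, Iso.homCongr, theta, eF]
      erw [Iso.inv_hom_id_app, Category.comp_id]
    rw [h3]
    exact h2
  · haveI : Subsingleton (DRing.toD (HM I (ringRes φ)) ⟶ (DRing.toD I)⟦i⟧) := (bid i).1 hi
    exact ((shiftLeft _ _ i).toEquiv.trans ((transposeHom φ I _).toEquiv.trans
      ((Iso.homCongr (((DRing.restrictD φ).commShiftIso (-i)).app _ ≪≫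
        (shiftFunctor (Dual.D A) (-i)).mapIso eF) (Iso.refl (DRing.toD I))).trans
        (shiftLeft _ _ i).toEquiv.symm))).subsingleton

end Groth.L29.RestrictAdj
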