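import Groth.Agent.L29.Dual.Polynomial
import Groth.Agent.L29.Dual.CoindDual
import Groth.Agent.L29.Dual.DualFlat
import Groth.Agent.L29.Dual.DimFun
import Groth.Prelude.Def_Found
import Mathlib.RingTheory.EssentialFiniteness

/-!
Existence of dualizing complexes over algebras essentially of finite type; catenarity.
-/

universe u

open CategoryTheory CategoryTheory.Limits
open scoped Polynomial

attribute [local instance] HasDerivedCategory.standard

set_option backward.isDefEq.respectTransparency false

namespace Groth.L29.FlatBC

open Groth.L29.HomD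

/-- along a surjection -/
theorem exists_dualizing_of_surjective {A B : Type u} [CommRing A] [CommRing B] [IsNoetherianRing A]
    (φ : A →+* B) (hφ : Function.Surjective φ) (h : ∃ ω : Dual.D A, Dual.IsDualizing A ω) :
    ∃ ω : Dual.D B, Dual.IsDualizing B ω := by
  obtain ⟨ω, hω⟩ := h
  haveI : IsNoetherianRing B := isNoetherianRing_of_surjective A B φ hφ
  let f : A →ₗ[A] Groth.L29.RestrictAdj.ringRes φ :=
    { toFun := fun a => φ a
      map_add' := fun a b => map_add φ a b
      map_smul' := fun a b => map_mul φ a b }
  exact Groth.L29.RestrictAdj.exists_dualizing_of_finite φ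
    (Module.Finite.of_surjective f hφ) hω

/-- polynomial rings -/
theorem exists_dualizing_mvPolynomial {A : Type u} [CommRing A] [IsNoetherianRing A]
    (h : ∃ ω : Dual.D A, Dual.IsDualizing A ω) : ∀ n : ℕ,
      ∃ ω : Dual.D (MvPolynomial (Fin n) A), Dual.IsDualizing (MvPolynomial (Fin n) A) ω := by
  intro n
  induction n with
  | zero =>
    exact exists_dualizing_of_surjective MvPolynomial.C
      (MvPolynomial.C_surjective (Fin 0)) h
  | succ n ih =>
    obtain ⟨ω, hω⟩ := ih
    haveI : Module.Flat (MvPolynomial (Fin n) A) (MvPolynomial (Fin n) A)[X] := Module.Flat.of_free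
    exact exists_dualizing_of_surjective
      (MvPolynomial.finSuccEquiv A n).symm.toRingEquiv.toRingHom
      (MvPolynomial.finSuccEquiv A n).symm.surjective ⟨_, isDualizing_L_polynomial hω⟩

/-- algebras of finite type -/
theorem exists_dualizing_finiteType {A B : Type u} [CommRing A] [CommRing B] [Algebra A B]
    [IsNoetherianRing A] [Algebra.FiniteType A B] (h : ∃ ω : Dual.D A, Dual.IsDualizing A ω) :
    ∃ ω : Dual.D B, Dual.IsDualizing B ω := by
  obtain ⟨n, f, hf⟩ := Algebra.FiniteType.iff_quotient_mvPolynomial''.1 ‹Algebra.FiniteType A B›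
  exact exists_dualizing_of_surjective f.toRingHom hf (exists_dualizing_mvPolynomial h n)

/-- algebras essentially of finite type -/
theorem exists_dualizing_essFiniteType {A B : Type u} [CommRing A] [CommRing B] [Algebra A B]
    [IsNoetherianRing A] [Algebra.EssFiniteType A B] (h : ∃ ω : Dual.D A, Dual.IsDualizing A ω) :
    ∃ ω : Dual.D B, Dual.IsDualizing B ω := by
  haveI : IsNoetherianRing (Algebra.EssFiniteType.subalgebra A B) :=
    Algebra.FiniteType.isNoetherianRing A _
  obtain ⟨ω, hω⟩ := exists_dualizing_finiteType (B := Algebra.EssFiniteType.subalgebra A B) h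
  haveI : IsNoetherianRing B :=
    IsLocalization.isNoetherianRing (Algebra.EssFiniteType.submonoid A B) B inferInstance
  haveI : Module.Flat (Algebra.EssFiniteType.subalgebra A B) B :=
    IsLocalization.flat B (Algebra.EssFiniteType.submonoid A B)
  exact ⟨_, isDualizing_L_localization (Algebra.EssFiniteType.submonoid A B) hω⟩

end Groth.L29.FlatBC

namespace Groth.L29.HomD

variable {A : Type u} [CommRing A] [IsNoetherianRing A] {ω : Dual.D A}

/-- a ring with a dualizing complex is catenary -/
theorem isCatenary_of_dualizing (hω : Dual.IsDualizing A ω) : CAlg.IsCatenary A := by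
  have anti := dimFun_strictAnti hω
  have bound : ∀ s : LTSeries (PrimeSpectrum A), (s.length : ℤ) ≤ dimFun hω s.head - dimFun hω s.last := by
    intro s
    have key : ∀ k (hk : k < s.length + 1), (k : ℤ) ≤ dimFun hω s.head - dimFun hω (s ⟨k, hk⟩) := by
      intro k
      induction k with
      | zero => intro hk; simp [RelSeries.head]
      | succ k ih =>
        intro hk
        have h1 := ih (by omega)
        have h2 := anti (s.step ⟨k, by omega⟩)
        change dimFun hω (s ⟨k + 1, hk⟩) < dimFun hω (s ⟨k, _⟩) at h2
        push_cast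
        lia
    exact key s.length (by omega)
  have cover : ∀ s : LTSeries (PrimeSpectrum A),
      (∀ i : Fin s.length, s (Fin.castSucc i) ⋖ s (Fin.succ i)) →
      (s.length : ℤ) = dimFun hω s.head - dimFun hω s.last := by
    intro s hs
    have key : ∀ k (hk : k < s.length + 1), (k : ℤ) = dimFun hω s.head - dimFun hω (s ⟨k, hk⟩) := by
      intro k
      induction k with
      | zero => intro hk; simp [RelSeries.head]
      | succ k ih =>
        intro hk
        have h1 := ih (by omega)
        have h2 := dimFun_covBy hω _ _ (hs ⟨k, by omega⟩)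
        change dimFun hω (s ⟨k, _⟩) = dimFun hω (s ⟨k + 1, hk⟩) + 1 at h2
        push_cast
        lia
    exact key s.length (by omega)
  refine ⟨fun p q _ => ⟨(dimFun hω p - dimFun hω q).toNat, fun s h1 h2 => ?_⟩, fun s t h1 h2 hs ht => ?_⟩
  · have := bound s
    rw [h1, h2] at this
    lia
  · have hs' := cover s hs
    have ht' := cover t ht
    rw [h1, h2] at hs'
    lia

end Groth.L29.HomD
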