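import Groth.Agent.L29.Dual.RegularDual
import Groth.Agent.L29.Dual.FiniteType
import Groth.Agent.L01.CohenRing
import Groth.Agent.L01.CohenFinite
import Groth.Agent.L01.PowSerReg

/-! Complete Noetherian local rings have dualizing complexes. -/

universe u
open CategoryTheory IsLocalRing

attribute [local instance] HasDerivedCategory.standard

set_option backward.isDefEq.respectTransparency false

namespace Groth.L29.CompleteDual

theorem isRegularLocalRing_mvPowerSeries (A : Type u) [CommRing A] [IsLocalRing A] [IsDomain A]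
    [IsNoetherianRing A] (π : A) (hπ : maximalIdeal A = Ideal.span {π}) (hπ0 : π ≠ 0) (n : ℕ) :
    IsRegularLocalRing (MvPowerSeries (Fin n) A) := by
  refine IsRegularLocalRing.of_spanFinrank_maximalIdeal_le _ ?_
  have h1 : (maximalIdeal A).spanFinrank ≤ 1 := by
    rw [hπ]
    exact (Submodule.spanFinrank_span_le_ncard_of_finite (Set.finite_singleton π)).trans (by simp)
  refine (Nat.cast_le.mpr ((Groth.L01.CohenFinite.spanFinrank_maximalIdeal_mvPowerSeries_le A n).trans
    (add_le_add h1 le_rfl))).trans ?_
  rw [Nat.add_comm 1 n, Nat.cast_add, Nat.cast_one]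
  let c : MvPowerSeries (Fin n) A := MvPowerSeries.C π
  have hc : c ≠ 0 := fun h => hπ0 (by simpa [c] using congrArg MvPowerSeries.constantCoeff h)
  refine le_trans (add_le_add ?_ le_rfl)
    (ringKrullDim_quotient_succ_le_of_nonZeroDivisor (mem_nonZeroDivisors_of_ne_zero hc))
  refine (Groth.L01.PowSerReg.le_ringKrullDim (ResidueField A) n).trans
    (ringKrullDim_le_of_surjective (Ideal.Quotient.lift (Ideal.span {c})
      (MvPowerSeries.map (residue A)) ?_) ?_)
  · intro a ha
    obtain ⟨b, rfl⟩ := Ideal.mem_span_singleton'.mp ha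
    have : residue A π = 0 := (residue_eq_zero_iff π).2 (hπ ▸ Ideal.mem_span_singleton_self π)
    simp [c, this]
  · intro f
    choose g hg using fun d => residue_surjective (MvPowerSeries.coeff d f)
    refine ⟨Ideal.Quotient.mk _ (fun d => g d), ?_⟩
    rw [Ideal.Quotient.lift_mk]
    ext d
    rw [MvPowerSeries.coeff_map]
    exact hg d

theorem exists_dualizing_of_complete (R : Type u) [CommRing R] [IsLocalRing R] [IsNoetherianRing R]
    [IsAdicComplete (maximalIdeal R) R] : ∃ ω : Dual.D R, Dual.IsDualizing R ω := by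
  obtain ⟨n, x, hx⟩ := Submodule.fg_iff_exists_fin_generating_family.mp
    (Ideal.fg_of_isNoetherianRing (maximalIdeal R))
  have key : ∀ (S : Type u) [CommRing S] [IsRegularLocalRing S] (φ : S →+* R), Function.Surjective φ →
      ∃ ω : Dual.D R, Dual.IsDualizing R ω := fun S _ _ φ hφ =>
    Groth.L29.FlatBC.exists_dualizing_of_surjective φ hφ
      ⟨_, Groth.L29.HomD.isDualizing_inD_of_regularLocal S⟩
  obtain ⟨p, hp⟩ := CharP.exists (ResidueField R)
  rcases CharP.char_is_prime_or_zero (ResidueField R) p with hpp | rfl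
  · haveI := Fact.mk hpp
    obtain ⟨Λ, _, _, _, -, hm, hreg, -, _, ⟨e⟩⟩ := Groth.L01.Cohen.exists_cohenRing p (ResidueField R)
    have hpR : (p : R) ∈ maximalIdeal R := by
      rw [← residue_eq_zero_iff, map_natCast, CharP.cast_eq_zero]
    obtain ⟨F, hF⟩ := Groth.L01.Cohen.exists_lift_cohen hm hreg hpR (e.toRingHom.comp (residue Λ))
    obtain ⟨φ, -, -, hφ⟩ := Groth.L01.Cohen.exists_surjective_powerSeries F
      (by rw [hF]; exact e.surjective.comp residue_surjective) x hx
    haveI := isRegularLocalRing_mvPowerSeries Λ (p : Λ) hm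
      (fun h => one_ne_zero (hreg 1 (by rw [h, zero_mul]))) n
    exact key _ φ hφ
  · haveI := CharP.charP_to_charZero (ResidueField R)
    obtain ⟨F, hF⟩ := Groth.L01.Cohen.exists_coefficientField_charZero (R := R)
    obtain ⟨φ, -, -, hφ⟩ := Groth.L01.Cohen.exists_surjective_powerSeries F
      (by rw [hF]; exact Function.surjective_id) x hx
    exact key _ φ hφ

end Groth.L29.CompleteDual
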