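import Mathlib.Algebra.Homology.DerivedCategory.HomologySequence
import Mathlib.Algebra.Homology.DerivedCategory.Linear
import Mathlib.Algebra.Homology.ShortComplex.Linear
import Mathlib.Algebra.Homology.Linear
import Mathlib.CategoryTheory.Localization.Linear

/-!
The homology functors on complexes and on the derived category are linear.
-/

universe w v u t

open CategoryTheory CategoryTheory.Limits

namespace Groth.L29

variable {C : Type u} [Category.{v} C] [Abelian C] (R : Type t) [Ring R] [CategoryTheory.Linear R C]

instance homologyFunctor_complex_linear {ι : Type*} (c : ComplexShape ι) (i : ι) :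
    (HomologicalComplex.homologyFunctor C c i).Linear R where
  map_smul {K L} f r := by
    change ShortComplex.homologyMap ((HomologicalComplex.shortComplexFunctor C c i).map (r • f)) =
      r • ShortComplex.homologyMap ((HomologicalComplex.shortComplexFunctor C c i).map f)
    have h : (HomologicalComplex.shortComplexFunctor C c i).map (r • f) =
        r • (HomologicalComplex.shortComplexFunctor C c i).map f := by ext <;> rfl
    rw [h, ShortComplex.homologyMap_smul]

variable [HasDerivedCategory.{w} C]

instance homologyFunctor_derived_linear (n : ℤ) :
    (DerivedCategory.homologyFunctor C n).Linear R := by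
  haveI : CategoryTheory.Localization.Lifting DerivedCategory.Q
      (HomologicalComplex.quasiIso C (ComplexShape.up ℤ))
      (HomologicalComplex.homologyFunctor C (ComplexShape.up ℤ) n)
      (DerivedCategory.homologyFunctor C n) := ⟨DerivedCategory.homologyFunctorFactors C n⟩
  exact (CategoryTheory.Localization.functor_linear_iff DerivedCategory.Q
    (HomologicalComplex.quasiIso C (ComplexShape.up ℤ)) R
    (HomologicalComplex.homologyFunctor C (ComplexShape.up ℤ) n)
    (DerivedCategory.homologyFunctor C n)).1 inferInstance

end Groth.L29
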