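import Groth.Prelude.Def_Wider
import Groth.Agent.L10.DerTrunc
import Groth.Agent.L29.Dual.HomLinear
import Mathlib.Algebra.Homology.DerivedCategory.SingleTriangle
import Mathlib.Algebra.Homology.DerivedCategory.KProjective
import Mathlib.Algebra.Category.ModuleCat.Projective
import Mathlib.Algebra.Homology.ShortComplex.ModuleCat

/-!
The functors `M ↦ Hom_{D(A)}(M, W[i])` on modules: linearity, the long exact sequence and the value
at `M = A`.
-/

universe u

open CategoryTheory CategoryTheory.Limits CategoryTheory.Pretriangulated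

attribute [local instance] HasDerivedCategory.standard

set_option backward.isDefEq.respectTransparency false

namespace Groth.L29.HomD

variable {A : Type u} [CommRing A]

/-- the embedding of modules in degree zero -/
noncomputable abbrev sg (A : Type u) [CommRing A] : ModuleCat.{u} A ⥤ Dual.D A :=
  DerivedCategory.singleFunctor (ModuleCat.{u} A) 0

variable (W : Dual.D A)

/-- precomposition -/
noncomputable def pre {M N : Type u} [AddCommGroup M] [Module A M] [AddCommGroup N] [Module A N]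
    (f : M →ₗ[A] N) (i : ℤ) : (Dual.inD A N ⟶ W⟦i⟧) →ₗ[A] (Dual.inD A M ⟶ W⟦i⟧) :=
  Linear.leftComp A _ ((sg A).map (ModuleCat.ofHom f))

lemma pre_apply {M N : Type u} [AddCommGroup M] [Module A M] [AddCommGroup N] [Module A N]
    (f : M →ₗ[A] N) (i : ℤ) (φ : Dual.inD A N ⟶ W⟦i⟧) :
    pre W f i φ = (sg A).map (ModuleCat.ofHom f) ≫ φ := rfl

lemma pre_id {M : Type u} [AddCommGroup M] [Module A M] (i : ℤ) :
    pre W (LinearMap.id : M →ₗ[A] M) i = LinearMap.id := by
  refine LinearMap.ext fun φ => ?_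
  rw [pre_apply]
  change (sg A).map (𝟙 _) ≫ φ = φ
  simp

lemma pre_comp {M N P : Type u} [AddCommGroup M] [Module A M] [AddCommGroup N] [Module A N]
    [AddCommGroup P] [Module A P] (f : M →ₗ[A] N) (g : N →ₗ[A] P) (i : ℤ) :
    pre W (g ∘ₗ f) i = pre W f i ∘ₗ pre W g i := by
  refine LinearMap.ext fun φ => ?_
  rw [LinearMap.comp_apply, pre_apply, pre_apply, pre_apply, ModuleCat.ofHom_comp,
    Functor.map_comp, Category.assoc]

lemma pre_add {M N : Type u} [AddCommGroup M] [Module A M] [AddCommGroup N] [Module A N]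
    (f g : M →ₗ[A] N) (i : ℤ) : pre W (f + g) i = pre W f i + pre W g i := by
  refine LinearMap.ext fun φ => ?_
  rw [LinearMap.add_apply, pre_apply, pre_apply, pre_apply,
    show ModuleCat.ofHom (f + g) = ModuleCat.ofHom f + ModuleCat.ofHom g from rfl,
    Functor.map_add, Preadditive.add_comp]

lemma pre_smul {M N : Type u} [AddCommGroup M] [Module A M] [AddCommGroup N] [Module A N]
    (a : A) (f : M →ₗ[A] N) (i : ℤ) : pre W (a • f) i = a • pre W f i := by
  refine LinearMap.ext fun φ => ?_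
  rw [LinearMap.smul_apply, pre_apply, pre_apply,
    show ModuleCat.ofHom (a • f) = a • ModuleCat.ofHom f from rfl,
    Functor.map_smul, Linear.smul_comp]

lemma pre_zero {M N : Type u} [AddCommGroup M] [Module A M] [AddCommGroup N] [Module A N] (i : ℤ) :
    pre W (0 : M →ₗ[A] N) i = 0 := by
  rw [← zero_smul A (0 : M →ₗ[A] N), pre_smul, zero_smul]

/-- an isomorphism of modules induces one on `Hom(-, W[i])` -/
noncomputable def preEquiv {M N : Type u} [AddCommGroup M] [Module A M] [AddCommGroup N]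
    [Module A N] (e : M ≃ₗ[A] N) (i : ℤ) :
    (Dual.inD A N ⟶ W⟦i⟧) ≃ₗ[A] (Dual.inD A M ⟶ W⟦i⟧) :=
  LinearEquiv.ofLinearMap (pre W e.toLinearMap i) (pre W e.symm.toLinearMap i)
    (by rw [← pre_comp, e.symm_comp, pre_id]) (by rw [← pre_comp, e.comp_symm, pre_id])

lemma subsingleton_of_module {M : Type u} [AddCommGroup M] [Module A M] [Subsingleton M] (i : ℤ) :
    Subsingleton (Dual.inD A M ⟶ W⟦i⟧) :=
  ⟨fun a b => ((sg A).map_isZero (ModuleCat.isZero_of_subsingleton (ModuleCat.of A M))).eq_of_src a b⟩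

section SES

variable {M' M M'' : Type u} [AddCommGroup M'] [Module A M'] [AddCommGroup M] [Module A M]
  [AddCommGroup M''] [Module A M''] (f : M' →ₗ[A] M) (g : M →ₗ[A] M'')
  (hf : Function.Injective f) (hg : Function.Surjective g) (hfg : Function.Exact f g)

/-- the short complex of a short exact sequence -/
noncomputable def sc : ShortComplex (ModuleCat.{u} A) :=
  ShortComplex.mk (ModuleCat.ofHom f) (ModuleCat.ofHom g)
    (ModuleCat.hom_ext (Function.Exact.linearMap_comp_eq_zero hfg))

include hf hg in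
lemma sc_shortExact : (sc f g hfg).ShortExact where
  exact := (ShortComplex.ShortExact.moduleCat_exact_iff_function_exact _).2 hfg
  mono_f := (ModuleCat.mono_iff_injective _).2 hf
  epi_g := (ModuleCat.epi_iff_surjective _).2 hg

/-- the connecting map -/
noncomputable def delta (i : ℤ) :
    (Dual.inD A M' ⟶ W⟦i⟧) →ₗ[A] (Dual.inD A M'' ⟶ W⟦i + 1⟧) where
  toFun φ := (sc_shortExact f g hf hg hfg).singleδ ≫ φ⟦(1 : ℤ)⟧' ≫
    (shiftFunctorAdd' (Dual.D A) i 1 (i + 1) rfl).inv.app W
  map_add' φ ψ := by simp [Functor.map_add, Preadditive.add_comp, Preadditive.comp_add]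
  map_smul' a φ := by simp [Functor.map_smul, Linear.smul_comp, Linear.comp_smul]

include hf hg hfg in
lemma exact_mid (i : ℤ) :
    Function.Exact (pre W g i) (pre W f i) := by
  intro φ
  constructor
  · intro h
    obtain ⟨ψ, hψ⟩ := Triangle.yoneda_exact₂ _
      (sc_shortExact f g hf hg hfg).singleTriangle_distinguished φ h
    exact ⟨ψ, hψ.symm⟩
  · rintro ⟨ψ, rfl⟩
    rw [← LinearMap.comp_apply, ← pre_comp, hfg.linearMap_comp_eq_zero, pre_zero]
    rfl

lemma exact_right (i : ℤ) :
    Function.Exact (delta W f g hf hg hfg i) (pre W g (i + 1)) := by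
  intro φ
  constructor
  · intro h
    obtain ⟨ψ, hψ⟩ := Triangle.yoneda_exact₃ _
      (sc_shortExact f g hf hg hfg).singleTriangle_distinguished φ h
    obtain ⟨χ, hχ⟩ := (shiftFunctor (Dual.D A) (1 : ℤ)).map_surjective
      (ψ ≫ (shiftFunctorAdd' (Dual.D A) i 1 (i + 1) rfl).hom.app W)
    refine ⟨χ, ?_⟩
    change _ ≫ χ⟦(1 : ℤ)⟧' ≫ _ = φ
    rw [hχ, Category.assoc, Iso.hom_inv_id_app]
    exact (congrArg (_ ≫ ·) (Category.comp_id ψ)).trans hψ.symm
  · rintro ⟨χ, rfl⟩
    have h := comp_distTriang_mor_zero₂₃ _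
      (sc_shortExact f g hf hg hfg).singleTriangle_distinguished
    exact (Category.assoc _ _ _).symm.trans ((congrArg (· ≫ _) h).trans zero_comp)

lemma exact_left (i : ℤ) :
    Function.Exact (pre W f i) (delta W f g hf hg hfg i) := by
  intro φ
  have hT := (sc_shortExact f g hf hg hfg).singleTriangle_distinguished
  constructor
  · intro h
    have h' : (sc_shortExact f g hf hg hfg).singleδ ≫ φ⟦(1 : ℤ)⟧' = 0 := by
      rw [← cancel_mono ((shiftFunctorAdd' (Dual.D A) i 1 (i + 1) rfl).inv.app W), zero_comp,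
        Category.assoc]
      exact h
    obtain ⟨ψ, hψ⟩ := Triangle.yoneda_exact₂ _ (rot_of_distTriang _ (rot_of_distTriang _ hT))
      (φ⟦(1 : ℤ)⟧') h'
    obtain ⟨χ, rfl⟩ := (shiftFunctor (Dual.D A) (1 : ℤ)).map_surjective ψ
    refine ⟨-χ, (shiftFunctor (Dual.D A) (1 : ℤ)).map_injective ?_⟩
    rw [pre_apply, Functor.map_comp, Functor.map_neg, hψ, Preadditive.comp_neg]
    exact (Preadditive.neg_comp _ _).symm
  · rintro ⟨χ, rfl⟩
    have h := comp_distTriang_mor_zero₃₁ _ hT
    change (sc_shortExact f g hf hg hfg).singleδ ≫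
      ((sg A).map (ModuleCat.ofHom f) ≫ χ)⟦(1 : ℤ)⟧' ≫
        (shiftFunctorAdd' (Dual.D A) i 1 (i + 1) rfl).inv.app W = 0
    rw [Functor.map_comp, Category.assoc]
    exact (Category.assoc _ _ _).symm.trans ((congrArg (· ≫ _) h).trans zero_comp)

end SES

section Eval

open DerivedCategory

local notation "tt" => DerivedCategory.TStructure.t

/-- `A[0]` has no maps to objects living in negative degrees -/
lemma hom_eq_zero_of_isLE (X : Dual.D A) [X.IsLE (-1)] (φ : Dual.inD A A ⟶ X) : φ = 0 := by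
  obtain ⟨L, _, ⟨e⟩⟩ := exists_iso_Q_obj_of_isLE X (-1)
  let K := (CochainComplex.singleFunctor (ModuleCat.{u} A) 0).obj (ModuleCat.of A A)
  haveI : Projective (ModuleCat.of A A) :=
    (IsProjective.iff_projective A).1 inferInstance
  haveI : ∀ n, Projective (K.X n) := by
    intro n
    by_cases h : n = 0
    · subst h
      exact Projective.of_iso (HomologicalComplex.singleObjXSelf (ComplexShape.up ℤ) 0 _).symm inferInstance
    · exact (HomologicalComplex.isZero_single_obj_X (ComplexShape.up ℤ) 0 _ n h).projective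
  haveI : K.IsKProjective := CochainComplex.isKProjective_of_projective K 0
  let eA : Dual.inD A A ≅ Q.obj K :=
    ((SingleFunctors.evaluation _ _ 0).mapIso (singleFunctorsPostcompQIso (ModuleCat.{u} A))).app _
  let ψ : Q.obj K ⟶ Q.obj L := eA.inv ≫ φ ≫ e.hom
  have hψ : ψ = 0 := by
    obtain ⟨χ, hχ⟩ := (CochainComplex.IsKProjective.Qh_map_bijective K
      ((HomotopyCategory.quotient _ _).obj L)).2
        ((quotientCompQhIso _).hom.app K ≫ ψ ≫ (quotientCompQhIso _).inv.app L)
    obtain ⟨c, rfl⟩ := (HomotopyCategory.quotient _ _).map_surjective χ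
    have hc : c = 0 := by
      ext n : 1
      by_cases h : n = 0
      · subst h; exact (L.isZero_of_isStrictlyLE (-1) 0 (by lia)).eq_of_tgt _ _
      · exact (HomologicalComplex.isZero_single_obj_X (ComplexShape.up ℤ) 0 _ n h).eq_of_src _ _
    rw [hc, Functor.map_zero, Functor.map_zero] at hχ
    calc ψ = (quotientCompQhIso _).inv.app K ≫
          ((quotientCompQhIso _).hom.app K ≫ ψ ≫ (quotientCompQhIso _).inv.app L) ≫
            (quotientCompQhIso _).hom.app L := by simp
      _ = 0 := by rw [← hχ]; simp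
  calc φ = eA.hom ≫ ψ ≫ e.inv := by simp [ψ]
    _ = 0 := by rw [hψ]; simp

/-- the class of `1` in `H⁰(A[0])` -/
noncomputable def one : (DerivedCategory.homologyFunctor (ModuleCat.{u} A) 0).obj (Dual.inD A A) :=
  ((singleFunctorCompHomologyFunctorIso (ModuleCat.{u} A) 0).app (ModuleCat.of A A)).inv (1 : A)

/-- evaluation at `1` -/
noncomputable def evalOne (X : Dual.D A) :
    (Dual.inD A A ⟶ X) →ₗ[A] Dual.HD A X 0 where
  toFun φ := (DerivedCategory.homologyFunctor (ModuleCat.{u} A) 0).map φ one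
  map_add' φ ψ := by rw [Functor.map_add]; rfl
  map_smul' a φ := by rw [Functor.map_smul]; rfl

lemma homology_map_eq_zero_of_evalOne (X : Dual.D A) (φ : Dual.inD A A ⟶ X)
    (h : evalOne X φ = 0) : (DerivedCategory.homologyFunctor (ModuleCat.{u} A) 0).map φ = 0 := by
  let e := (singleFunctorCompHomologyFunctorIso (ModuleCat.{u} A) 0).app (ModuleCat.of A A)
  rw [← cancel_epi e.inv, comp_zero]
  refine ModuleCat.hom_ext (LinearMap.ext_ring ?_)
  exact h

theorem evalOne_bijective (X : Dual.D A) : Function.Bijective (evalOne X) := by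
  constructor
  · rw [injective_iff_map_eq_zero]
    intro φ hφ
    have h := homology_map_eq_zero_of_evalOne X φ hφ
    have h' : φ ≫ ((tt).truncGEπ 0).app X = 0 :=
      Groth.L10.eq_zero_of_H_eq_zero (A := ModuleCat.{u} A) 0 _ (by rw [Functor.map_comp, h]; simp)
    obtain ⟨g, rfl⟩ := Triangle.coyoneda_exact₂ _ ((tt).triangleLTGE_distinguished 0 X) φ h'
    haveI : DerivedCategory.IsLE (((tt).truncLT 0).obj X) (-1) :=
      inferInstanceAs ((tt).IsLE (((tt).truncLT 0).obj X) (0 - 1))
    rw [show g = 0 from hom_eq_zero_of_isLE (((tt).truncLT 0).obj X) g]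
    simp
  · intro x
    let Y := ((tt).truncGE 0).obj X
    let R := ((tt).truncLT 1).obj Y
    haveI : DerivedCategory.IsLE R 0 := inferInstanceAs ((tt).IsLE (((tt).truncLT 1).obj Y) (1 - 1))
    haveI : DerivedCategory.IsGE R 0 := by
      rw [DerivedCategory.isGE_iff]
      intro i hi
      have := Groth.L10.isIso_H_ι (A := ModuleCat.{u} A) 1 i (by lia) Y
      exact (DerivedCategory.isZero_of_isGE Y 0 i hi).of_iso
        (asIso ((DerivedCategory.homologyFunctor _ i).map (((tt).truncLTι 1).app Y)))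
    haveI h1 := Groth.L10.isIso_H_ι (A := ModuleCat.{u} A) 1 0 (by lia) Y
    haveI h2 := Groth.L10.isIso_H_π (A := ModuleCat.{u} A) 0 0 le_rfl X
    obtain ⟨eR⟩ := Groth.L10.exists_iso_single_H (A := ModuleCat.{u} A) R 0
    let e := (singleFunctorCompHomologyFunctorIso (ModuleCat.{u} A) 0).app (ModuleCat.of A A)
    let k : ModuleCat.of A A ⟶ (DerivedCategory.homologyFunctor (ModuleCat.{u} A) 0).obj Y :=
      ModuleCat.ofHom (LinearMap.toSpanSingleton A _
        ((DerivedCategory.homologyFunctor (ModuleCat.{u} A) 0).map (((tt).truncGEπ 0).app X) x))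
    let k' : (DerivedCategory.homologyFunctor (ModuleCat.{u} A) 0).obj (Dual.inD A A) ⟶
        (DerivedCategory.homologyFunctor (ModuleCat.{u} A) 0).obj R :=
      e.hom ≫ k ≫ inv ((DerivedCategory.homologyFunctor (ModuleCat.{u} A) 0).map (((tt).truncLTι 1).app Y))
    let eR' := (singleFunctorCompHomologyFunctorIso (ModuleCat.{u} A) 0).app
      ((DerivedCategory.homologyFunctor (ModuleCat.{u} A) 0).obj R)
    let ψ : Dual.inD A A ⟶ R := (sg A).map
      (e.inv ≫ k' ≫ (DerivedCategory.homologyFunctor (ModuleCat.{u} A) 0).map eR.hom ≫ eR'.hom) ≫ eR.inv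
    have hψ : (DerivedCategory.homologyFunctor (ModuleCat.{u} A) 0).map ψ = k' := by
      have hn := NatIso.naturality_2 (singleFunctorCompHomologyFunctorIso (ModuleCat.{u} A) 0)
        (e.inv ≫ k' ≫ (DerivedCategory.homologyFunctor (ModuleCat.{u} A) 0).map eR.hom ≫ eR'.hom)
      simp only [Functor.id_map, Functor.comp_map] at hn
      rw [show ψ = (sg A).map (e.inv ≫ k' ≫
        (DerivedCategory.homologyFunctor (ModuleCat.{u} A) 0).map eR.hom ≫ eR'.hom) ≫ eR.inv from rfl,
        Functor.map_comp, ← hn]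
      simp [e, eR', ← Functor.map_comp]
    let φ' : Dual.inD A A ⟶ Y := ψ ≫ ((tt).truncLTι 1).app Y
    haveI : DerivedCategory.IsLE (((tt).truncLT 0).obj X) (-1) :=
      inferInstanceAs ((tt).IsLE (((tt).truncLT 0).obj X) (0 - 1))
    haveI : DerivedCategory.IsLE ((((tt).truncLT 0).obj X)⟦(1 : ℤ)⟧) (-1) := by
      have := (tt).isLE_shift (((tt).truncLT 0).obj X) (-1) 1 (-2) (by lia)
      exact (tt).isLE_of_le _ (-2) (-1) (by lia)
    obtain ⟨φ, hφ⟩ := Triangle.coyoneda_exact₃ _ ((tt).triangleLTGE_distinguished 0 X) φ'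
      (hom_eq_zero_of_isLE ((((tt).truncLT 0).obj X)⟦(1 : ℤ)⟧) _)
    refine ⟨φ, (ConcreteCategory.bijective_of_isIso
      ((DerivedCategory.homologyFunctor (ModuleCat.{u} A) 0).map (((tt).truncGEπ 0).app X))).1 ?_⟩
    change ((DerivedCategory.homologyFunctor (ModuleCat.{u} A) 0).map φ ≫
      (DerivedCategory.homologyFunctor (ModuleCat.{u} A) 0).map (((tt).truncGEπ 0).app X)) one = _
    rw [← Functor.map_comp]
    erw [← hφ]
    simp only [φ', Functor.map_comp, hψ, k', Category.assoc, IsIso.inv_hom_id, Category.comp_id]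
    change k (e.hom (e.inv (1 : A))) = _
    rw [Iso.inv_hom_id_apply]
    simp [k]

/-- `Hom(A[0], X) = H⁰(X)` -/
noncomputable def evalEquiv (X : Dual.D A) : (Dual.inD A A ⟶ X) ≃ₗ[A] Dual.HD A X 0 :=
  LinearEquiv.ofBijective (evalOne X) (evalOne_bijective X)

/-- `Hom(A[0], W[i]) = Hⁱ(W)` -/
noncomputable def evalShiftEquiv (i : ℤ) : (Dual.inD A A ⟶ W⟦i⟧) ≃ₗ[A] Dual.HD A W i :=
  (evalEquiv (W⟦i⟧)).trans (Groth.L10.hShiftIso (A := ModuleCat.{u} A) W i 0 i (by lia)).toLinearEquiv

end Eval

end Groth.L29.HomD
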