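import Groth.Agent.L29.Dual.LocalDualityCor
import Groth.Agent.S0299
import Groth.Agent.L04.MatlisArtin

/-!
Local duality over regular local rings, in terms of `Ext` into the ring.
-/

universe u

open CategoryTheory IsLocalRing CategoryTheory.Abelian Opposite

attribute [local instance] HasDerivedCategory.standard

set_option backward.isDefEq.respectTransparency false

namespace Groth.L29.LocDual

variable {A : Type u} [CommRing A]

/-- `Hom(M, A⟦d⟧⟦j⟧) = Extⁿ(M, A)` for `d + j = n` -/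
noncomputable def extShiftEquiv (M : ModuleCat.{u} A) (d : ℕ) (j : ℤ) (n : ℕ) (h : (d : ℤ) + j = n) :
    ((Ext A (ModuleCat.{u} A) n).obj (op M)).obj (ModuleCat.of A A) ≃ₗ[A]
      ((DerivedCategory.singleFunctor (ModuleCat.{u} A) 0).obj M ⟶
        ((Dual.inD A A)⟦(d : ℤ)⟧)⟦j⟧) :=
  (Groth.L04.LC.extIso A n M (ModuleCat.of A A)).toLinearEquiv ≪≫ₗ
    Ext.homLinearEquiv (R := A) ≪≫ₗ (HomD.homShiftEquiv _ (Dual.inD A A) (d : ℤ) j n h).symm

theorem exists_normalized_self [IsRegularLocalRing A] (r : ℕ) (hr : ringKrullDim A = r) :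
    Dual.IsDualizing A ((Dual.inD A A)⟦(r : ℤ)⟧) ∧ Dual.IsNormalized A ((Dual.inD A A)⟦(r : ℤ)⟧) := by
  obtain ⟨d, hd, h⟩ := HomD.isDualizing_shift_self_of_regularLocal A
  obtain rfl : d = r := by rw [hd] at hr; exact_mod_cast hr
  exact h

theorem nonempty_H_equiv_regular [IsRegularLocalRing A] (r : ℕ) (hr : ringKrullDim A = r)
    {E : Type u} [AddCommGroup E] [Module A E] (f : ResidueField A →ₗ[A] E)
    (hf : InjHull.IsInjectiveHull f) (M : Type u) [AddCommGroup M] [Module A M] [Module.Finite A M]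
    (i : ℕ) (hi : i ≤ r) :
    Nonempty (LocCoh.H (maximalIdeal A) i M ≃ₗ[A]
      ((((Ext A (ModuleCat.{u} A) (r - i)).obj (op (ModuleCat.of A M))).obj (ModuleCat.of A A)) →ₗ[A] E)) := by
  obtain ⟨hω, hn⟩ := exists_normalized_self r hr
  obtain ⟨e⟩ := nonempty_H_equiv hω hn f hf M i
  exact ⟨e ≪≫ₗ (extShiftEquiv (ModuleCat.of A M) r (-(i : ℤ)) (r - i) (by lia)).symm.arrowCongr
    (LinearEquiv.refl A E)⟩

theorem exists_isInjectiveHull_H_top [IsRegularLocalRing A] (n : ℕ) (hn' : ringKrullDim A = n) :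
    ∃ f : ResidueField A →ₗ[A] LocCoh.H (maximalIdeal A) n A, InjHull.IsInjectiveHull f := by
  obtain ⟨hω, hn⟩ := exists_normalized_self n hn'
  obtain ⟨E, _, _, f, hf⟩ := Groth.Agent.S0299.result A (ResidueField A)
  obtain ⟨e⟩ := nonempty_H_equiv hω hn f hf A n
  let eA : (Dual.inD A A ⟶ ((Dual.inD A A)⟦(n : ℤ)⟧)⟦(-(n : ℤ))⟧) ≃ₗ[A] A :=
    HomD.homShiftEquiv _ _ (n : ℤ) (-(n : ℤ)) 0 (by lia) ≪≫ₗ HomD.evalShiftEquiv (Dual.inD A A) 0 ≪≫ₗ
      ((DerivedCategory.singleFunctorCompHomologyFunctorIso (ModuleCat.{u} A) 0).app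
        (ModuleCat.of A A)).toLinearEquiv
  let φ : E ≃ₗ[A] LocCoh.H (maximalIdeal A) n A :=
    (e ≪≫ₗ eA.arrowCongr (LinearEquiv.refl A E) ≪≫ₗ LinearMap.ringLmapEquivSelf A A E).symm
  refine ⟨φ.toLinearMap ∘ₗ f, { injective := φ.injective.comp hf.injective, essential := ?_, isInjective := ?_ }⟩
  · intro N hN h0
    refine hf.essential (N.comap φ.toLinearMap) (fun h => hN ?_) ?_
    · rw [← Submodule.map_comap_eq_of_surjective φ.surjective N, h, Submodule.map_bot]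
    · rw [Submodule.eq_bot_iff] at h0 ⊢
      rintro x ⟨hx, y, rfl⟩
      exact φ.injective ((h0 _ ⟨hx, y, rfl⟩).trans (map_zero _).symm)
  · exact Groth.L04.injective_of_linearEquiv φ hf.isInjective

theorem ext_regular_finiteLength [IsRegularLocalRing A] (n : ℕ) (hn' : ringKrullDim A = n)
    (M : Type u) [AddCommGroup M] [Module A M] (hM : IsFiniteLength A M) :
    (∀ i : ℕ, i ≠ n → Subsingleton (((Ext A (ModuleCat.{u} A) i).obj (op (ModuleCat.of A M))).obj (ModuleCat.of A A))) ∧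
    Module.length A (((Ext A (ModuleCat.{u} A) n).obj (op (ModuleCat.of A M))).obj (ModuleCat.of A A)) =
      Module.length A M := by
  obtain ⟨hω, hn⟩ := exists_normalized_self n hn'
  obtain ⟨hN, hA⟩ := isFiniteLength_iff_isNoetherian_isArtinian.1 hM
  haveI : Module.Finite A M := inferInstance
  obtain ⟨E, _, _, f, hf⟩ := Groth.Agent.S0299.result A (ResidueField A)
  obtain ⟨k, hk⟩ := Groth.L04.exists_pow_kills_of_fg (H := M)
    (Groth.L04.isPowerTorsion_of_isArtinian (M := M)) (N := (⊤ : Submodule A M)) (Module.Finite.fg_top)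
  have hkill : ∀ a ∈ maximalIdeal A ^ k, ∀ x : M, a • x = 0 := fun a ha x => hk x trivial a ha
  refine ⟨fun i hi => ?_, ?_⟩
  · haveI := HomD.subsingleton_hom_of_kills hω hn M k hkill ((i : ℤ) - n) (by lia)
    exact (extShiftEquiv (ModuleCat.of A M) n ((i : ℤ) - n) i (by lia)).toEquiv.subsingleton
  · obtain ⟨I, a, hGE, hinj, hK, hc, ⟨eI⟩, ⟨e3⟩⟩ := HomD.exists_gamma_hull hω hn f hf
    let e := HomD.homGH hinj a hc (ModuleCat.of A M) k hkill
    let e0 := Linear.homCongr A (Iso.refl ((DerivedCategory.singleFunctor (ModuleCat.{u} A) 0).obj (ModuleCat.of A M)))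
      ((shiftFunctorZero (Dual.D A) ℤ).app ((Dual.inD A A)⟦(n : ℤ)⟧) ≪≫ eI.symm)
    rw [(extShiftEquiv (ModuleCat.of A M) n 0 n (add_zero _) ≪≫ₗ e0 ≪≫ₗ e ≪≫ₗ
      (LinearEquiv.refl A M).arrowCongr e3).length_eq]
    exact Groth.L04.length_hom_eq hf hM

end Groth.L29.LocDual
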