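import Groth.Agent.L29.Dual.CMLocus
import Groth.Agent.L29.DCoh.PCStalk
import Groth.Agent.L29.DCoh.TildeAlg
import Groth.Agent.L29.DCoh.Gen.Supp
import Groth.Agent.L02.CMMor.Local
import Groth.Prelude.Def_DualSch

/-!
Cohen–Macaulay and Gorenstein loci of schemes with a dualizing complex.
-/

set_option autoImplicit false
set_option backward.defeqAttrib.useBackward true
set_option backward.isDefEq.respectTransparency false
set_option backward.isDefEq.respectTransparency.types false

universe u

open CategoryTheory CategoryTheory.Limits AlgebraicGeometry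

attribute [local instance] HasDerivedCategory.standard

namespace Groth.L29.SchLocus

open Groth.L29.DC Groth.L29.HomD

/-- some cohomology of a dualizing complex is nonzero at every prime -/
theorem exists_mem_support {A : Type u} [CommRing A] [IsNoetherianRing A] {ω : Dual.D A}
    (hω : Dual.IsDualizing A ω) (p : PrimeSpectrum A) :
    ∃ i : ℤ, p ∈ Module.support A (Dual.inD A A ⟶ ω⟦i⟧) := by
  haveI : Module.Flat A (Localization.AtPrime p.asIdeal) := IsLocalization.flat _ p.asIdeal.primeCompl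
  let B := Localization.AtPrime p.asIdeal
  have hB := FlatBC.isDualizing_L_localization (B := B) p.asIdeal.primeCompl hω
  haveI := hB.isNoetherianRing
  obtain ⟨n, hn, hnn⟩ := Unique.exists_normalized_shift hB
  obtain ⟨m, -, -, h2⟩ := depth_spec hn hnn B
  refine ⟨n + -(m : ℤ), (Loci.mem_support_hom_iff p hω A B (TensorProduct.AlgebraTensorModule.rid A B B) _).2 ?_⟩
  haveI := h2
  exact (homShiftEquiv (Dual.inD B B) ((FlatBC.L A B).obj ω) n (-(m : ℤ)) (n + -(m : ℤ)) rfl).symm.toEquiv.nontrivial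

/-- Cohen–Macaulay at a prime: exactly one cohomology in the support -/
theorem cm_iff_existsUnique {A : Type u} [CommRing A] [IsNoetherianRing A] {ω : Dual.D A}
    (hω : Dual.IsDualizing A ω) (p : PrimeSpectrum A) :
    LocCoh.IsCohenMacaulayLocalRing (Localization.AtPrime p.asIdeal) ↔
      ∃! i : ℤ, p ∈ Module.support A (Dual.HD A ω i) := by
  have e : ∀ i : ℤ, Module.support A (Dual.inD A A ⟶ ω⟦i⟧) = Module.support A (Dual.HD A ω i) :=
    fun i => (HomD.evalShiftEquiv ω i).support_eq
  rw [← Loci.atMostOne_iff_isCMLocalRing p hω]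
  simp only [Loci.AtMostOne, e]
  constructor
  · intro h
    obtain ⟨i, hi⟩ := exists_mem_support hω p
    rw [e] at hi
    exact ⟨i, hi, fun j hj => h j i hj hi⟩
  · rintro ⟨i, -, hu⟩ a b ha hb
    exact (hu a ha).trans (hu b hb).symm

variable {X : Scheme.{u}}

/-- the stalk of the cohomology in a chart -/
theorem nontrivial_stalk_iff {A : CommRingCat.{u}} [PreservesFiniteLimits (tilde.functor A)] (j : Spec A ⟶ X)
    [IsOpenImmersion j] {K : DCoh.D X} {ω : Dual.D A}
    (e : (DCoh.restrictD j).obj K ≅ (DCoh.tildeD A).obj ω) (q : Spec A) (i : ℤ) :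
    Nontrivial ((DCoh.HD K i).presheaf.stalk (j q)) ↔ q ∈ Module.support A (Dual.HD A ω i) := by
  have h1 : IsZero (PCStalk.stk K i (j q)) ↔
      IsZero ((Groth.L00.Stk.F (Spec A) q).obj ((tilde.functor A).obj ((Groth.L02.PC.HH i).obj ω))) :=
    (PCStalk.isZero_res_iff j K i q).symm.trans ((Groth.L00.Stk.F (Spec A) q).mapIso
      ((DerivedCategory.homologyFunctor _ i).mapIso e ≪≫ TildeAlg.hdIso ω i)).isZero_iff
  rw [Gen.isZero_stalk_tilde_iff, ModuleCat.isZero_iff_subsingleton] at h1
  rw [Module.mem_support_iff']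
  constructor
  · intro h
    by_contra hc
    push Not at hc
    exact not_subsingleton_iff_nontrivial.2 h (h1.2 hc)
  · rintro ⟨m, hm⟩
    rw [← not_subsingleton_iff_nontrivial]
    intro h
    obtain ⟨c, hc, hc0⟩ := h1.1 h m
    exact hm c hc hc0

/-- the local ring in a chart -/
theorem nonempty_stalkEquiv {A : CommRingCat.{u}} (j : Spec A ⟶ X) [IsOpenImmersion j] (q : Spec A) :
    Nonempty (X.presheaf.stalk (j q) ≃+* Localization.AtPrime q.asIdeal) := by
  letI := (Groth.L00.KFlat.toStalk A q).toAlgebra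
  haveI := TorTest.isLocalization_toStalk q
  exact ⟨(asIso (j.stalkMap q)).commRingCatIsoToRingEquiv.trans
    (IsLocalization.algEquiv q.asIdeal.primeCompl ((Spec A).presheaf.stalk q) (Localization.AtPrime q.asIdeal)).toRingEquiv⟩

theorem cm_stalk_iff {A : CommRingCat.{u}} (j : Spec A ⟶ X) [IsOpenImmersion j] (q : Spec A) :
    LocCoh.IsCohenMacaulayLocalRing (X.presheaf.stalk (j q)) ↔
      LocCoh.IsCohenMacaulayLocalRing (Localization.AtPrime q.asIdeal) :=
  let e := (nonempty_stalkEquiv j q).some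
  ⟨L02.CMMor.cm_of_ringEquiv e, L02.CMMor.cm_of_ringEquiv e.symm⟩

/-- a chart with a dualizing complex -/
theorem exists_chart [IsLocallyNoetherian X]
    [∀ (U : Scheme.{u}) (j : U ⟶ X) [IsOpenImmersion j], PreservesFiniteLimits (Scheme.Modules.restrictFunctor j)]
    [∀ (R : CommRingCat.{u}), PreservesFiniteLimits (tilde.functor R)] {K : DCoh.D X}
    (hK : Dual2.IsDualizingSch X K) (x : X) :
    ∃ (A : CommRingCat.{u}) (_ : IsNoetherianRing A) (j : Spec A ⟶ X) (_ : IsOpenImmersion j) (ω : Dual.D A),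
      x ∈ j.opensRange ∧ Dual.IsDualizing A ω ∧
        ∀ (q : Spec A) (i : ℤ), Nontrivial ((DCoh.HD K i).presheaf.stalk (j q)) ↔
          q ∈ Module.support A (Dual.HD A ω i) := by
  obtain ⟨_, ⟨U, hU, rfl⟩, hxU, -⟩ :=
    X.isBasis_affineOpens.exists_subset_of_mem_open (Set.mem_univ x) isOpen_univ
  obtain ⟨ω, hω, ⟨e⟩⟩ := hK Γ(X, U) hU.fromSpec
  exact ⟨_, IsLocallyNoetherian.component_noetherian ⟨U, hU⟩, hU.fromSpec, inferInstance, ω,
    hU.opensRange_fromSpec.ge hxU, hω, fun q i => nontrivial_stalk_iff hU.fromSpec e q i⟩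

end Groth.L29.SchLocus
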