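import Mathlib.RingTheory.KrullDimension.Regular
import Mathlib.RingTheory.Nakayama

/-!
Support dimension in an exact sequence; a Nakayama criterion.
-/

universe u v

namespace Groth.L29.SuppDim

variable {R : Type u} [CommRing R] {M N P : Type v} [AddCommGroup M] [Module R M] [AddCommGroup N]
  [Module R N] [AddCommGroup P] [Module R P]

lemma supportDim_le_max_of_shortExact {f : M →ₗ[R] N} {g : N →ₗ[R] P}
    (h : Function.Exact f g) (hf : Function.Injective f) (hg : Function.Surjective g) :
    Module.supportDim R N ≤ max (Module.supportDim R M) (Module.supportDim R P) := by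
  have hu := Module.support_of_exact h hf hg
  refine iSup_le fun c => ?_
  have h0 : c.head.1 ∈ Module.support R M ∪ Module.support R P :=
    (Set.ext_iff.1 hu c.head.1).1 c.head.2
  rcases h0 with h0 | h0
  · refine le_max_of_le_left ?_
    refine le_trans ?_ (Order.LTSeries.length_le_krullDim ⟨c.length, fun i => ⟨(c i).1,
      Module.mem_support_mono (show c.head.1 ≤ (c i).1 from LTSeries.head_le c i) h0⟩, fun i => c.step i⟩)
    exact le_rfl
  · refine le_max_of_le_right ?_
    refine le_trans ?_ (Order.LTSeries.length_le_krullDim ⟨c.length, fun i => ⟨(c i).1,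
      Module.mem_support_mono (show c.head.1 ≤ (c i).1 from LTSeries.head_le c i) h0⟩, fun i => c.step i⟩)
    exact le_rfl

lemma supportDim_le_max_of_exact (f : M →ₗ[R] N) (g : N →ₗ[R] P) (h : Function.Exact f g) :
    Module.supportDim R N ≤ max (Module.supportDim R M) (Module.supportDim R P) := by
  refine (supportDim_le_max_of_shortExact (f := (LinearMap.ker g).subtype) (g := g.rangeRestrict)
    ?_ Subtype.val_injective g.surjective_rangeRestrict).trans (max_le_max ?_ ?_)
  · rw [LinearMap.exact_iff, LinearMap.ker_rangeRestrict, Submodule.range_subtype]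
  · refine Module.supportDim_le_of_surjective
      (f.codRestrict (LinearMap.ker g) fun x => (h (f x)).2 ⟨x, rfl⟩) fun y => ?_
    obtain ⟨x, hx⟩ := (h y.1).1 y.2
    exact ⟨x, Subtype.ext hx⟩
  · exact Module.supportDim_le_of_injective (LinearMap.range g).subtype Subtype.val_injective

lemma subsingleton_of_smul_surjective [IsLocalRing R] [Module.Finite R N] {x : R}
    (hx : x ∈ IsLocalRing.maximalIdeal R) (h : Function.Surjective fun n : N => x • n) :
    Subsingleton N := by
  refine subsingleton_of_forall_eq 0 fun n => ?_
  have : (⊤ : Submodule R N) = ⊥ := by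
    refine Submodule.eq_bot_of_le_smul_of_le_jacobson_bot (Ideal.span {x}) ⊤ Module.Finite.fg_top
      (fun m _ => ?_) ?_
    · obtain ⟨y, rfl⟩ := h m
      exact Submodule.smul_mem_smul (Ideal.subset_span (Set.mem_singleton x)) trivial
    · rw [IsLocalRing.jacobson_eq_maximalIdeal ⊥ bot_ne_top, Ideal.span_le]
      simpa using hx
  have hn : n ∈ (⊤ : Submodule R N) := Submodule.mem_top
  rw [this] at hn
  exact hn

end Groth.L29.SuppDim
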