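import Groth.Agent.L29.Dual.HomD
import Groth.Agent.L29.Dual.SupportDim
import Mathlib.RingTheory.Ideal.AssociatedPrime.Finiteness
import Mathlib.RingTheory.Finiteness.Basic

/-!
Finiteness of `Hom_{D(A)}(M, W[i])` and its bounds when `W` is a normalized dualizing complex.
-/

universe u

open CategoryTheory
open scoped Pointwise

attribute [local instance] HasDerivedCategory.standard

set_option backward.isDefEq.respectTransparency false

namespace Groth.L29.HomD

variable {A : Type u} [CommRing A] (W : Dual.D A)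

/-- the finiteness input: bounded below injective dimension and finite cohomology -/
structure Good : Prop where
  low : ∃ a : ℤ, ∀ (M : Type u) [AddCommGroup M] [Module A M] (i : ℤ),
    i < a → Subsingleton (Dual.inD A M ⟶ W⟦i⟧)
  fin : ∀ i : ℤ, Module.Finite A (Dual.HD A W i)

lemma good_of_isDualizing {W : Dual.D A} (h : Dual.IsDualizing A W) : Good W := by
  obtain ⟨a, b, hab⟩ := h.finite_injective_dimension
  exact ⟨⟨a, fun M _ _ i hi => hab M i (Or.inl hi)⟩, h.finite_cohomology⟩

variable [IsNoetherianRing A]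

lemma finite_hom_free (hW : Good W) (i : ℤ) (n : ℕ) :
    Module.Finite A (Dual.inD A (Fin n → A) ⟶ W⟦i⟧) := by
  haveI : Module.Finite A (Dual.inD A A ⟶ W⟦i⟧) :=
    haveI := hW.fin i
    Module.Finite.equiv (evalShiftEquiv W i).symm
  let F : (Dual.inD A (Fin n → A) ⟶ W⟦i⟧) →ₗ[A] (Fin n → (Dual.inD A A ⟶ W⟦i⟧)) :=
    LinearMap.pi fun j => pre W (LinearMap.single A (fun _ : Fin n => A) j) i
  refine Module.Finite.of_injective F ((injective_iff_map_eq_zero F).2 fun φ hφ => ?_)
  have h : φ = pre W (LinearMap.id : (Fin n → A) →ₗ[A] _) i φ := by rw [pre_id]; rfl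
  have hid : (LinearMap.id : (Fin n → A) →ₗ[A] _) =
      ∑ j, (LinearMap.single A (fun _ : Fin n => A) j) ∘ₗ LinearMap.proj j := by
    refine LinearMap.ext fun x => ?_
    simp [Finset.univ_sum_single]
  rw [h, hid]
  have hsum : ∀ (s : Finset (Fin n)) (g : Fin n → ((Fin n → A) →ₗ[A] (Fin n → A))),
      pre W (∑ j ∈ s, g j) i φ = ∑ j ∈ s, pre W (g j) i φ := by
    intro s g
    induction s using Finset.cons_induction with
    | empty => simp [pre_zero]
    | cons j s hj ih => rw [Finset.sum_cons, Finset.sum_cons, pre_add, LinearMap.add_apply, ih]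
  rw [hsum]
  refine Finset.sum_eq_zero fun j _ => ?_
  rw [pre_comp, LinearMap.comp_apply, show pre W (LinearMap.single A (fun _ : Fin n => A) j) i φ = 0
    from congrFun hφ j, map_zero]

/-- `Hom(M, W[i])` is finite for `M` finite -/
theorem finite_hom (hW : Good W) (M : Type u) [AddCommGroup M] [Module A M] [Module.Finite A M]
    (i : ℤ) : Module.Finite A (Dual.inD A M ⟶ W⟦i⟧) := by
  obtain ⟨a, ha⟩ := hW.low
  obtain ⟨n, hn⟩ : ∃ n : ℕ, i < a + n := ⟨(i + 1 - a).toNat, by lia⟩
  induction n generalizing i M with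
  | zero =>
    haveI := ha M i (by simpa using hn)
    infer_instance
  | succ n ih =>
    obtain ⟨j, rfl⟩ : ∃ j, i = j + 1 := ⟨i - 1, by lia⟩
    obtain ⟨m, g, hg⟩ := Module.Finite.exists_fin' A M
    haveI : Module.Finite A (LinearMap.ker g) := Module.Finite.iff_fg.2 (IsNoetherian.noetherian _)
    haveI := ih (LinearMap.ker g) j (by lia)
    haveI := finite_hom_free W hW (j + 1) m
    have hex := exact_right W (LinearMap.ker g).subtype g Subtype.val_injective hg
      g.exact_subtype_ker_map j
    haveI : IsNoetherian A (Dual.inD A M ⟶ W⟦j + 1⟧) :=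
      isNoetherian_of_range_eq_ker _ _ hex.linearMap_ker_eq.symm
    infer_instance

/-- vanishing propagates along short exact sequences -/
lemma subsingleton_mid {M' M M'' : Type u} [AddCommGroup M'] [Module A M'] [AddCommGroup M]
    [Module A M] [AddCommGroup M''] [Module A M''] (f : M' →ₗ[A] M) (g : M →ₗ[A] M'')
    (hf : Function.Injective f) (hg : Function.Surjective g) (hfg : Function.Exact f g) (i : ℤ)
    (h' : Subsingleton (Dual.inD A M' ⟶ W⟦i⟧)) (h'' : Subsingleton (Dual.inD A M'' ⟶ W⟦i⟧)) :
    Subsingleton (Dual.inD A M ⟶ W⟦i⟧) := by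
  refine subsingleton_of_forall_eq 0 fun φ => ?_
  obtain ⟨ψ, rfl⟩ := (exact_mid W f g hf hg hfg i φ).1 (Subsingleton.elim _ _)
  rw [Subsingleton.elim ψ 0, map_zero]

omit [IsNoetherianRing A] in
lemma exact_smul {N : Type u} [AddCommGroup N] [Module A N] (x : A) :
    Function.Exact (x • (LinearMap.id : N →ₗ[A] N)) (Submodule.mkQ (x • ⊤ : Submodule A N)) := by
  intro n
  simp only [Submodule.mkQ_apply, Submodule.Quotient.mk_eq_zero, Set.mem_range,
    Submodule.mem_smul_pointwise_iff_exists, Submodule.mem_top, true_and]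
  rfl

section Local

variable [IsLocalRing A]

open IsLocalRing

/-- the bound on the degrees and on the dimension of the support of `Hom(M, W[i])` -/
def Bound (d : ℕ) (M : Type u) [AddCommGroup M] [Module A M] : Prop :=
  ∀ i : ℤ, (i < -(d : ℤ) ∨ 0 < i → Subsingleton (Dual.inD A M ⟶ W⟦i⟧)) ∧
    Module.supportDim A (Dual.inD A M ⟶ W⟦i⟧) ≤ ((-i).toNat : WithBot ℕ∞)

lemma bound_residueField (hn : Dual.IsNormalized A W) (d : ℕ) (p : Ideal A)
    (hp : p = maximalIdeal A) (N : Type u) [AddCommGroup N] [Module A N] (e : N ≃ₗ[A] A ⧸ p) :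
    Bound W d N := by
  subst hp
  intro i
  have h0 : i ≠ 0 → Subsingleton (Dual.inD A N ⟶ W⟦i⟧) := fun hi =>
    haveI : Subsingleton (Dual.inD A (A ⧸ maximalIdeal A) ⟶ W⟦i⟧) := hn i hi
    (preEquiv W e i).symm.toEquiv.subsingleton
  refine ⟨fun hi => h0 (by lia), ?_⟩
  by_cases hi : i = 0
  · subst hi
    simp only [Module.supportDim, neg_zero, Int.toNat_zero, Nat.cast_zero]
    haveI : Subsingleton (Module.support A (Dual.inD A N ⟶ W⟦(0 : ℤ)⟧)) := by
      refine ⟨fun q r => ?_⟩
      have key : ∀ q : PrimeSpectrum A, q ∈ Module.support A (Dual.inD A N ⟶ W⟦(0 : ℤ)⟧) →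
          q.asIdeal = maximalIdeal A := by
        intro q hq
        refine le_antisymm (le_maximalIdeal q.2.ne_top) fun a ha => ?_
        obtain ⟨φ, hφ⟩ := Module.mem_support_iff'.1 hq
        by_contra haq
        refine hφ a haq ?_
        have h := congrArg (fun f => f φ) (pre_smul W a (LinearMap.id : N →ₗ[A] N) 0)
        simp only [pre_id, LinearMap.smul_apply, LinearMap.id_apply] at h
        rw [← h, show a • (LinearMap.id : N →ₗ[A] N) = 0 from LinearMap.ext fun x => e.injective (by
          obtain ⟨b, hb⟩ := Ideal.Quotient.mk_surjective (e x)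
          rw [LinearMap.smul_apply, LinearMap.id_apply, map_smul, ← hb]
          simp only [LinearMap.zero_apply, map_zero]
          exact Ideal.Quotient.eq_zero_iff_mem.2 (Ideal.mul_mem_right _ _ ha))]
        rw [pre_zero]; rfl
      exact Subtype.ext (PrimeSpectrum.ext ((key q.1 q.2).trans (key r.1 r.2).symm))
    exact Order.krullDim_nonpos_of_subsingleton
  · haveI := h0 hi
    rw [Module.supportDim_eq_bot_of_subsingleton]
    exact bot_le

/-- the main induction -/
theorem bound (hW : Good W) (hn : Dual.IsNormalized A W) : ∀ (d : ℕ) (M : Type u) [AddCommGroup M]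
    [Module A M] [Module.Finite A M], Module.supportDim A M ≤ (d : WithBot ℕ∞) → Bound W d M := by
  intro d
  induction d using Nat.strong_induction_on with
  | _ d ih =>
    intro M _ _ hM
    refine IsNoetherianRing.induction_on_isQuotientEquivQuotientPrime A hM
      (motive := fun N _ _ _ => Module.supportDim A N ≤ (d : WithBot ℕ∞) → Bound W d N) ?_ ?_ ?_
    · intro N _ _ _ _ _ i
      haveI := subsingleton_of_module W (M := N) i
      exact ⟨fun _ => inferInstance, by rw [Module.supportDim_eq_bot_of_subsingleton]; exact bot_le⟩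
    · intro N _ _ _ p e hN
      by_cases hp : p.1 = maximalIdeal A
      · exact bound_residueField W hn d p.1 hp N e
      obtain ⟨x, hxm, hxp⟩ : ∃ x ∈ maximalIdeal A, x ∉ p.1 := by
        by_contra! h
        exact hp (le_antisymm (le_maximalIdeal p.2.ne_top) h)
      have hreg : IsSMulRegular N x := by
        intro y z hyz
        refine e.injective ?_
        obtain ⟨b, hb⟩ := Ideal.Quotient.mk_surjective (e y)
        obtain ⟨c, hc⟩ := Ideal.Quotient.mk_surjective (e z)
        have h2 := congrArg e hyz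
        simp only [map_smul, ← hb, ← hc] at h2
        rw [← hb, ← hc, Ideal.Quotient.eq]
        have h3 : x * b - x * c ∈ p.1 := Ideal.Quotient.eq.1 h2
        rw [← mul_sub] at h3
        exact (p.2.mem_or_mem h3).resolve_left hxp
      haveI : Nontrivial N :=
        haveI := Ideal.Quotient.nontrivial_iff.2 p.2.ne_top
        e.toEquiv.nontrivial
      have hdim := Module.supportDim_quotSMulTop_succ_eq_supportDim hreg hxm
      obtain ⟨d', rfl, hd'⟩ : ∃ d', d = d' + 1 ∧
          Module.supportDim A (QuotSMulTop x N) ≤ (d' : WithBot ℕ∞) := by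
        have hle := hN
        rw [← hdim] at hle
        have hne : Module.supportDim A (QuotSMulTop x N) ≠ ⊥ := by
          intro h
          rw [h, WithBot.bot_add] at hdim
          exact Module.supportDim_ne_bot_of_nontrivial A N hdim.symm
        revert hle hne
        generalize Module.supportDim A (QuotSMulTop x N) = s
        intro hle hne
        obtain ⟨s, rfl⟩ := WithBot.ne_bot_iff_exists.1 hne
        have hle' : s + 1 ≤ (d : ℕ∞) := WithBot.coe_le_coe.1 hle
        obtain ⟨k, rfl⟩ := ENat.ne_top_iff_exists.1 (show s ≠ ⊤ by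
          rintro rfl; simp at hle')
        have : k + 1 ≤ d := by exact_mod_cast hle'
        exact ⟨d - 1, by lia, WithBot.coe_le_coe.2 (Nat.cast_le.2 (show k ≤ d - 1 by lia))⟩
      have hQ : Bound W d' (QuotSMulTop x N) := ih d' (lt_add_one _) _ hd'
      intro i
      let f := x • (LinearMap.id : N →ₗ[A] N)
      let g := Submodule.mkQ (x • ⊤ : Submodule A N)
      have hf : Function.Injective f := fun a b h => hreg h
      have hfx : pre W f i = x • LinearMap.id := by rw [pre_smul, pre_id]
      have hex := exact_left W f g hf (Submodule.mkQ_surjective _) (exact_smul x) i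
      haveI := finite_hom W hW N i
      have hsurj : Subsingleton (Dual.inD A (QuotSMulTop x N) ⟶ W⟦i + 1⟧) →
          Subsingleton (Dual.inD A N ⟶ W⟦i⟧) := fun h =>
        SuppDim.subsingleton_of_smul_surjective hxm fun φ => by
          obtain ⟨ψ, hψ⟩ := (hex φ).1 (h.elim _ _)
          exact ⟨ψ, by rw [← hψ, hfx]; rfl⟩
      refine ⟨fun hi => hsurj ((hQ (i + 1)).1 (by lia)), ?_⟩
      rcases le_or_gt 0 i with hi | hi
      · haveI := hsurj ((hQ (i + 1)).1 (by lia))
        rw [Module.supportDim_eq_bot_of_subsingleton]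
        exact bot_le
      let δ := delta W f g hf (Submodule.mkQ_surjective _) (exact_smul x) i
      have hker : (x • ⊤ : Submodule A (Dual.inD A N ⟶ W⟦i⟧)) = LinearMap.ker δ := by
        rw [hex.linearMap_ker_eq, hfx]
        ext φ
        simp only [Submodule.mem_smul_pointwise_iff_exists, Submodule.mem_top, true_and,
          LinearMap.mem_range, LinearMap.smul_apply, LinearMap.id_apply]
      calc Module.supportDim A (Dual.inD A N ⟶ W⟦i⟧)
          ≤ Module.supportDim A (QuotSMulTop x (Dual.inD A N ⟶ W⟦i⟧)) + 1 :=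
            Module.supportDim_le_supportDim_quotSMulTop_succ hxm
        _ ≤ ((-(i + 1)).toNat : WithBot ℕ∞) + 1 := by
            gcongr
            refine le_trans (Module.supportDim_le_of_injective
              ((x • ⊤ : Submodule A (Dual.inD A N ⟶ W⟦i⟧)).liftQ δ hker.le) ?_) (hQ (i + 1)).2
            rw [← LinearMap.ker_eq_bot]
            exact Submodule.ker_liftQ_eq_bot _ _ _ hker.ge
        _ = ((-i).toNat : WithBot ℕ∞) := by
            rw [show (-i).toNat = (-(i + 1)).toNat + 1 by lia]
            push_cast; rfl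
    · intro N₁ _ _ _ N₂ _ _ _ N₃ _ _ _ f g hf hg hfg h₁ h₃ hN i
      have b₁ := h₁ ((Module.supportDim_le_of_injective f hf).trans hN) i
      have b₃ := h₃ ((Module.supportDim_le_of_surjective g hg).trans hN) i
      exact ⟨fun hi => subsingleton_mid W f g hf hg hfg i (b₁.1 hi) (b₃.1 hi),
        (SuppDim.supportDim_le_max_of_exact _ _ (exact_mid W f g hf hg hfg i)).trans
          (max_le b₃.2 b₁.2)⟩

/-- no positive degrees -/
theorem subsingleton_of_pos (hW : Good W) (hn : Dual.IsNormalized A W) (M : Type u) [AddCommGroup M]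
    [Module A M] [Module.Finite A M] (i : ℤ) (hi : 0 < i) :
    Subsingleton (Dual.inD A M ⟶ W⟦i⟧) := by
  have hd : ∃ d : ℕ, Module.supportDim A M ≤ (d : WithBot ℕ∞) := by
    by_cases h : Module.supportDim A M = ⊥
    · exact ⟨0, by rw [h]; exact bot_le⟩
    have hlt : Module.supportDim A M < ⊤ :=
      lt_of_le_of_lt (Module.supportDim_le_ringKrullDim A M) ringKrullDim_lt_top
    revert h hlt
    generalize Module.supportDim A M = s
    intro h hlt
    obtain ⟨s, rfl⟩ := WithBot.ne_bot_iff_exists.1 h
    obtain ⟨k, rfl⟩ := ENat.ne_top_iff_exists.1 (show s ≠ ⊤ by rintro rfl; exact lt_irrefl _ hlt)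
    exact ⟨k, le_rfl⟩
  obtain ⟨d, hd⟩ := hd
  exact (bound W hW hn d M hd i).1 (Or.inr hi)

end Local

end Groth.L29.HomD
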