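import Groth.Agent.L29.Dual.Gamma
import Groth.Agent.L29.Dual.Bounds
import Groth.Agent.L29.Dual.ResidueDegree
import Groth.Agent.L04.MatlisHull

/-!
Normalized dualizing complexes and the injective hull of the residue field.
-/

universe u

open CategoryTheory CategoryTheory.Limits IsLocalRing

attribute [local instance] HasDerivedCategory.standard

set_option backward.isDefEq.respectTransparency false

namespace Groth.L29.HomD

variable {A : Type u} [CommRing A] [IsLocalRing A] [IsNoetherianRing A] {ω : Dual.D A}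

/-- finite torsion modules only see degree zero -/
lemma subsingleton_hom_of_kills (hω : Dual.IsDualizing A ω) (hn : Dual.IsNormalized A ω)
    (M : Type u) [AddCommGroup M] [Module A M] [Module.Finite A M] (k : ℕ)
    (hM : ∀ a ∈ maximalIdeal A ^ k, ∀ x : M, a • x = 0) (i : ℤ) (hi : i ≠ 0) :
    Subsingleton (Dual.inD A M ⟶ ω⟦i⟧) := by
  have hdim : Module.supportDim A M ≤ ((0 : ℕ) : WithBot ℕ∞) := by
    rw [Nat.cast_zero, Module.supportDim]
    haveI : Subsingleton (Module.support A M) := by
      refine ⟨fun p p' => Subtype.ext ?_⟩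
      have key : ∀ p ∈ Module.support A M, p = closedPoint A := fun p hp => by
        refine PrimeSpectrum.ext (le_antisymm (le_maximalIdeal p.2.ne_top) fun a ha => ?_)
        obtain ⟨x, hx⟩ := Module.mem_support_iff'.1 hp
        by_contra hap
        exact hx (a ^ k) (fun h => hap (p.2.mem_of_pow_mem k h)) (hM _ (Ideal.pow_mem_pow ha k) x)
      rw [key _ p.2, key _ p'.2]
    exact Order.krullDim_nonpos_of_subsingleton
  exact (bound ω (good_of_isDualizing hω) hn 0 M hdim i).1 (by lia)

/-- `Hom(κ, ω) ≅ κ` -/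
lemma residue_hom_zero (hω : Dual.IsDualizing A ω) (hn : Dual.IsNormalized A ω) :
    Nonempty ((Dual.inD A (ResidueField A) ⟶ ω⟦(0 : ℤ)⟧) ≃ₗ[A] ResidueField A) := by
  obtain ⟨n, h1, ⟨e⟩⟩ := residue_degree (maximalIdeal A) hω
  obtain rfl : n = 0 := by
    by_contra hne
    haveI : Subsingleton (Dual.inD A (A ⧸ maximalIdeal A) ⟶ ω⟦n⟧) := hn n hne
    exact not_subsingleton (ResidueField A) e.symm.toEquiv.subsingleton
  exact ⟨e⟩

/-- an injective representative of a normalized dualizing complex with its torsion cohomology -/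
theorem exists_gamma_hull (hω : Dual.IsDualizing A ω) (hn : Dual.IsNormalized A ω)
    {E : Type u} [AddCommGroup E] [Module A E] (f : ResidueField A →ₗ[A] E)
    (hf : InjHull.IsInjectiveHull f) :
    ∃ (I : DRing.Cx A) (a : ℤ), CochainComplex.IsStrictlyGE I a ∧ DRing.TermwiseInjective I ∧
      CochainComplex.IsKInjective I ∧ Concentrated (maximalIdeal A) I ∧
      Nonempty (DRing.toD I ≅ ω) ∧ Nonempty (GH (maximalIdeal A) I ≃ₗ[A] E) := by
  obtain ⟨a, b, hab0⟩ := hω.finite_injective_dimension
  haveI := isGE_of_lower a fun M _ _ i hi => hab0 M i (Or.inl hi)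
  obtain ⟨I, hGE, hinj, hK, ⟨eI⟩⟩ := exists_injRep ω a
  have hc : Concentrated (maximalIdeal A) I := fun M k hM hk i hi =>
    haveI := hM
    haveI := subsingleton_hom_of_kills hω hn M k hk i hi
    (Linear.homCongr A (Iso.refl (Dual.inD A M)) ((shiftFunctor (Dual.D A) i).mapIso eI)).toEquiv.subsingleton
  refine ⟨I, a, hGE, hinj, hK, hc, ⟨eI⟩, ?_⟩
  obtain ⟨e1⟩ := residue_hom_zero hω hn
  obtain ⟨e2⟩ := nonempty_hom_GH hinj a hc (ModuleCat.of A (ResidueField A)) 1 (by
    intro r hr x
    obtain ⟨x, rfl⟩ := residue_surjective x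
    change residue A r * residue A x = 0
    rw [(residue_eq_zero_iff _).2 (by simpa using hr), zero_mul])
  let e : (ResidueField A →ₗ[A] GH (maximalIdeal A) I) ≃ₗ[A] ResidueField A :=
    e2.symm ≪≫ₗ Linear.homCongr A (Iso.refl (Dual.inD A (ResidueField A)))
      (eI ≪≫ ((shiftFunctorZero (Dual.D A) ℤ).app ω).symm) ≪≫ₗ e1
  haveI : IsSimpleModule A (ResidueField A) :=
    isSimpleModule_iff_isCoatom.2 (maximalIdeal.isMaximal A).out
  obtain ⟨g, hg⟩ := Groth.L04.isInjectiveHull_iff.2
    ⟨injective_GH hinj a hc, isPowerTorsion_GH, IsSimpleModule.congr e⟩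
  obtain ⟨e3, -⟩ := Groth.L04.exists_equiv_of_isInjectiveHull hg hf
  exact ⟨e3⟩

end Groth.L29.HomD
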