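import Groth.Agent.L29.Dual.Devissage
import Mathlib.Algebra.Homology.Factorizations.CM5a
import Mathlib.Algebra.Homology.HomotopyCategory.HomComplexSingle
import Mathlib.Algebra.Homology.HomotopyCategory.Shift
import Mathlib.Algebra.Homology.DerivedCategory.ShortExact
import Mathlib.Algebra.Category.ModuleCat.EnoughInjectives
import Mathlib.CategoryTheory.Linear.Yoneda

/-!
An injective representative `I` of an object of `D(A)` and the complexes `Hom(M, I)`.
-/

universe u

open CategoryTheory CategoryTheory.Limits Opposite CochainComplex.HomComplex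

attribute [local instance] HasDerivedCategory.standard

set_option backward.isDefEq.respectTransparency false

namespace Groth.L29.HomD

variable {A : Type u} [CommRing A]

/-- every bounded below object is represented by a bounded below complex of injectives -/
theorem exists_injRep (W : Dual.D A) (a : ℤ) [W.IsGE a] :
    ∃ I : DRing.Cx A, CochainComplex.IsStrictlyGE I a ∧ DRing.TermwiseInjective I ∧
      CochainComplex.IsKInjective I ∧ Nonempty (DRing.toD I ≅ W) := by
  obtain ⟨L, _, ⟨e⟩⟩ := DerivedCategory.exists_iso_Q_obj_of_isGE W a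
  obtain ⟨I, i, hi, hI, hGE⟩ := CochainComplex.Plus.modelCategoryQuillen.exists_quasiIso_injective L a
  haveI := hI
  exact ⟨I, hGE, fun n => Module.injective_module_of_injective_object A (I.X n),
    CochainComplex.isKInjective_of_injective I a, ⟨(asIso (DerivedCategory.Q.map i)).symm ≪≫ e.symm⟩⟩

/-- `Hom(M, -)` on modules -/
noncomputable abbrev hFun (M : ModuleCat.{u} A) : ModuleCat.{u} A ⥤ ModuleCat.{u} A :=
  (linearCoyoneda A (ModuleCat.{u} A)).obj (op M)

/-- the complex `Hom(M, I)` -/
noncomputable abbrev HM (I : DRing.Cx A) (M : ModuleCat.{u} A) : DRing.Cx A :=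
  ((hFun M).mapHomologicalComplex (ComplexShape.up ℤ)).obj I

/-- `Hom(f, I)` -/
noncomputable abbrev HMmap (I : DRing.Cx A) {M N : ModuleCat.{u} A} (f : M ⟶ N) :
    HM I N ⟶ HM I M :=
  (NatTrans.mapHomologicalComplex ((linearCoyoneda A (ModuleCat.{u} A)).map f.op)
    (ComplexShape.up ℤ)).app I

variable (J : DRing.Cx A) (M : ModuleCat.{u} A)

/-- the chain map of a `0`-cocycle -/
noncomputable def cycleHom (f : M ⟶ J.X 0) (hf : f ≫ J.d 0 1 = 0) :
    (CochainComplex.singleFunctor (ModuleCat.{u} A) 0).obj M ⟶ J :=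
  HomologicalComplex.mkHomFromSingle f (fun k hk => by
    obtain rfl : k = 1 := by simpa using hk.symm
    exact hf)

lemma cycleHom_f (f : M ⟶ J.X 0) (hf : f ≫ J.d 0 1 = 0) :
    (cycleHom J M f hf).f 0 = (HomologicalComplex.singleObjXSelf (ComplexShape.up ℤ) 0 M).hom ≫ f := by
  simp [cycleHom]

lemma ofHom_cycleHom (f : M ⟶ J.X 0) (hf : f ≫ J.d 0 1 = 0) :
    Cochain.ofHom (cycleHom J M f hf) = Cochain.fromSingleMk f (zero_add 0) := by
  apply Cochain.ext
  intro p q hpq
  obtain rfl : q = p := by lia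
  rw [Cochain.ofHom_v]
  by_cases hp : q = 0
  · subst hp
    rw [cycleHom_f, Cochain.fromSingleMk_v]
  · rw [Cochain.fromSingleMk_v_eq_zero _ _ _ _ _ hp]
    exact (HomologicalComplex.isZero_single_obj_X (ComplexShape.up ℤ) 0 _ q hp).eq_of_src _ _

/-- the class in `D(A)` of a `0`-cocycle -/
noncomputable def cycleClass :
    LinearMap.ker (Linear.rightComp A M (J.d 0 1)) →ₗ[A]
      (DRing.toD ((CochainComplex.singleFunctor (ModuleCat.{u} A) 0).obj M) ⟶ DRing.toD J) where
  toFun f := DerivedCategory.Q.map (cycleHom J M f.1 f.2)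
  map_add' f g := by
    rw [← Functor.map_add]
    congr 1
    refine HomologicalComplex.from_single_hom_ext ?_
    simp [cycleHom_f]
  map_smul' a f := by
    rw [RingHom.id_apply, ← Functor.map_smul]
    congr 1
    refine HomologicalComplex.from_single_hom_ext ?_
    simp [cycleHom_f]

variable [J.IsKInjective]

lemma cycleClass_surjective : Function.Surjective (cycleClass J M) := by
  intro φ
  obtain ⟨χ, hχ⟩ := (CochainComplex.IsKInjective.Qh_map_bijective
    ((HomotopyCategory.quotient _ _).obj ((CochainComplex.singleFunctor (ModuleCat.{u} A) 0).obj M)) J).2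
      ((DerivedCategory.quotientCompQhIso _).hom.app _ ≫ φ ≫
        (DerivedCategory.quotientCompQhIso _).inv.app _)
  obtain ⟨c, rfl⟩ := (HomotopyCategory.quotient _ _).map_surjective χ
  let f : M ⟶ J.X 0 := (HomologicalComplex.singleObjXSelf (ComplexShape.up ℤ) 0 M).inv ≫ c.f 0
  have hf : f ≫ J.d 0 1 = 0 := by
    simp only [f, Category.assoc, c.comm 0 1]
    simp
  refine ⟨⟨f, hf⟩, ?_⟩
  have hc : cycleHom J M f hf = c := by
    refine HomologicalComplex.from_single_hom_ext ?_
    simp [cycleHom_f, f]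
  change DerivedCategory.Q.map (cycleHom J M f hf) = φ
  rw [hc, ← cancel_mono ((DerivedCategory.quotientCompQhIso _).inv.app J)]
  rw [DerivedCategory.quotientCompQhIso_inv_naturality, hχ]
  simp

lemma cycleClass_eq_zero_iff (f : LinearMap.ker (Linear.rightComp A M (J.d 0 1))) :
    cycleClass J M f = 0 ↔ ∃ g : M ⟶ J.X (-1), g ≫ J.d (-1) 0 = f.1 := by
  constructor
  · intro h
    have h0 : (HomotopyCategory.quotient _ _).map (cycleHom J M f.1 f.2) = 0 := by
      refine (CochainComplex.IsKInjective.Qh_map_bijective _ J).1 ?_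
      rw [Functor.map_zero, ← cancel_mono ((DerivedCategory.quotientCompQhIso _).hom.app J), zero_comp,
        DerivedCategory.quotientCompQhIso_hom_naturality]
      exact (congrArg (_ ≫ ·) h).trans comp_zero
    obtain ⟨z, hz⟩ := Cochain.equivHomotopy _ _ (HomotopyCategory.homotopyOfEq (cycleHom J M f.1 f.2) 0
      (h0.trans ((HomotopyCategory.quotient _ _).map_zero _ _).symm))
    refine ⟨(HomologicalComplex.singleObjXSelf (ComplexShape.up ℤ) 0 M).inv ≫ z.v 0 (-1) rfl, ?_⟩
    have h1 := Cochain.congr_v hz 0 0 (add_zero 0)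
    rw [Cochain.ofHom_v, Cochain.add_v, Cochain.ofHom_v,
      δ_v (-1) 0 (by lia) z 0 0 _ (-1) 1 (by lia) (by lia)] at h1
    simp [cycleHom_f] at h1
    rw [Category.assoc, ← h1]
    simp
  · rintro ⟨g, hg⟩
    have hz : Cochain.ofHom (cycleHom J M f.1 f.2) =
        δ (-1) 0 (Cochain.fromSingleMk (p := 0) (q := -1) g (zero_add (-1))) + Cochain.ofHom 0 := by
      rw [Cochain.ofHom_zero, add_zero, Cochain.δ_fromSingleMk g _ 0 0 (zero_add 0), ofHom_cycleHom]
      congr 1
      exact hg.symm
    have h0 := HomotopyCategory.eq_of_homotopy _ _ ((Cochain.equivHomotopy (cycleHom J M f.1 f.2) 0).symm ⟨_, hz⟩)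
    rw [Functor.map_zero] at h0
    change DerivedCategory.Q.map (cycleHom J M f.1 f.2) = 0
    rw [← cancel_epi ((DerivedCategory.quotientCompQhIso _).hom.app _),
      ← DerivedCategory.quotientCompQhIso_hom_naturality, h0]
    simp

/-- `H⁰(Hom(M, J)) = Hom_{D(A)}(M[0], J)` -/
noncomputable def homologyZeroEquiv :
    ((HM J M).homology 0 : Type u) ≃ₗ[A]
      (DRing.toD ((CochainComplex.singleFunctor (ModuleCat.{u} A) 0).obj M) ⟶ DRing.toD J) :=
  let T := (HM J M).sc' (-1) 0 1
  ((HM J M).homologyIsoSc' (-1) 0 1 (by simp) (by simp) ≪≫ T.moduleCatHomologyIso).toLinearEquiv ≪≫ₗ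
    LinearEquiv.ofBijective ((LinearMap.range T.moduleCatToCycles).liftQ (cycleClass J M) (by
      rintro _ ⟨g, rfl⟩
      exact (cycleClass_eq_zero_iff J M _).2 ⟨g, rfl⟩)) ⟨by
      rw [injective_iff_map_eq_zero]
      intro x
      induction x using Submodule.Quotient.induction_on with
      | H f =>
        intro hf
        obtain ⟨g, hg⟩ := (cycleClass_eq_zero_iff J M f).1 hf
        exact (Submodule.Quotient.mk_eq_zero _).2 ⟨g, Subtype.ext hg⟩,
      fun φ => by
        obtain ⟨f, rfl⟩ := cycleClass_surjective J M φ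
        exact ⟨Submodule.Quotient.mk f, rfl⟩⟩

omit [J.IsKInjective] in
/-- `Hⁱ(Hom(M, I)) = Hom_{D(A)}(M[0], I[i])` -/
noncomputable def homologyEquiv (I : DRing.Cx A) [I.IsKInjective] (i : ℤ) :
    Dual.HD A (DRing.toD (HM I M)) i ≃ₗ[A] (Dual.inD A M ⟶ (DRing.toD I)⟦i⟧) :=
  let Q := DerivedCategory.Q (C := ModuleCat.{u} A)
  let H := DerivedCategory.homologyFunctor (ModuleCat.{u} A)
  haveI : CochainComplex.IsKInjective (I⟦i⟧) := inferInstance
  ((Groth.L10.hShiftIso (A := ModuleCat.{u} A) (DRing.toD (HM I M)) i 0 i (by lia)).symm ≪≫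
    (H 0).mapIso (((Q.commShiftIso i).app _).symm ≪≫
      Q.mapIso ((((hFun M).mapHomologicalComplex (ComplexShape.up ℤ)).commShiftIso i).app I).symm) ≪≫
    (DerivedCategory.homologyFunctorFactors (ModuleCat.{u} A) 0).app (HM (I⟦i⟧) M)).toLinearEquiv ≪≫ₗ
  homologyZeroEquiv (I⟦i⟧) M ≪≫ₗ
  Linear.homCongr A
    ((((SingleFunctors.evaluation _ _ 0).mapIso
      (DerivedCategory.singleFunctorsPostcompQIso (ModuleCat.{u} A))).app M).symm)
    ((Q.commShiftIso i).app I)

end Groth.L29.HomD
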