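import Groth.Agent.L29.Dual.CMLocus
import Groth.Agent.L29.Dual.DimFun

/-!
Normalized dualizing complexes localize.
-/

universe u

open CategoryTheory IsLocalRing
open scoped TensorProduct

attribute [local instance] HasDerivedCategory.standard

set_option backward.isDefEq.respectTransparency false

namespace Groth.L29.HomD

variable {A : Type u} [CommRing A] [IsLocalRing A] [IsNoetherianRing A] {ω : Dual.D A}

/-- for a normalized dualizing complex the dimension function is the dimension -/
theorem dimFun_eq_dim (hω : Dual.IsDualizing A ω) (hn : Dual.IsNormalized A ω) (P : PrimeSpectrum A)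
    (e : ℕ) (he : ringKrullDim (A ⧸ P.asIdeal) = e) : dimFun hω P = (e : ℤ) := by
  let m : PrimeSpectrum A := IsLocalRing.closedPoint A
  have hm0 : dimFun hω m = 0 := by
    by_contra hne
    haveI : Subsingleton (Dual.inD A (A ⧸ m.asIdeal) ⟶ ω⟦-dimFun hω m⟧) := hn _ (by lia)
    exact (not_lz_iff_eq hω m _).2 rfl LZ.of_subsingleton
  refine le_antisymm ?_ ?_
  · by_contra hlt
    haveI := ((bound ω (good_of_isDualizing hω) hn e (A ⧸ P.asIdeal)
      (by rw [Module.supportDim_quotient_eq_ringKrullDim, he])) (-dimFun hω P)).1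
      (Or.inl (by lia))
    exact (not_lz_iff_eq hω P _).2 rfl LZ.of_subsingleton
  · rw [ringKrullDim_quotient] at he
    obtain ⟨l, hl⟩ := Order.le_krullDim_iff.1 he.ge
    let g : ℕ → ℤ := fun k => if h : k ≤ l.length then dimFun hω (l ⟨k, by lia⟩).1 + k else 0
    have hg : ∀ k, k ≤ l.length → g k ≤ g 0 := by
      intro k
      induction k with
      | zero => intro; exact le_rfl
      | succ k ihk =>
        intro hk
        refine le_trans ?_ (ihk (by lia))
        have hlt : (l ⟨k, by lia⟩).1 < (l ⟨k + 1, by lia⟩).1 :=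
          l.step ⟨k, by lia⟩
        have := dimFun_strictAnti hω hlt
        simp only [g, dif_pos hk, dif_pos (show k ≤ l.length by lia)]
        push_cast
        lia
    have h1 := hg l.length le_rfl
    simp only [g, dif_pos le_rfl, dif_pos (Nat.zero_le _), Nat.cast_zero, add_zero] at h1
    have h2 : dimFun hω m ≤ dimFun hω (l ⟨l.length, by lia⟩).1 :=
      (dimFun_strictAnti hω).antitone (IsLocalRing.le_maximalIdeal (l ⟨l.length, by lia⟩).1.2.ne_top)
    have h3 : dimFun hω (l ⟨0, by lia⟩).1 ≤ dimFun hω P :=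
      (dimFun_strictAnti hω).antitone (l ⟨0, by lia⟩).2
    lia

/-- the localization, shifted by the dimension of `A/p`, is normalized -/
theorem isNormalized_localization (hω : Dual.IsDualizing A ω) (hn : Dual.IsNormalized A ω)
    (P : PrimeSpectrum A) (e : ℕ) (he : ringKrullDim (A ⧸ P.asIdeal) = e)
    [Module.Flat A (Localization.AtPrime P.asIdeal)] :
    Dual.IsNormalized (Localization.AtPrime P.asIdeal)
      (((FlatBC.L A (Localization.AtPrime P.asIdeal)).obj ω)⟦-(e : ℤ)⟧) := by
  intro i hi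
  obtain ⟨a, b, hab⟩ := hω.finite_injective_dimension
  haveI := isGE_of_lower a fun M _ _ i hi => hab M i (Or.inl hi)
  let B := Localization.AtPrime P.asIdeal
  have h := lz_of_ne hω P (i := -(e : ℤ) + i) (by rw [dimFun_eq_dim hω hn P e he]; lia)
  rw [lz_iff, (LocalizedModule.equivTensorProduct P.asIdeal.primeCompl
    (Dual.inD A (A ⧸ P.asIdeal) ⟶ ω⟦-(e : ℤ) + i⟧)).toEquiv.subsingleton_congr] at h
  haveI := h
  haveI : Subsingleton (Dual.inD B (B ⊗[A] (A ⧸ P.asIdeal)) ⟶
      ((FlatBC.L A B).obj ω)⟦-(e : ℤ) + i⟧) :=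
    (FlatBC.homEquiv (B := B) (W := ω) a (A ⧸ P.asIdeal) (-(e : ℤ) + i)).symm.toEquiv.subsingleton
  let e1 : (B ⊗[A] (A ⧸ P.asIdeal)) ≃ₗ[B] ResidueField B :=
    (Algebra.TensorProduct.quotIdealMapEquivTensorQuot B P.asIdeal).toLinearEquiv.symm.trans
      (Submodule.quotEquivOfEq _ _ (IsLocalization.AtPrime.map_eq_maximalIdeal P.asIdeal B))
  haveI := ((HomD.preEquiv ((FlatBC.L A B).obj ω) e1 (-(e : ℤ) + i))).toEquiv.subsingleton
  exact (homShiftEquiv _ _ (-(e : ℤ)) i (-(e : ℤ) + i) rfl).toEquiv.subsingleton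

end Groth.L29.HomD
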