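import Groth.Agent.L29.Dual.Descent
import Groth.Agent.L29.Dual.DimFun
import Mathlib.RingTheory.LocalProperties.Submodule
import Mathlib.RingTheory.Ideal.MinimalPrime.Noetherian

/-!
A pointwise dualizing complex over a ring of finite Krull dimension is dualizing.
-/

universe u

open CategoryTheory CategoryTheory.Limits IsLocalRing
open scoped TensorProduct

attribute [local instance] HasDerivedCategory.standard

set_option backward.isDefEq.respectTransparency false

namespace Groth.L29.HomD

variable {A : Type u} [CommRing A] [IsNoetherianRing A] {ω : Dual.D A}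

/-- the drop of the dimension function is realised by a chain -/
lemma exists_series (hω : Dual.IsDualizing A ω) (q : PrimeSpectrum A) :
    ∀ x, q ≤ x → ∃ l : LTSeries (PrimeSpectrum A),
      l.last = x ∧ (l.length : ℤ) = dimFun hω q - dimFun hω x := by
  intro x
  refine WellFoundedLT.induction (motive := fun x => q ≤ x → ∃ l : LTSeries (PrimeSpectrum A),
    l.last = x ∧ (l.length : ℤ) = dimFun hω q - dimFun hω x) x ?_
  intro x ih hqx
  rcases hqx.eq_or_lt with rfl | hlt
  · exact ⟨RelSeries.singleton _ q, RelSeries.last_singleton q, by simp⟩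
  haveI : WellFoundedGT (PrimeSpectrum A) :=
    ⟨Subrelation.wf (fun {a b} (h : b < a) => (show b.asIdeal < a.asIdeal from h))
      (InvImage.wf (fun p : PrimeSpectrum A => p.asIdeal) wellFounded_gt)⟩
  obtain ⟨r, ⟨hqr, hrx⟩, hmax⟩ := wellFounded_gt.has_min {r | q ≤ r ∧ r < x} ⟨q, le_rfl, hlt⟩
  have hcov : r ⋖ x := ⟨hrx, fun s hrs hsq => hmax s ⟨hqr.trans hrs.le, hsq⟩ hrs⟩
  have h1 := dimFun_covBy hω r x hcov
  obtain ⟨l, hl, hlen⟩ := ih r hrx hqr
  refine ⟨l.snoc x (show l.last < x from hl.symm ▸ hrx), RelSeries.last_snoc _ _ _, ?_⟩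
  simp only [RelSeries.snoc_length]
  push_cast
  lia

/-- over a local ring `Hom(finite, ω⟦i⟧)` vanishes above the degree of the closed point -/
lemma subsingleton_hom_gt_degree [IsLocalRing A] (hω : Dual.IsDualizing A ω) (M : Type u)
    [AddCommGroup M] [Module A M] [Module.Finite A M] (i : ℤ)
    (hi : -dimFun hω ⟨maximalIdeal A, inferInstance⟩ < i) : Subsingleton (Dual.inD A M ⟶ ω⟦i⟧) := by
  let m : PrimeSpectrum A := ⟨maximalIdeal A, inferInstance⟩
  let d := -dimFun hω m
  have hn : Dual.IsNormalized A (ω⟦d⟧) := fun j hj => by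
    have h := lz_of_ne hω m (i := d + j) (by simp only [d]; lia)
    haveI : Subsingleton (Dual.inD A (ResidueField A) ⟶ ω⟦d + j⟧) := by
      refine subsingleton_of_forall_eq 0 fun φ => ?_
      obtain ⟨s, hs, hφ⟩ := h φ
      obtain ⟨u, rfl⟩ := IsLocalRing.notMem_maximalIdeal.1 hs
      have h2 := congrArg ((↑u⁻¹ : A) • ·) hφ
      simpa [smul_smul] using h2
    exact (homShiftEquiv _ ω d j (d + j) rfl).toEquiv.subsingleton
  haveI := subsingleton_of_pos (ω⟦d⟧) (good_of_isDualizing (isDualizing_shift hω d)) hn M (i - d)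
    (by simp only [d, m]; lia)
  exact (homShiftEquiv _ ω d (i - d) i (by lia)).symm.toEquiv.subsingleton

end Groth.L29.HomD

namespace Groth.L29.FlatBC

open Groth.L29.HomD

/-- pointwise dualizing is dualizing in finite dimension -/
theorem isDualizing_of_pointwise {A : Type u} [CommRing A] [IsNoetherianRing A]
    [∀ p : PrimeSpectrum A, Module.Flat A (Localization.AtPrime p.asIdeal)]
    (hdim : ringKrullDim A < ⊤) {R : Dual.D A} (hfin : ∀ i : ℤ, Module.Finite A (Dual.HD A R i))
    (a : ℤ) (hbdd : ∀ i : ℤ, i < a → Subsingleton (Dual.HD A R i))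
    (hW : ∀ p : PrimeSpectrum A, Dual.IsDualizing (Localization.AtPrime p.asIdeal)
      ((L A (Localization.AtPrime p.asIdeal)).obj R)) : Dual.IsDualizing A R := by
  let B : PrimeSpectrum A → Type u := fun p => Localization.AtPrime p.asIdeal
  obtain ⟨D, hD⟩ : ∃ D : ℕ, ringKrullDim A ≤ (D : WithBot ℕ∞) := by
    revert hdim
    generalize ringKrullDim A = s
    intro hdim
    cases s with
    | bot => exact ⟨0, bot_le⟩
    | coe s =>
      obtain ⟨k, rfl⟩ := ENat.ne_top_iff_exists.1 (show s ≠ ⊤ by rintro rfl; exact lt_irrefl _ hdim)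
      exact ⟨k, le_rfl⟩
  obtain ⟨C, hC⟩ : ∃ C : ℤ, ∀ q : PrimeSpectrum A, q.asIdeal ∈ minimalPrimes A →
      ∀ i : ℤ, ¬ LZ q.asIdeal (Dual.HD A R i) → i ≤ C := by
    choose a' b' hab using fun p => (hW p).finite_injective_dimension
    have hfinite : {q : PrimeSpectrum A | q.asIdeal ∈ minimalPrimes A}.Finite :=
      (minimalPrimes.finite_of_isNoetherianRing A).preimage (fun x _ y _ h => PrimeSpectrum.ext h)
    haveI := hfinite.to_subtype
    obtain ⟨C, hC⟩ := Finite.exists_le (fun q : {q : PrimeSpectrum A | q.asIdeal ∈ minimalPrimes A} => b' q.1)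
    refine ⟨C, fun q hq i hi => le_trans ?_ (hC ⟨q, hq⟩)⟩
    by_contra hlt
    haveI := hab q (B q) i (Or.inr (by simpa using hlt))
    haveI : Subsingleton (Dual.HD (B q) ((L A (B q)).obj R) i) :=
      (evalShiftEquiv ((L A (B q)).obj R) i).symm.toEquiv.subsingleton
    haveI : Subsingleton (B q ⊗[A] Dual.HD A R i) :=
      (hEquiv A (B q) R i).symm.toEquiv.subsingleton
    exact hi (lz_iff.2
      (LocalizedModule.equivTensorProduct q.asIdeal.primeCompl (Dual.HD A R i)).toEquiv.subsingleton)
  refine isDualizing_of_family (B := B) (fun N _ _ hN => ?_) hfin a (C + D) (fun p n hn => ?_)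
    (fun p N _ _ _ j hj => ?_) hW
  · refine Module.subsingleton_of_localization_maximal (R := A) (M := N)
      (fun (P : Ideal A) [P.IsMaximal] => LocalizedModule P.primeCompl N)
      (fun (P : Ideal A) [P.IsMaximal] => LocalizedModule.mkLinearMap P.primeCompl N) fun P hP => ?_
    haveI := hN ⟨P, hP.isPrime⟩
    exact (LocalizedModule.equivTensorProduct P.primeCompl N).toEquiv.subsingleton
  · haveI := hbdd n hn
    exact (hEquiv A (B p) R n).toEquiv.subsingleton
  haveI : IsNoetherianRing (B p) := (hW p).isNoetherianRing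
  let m : PrimeSpectrum (B p) := ⟨maximalIdeal (B p), inferInstance⟩
  refine subsingleton_hom_gt_degree (hW p) N j (lt_of_le_of_lt ?_ hj)
  change -dimFun (hW p) m ≤ _
  obtain ⟨q, hq, hqm⟩ := Ideal.exists_minimalPrimes_le (bot_le : (⊥ : Ideal (B p)) ≤ m.asIdeal)
  let q' : PrimeSpectrum (B p) := ⟨q, hq.1.1⟩
  let q₀ : PrimeSpectrum A := PrimeSpectrum.comap (algebraMap A (B p)) q'
  obtain ⟨l, -, hl⟩ := exists_series (hW p) q' m hqm
  have hlen : (l.length : ℤ) ≤ D := by
    have hmono : StrictMono (PrimeSpectrum.comap (algebraMap A (B p))) :=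
      Monotone.strictMono_of_injective (fun _ _ h => Ideal.comap_mono h)
        (PrimeSpectrum.localization_comap_injective (B p) p.asIdeal.primeCompl)
    have h := (Order.LTSeries.length_le_krullDim (l.map _ hmono)).trans hD
    exact_mod_cast h
  have hq₀ : q₀.asIdeal ∈ minimalPrimes A := by
    refine ⟨⟨q₀.2, bot_le⟩, fun r hr hrq => ?_⟩
    have hdisj : Disjoint (p.asIdeal.primeCompl : Set A) (r : Set A) :=
      Set.disjoint_left.2 fun x hx hxr => hx (IsLocalization.AtPrime.comap_maximalIdeal (B p) p.asIdeal ▸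
        (show x ∈ (maximalIdeal (B p)).comap (algebraMap A (B p)) from hqm (hrq hxr)))
    have h1 : q ≤ r.map (algebraMap A (B p)) := hq.2
      ⟨IsLocalization.isPrime_of_isPrime_disjoint p.asIdeal.primeCompl _ r hr.1 hdisj, bot_le⟩
      (Ideal.map_le_iff_le_comap.2 hrq)
    intro x hx
    rw [← IsLocalization.under_map_of_isPrime_disjoint p.asIdeal.primeCompl (B p) hr.1 hdisj]
    exact h1 hx
  have hi : ¬ LZ q (Dual.HD (B p) ((L A (B p)).obj R) (-dimFun (hW p) q')) :=
    (not_lz_HD_iff (hW p) q' hq _).2 rfl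
  have h0 : ¬ LZ q₀.asIdeal (Dual.HD A R (-dimFun (hW p) q')) := fun h => hi (by
    have h2 : LZ q (B p ⊗[A] Dual.HD A R (-dimFun (hW p) q')) := fun t => by
      induction t with
      | zero => exact ⟨1, fun h => hq.1.1.ne_top ((Ideal.eq_top_iff_one q).2 h), smul_zero _⟩
      | tmul b x =>
        obtain ⟨s, hs, hx⟩ := h x
        exact ⟨algebraMap A (B p) s, hs, by rw [algebraMap_smul, ← TensorProduct.tmul_smul, hx, TensorProduct.tmul_zero]⟩
      | add y z hy hz =>
        obtain ⟨s, hs, hy⟩ := hy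
        obtain ⟨t, ht, hz⟩ := hz
        exact ⟨s * t, fun h => (hq.1.1.mem_or_mem h).elim hs ht,
          by rw [smul_add, mul_smul s t z, hz, smul_zero, mul_comm, mul_smul, hy, smul_zero, add_zero]⟩
    exact h2.of_injective (hEquiv A (B p) R _).toLinearMap (LinearEquiv.injective _))
  have := hC q₀ hq₀ _ h0
  lia

end Groth.L29.FlatBC
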