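import Groth.Agent.L29.Dual.KoszulExt
import Groth.Agent.L29.Dual.Pointwise
import Groth.Agent.L01.Regular

/-! Regular rings are dualizing over themselves. -/

universe u
open CategoryTheory CategoryTheory.Abelian

attribute [local instance] HasDerivedCategory.standard

set_option backward.isDefEq.respectTransparency false

namespace Groth.L29.HomD

lemma subsingleton_hom_self_neg {A : Type u} [CommRing A] (M : Type u) [AddCommGroup M] [Module A M]
    (j : ℤ) (hj : j < 0) : Subsingleton (Dual.inD A M ⟶ (Dual.inD A A)⟦j⟧) := by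
  haveI : ((Dual.inD A A)⟦j⟧ : Dual.D A).IsGE (0 - j) :=
    DerivedCategory.TStructure.t.isGE_shift (Dual.inD A A) 0 j (0 - j) (by lia)
  exact subsingleton_of_forall_eq 0 fun f =>
    DerivedCategory.TStructure.t.zero_of_isLE_of_isGE f 0 (0 - j) (by lia) inferInstance inferInstance

lemma finite_HD_single (A : Type u) [CommRing A] (i : ℤ) : Module.Finite A (Dual.HD A (Dual.inD A A) i) := by
  rcases lt_trichotomy i 0 with h | rfl | h
  · haveI := ModuleCat.subsingleton_of_isZero (DerivedCategory.isZero_of_isGE (Dual.inD A A) 0 i h)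
    infer_instance
  · haveI : Module.Finite A ((𝟭 (ModuleCat.{u} A)).obj (ModuleCat.of A A)) :=
      inferInstanceAs (Module.Finite A A)
    exact Module.Finite.equiv
      ((DerivedCategory.singleFunctorCompHomologyFunctorIso (ModuleCat.{u} A) 0).app (ModuleCat.of A A)).toLinearEquiv.symm
  · haveI := ModuleCat.subsingleton_of_isZero (DerivedCategory.isZero_of_isLE (Dual.inD A A) 0 i h)
    infer_instance

theorem isDualizing_shift_self_of_regularLocal (A : Type u) [CommRing A] [IsRegularLocalRing A] :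
    ∃ d : ℕ, ringKrullDim A = d ∧ Dual.IsDualizing A ((Dual.inD A A)⟦(d : ℤ)⟧) ∧
      Dual.IsNormalized A ((Dual.inD A A)⟦(d : ℤ)⟧) := by
  have hfg : (IsLocalRing.maximalIdeal A).FG := Ideal.fg_of_isNoetherianRing _
  have hfin := Submodule.FG.finite_generators hfg
  let s := hfin.toFinset
  have hs : s.card = (IsLocalRing.maximalIdeal A).spanFinrank := by
    rw [← Set.ncard_eq_toFinset_card _ hfin]
    exact Submodule.FG.generators_ncard hfg
  let rs := s.toList
  have hgen : Ideal.ofList rs = IsLocalRing.maximalIdeal A := by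
    refine Eq.trans ?_ (Submodule.span_generators (IsLocalRing.maximalIdeal A))
    simp [Ideal.ofList, rs, s]
  have hdim : ringKrullDim A = rs.length := by
    rw [← (isRegularLocalRing_iff A).1 inferInstance, Finset.length_toList, hs]
  have hreg := (Groth.L01.isRegular_of_ofList_eq_maximalIdeal rs hgen hdim).toIsWeaklyRegular
  let d : ℤ := rs.length
  let R : Dual.D A := (Dual.inD A A)⟦d⟧
  let eK : ModuleCat.of A (A ⧸ Ideal.ofList rs) ≅ ModuleCat.of A (IsLocalRing.ResidueField A) :=
    (Submodule.quotEquivOfEq _ _ hgen).toModuleIso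
  let eE : ∀ (n : ℕ), (Dual.inD A (IsLocalRing.ResidueField A) ⟶ (Dual.inD A A)⟦(n : ℤ)⟧) ≃ₗ[A]
      Ext (ModuleCat.of A (A ⧸ Ideal.ofList rs)) (ModuleCat.of A A) n := fun n =>
    Linear.homCongr A ((DerivedCategory.singleFunctor (ModuleCat.{u} A) 0).mapIso eK).symm (Iso.refl _)
      ≪≫ₗ (Ext.homLinearEquiv (R := A)).symm
  have hgood : Good R := by
    refine ⟨⟨-d, fun M _ _ i hi => ?_⟩, fun i => ?_⟩
    · haveI := subsingleton_hom_self_neg (A := A) M (d + i) (by lia)
      exact (homShiftEquiv _ _ d i (d + i) rfl).toEquiv.subsingleton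
    · haveI : Module.Finite A (Dual.HD A (Dual.inD A A) (d + i)) := finite_HD_single A (d + i)
      exact Module.Finite.equiv ((evalShiftEquiv (Dual.inD A A) (d + i)).symm ≪≫ₗ
        (homShiftEquiv _ _ d i (d + i) rfl).symm ≪≫ₗ evalShiftEquiv R i)
  have hn : Dual.IsNormalized A R := fun i hi => by
    rcases lt_or_ge (d + i) 0 with h | h
    · haveI := subsingleton_hom_self_neg (A := A) (IsLocalRing.ResidueField A) (d + i) h
      exact (homShiftEquiv _ _ d i (d + i) rfl).toEquiv.subsingleton
    · obtain ⟨n, hn⟩ := Int.eq_ofNat_of_zero_le h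
      haveI : Subsingleton (Ext (ModuleCat.of A (A ⧸ Ideal.ofList rs)) (ModuleCat.of A A) n) := by
        rcases lt_or_gt_of_ne (show n ≠ rs.length by simp only [d] at hn; lia) with h' | h'
        · exact KoszulExt.subsingleton_lt_length rs hreg _ hreg n h'
        · exact (KoszulExt.exists_top_and_vanishing rs hreg).1 _ n h'
      exact ((homShiftEquiv _ _ d i (n : ℤ) hn).trans (eE n)).toEquiv.subsingleton
  obtain ⟨e⟩ := (KoszulExt.exists_top_and_vanishing rs hreg).2 (ModuleCat.of A A)
  let eRes : (A ⧸ (Ideal.ofList rs • (⊤ : Submodule A A))) ≃ₗ[A] IsLocalRing.ResidueField A :=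
    Submodule.quotEquivOfEq _ _ (by rw [smul_eq_mul, Ideal.mul_top, hgen])
  have hR : Dual.IsDualizing A R := isDualizing_of_normalized hgood hn
    ((homShiftEquiv _ _ d 0 (rs.length : ℤ) (add_zero d)).trans ((eE rs.length).trans (e.trans eRes)))
  exact ⟨rs.length, hdim, hR, hn⟩

theorem isDualizing_inD_of_regularLocal (A : Type u) [CommRing A] [IsRegularLocalRing A] :
    Dual.IsDualizing A (Dual.inD A A) := by
  obtain ⟨d, -, hR, -⟩ := isDualizing_shift_self_of_regularLocal A
  exact isDualizing_of_iso ((shiftFunctorCompIsoId (Dual.D A) (d : ℤ) (-(d : ℤ)) (add_neg_cancel _)).app _)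
    (isDualizing_shift hR (-(d : ℤ)))

end Groth.L29.HomD
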