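import Groth.Agent.L29.Dual.LocalDualityH
import Groth.Agent.L29.Dual.RegularDual
import Groth.Agent.L04.MatlisEnd
import Groth.Agent.L04.MatlisHull
import Mathlib.RingTheory.AdicCompletion.Functoriality

/-!
Matlis duals of local cohomology.
-/

universe u w

open CategoryTheory IsLocalRing

attribute [local instance] HasDerivedCategory.standard

set_option backward.isDefEq.respectTransparency false

namespace Groth.L29.LocDual

/-- a finite module has a copy in the universe of the ring -/
theorem exists_small {A : Type u} [CommRing A] (N : Type w) [AddCommGroup N] [Module A N]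
    [Module.Finite A N] : ∃ (N₀ : Type u) (_ : AddCommGroup N₀) (_ : Module A N₀),
      Module.Finite A N₀ ∧ Nonempty (N₀ ≃ₗ[A] N) := by
  obtain ⟨n, p, hp⟩ := Module.Finite.exists_fin' A N
  exact ⟨(Fin n → A) ⧸ LinearMap.ker p, inferInstance, inferInstance, inferInstance,
    ⟨p.quotKerEquivOfSurjective hp⟩⟩

variable {A : Type u} [CommRing A] [IsLocalRing A] [IsNoetherianRing A]
variable {E : Type u} [AddCommGroup E] [Module A E] {f : ResidueField A →ₗ[A] E}
  (hf : InjHull.IsInjectiveHull f)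
include hf

theorem annihilator_eq_of_equiv {H : Type u} [AddCommGroup H] [Module A H] {N : Type w}
    [AddCommGroup N] [Module A N] [Module.Finite A N] (e : H ≃ₗ[A] (N →ₗ[A] E)) :
    Module.annihilator A N = Module.annihilator A H := by
  obtain ⟨N₀, _, _, _, ⟨e₀⟩⟩ := exists_small (A := A) N
  rw [← e₀.annihilator_eq, Groth.L04.annihilator_dual_eq hf N₀,
    (e ≪≫ₗ e₀.symm.arrowCongr (LinearEquiv.refl A E)).annihilator_eq]

/-- the bidual of a finite module is its completion -/
theorem exists_completion_equiv_bidual (N : Type u) [AddCommGroup N] [Module A N] [Module.Finite A N] :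
    Nonempty (AdicCompletion (maximalIdeal A) N ≃ₗ[A] ((N →ₗ[A] E) →ₗ[A] E)) := by
  let S : ℕ → Submodule A N := fun k => maximalIdeal A ^ k • ⊤
  have hle : ∀ {k l : ℕ}, k ≤ l → S l ≤ S k := fun h =>
    Submodule.smul_mono_left (Ideal.pow_le_pow_right h)
  have hb : ∀ k, Function.Bijective
      (LinearMap.applyₗ : (N ⧸ S k) →ₗ[A] ((N ⧸ S k) →ₗ[A] E) →ₗ[A] E) := fun k =>
    Groth.L04.applyₗ_bijective_of_isFiniteLength hf (Groth.L04.isFiniteLength_of_finite (N := k)
      fun a ha x => by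
        obtain ⟨x, rfl⟩ := Submodule.Quotient.mk_surjective _ x
        exact (Submodule.Quotient.mk_eq_zero _).2 (Submodule.smul_mem_smul ha trivial))
  -- a form killed by `m^k` factors
  have hfac : ∀ φ : N →ₗ[A] E, ∃ k, ∃ ψ : (N ⧸ S k) →ₗ[A] E, ψ.comp (S k).mkQ = φ := fun φ => by
    obtain ⟨k, hk⟩ := Groth.L04.exists_pow_kills_of_fg (Groth.L04.hull_isPowerTorsion hf)
      (N := LinearMap.range φ) (Module.Finite.iff_fg.1 (Module.Finite.range φ))
    refine ⟨k, (S k).liftQ φ (Submodule.smul_le.2 fun a ha x _ => ?_), Submodule.liftQ_mkQ _ _ _⟩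
    rw [LinearMap.mem_ker, map_smul]
    exact hk _ (LinearMap.mem_range_self φ x) a ha
  have hcompat : ∀ (a : AdicCompletion (maximalIdeal A) N) {k l : ℕ} (h : k ≤ l)
      (ψ : (N ⧸ S k) →ₗ[A] E), ψ.comp (Submodule.factor (hle h)) (a.val l) = ψ (a.val k) :=
    fun a k l h ψ => congrArg ψ (a.2 h)
  let T : AdicCompletion (maximalIdeal A) N → (N →ₗ[A] E) → E := fun a φ =>
    (hfac φ).choose_spec.choose (a.val (hfac φ).choose)
  have hT : ∀ a φ k (ψ : (N ⧸ S k) →ₗ[A] E), ψ.comp (S k).mkQ = φ → T a φ = ψ (a.val k) := by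
    intro a φ k ψ hψ
    let k₀ := (hfac φ).choose
    let ψ₀ := (hfac φ).choose_spec.choose
    have hψ₀ : ψ₀.comp (S k₀).mkQ = φ := (hfac φ).choose_spec.choose_spec
    have h : ψ.comp (Submodule.factor (hle (le_max_left k k₀))) =
        ψ₀.comp (Submodule.factor (hle (le_max_right k k₀))) :=
      Submodule.linearMap_qext _ (LinearMap.ext fun x =>
        (LinearMap.congr_fun hψ x).trans (LinearMap.congr_fun hψ₀ x).symm)
    rw [← hcompat a (le_max_left k k₀), h]
    exact (hcompat a (le_max_right k k₀) ψ₀).symm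
  let L : AdicCompletion (maximalIdeal A) N →ₗ[A] ((N →ₗ[A] E) →ₗ[A] E) :=
    { toFun := fun a =>
        { toFun := T a
          map_add' := fun φ φ' => by
            obtain ⟨k, ψ, hψ⟩ := hfac φ
            obtain ⟨k', ψ', hψ'⟩ := hfac φ'
            rw [hT a φ k ψ hψ, hT a φ' k' ψ' hψ', hT a (φ + φ') (max k k')
              (ψ.comp (Submodule.factor (hle (le_max_left k k'))) +
                ψ'.comp (Submodule.factor (hle (le_max_right k k'))))
              (LinearMap.ext fun x =>
                congrArg₂ (· + ·) (LinearMap.congr_fun hψ x) (LinearMap.congr_fun hψ' x)),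
              LinearMap.add_apply, hcompat a (le_max_left k k'), hcompat a (le_max_right k k')]
          map_smul' := fun r φ => by
            obtain ⟨k, ψ, hψ⟩ := hfac φ
            rw [hT a φ k ψ hψ, hT a (r • φ) k (r • ψ) (by rw [← hψ]; rfl)]
            rfl }
      map_add' := fun a b => LinearMap.ext fun φ => by
        obtain ⟨k, ψ, hψ⟩ := hfac φ
        change T (a + b) φ = T a φ + T b φ
        rw [hT _ φ k ψ hψ, hT a φ k ψ hψ, hT b φ k ψ hψ]
        exact map_add ψ _ _
      map_smul' := fun r a => LinearMap.ext fun φ => by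
        obtain ⟨k, ψ, hψ⟩ := hfac φ
        change T (r • a) φ = r • T a φ
        rw [hT _ φ k ψ hψ, hT a φ k ψ hψ]
        exact map_smul ψ _ _ }
  refine ⟨LinearEquiv.ofBijective L ⟨(injective_iff_map_eq_zero L).2 fun a ha => ?_, fun Φ => ?_⟩⟩
  · refine AdicCompletion.ext fun k => (hb k).1 (LinearMap.ext fun ψ => ?_)
    have h := LinearMap.congr_fun ha (ψ.comp (S k).mkQ)
    change T a _ = 0 at h
    rw [hT a _ k ψ rfl] at h
    change ψ (a.val k) = ψ 0
    rw [h, map_zero]
  · choose v hv using fun k => (hb k).2 (Φ.comp (LinearMap.lcomp A E (S k).mkQ))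
    refine ⟨⟨v, fun {k l} h => (hb k).1 (LinearMap.ext fun ψ => ?_)⟩, LinearMap.ext fun φ => ?_⟩
    · refine (LinearMap.congr_fun (hv l) (ψ.comp (Submodule.factor (hle h)))).trans ?_
      exact (LinearMap.congr_fun (hv k) ψ).symm
    · obtain ⟨k, ψ, rfl⟩ := hfac φ
      change T _ _ = _
      rw [hT _ _ k ψ rfl]
      exact LinearMap.congr_fun (hv k) ψ

omit hf in
/-- the dual of local cohomology is the completion -/
theorem nonempty_completion_equiv {ω : Dual.D A} (hω : Dual.IsDualizing A ω)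
    (hn : Dual.IsNormalized A ω) (f : ResidueField A →ₗ[A] E) (hf : InjHull.IsInjectiveHull f)
    (M : Type u) [AddCommGroup M] [Module A M] [Module.Finite A M] (i : ℕ) :
    Nonempty (AdicCompletion (maximalIdeal A) (Dual.inD A M ⟶ ω⟦(-(i : ℤ))⟧) ≃ₗ[A]
      (LocCoh.H (maximalIdeal A) i M →ₗ[A] E)) := by
  haveI := HomD.finite_hom ω (HomD.good_of_isDualizing hω) M (-(i : ℤ))
  obtain ⟨N₀, _, _, _, ⟨e₀⟩⟩ := exists_small (A := A) (Dual.inD A M ⟶ ω⟦(-(i : ℤ))⟧)
  obtain ⟨e⟩ := nonempty_H_equiv hω hn f hf M i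
  obtain ⟨c⟩ := exists_completion_equiv_bidual hf N₀
  exact ⟨(AdicCompletion.congr _ e₀.symm).restrictScalars A ≪≫ₗ c ≪≫ₗ
    (e ≪≫ₗ e₀.symm.arrowCongr (LinearEquiv.refl A E)).symm.arrowCongr (LinearEquiv.refl A E)⟩

end Groth.L29.LocDual
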