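import Groth.Agent.L29.Dual.InjRep
import Mathlib.Algebra.Homology.HomologicalComplexAbelian
import Mathlib.RingTheory.Length

/-!
Biduality for finite modules: the covariant functors `M ↦ Hom_{D(A)}(Hom(M, I), I[l])`.
-/

universe u

open CategoryTheory CategoryTheory.Limits CategoryTheory.Pretriangulated Opposite

attribute [local instance] HasDerivedCategory.standard

set_option backward.isDefEq.respectTransparency false

namespace Groth.L29.HomD

variable {A : Type u} [CommRing A] (I : DRing.Cx A)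

/-- the bidual in degree `l` -/
abbrev G (M : ModuleCat.{u} A) (l : ℤ) : Type (u + 1) :=
  DRing.toD (HM I M) ⟶ (DRing.toD I)⟦l⟧

/-- functoriality -/
noncomputable def gmap {M N : ModuleCat.{u} A} (f : M ⟶ N) (l : ℤ) : G I M l →ₗ[A] G I N l :=
  Linear.leftComp A _ (DerivedCategory.Q.map (HMmap I f))

lemma gmap_apply {M N : ModuleCat.{u} A} (f : M ⟶ N) (l : ℤ) (φ : G I M l) :
    gmap I f l φ = DerivedCategory.Q.map (HMmap I f) ≫ φ := rfl

lemma HMmap_id (M : ModuleCat.{u} A) : HMmap I (𝟙 M) = 𝟙 _ := by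
  ext n : 1
  exact ModuleCat.hom_ext (LinearMap.ext fun (φ : M ⟶ I.X n) => Category.id_comp φ)

lemma HMmap_comp {M N P : ModuleCat.{u} A} (f : M ⟶ N) (g : N ⟶ P) :
    HMmap I (f ≫ g) = HMmap I g ≫ HMmap I f := by
  ext n : 1
  exact ModuleCat.hom_ext (LinearMap.ext fun (φ : P ⟶ I.X n) => Category.assoc f g φ)

lemma HMmap_add {M N : ModuleCat.{u} A} (f g : M ⟶ N) :
    HMmap I (f + g) = HMmap I f + HMmap I g := by
  ext n : 1
  exact ModuleCat.hom_ext (LinearMap.ext fun (φ : N ⟶ I.X n) => Preadditive.add_comp _ _ _ f g φ)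

lemma HMmap_zero {M N : ModuleCat.{u} A} : HMmap I (0 : M ⟶ N) = 0 := by
  have h := HMmap_add I (0 : M ⟶ N) 0
  rw [add_zero] at h
  exact left_eq_add.1 h

/-- the bidual as an additive function of the morphism -/
noncomputable def gmapHom (M N : ModuleCat.{u} A) (l : ℤ) (φ : G I M l) : (M ⟶ N) →+ G I N l where
  toFun f := gmap I f l φ
  map_zero' := by rw [gmap_apply, HMmap_zero, Functor.map_zero, zero_comp]
  map_add' f g := by
    rw [gmap_apply, gmap_apply, gmap_apply, HMmap_add, Functor.map_add, Preadditive.add_comp]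

lemma gmap_id (M : ModuleCat.{u} A) (l : ℤ) (φ : G I M l) : gmap I (𝟙 M) l φ = φ := by
  rw [gmap_apply, HMmap_id, CategoryTheory.Functor.map_id, Category.id_comp]

lemma gmap_comp {M N P : ModuleCat.{u} A} (f : M ⟶ N) (g : N ⟶ P) (l : ℤ) (φ : G I M l) :
    gmap I (f ≫ g) l φ = gmap I g l (gmap I f l φ) := by
  rw [gmap_apply, gmap_apply, gmap_apply, HMmap_comp, Functor.map_comp, Category.assoc]

/-- evaluation `Hom(M, I) ⟶ I` at an element -/
noncomputable def evHom (M : ModuleCat.{u} A) (m : M) : HM I M ⟶ I where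
  f n := ModuleCat.ofHom
    { toFun := fun φ : M ⟶ I.X n => φ.hom m
      map_add' := fun _ _ => rfl
      map_smul' := fun _ _ => rfl }
  comm' i j _ := ModuleCat.hom_ext (LinearMap.ext fun _ => rfl)

/-- the biduality map -/
noncomputable def theta (M : ModuleCat.{u} A) : M →ₗ[A] G I M 0 where
  toFun m := DerivedCategory.Q.map (evHom I M m) ≫ (shiftFunctorZero (Dual.D A) ℤ).inv.app _
  map_add' m m' := by
    rw [← Preadditive.add_comp, ← Functor.map_add]
    congr 2
    ext n : 1
    exact ModuleCat.hom_ext (LinearMap.ext fun φ : M ⟶ I.X n => map_add φ.hom m m')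
  map_smul' a m := by
    rw [RingHom.id_apply, ← Linear.smul_comp, ← Functor.map_smul]
    congr 2
    ext n : 1
    exact ModuleCat.hom_ext (LinearMap.ext fun φ : M ⟶ I.X n => map_smul φ.hom a m)

lemma theta_natural {M N : ModuleCat.{u} A} (f : M ⟶ N) (m : M) :
    gmap I f 0 (theta I M m) = theta I N (f m) := by
  change DerivedCategory.Q.map (HMmap I f) ≫ DerivedCategory.Q.map (evHom I M m) ≫ _ =
    DerivedCategory.Q.map (evHom I N (f m)) ≫ _
  rw [← Functor.map_comp_assoc]
  rfl

/-- `Hom(A, I) ≅ I` -/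
noncomputable def ringIso : HM I (ModuleCat.of A A) ≅ I :=
  HomologicalComplex.Hom.isoOfComponents
    (fun n => ((ModuleCat.homLinearEquiv (S := A)).trans
      (LinearMap.ringLmapEquivSelf A A (I.X n))).toModuleIso)
    (fun i j _ => ModuleCat.hom_ext (LinearMap.ext fun _ => rfl))

lemma theta_ring (a : A) :
    theta I (ModuleCat.of A A) a = DerivedCategory.Q.map (ringIso I).hom ≫
      (a • 𝟙 (DRing.toD I)) ≫ (shiftFunctorZero (Dual.D A) ℤ).inv.app _ := by
  change DerivedCategory.Q.map (evHom I (ModuleCat.of A A) a) ≫ _ = _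
  rw [← Category.assoc, Linear.comp_smul, Category.comp_id, ← Functor.map_smul]
  congr 2
  ext n : 1
  refine ModuleCat.hom_ext (LinearMap.ext fun φ : ModuleCat.of A A ⟶ I.X n => ?_)
  change φ.hom a = a • φ.hom (1 : A)
  rw [← map_smul, smul_eq_mul, mul_one]

section SES

variable [∀ n, Injective (I.X n)] (S : ShortComplex (ModuleCat.{u} A))

/-- `Hom(-, I)` of a short complex -/
noncomputable def HMsc : ShortComplex (DRing.Cx A) :=
  ShortComplex.mk (HMmap I S.g) (HMmap I S.f) (by rw [← HMmap_comp, S.zero, HMmap_zero])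

lemma HMsc_shortExact (hS : S.ShortExact) : (HMsc I S).ShortExact := by
  refine HomologicalComplex.shortExact_of_degreewise_shortExact _ fun n => ?_
  haveI := hS.mono_f
  haveI := hS.epi_g
  exact
    { exact := by
        rw [ShortComplex.moduleCat_exact_iff]
        intro (φ : S.X₂ ⟶ I.X n) (hφ : S.f ≫ φ = 0)
        exact ⟨hS.exact.desc φ hφ, hS.exact.g_desc φ hφ⟩
      mono_f := (ModuleCat.mono_iff_injective _).2 fun (φ ψ : S.X₃ ⟶ I.X n) h => (cancel_epi S.g).1 h
      epi_g := (ModuleCat.epi_iff_surjective _).2 fun (φ : S.X₁ ⟶ I.X n) =>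
        ⟨Injective.factorThru φ S.f, Injective.comp_factorThru φ S.f⟩ }

variable {S} (hS : S.ShortExact) (l : ℤ)
include hS

lemma gexact_mid : Function.Exact (gmap I S.f l) (gmap I S.g l) := by
  intro φ
  constructor
  · intro h
    obtain ⟨ψ, hψ⟩ := Triangle.yoneda_exact₂ _
      (DerivedCategory.triangleOfSES_distinguished (HMsc_shortExact I S hS)) φ h
    exact ⟨ψ, hψ.symm⟩
  · rintro ⟨ψ, rfl⟩
    rw [← gmap_comp, S.zero]
    exact (gmapHom I _ _ l ψ).map_zero

lemma surjective_of_next (h : ∀ ψ : G I S.X₁ (l + 1), gmap I S.f (l + 1) ψ = 0 → ψ = 0) :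
    Function.Surjective (gmap I S.g l) := by
  intro φ
  let T := DerivedCategory.triangleOfSES (HMsc_shortExact I S hS)
  have hT : T ∈ distTriang _ :=
    DerivedCategory.triangleOfSES_distinguished (HMsc_shortExact I S hS)
  let ψ : G I S.X₁ (l + 1) := T.mor₃ ≫ (shiftFunctor (Dual.D A) (1 : ℤ)).map φ ≫
    (shiftFunctorAdd' (Dual.D A) l 1 (l + 1) rfl).inv.app _
  have hψ : gmap I S.f (l + 1) ψ = 0 :=
    (Category.assoc _ _ _).symm.trans
      ((congrArg (· ≫ _) (comp_distTriang_mor_zero₂₃ _ hT)).trans zero_comp)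
  have h' : T.mor₃ ≫ (shiftFunctor (Dual.D A) (1 : ℤ)).map φ = 0 := by
    rw [← cancel_mono ((shiftFunctorAdd' (Dual.D A) l 1 (l + 1) rfl).inv.app _), zero_comp,
      Category.assoc]
    exact h ψ hψ
  obtain ⟨χ, hχ⟩ := Triangle.yoneda_exact₂ _ (rot_of_distTriang _ (rot_of_distTriang _ hT)) _ h'
  obtain ⟨χ, rfl⟩ := (shiftFunctor (Dual.D A) (1 : ℤ)).map_surjective χ
  refine ⟨-χ, (shiftFunctor (Dual.D A) (1 : ℤ)).map_injective ?_⟩
  rw [gmap_apply, Functor.map_comp, Functor.map_neg, hχ, Preadditive.comp_neg]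
  exact (Preadditive.neg_comp _ _).symm

end SES

section Main

variable [I.IsKInjective] (a b : ℤ)
  (hab : ∀ (M : Type u) [AddCommGroup M] [Module A M] (i : ℤ),
    (i < a ∨ b < i) → Subsingleton (Dual.inD A M ⟶ (DRing.toD I)⟦i⟧))

include hab

lemma isGE_HM (M : ModuleCat.{u} A) : DerivedCategory.IsGE (DRing.toD (HM I M)) a :=
  (DerivedCategory.isGE_iff _ a).2 fun i hi =>
    haveI := hab M i (Or.inl hi)
    haveI := (homologyEquiv M I i).toEquiv.subsingleton
    ModuleCat.isZero_of_subsingleton _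

lemma isLE_HM (M : ModuleCat.{u} A) : DerivedCategory.IsLE (DRing.toD (HM I M)) b :=
  (DerivedCategory.isLE_iff _ b).2 fun i hi =>
    haveI := hab M i (Or.inr hi)
    haveI := (homologyEquiv M I i).toEquiv.subsingleton
    ModuleCat.isZero_of_subsingleton _

lemma subsingleton_G_of_large (M : ModuleCat.{u} A) (l : ℤ) (hl : b - a < l) :
    Subsingleton (G I M l) := by
  haveI := isGE_HM I a b hab M
  haveI := isLE_HM I a b hab M
  refine bounded_induction (fun Y => Subsingleton (Y ⟶ (DRing.toD I)⟦l⟧)) ?_ ?_ ?_ _ a b ?_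
  · intro X Y e hX
    haveI := hX
    exact ((Linear.homCongr A e (Iso.refl _)).symm.toEquiv).subsingleton
  · intro T hT h1 h3
    exact subsingleton_of_triangle T hT _ h1 h3
  · intro X hX
    exact ⟨fun p q => hX.eq_of_src p q⟩
  · intro n hn _
    haveI := hab ((DerivedCategory.homologyFunctor (ModuleCat.{u} A) n).obj (DRing.toD (HM I M)))
      (l + n) (Or.inr (by lia))
    exact (singleHomEquiv _ _ n l).toEquiv.subsingleton

omit [I.IsKInjective] hab in
/-- the projections decompose the identity -/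
lemma sum_proj_single (n : ℕ) :
    (∑ j, ModuleCat.ofHom (LinearMap.proj j : (Fin n → A) →ₗ[A] A) ≫
      ModuleCat.ofHom (LinearMap.single A (fun _ : Fin n => A) j)) =
      𝟙 (ModuleCat.of A (Fin n → A)) := by
  refine ModuleCat.hom_ext (LinearMap.ext fun x => ?_)
  simp [ModuleCat.hom_sum, Finset.univ_sum_single]

variable [IsNoetherianRing A] [∀ n, Injective (I.X n)]
  (hbij : Function.Bijective (fun x : A => x • 𝟙 (DRing.toD I)))
  (hself : ∀ i : ℤ, i ≠ 0 → Subsingleton (DRing.toD I ⟶ (DRing.toD I)⟦i⟧))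

include hbij hself

omit hab in
lemma theta_free_bijective (n : ℕ) : Function.Bijective (theta I (ModuleCat.of A (Fin n → A))) := by
  have hA : Function.Bijective (theta I (ModuleCat.of A A)) := by
    let es := (shiftFunctorZero (Dual.D A) ℤ).app (DRing.toD I)
    let e := (Linear.homCongr A ((DerivedCategory.Q.mapIso (ringIso I)).symm) es.symm)
    have : (theta I (ModuleCat.of A A) : A → _) = e ∘ fun x : A => x • 𝟙 (DRing.toD I) := by
      funext x
      rw [theta_ring]
      simp [e, es, Linear.homCongr]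
      rfl
    exact this ▸ e.bijective.comp hbij
  let p := fun j => ModuleCat.ofHom (LinearMap.proj j : (Fin n → A) →ₗ[A] A)
  let s := fun j => ModuleCat.ofHom (LinearMap.single A (fun _ : Fin n => A) j)
  constructor
  · intro x y h
    funext j
    refine hA.1 ?_
    have := congrArg (gmap I (p j) 0) h
    rwa [theta_natural, theta_natural] at this
  · intro φ
    choose x hx using fun j => hA.2 (gmap I (p j) 0 φ)
    refine ⟨∑ j, s j (x j), ?_⟩
    rw [map_sum]
    calc ∑ j, theta I _ (s j (x j)) = ∑ j, gmapHom I _ _ 0 φ (p j ≫ s j) := by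
          refine Finset.sum_congr rfl fun j _ => ?_
          rw [← theta_natural, hx]
          exact (gmap_comp I _ _ _ _).symm
      _ = φ := by rw [← map_sum, sum_proj_single]; exact gmap_id I _ _ _

omit hab hbij in
lemma subsingleton_G_free (n : ℕ) (l : ℤ) (hl : l ≠ 0) :
    Subsingleton (G I (ModuleCat.of A (Fin n → A)) l) := by
  haveI := hself l hl
  haveI : Subsingleton (G I (ModuleCat.of A A) l) :=
    (Linear.homCongr A ((DerivedCategory.Q.mapIso (ringIso I)).symm) (Iso.refl _)).symm.toEquiv.subsingleton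
  refine subsingleton_of_forall_eq 0 fun φ => ?_
  calc φ = gmapHom I _ _ l φ (∑ j, ModuleCat.ofHom (LinearMap.proj j : (Fin n → A) →ₗ[A] A) ≫
        ModuleCat.ofHom (LinearMap.single A (fun _ : Fin n => A) j)) := by
          rw [sum_proj_single]; exact (gmap_id I _ _ _).symm
    _ = 0 := by
      rw [map_sum]
      refine Finset.sum_eq_zero fun j _ => ?_
      change gmap I _ l φ = 0
      rw [gmap_comp, Subsingleton.elim (gmap I _ l φ) 0, map_zero]

/-- biduality for finite modules -/
theorem biduality : ∀ (l : ℤ) (M : ModuleCat.{u} A), Module.Finite A M →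
    (l ≠ 0 → Subsingleton (G I M l)) ∧ (l = 0 → Function.Bijective (theta I M)) := by
  -- a presentation
  have pres : ∀ M : ModuleCat.{u} A, Module.Finite A M → ∃ (n : ℕ) (S : ShortComplex (ModuleCat.{u} A)),
      S.ShortExact ∧ Module.Finite A S.X₁ ∧ S.X₂ = ModuleCat.of A (Fin n → A) ∧ S.X₃ = M := by
    intro M hM
    obtain ⟨n, g, hg⟩ := Module.Finite.exists_fin' A M
    exact ⟨n, sc (LinearMap.ker g).subtype g g.exact_subtype_ker_map,
      sc_shortExact _ _ Subtype.val_injective hg _,
      Module.Finite.iff_fg.2 (IsNoetherian.noetherian _), rfl, rfl⟩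
  -- positive degrees
  have pos : ∀ (k : ℕ) (l : ℤ), 0 < l → b - a < l + k → ∀ (M : ModuleCat.{u} A), Module.Finite A M →
      Subsingleton (G I M l) := by
    intro k
    induction k with
    | zero => intro l _ hl M _; exact subsingleton_G_of_large I a b hab M l (by simpa using hl)
    | succ k ih =>
      intro l hl0 hl M hM
      obtain ⟨n, S, hS, h1, h2, rfl⟩ := pres M hM
      haveI : Subsingleton (G I S.X₂ l) := by
        rw [h2]; exact subsingleton_G_free I hself n l (by lia)
      haveI := ih (l + 1) (by lia) (by lia) S.X₁ h1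
      exact (surjective_of_next I hS l fun ψ _ => Subsingleton.elim ψ 0).subsingleton
  have pos' : ∀ (l : ℤ), 0 < l → ∀ (M : ModuleCat.{u} A), Module.Finite A M → Subsingleton (G I M l) :=
    fun l hl => pos (b - a + 1 - l).toNat l hl (by lia)
  -- degree zero
  have zero_surj : ∀ (M : ModuleCat.{u} A), Module.Finite A M → Function.Surjective (theta I M) := by
    intro M hM
    obtain ⟨n, S, hS, h1, h2, rfl⟩ := pres M hM
    haveI := pos' 1 one_pos S.X₁ h1
    have hsurj := surjective_of_next I hS 0 fun ψ _ => Subsingleton.elim (α := G I S.X₁ 1) ψ 0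
    intro φ
    obtain ⟨χ, rfl⟩ := hsurj φ
    have hb : Function.Surjective (theta I S.X₂) := by
      rw [h2]; exact (theta_free_bijective I hbij hself n).2
    obtain ⟨x, rfl⟩ := hb χ
    exact ⟨S.g x, (theta_natural I _ _).symm⟩
  have zero_inj : ∀ (M : ModuleCat.{u} A), Module.Finite A M → Function.Injective (theta I M) := by
    intro M hM
    obtain ⟨n, S, hS, h1, h2, rfl⟩ := pres M hM
    rw [injective_iff_map_eq_zero]
    intro m hm
    haveI := hS.epi_g
    obtain ⟨x, rfl⟩ := (ModuleCat.epi_iff_surjective S.g).1 inferInstance m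
    rw [← theta_natural] at hm
    obtain ⟨ψ, hψ⟩ := (gexact_mid I hS 0 _).1 hm
    obtain ⟨y, rfl⟩ := zero_surj S.X₁ h1 ψ
    rw [theta_natural] at hψ
    have hb : Function.Injective (theta I S.X₂) := by
      rw [h2]; exact (theta_free_bijective I hbij hself n).1
    rw [← hb hψ, ← ModuleCat.comp_apply, S.zero]
    rfl
  have neg : ∀ (k : ℕ) (M : ModuleCat.{u} A), Module.Finite A M →
      Subsingleton (G I M (-((k : ℤ) + 1))) := by
    intro k
    induction k with
    | zero =>
      intro M hM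
      obtain ⟨n, S, hS, h1, h2, rfl⟩ := pres M hM
      haveI : Subsingleton (G I S.X₂ (-((0 : ℕ) + 1 : ℤ))) := by
        rw [h2]; exact subsingleton_G_free I hself n _ (by simp)
      refine (surjective_of_next I hS _ ?_).subsingleton
      rw [show (-(((0 : ℕ) : ℤ) + 1)) + 1 = (0 : ℤ) by simp]
      intro ψ hψ
      obtain ⟨y, rfl⟩ := zero_surj S.X₁ h1 ψ
      rw [theta_natural] at hψ
      haveI := hS.mono_f
      have hy : S.f y = 0 := by
        have hb : Function.Injective (theta I S.X₂) := by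
          rw [h2]; exact (theta_free_bijective I hbij hself n).1
        exact hb (hψ.trans (map_zero _).symm)
      rw [(ModuleCat.mono_iff_injective S.f).1 inferInstance (hy.trans (map_zero S.f.hom).symm), map_zero]
    | succ k ih =>
      intro M hM
      obtain ⟨n, S, hS, h1, h2, rfl⟩ := pres M hM
      haveI : Subsingleton (G I S.X₂ (-(((k + 1 : ℕ) : ℤ) + 1))) := by
        rw [h2]; exact subsingleton_G_free I hself n _ (by lia)
      refine (surjective_of_next I hS _ ?_).subsingleton
      rw [show (-(((k + 1 : ℕ) : ℤ) + 1)) + 1 = -((k : ℤ) + 1) by push_cast; ring]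
      exact fun ψ _ => (ih S.X₁ h1).elim ψ 0
  intro l M hM
  refine ⟨fun hl => ?_, fun _ => ⟨zero_inj M hM, zero_surj M hM⟩⟩
  rcases lt_or_gt_of_ne hl with h | h
  · obtain ⟨k, rfl⟩ : ∃ k : ℕ, l = -((k : ℤ) + 1) := ⟨(-l - 1).toNat, by lia⟩
    exact neg k M hM
  · exact pos' l h M hM

end Main

end Groth.L29.HomD
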