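import Groth.Agent.L29.Dual.Bounds
import Groth.Prelude.Def_DRing2
import Mathlib.Algebra.Homology.HomotopyCategory.KInjective
import Mathlib.Algebra.Homology.DerivedCategory.KInjective
import Mathlib.Algebra.Category.ModuleCat.Injective

/-!
Dévissage of `Hom_{D(A)}(K, W[i])` along truncations of `K`.
-/

universe u

open CategoryTheory CategoryTheory.Limits CategoryTheory.Pretriangulated

attribute [local instance] HasDerivedCategory.standard

set_option backward.isDefEq.respectTransparency false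

namespace Groth.L29.HomD

variable {A : Type u} [CommRing A]

local notation "tt" => DerivedCategory.TStructure.t

/-- induction on the amplitude -/
theorem bounded_induction (P : Dual.D A → Prop) (hiso : ∀ {X Y : Dual.D A}, (X ≅ Y) → P X → P Y)
    (hext : ∀ T ∈ distTriang (Dual.D A), P T.obj₁ → P T.obj₃ → P T.obj₂)
    (hzero : ∀ X : Dual.D A, IsZero X → P X)
    (X : Dual.D A) (a b : ℤ) [X.IsGE a] [X.IsLE b]
    (hsingle : ∀ n, a ≤ n → n ≤ b → P ((DerivedCategory.singleFunctor (ModuleCat.{u} A) n).obj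
      ((DerivedCategory.homologyFunctor (ModuleCat.{u} A) n).obj X))) : P X := by
  obtain ⟨k, hk⟩ : ∃ k : ℕ, b < a + k := ⟨(b + 1 - a).toNat, by lia⟩
  induction k generalizing X a with
  | zero =>
    have : (tt).IsLE X b := inferInstance
    have : (tt).IsGE X (b + 1) := (tt).isGE_of_ge X (b + 1) a (by lia)
    exact hzero X ((tt).isZero X b (b + 1) (by lia))
  | succ k ih =>
    refine hext _ ((tt).triangleLTGE_distinguished (a + 1) X) ?_ ?_
    · let R := ((tt).truncLT (a + 1)).obj X
      haveI : DerivedCategory.IsLE R a := inferInstanceAs ((tt).IsLE (((tt).truncLT (a + 1)).obj X) a)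
      haveI : DerivedCategory.IsGE R a := by
        rw [DerivedCategory.isGE_iff]
        intro i hi
        have := Groth.L10.isIso_H_ι (A := ModuleCat.{u} A) (a + 1) i (by lia) X
        exact (DerivedCategory.isZero_of_isGE X a i hi).of_iso
          (asIso ((DerivedCategory.homologyFunctor _ i).map (((tt).truncLTι (a + 1)).app X)))
      haveI := Groth.L10.isIso_H_ι (A := ModuleCat.{u} A) (a + 1) a (by lia) X
      obtain ⟨eR⟩ := Groth.L10.exists_iso_single_H (A := ModuleCat.{u} A) R a
      by_cases hab : a ≤ b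
      · exact hiso ((DerivedCategory.singleFunctor _ a).mapIso
          (asIso ((DerivedCategory.homologyFunctor _ a).map (((tt).truncLTι (a + 1)).app X))).symm ≪≫
            eR.symm) (hsingle a le_rfl hab)
      · refine hzero R ((IsZero.of_iso ?_ eR))
        exact ((DerivedCategory.singleFunctor _ a).map_isZero
          ((DerivedCategory.isZero_of_isLE X b a (by lia)).of_iso
            (asIso ((DerivedCategory.homologyFunctor _ a).map (((tt).truncLTι (a + 1)).app X)))))
    · let Y := ((tt).truncGE (a + 1)).obj X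
      haveI : DerivedCategory.IsGE Y (a + 1) := inferInstance
      haveI : DerivedCategory.IsLE Y b := inferInstanceAs ((tt).IsLE (((tt).truncGE (a + 1)).obj X) b)
      refine @ih Y (a + 1) _ _ (fun n h1 h2 => ?_) (by lia)
      have := Groth.L10.isIso_H_π (A := ModuleCat.{u} A) (a + 1) n h1 X
      exact hiso ((DerivedCategory.singleFunctor _ n).mapIso
        (asIso ((DerivedCategory.homologyFunctor _ n).map (((tt).truncGEπ (a + 1)).app X))))
          (hsingle n (by lia) h2)

/-- shifting both sides -/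
noncomputable def shiftHom (X W : Dual.D A) (i n : ℤ) :
    (X ⟶ W⟦i⟧) →ₗ[A] (X⟦n⟧ ⟶ W⟦i + n⟧) where
  toFun φ := φ⟦n⟧' ≫ (shiftFunctorAdd' (Dual.D A) i n (i + n) rfl).inv.app W
  map_add' φ ψ := by simp [Functor.map_add, Preadditive.add_comp]
  map_smul' a φ := by simp [Functor.map_smul, Linear.smul_comp]

lemma shiftHom_bijective (X W : Dual.D A) (i n : ℤ) : Function.Bijective (shiftHom X W i n) := by
  constructor
  · intro φ ψ h
    refine (shiftFunctor (Dual.D A) n).map_injective ?_
    exact (cancel_mono ((shiftFunctorAdd' (Dual.D A) i n (i + n) rfl).inv.app W)).1 h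
  · intro χ
    obtain ⟨φ, hφ⟩ := (shiftFunctor (Dual.D A) n).map_surjective
      (χ ≫ (shiftFunctorAdd' (Dual.D A) i n (i + n) rfl).hom.app W)
    refine ⟨φ, ?_⟩
    change φ⟦n⟧' ≫ _ = χ
    rw [hφ, Category.assoc, Iso.hom_inv_id_app]
    exact Category.comp_id _

/-- a module placed in degree `n` -/
noncomputable def singleHomEquiv (W : Dual.D A) (M : ModuleCat.{u} A) (n i : ℤ) :
    ((DerivedCategory.singleFunctor (ModuleCat.{u} A) n).obj M ⟶ W⟦i⟧) ≃ₗ[A]
      (Dual.inD A M ⟶ W⟦i + n⟧) :=
  (LinearEquiv.ofBijective _ (shiftHom_bijective _ W i n)).trans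
    (Linear.homCongr A (((DerivedCategory.singleFunctors (ModuleCat.{u} A)).shiftIso n 0 n
      (by simp)).app M) (Iso.refl _))

/-- finiteness along a triangle -/
lemma finite_of_triangle [IsNoetherianRing A] (T : Triangle (Dual.D A)) (hT : T ∈ distTriang _)
    (Z : Dual.D A) (h1 : Module.Finite A (T.obj₁ ⟶ Z)) (h3 : Module.Finite A (T.obj₃ ⟶ Z)) :
    Module.Finite A (T.obj₂ ⟶ Z) := by
  have : IsNoetherian A (T.obj₂ ⟶ Z) := by
    refine isNoetherian_of_range_eq_ker (Linear.leftComp A Z T.mor₂) (Linear.leftComp A Z T.mor₁) ?_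
    refine (LinearMap.exact_iff.1 fun φ => ⟨fun h => ?_, ?_⟩).symm
    · obtain ⟨ψ, hψ⟩ := Triangle.yoneda_exact₂ _ hT φ h
      exact ⟨ψ, hψ.symm⟩
    · rintro ⟨ψ, rfl⟩
      exact ((Category.assoc _ _ _).symm.trans
        ((congrArg (· ≫ ψ) (comp_distTriang_mor_zero₁₂ _ hT)).trans zero_comp))
  infer_instance

lemma subsingleton_of_triangle (T : Triangle (Dual.D A)) (hT : T ∈ distTriang _)
    (Z : Dual.D A) (h1 : Subsingleton (T.obj₁ ⟶ Z)) (h3 : Subsingleton (T.obj₃ ⟶ Z)) :
    Subsingleton (T.obj₂ ⟶ Z) := by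
  refine subsingleton_of_forall_eq 0 fun φ => ?_
  obtain ⟨ψ, rfl⟩ := Triangle.yoneda_exact₂ _ hT φ (h1.elim _ _)
  rw [h3.elim ψ 0, comp_zero]

/-- maps into a shift of a complex with injective terms in a bounded range vanish away from it -/
lemma subsingleton_of_separated (I : DRing.Cx A) (a b : ℤ) (hI : DRing.VanishesOutside I a b)
    (hinj : DRing.TermwiseInjective I) (X : Dual.D A) (i : ℤ)
    (h : (∃ n, X.IsLE n ∧ n + i < a) ∨ (∃ n, X.IsGE n ∧ b < n + i)) :
    Subsingleton (X ⟶ (DRing.toD I)⟦i⟧) := by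
  haveI : CochainComplex.IsStrictlyGE I a :=
    (CochainComplex.isStrictlyGE_iff I a).2 fun j hj => hI j (Or.inl hj)
  haveI : ∀ n, Injective (I.X n) := fun n =>
    haveI := hinj n
    Module.injective_object_of_injective_module A (I.X n)
  haveI : CochainComplex.IsKInjective I := CochainComplex.isKInjective_of_injective I a
  haveI : CochainComplex.IsKInjective (I⟦i⟧) := inferInstance
  obtain ⟨L, ⟨e⟩, hL⟩ : ∃ L : DRing.Cx A, Nonempty (X ≅ DRing.toD L) ∧
      ∀ j, IsZero (L.X j) ∨ IsZero ((I⟦i⟧).X j) := by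
    rcases h with ⟨n, hX, hn⟩ | ⟨n, hX, hn⟩
    · obtain ⟨L, hL, e⟩ := DerivedCategory.exists_iso_Q_obj_of_isLE X n
      refine ⟨L, e, fun j => ?_⟩
      by_cases hj : n < j
      · exact Or.inl (L.isZero_of_isStrictlyLE n j hj)
      · exact Or.inr (hI (j + i) (Or.inl (by lia)))
    · obtain ⟨L, hL, e⟩ := DerivedCategory.exists_iso_Q_obj_of_isGE X n
      refine ⟨L, e, fun j => ?_⟩
      by_cases hj : j < n
      · exact Or.inl (L.isZero_of_isStrictlyGE n j hj)
      · exact Or.inr (hI (j + i) (Or.inr (by lia)))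
  refine subsingleton_of_forall_eq 0 fun φ => ?_
  let es := ((DerivedCategory.Q (C := ModuleCat.{u} A)).commShiftIso i).app I
  let ψ : DRing.toD L ⟶ DRing.toD (I⟦i⟧) := e.inv ≫ φ ≫ es.inv
  obtain ⟨χ, hχ⟩ := (CochainComplex.IsKInjective.Qh_map_bijective
    ((HomotopyCategory.quotient _ _).obj L) (I⟦i⟧)).2
      ((DerivedCategory.quotientCompQhIso _).hom.app L ≫ ψ ≫
        (DerivedCategory.quotientCompQhIso _).inv.app _)
  obtain ⟨c, rfl⟩ := (HomotopyCategory.quotient _ _).map_surjective χ
  have hc : c = 0 := by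
    ext j : 1
    rcases hL j with hj | hj
    · exact hj.eq_of_src _ _
    · exact hj.eq_of_tgt _ _
  rw [hc, Functor.map_zero, Functor.map_zero] at hχ
  calc φ = e.hom ≫ ((DerivedCategory.quotientCompQhIso _).inv.app L ≫
        ((DerivedCategory.quotientCompQhIso _).hom.app L ≫ ψ ≫
          (DerivedCategory.quotientCompQhIso _).inv.app _) ≫
        (DerivedCategory.quotientCompQhIso _).hom.app _) ≫ es.hom := by simp [ψ]
    _ = 0 := by rw [← hχ]; simp

end Groth.L29.HomD
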