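import Groth.Agent.L29.Dual.InjRep
import Groth.Agent.L04.InjNoeth

/-!
The torsion part of a complex of injectives whose finite torsion duals sit in degree zero.
-/

universe u

open CategoryTheory CategoryTheory.Limits

attribute [local instance] HasDerivedCategory.standard

set_option backward.isDefEq.respectTransparency false

namespace Groth.L29.HomD

open Groth.L04

variable {A : Type u} [CommRing A] (J : Ideal A) (I : DRing.Cx A)

/-- the hypothesis: finite torsion modules only see degree zero -/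
def Concentrated : Prop :=
  ∀ (M : ModuleCat.{u} A) (k : ℕ), Module.Finite A M → (∀ a ∈ J ^ k, ∀ x : M, a • x = 0) →
    ∀ n : ℤ, n ≠ 0 → Subsingleton (Dual.inD A M ⟶ (DRing.toD I)⟦n⟧)

/-- torsion cocycles -/
def Zs (n : ℤ) : Submodule A (I.X n) := powTorsion J (I.X n) ⊓ LinearMap.ker (I.d n (n + 1)).hom

/-- torsion coboundaries -/
def Bs (n : ℤ) : Submodule A (I.X n) := (powTorsion J (I.X (n - 1))).map (I.d (n - 1) n).hom

variable {J I}

lemma mem_Zs {n : ℤ} {x : I.X n} :
    x ∈ Zs J I n ↔ (∃ k, ∀ a ∈ J ^ k, a • x = 0) ∧ (I.d n (n + 1)).hom x = 0 :=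
  Submodule.mem_inf.trans (and_congr mem_powTorsion LinearMap.mem_ker)

lemma Bs_le_Zs (n : ℤ) : Bs J I n ≤ Zs J I n := by
  rintro _ ⟨y, hy, rfl⟩
  obtain ⟨k, hk⟩ := mem_powTorsion.1 hy
  refine mem_Zs.2 ⟨⟨k, fun a ha => by rw [← map_smul, hk a ha, map_zero]⟩, ?_⟩
  exact LinearMap.congr_fun (congrArg ModuleCat.Hom.hom (I.d_comp_d (n - 1) n (n + 1))) y

section Lift

variable [I.IsKInjective]

/-- cocycles on finite torsion modules are coboundaries outside degree zero -/
lemma exists_lift (hc : Concentrated J I) (M : ModuleCat.{u} A) (k : ℕ) [Module.Finite A M]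
    (hM : ∀ a ∈ J ^ k, ∀ x : M, a • x = 0) (n : ℤ) (hn : n ≠ 0) (f : M ⟶ I.X n)
    (hf : f ≫ I.d n (n + 1) = 0) : ∃ g : M ⟶ I.X (n - 1), g ≫ I.d (n - 1) n = f := by
  haveI : Subsingleton (Dual.inD A M ⟶ (DRing.toD I)⟦n⟧) := hc M k inferInstance hM n hn
  haveI : Subsingleton (Dual.HD A (DRing.toD (HM I M)) n) := (homologyEquiv M I n).toEquiv.subsingleton
  have hz : IsZero ((HM I M).homology n) :=
    (ModuleCat.isZero_of_subsingleton
      ((DerivedCategory.homologyFunctor (ModuleCat.{u} A) n).obj (DRing.toD (HM I M)))).of_iso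
      ((DerivedCategory.homologyFunctorFactors (ModuleCat.{u} A) n).app (HM I M)).symm
  have hex := ((HM I M).exactAt_iff' (n - 1) n (n + 1) (by simp) (by simp)).1
    ((HM I M).exactAt_iff_isZero_homology n |>.2 hz)
  rw [ShortComplex.moduleCat_exact_iff] at hex
  exact hex f hf

lemma mem_Bs_of_mem_Zs (hc : Concentrated J I) (n : ℤ) (hn : n ≠ 0) {x : I.X n} (hx : x ∈ Zs J I n) :
    x ∈ Bs J I n := by
  obtain ⟨⟨k, hk⟩, hd⟩ := mem_Zs.1 hx
  let f : A ⧸ J ^ k →ₗ[A] I.X n :=
    Submodule.liftQ _ (LinearMap.toSpanSingleton A (I.X n) x) fun a ha => hk a ha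
  have hkill : ∀ a ∈ J ^ k, ∀ y : A ⧸ J ^ k, a • y = 0 := fun a ha y => by
    obtain ⟨y, rfl⟩ := Submodule.mkQ_surjective _ y
    rw [← map_smul, Submodule.mkQ_apply, Submodule.Quotient.mk_eq_zero]
    exact Ideal.mul_mem_right _ _ ha
  obtain ⟨g, hg⟩ := exists_lift hc (ModuleCat.of A (A ⧸ J ^ k)) k hkill n hn (ModuleCat.ofHom f) (by
    refine ModuleCat.hom_ext (LinearMap.ext fun y => ?_)
    obtain ⟨y, rfl⟩ := Submodule.mkQ_surjective _ y
    change (I.d n (n + 1)).hom (y • x) = 0
    rw [map_smul, hd, smul_zero])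
  refine ⟨g.hom (Submodule.Quotient.mk 1), mem_powTorsion.2 ⟨k, fun a ha => ?_⟩, ?_⟩
  · exact (map_smul g.hom a _).symm.trans ((congrArg g.hom (hkill a ha _)).trans (map_zero _))
  · exact (LinearMap.congr_fun (congrArg ModuleCat.Hom.hom hg) (Submodule.Quotient.mk 1)).trans
      (one_smul A x)

lemma Zs_eq_Bs (hc : Concentrated J I) (n : ℤ) (hn : n ≠ 0) : Zs J I n = Bs J I n :=
  le_antisymm (fun _ hx => mem_Bs_of_mem_Zs hc n hn hx) (Bs_le_Zs n)

end Lift

/-- quotient of an injective module by an injective submodule -/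
lemma injective_quotient_of_injective {E : Type u} [AddCommGroup E] [Module A E]
    (hE : Module.Injective A E) (N : Submodule A E) (hN : Module.Injective A N) :
    Module.Injective A (E ⧸ N) := by
  obtain ⟨C, hC⟩ := exists_isCompl_of_injective N hN
  exact injective_of_linearEquiv (Submodule.quotientEquivOfIsCompl N C hC).symm
    (injective_of_isCompl hE hC.symm)

section Injective

variable [IsNoetherianRing A] [I.IsKInjective] (hinj : DRing.TermwiseInjective I)
  (a : ℤ) [CochainComplex.IsStrictlyGE I a]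
include hinj

include a in
lemma injective_Bs (hc : Concentrated J I) : ∀ (n : ℤ), n ≤ 0 → Module.Injective A (Bs J I n) := by
  suffices h : ∀ (k : ℕ) (n : ℤ), n ≤ 0 → n ≤ a + k → Module.Injective A (Bs J I n) from
    fun n hn => h (n - a).toNat n hn (by lia)
  intro k
  induction k with
  | zero =>
    intro n _ hna
    haveI : Subsingleton (I.X (n - 1)) :=
      ModuleCat.subsingleton_of_isZero (CochainComplex.isZero_of_isStrictlyGE I a (n - 1) (by lia))
    haveI : Subsingleton (Bs J I n) := ⟨fun x y => by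
      obtain ⟨x', -, hx⟩ := x.2
      obtain ⟨y', -, hy⟩ := y.2
      exact Subtype.ext (hx.symm.trans ((congrArg _ (Subsingleton.elim x' y')).trans hy))⟩
    exact Module.Baer.injective fun _ g => ⟨0, fun _ _ => Subsingleton.elim _ _⟩
  | succ k ih =>
    intro n hn hna
    obtain ⟨m, rfl⟩ : ∃ m, n = m + 1 := ⟨n - 1, by lia⟩
    have h1 := ih m (by lia) (by push_cast at hna; lia)
    rw [← Zs_eq_Bs hc m (by lia)] at h1
    let Γ := powTorsion J (I.X m)
    let f : Γ →ₗ[A] I.X (m + 1) := (I.d m (m + 1)).hom ∘ₗ Γ.subtype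
    have hker : Module.Injective A (LinearMap.ker f) := by
      refine injective_of_linearEquiv (LinearEquiv.ofBijective
        (LinearMap.codRestrict (LinearMap.ker f) (Submodule.inclusion inf_le_left : Zs J I m →ₗ[A] Γ)
          fun x => (mem_Zs.1 x.2).2) ⟨?_, ?_⟩) h1
      · intro x y h
        exact Subtype.ext (congrArg (fun z => (z.1.1 : I.X m)) h)
      · intro x
        exact ⟨⟨x.1.1, Submodule.mem_inf.2 ⟨x.1.2, x.2⟩⟩, rfl⟩
    have hrange : Bs J I (m + 1) = LinearMap.range f := by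
      rw [LinearMap.range_comp, Submodule.range_subtype]
      have e : ∀ j, j = m → (powTorsion J (I.X j)).map (I.d j (m + 1)).hom =
          (powTorsion J (I.X m)).map (I.d m (m + 1)).hom := by
        rintro j rfl; rfl
      exact e _ (by lia)
    rw [hrange]
    exact injective_of_linearEquiv f.quotKerEquivRange
      (injective_quotient_of_injective (injective_powTorsion (hinj m) J) _ hker)

lemma injective_Zs_zero (hc : Concentrated J I) : Module.Injective A (Zs J I 0) := by
  refine injective_of_powerTorsion (J := J) (fun x => ?_) fun M _ _ hM hk N g => ?_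
  · obtain ⟨⟨k, hk⟩, -⟩ := mem_Zs.1 x.2
    exact ⟨k, fun a ha => Subtype.ext (hk a ha)⟩
  obtain ⟨k, hk⟩ := hk
  have hkill : ∀ a ∈ J ^ k, ∀ x : M, a • x = 0 := fun a ha x => by
    have : a • x ∈ (J ^ k) • (⊤ : Submodule A M) := Submodule.smul_mem_smul ha trivial
    rwa [hk, Submodule.mem_bot] at this
  obtain ⟨h, hh⟩ := (hinj 0).out N.subtype N.injective_subtype ((Zs J I 0).subtype ∘ₗ g)
  haveI : Module.Finite A (M ⧸ N) := inferInstance
  let f : M ⧸ N →ₗ[A] I.X 1 := N.liftQ ((I.d 0 1).hom ∘ₗ h) fun x hx => by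
    change (I.d 0 1).hom (h x) = 0
    rw [show h x = _ from hh ⟨x, hx⟩]
    exact (mem_Zs.1 (g ⟨x, hx⟩).2).2
  obtain ⟨g', hg'⟩ := exists_lift hc (ModuleCat.of A (M ⧸ N)) k (fun a ha y => by
      obtain ⟨y, rfl⟩ := Submodule.mkQ_surjective _ y
      rw [← map_smul, hkill a ha, map_zero]) 1 one_ne_zero (ModuleCat.ofHom f) (by
      refine ModuleCat.hom_ext (LinearMap.ext fun y => ?_)
      obtain ⟨y, rfl⟩ := Submodule.mkQ_surjective _ y
      exact LinearMap.congr_fun (congrArg ModuleCat.Hom.hom (I.d_comp_d 0 1 (1 + 1))) (h y))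
  let g0 : M ⧸ N →ₗ[A] I.X 0 := g'.hom
  refine ⟨(h - g0 ∘ₗ N.mkQ).codRestrict _ fun x => mem_Zs.2 ⟨⟨k, fun a ha => ?_⟩, ?_⟩,
    LinearMap.ext fun x => Subtype.ext ?_⟩
  · rw [← map_smul, hkill a ha, map_zero]
  · change (I.d 0 1).hom (h x - g0 (N.mkQ x)) = 0
    rw [map_sub, sub_eq_zero]
    exact (LinearMap.congr_fun (congrArg ModuleCat.Hom.hom hg') (Submodule.Quotient.mk x)).symm
  · change h x.1 - g0 (N.mkQ x.1) = _
    rw [Submodule.mkQ_apply, (Submodule.Quotient.mk_eq_zero N).2 x.2, map_zero, sub_zero]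
    exact hh x

end Injective

variable (J I) in
/-- the module `H⁰(Γ_J I)` -/
abbrev GH : Type u := Zs J I 0 ⧸ (Bs J I 0).comap (Zs J I 0).subtype

lemma isPowerTorsion_GH : LocCoh.IsPowerTorsion J (GH J I) := fun m => by
  obtain ⟨m, rfl⟩ := Submodule.mkQ_surjective _ m
  obtain ⟨⟨k, hk⟩, -⟩ := mem_Zs.1 m.2
  exact ⟨k, fun a ha => by
    rw [← map_smul, show a • m = 0 from Subtype.ext (hk a ha), map_zero]⟩

section Main

variable [IsNoetherianRing A] [I.IsKInjective] (hinj : DRing.TermwiseInjective I)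
  (a : ℤ) [CochainComplex.IsStrictlyGE I a] (hc : Concentrated J I)
include hinj hc

include a in
lemma injective_Bcomap : Module.Injective A ((Bs J I 0).comap (Zs J I 0).subtype) :=
  injective_of_linearEquiv (Submodule.comapSubtypeEquivOfLe (Bs_le_Zs 0)).symm
    (injective_Bs hinj a hc 0 le_rfl)

include a in
theorem injective_GH : Module.Injective A (GH J I) :=
  injective_quotient_of_injective (injective_Zs_zero hinj hc) _ (injective_Bcomap hinj a hc)

omit hinj hc

variable (M : ModuleCat.{u} A) (k : ℕ) (hM : ∀ a ∈ J ^ k, ∀ x : M, a • x = 0)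

/-- cocycles on a torsion module, as maps to `H⁰(Γ_J I)` -/
noncomputable def toGH :
    LinearMap.ker (Linear.rightComp A M (I.d 0 1)) →ₗ[A] (M →ₗ[A] GH J I) where
  toFun f := (Submodule.mkQ _).comp (f.1.hom.codRestrict (Zs J I 0) fun x => mem_Zs.2
    ⟨⟨k, fun a ha => by rw [← map_smul, hM a ha, map_zero]⟩,
      LinearMap.congr_fun (congrArg ModuleCat.Hom.hom (show f.1 ≫ I.d 0 1 = 0 from f.2)) x⟩)
  map_add' f g := LinearMap.ext fun x => by
    rw [LinearMap.add_apply, LinearMap.comp_apply, LinearMap.comp_apply, LinearMap.comp_apply, ← map_add]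
    rfl
  map_smul' r f := LinearMap.ext fun x => by
    rw [RingHom.id_apply, LinearMap.smul_apply, LinearMap.comp_apply, LinearMap.comp_apply, ← map_smul]
    rfl

variable (I) in
/-- the module `M` in degree zero, as a complex -/
noncomputable def singleIso : Dual.inD A M ≅
    DRing.toD ((CochainComplex.singleFunctor (ModuleCat.{u} A) 0).obj M) :=
  ((SingleFunctors.evaluation _ _ 0).mapIso
    (DerivedCategory.singleFunctorsPostcompQIso (ModuleCat.{u} A))).app M

variable (I) in
/-- the class in `D(A)` of a cocycle on a module -/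
noncomputable def cocycleClass :
    LinearMap.ker (Linear.rightComp A M (I.d 0 1)) →ₗ[A] (Dual.inD A M ⟶ DRing.toD I) :=
  (Linear.homCongr A (singleIso M).symm (Iso.refl (DRing.toD I))).toLinearMap.comp (cycleClass I M)

include hinj hc a

lemma toGH_surjective : Function.Surjective (toGH M k hM : _ →ₗ[A] (M →ₗ[A] GH J I)) := by
  intro g
  obtain ⟨C, hC⟩ := exists_isCompl_of_injective _ (injective_Bcomap hinj a hc)
  let s : M →ₗ[A] Zs J I 0 :=
    C.subtype ∘ₗ (Submodule.quotientEquivOfIsCompl _ C hC).toLinearMap ∘ₗ g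
  refine ⟨⟨ModuleCat.ofHom ((Zs J I 0).subtype ∘ₗ s),
    ModuleCat.hom_ext (LinearMap.ext fun x => (mem_Zs.1 (s x).2).2)⟩, LinearMap.ext fun x => ?_⟩
  change Submodule.Quotient.mk (s x) = g x
  exact Submodule.mk_quotientEquivOfIsCompl_apply hC (g x)

lemma ker_toGH : LinearMap.ker (toGH M k hM : _ →ₗ[A] (M →ₗ[A] GH J I)) =
    LinearMap.ker (cocycleClass I M) := by
  ext f
  rw [LinearMap.mem_ker, LinearMap.mem_ker]
  change _ ↔ (Linear.homCongr A (singleIso M).symm (Iso.refl (DRing.toD I))) (cycleClass I M f) = 0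
  rw [LinearEquiv.map_eq_zero_iff, cycleClass_eq_zero_iff]
  constructor
  · intro h
    let Γ := powTorsion J (I.X (-1))
    let d' : Γ →ₗ[A] I.X 0 := (I.d (-1) 0).hom ∘ₗ Γ.subtype
    have hd' : LinearMap.range d' = Bs J I 0 := by
      rw [LinearMap.range_comp, Submodule.range_subtype]
      rfl
    have hkerinj : Module.Injective A (LinearMap.ker d') := by
      have h1 := injective_Bs hinj a hc (-1) (by lia)
      rw [← Zs_eq_Bs hc (-1) (by lia)] at h1
      refine injective_of_linearEquiv (LinearEquiv.ofBijective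
        (LinearMap.codRestrict (LinearMap.ker d') (Submodule.inclusion inf_le_left : Zs J I (-1) →ₗ[A] Γ)
          fun x => (mem_Zs.1 x.2).2) ⟨?_, ?_⟩) h1
      · intro x y h
        exact Subtype.ext (congrArg (fun z => (z.1.1 : I.X (-1))) h)
      · intro x
        exact ⟨⟨x.1.1, Submodule.mem_inf.2 ⟨x.1.2, x.2⟩⟩, rfl⟩
    obtain ⟨C, hC⟩ := exists_isCompl_of_injective _ hkerinj
    have hmem : ∀ x : M, f.1.hom x ∈ LinearMap.range d' := fun x => by
      rw [hd']
      have h1 : toGH M k hM f x = 0 := LinearMap.congr_fun h x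
      exact (Submodule.Quotient.mk_eq_zero ((Bs J I 0).comap (Zs J I 0).subtype)).1 h1
    let sec : LinearMap.range d' →ₗ[A] Γ :=
      C.subtype ∘ₗ (Submodule.quotientEquivOfIsCompl _ C hC).toLinearMap ∘ₗ
        d'.quotKerEquivRange.symm.toLinearMap
    refine ⟨ModuleCat.ofHom (Γ.subtype ∘ₗ sec ∘ₗ f.1.hom.codRestrict _ hmem),
      ModuleCat.hom_ext (LinearMap.ext fun x => ?_)⟩
    change d' (sec ⟨f.1.hom x, hmem x⟩) = f.1.hom x
    have h2 := Submodule.mk_quotientEquivOfIsCompl_apply hC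
      (d'.quotKerEquivRange.symm ⟨f.1.hom x, hmem x⟩)
    have h3 := congrArg (fun z => ((d'.quotKerEquivRange z : LinearMap.range d') : I.X 0)) h2
    rw [LinearEquiv.apply_symm_apply] at h3
    exact h3
  · rintro ⟨g, hg⟩
    refine LinearMap.ext fun x => (Submodule.Quotient.mk_eq_zero _).2 ?_
    exact ⟨g.hom x, mem_powTorsion.2 ⟨k, fun r hr =>
      (map_smul g.hom r x).symm.trans ((congrArg g.hom (hM r hr x)).trans (map_zero _))⟩,
      LinearMap.congr_fun (congrArg ModuleCat.Hom.hom hg) x⟩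

omit hinj hc a in
lemma cocycleClass_surjective : Function.Surjective (cocycleClass I M) := by
  intro t
  obtain ⟨f, hf⟩ := cycleClass_surjective I M
    ((Linear.homCongr A (singleIso M).symm (Iso.refl (DRing.toD I))).symm t)
  refine ⟨f, ?_⟩
  change (Linear.homCongr A (singleIso M).symm (Iso.refl (DRing.toD I))) (cycleClass I M f) = t
  rw [hf, LinearEquiv.apply_symm_apply]

set_option maxHeartbeats 1000000 in
/-- `Hom(M, I) = Hom(M, H⁰(Γ_J I))` for finite torsion modules -/
noncomputable def homGH : (Dual.inD A M ⟶ DRing.toD I) ≃ₗ[A] (M →ₗ[A] GH J I) :=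
  LinearEquiv.trans (LinearMap.quotKerEquivOfSurjective (cocycleClass I M) (cocycleClass_surjective M)).symm
    (LinearEquiv.trans
      (Submodule.quotEquivOfEq (LinearMap.ker (cocycleClass I M)) (LinearMap.ker (toGH (J := J) (I := I) M k hM))
        (ker_toGH hinj a hc M k hM).symm)
      (LinearMap.quotKerEquivOfSurjective (toGH (J := J) (I := I) M k hM) (toGH_surjective hinj a hc M k hM)))

lemma homGH_cocycleClass (f : LinearMap.ker (Linear.rightComp A M (I.d 0 1))) :
    homGH hinj a hc M k hM (cocycleClass I M f) = toGH M k hM f := by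
  rw [homGH, LinearEquiv.trans_apply, LinearEquiv.trans_apply,
    LinearMap.quotKerEquivOfSurjective_symm_apply, Submodule.quotEquivOfEq_mk,
    LinearMap.quotKerEquivOfSurjective_apply_mk]

/-- naturality of `homGH` in the module -/
lemma homGH_natural (M' : ModuleCat.{u} A) (k' : ℕ) (hM' : ∀ a ∈ J ^ k', ∀ x : M', a • x = 0)
    (q : M' ⟶ M) (t : Dual.inD A M ⟶ DRing.toD I) :
    homGH hinj a hc M' k' hM' ((DerivedCategory.singleFunctor (ModuleCat.{u} A) 0).map q ≫ t) =
      (homGH hinj a hc M k hM t).comp q.hom := by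
  obtain ⟨f, rfl⟩ : ∃ f, cocycleClass I M f = t :=
    ((Linear.homCongr A (singleIso M).symm (Iso.refl (DRing.toD I))).surjective.comp
      (cycleClass_surjective I M)) t
  let f' : LinearMap.ker (Linear.rightComp A M' (I.d 0 1)) :=
    ⟨q ≫ f.1, by
      rw [LinearMap.mem_ker]
      change (q ≫ f.1) ≫ I.d 0 1 = 0
      rw [Category.assoc, show f.1 ≫ I.d 0 1 = 0 from f.2, comp_zero]⟩
  have h : (DerivedCategory.singleFunctor (ModuleCat.{u} A) 0).map q ≫ cocycleClass I M f =
      cocycleClass I M' f' := by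
    have hn : (DerivedCategory.singleFunctor (ModuleCat.{u} A) 0).map q ≫ (singleIso M).hom =
        (singleIso M').hom ≫ DerivedCategory.Q.map ((CochainComplex.singleFunctor (ModuleCat.{u} A) 0).map q) :=
      ((SingleFunctors.evaluation _ _ 0).mapIso
        (DerivedCategory.singleFunctorsPostcompQIso (ModuleCat.{u} A))).hom.naturality q
    have hc' : (CochainComplex.singleFunctor (ModuleCat.{u} A) 0).map q ≫ cycleHom I M f.1 f.2 =
        cycleHom I M' f'.1 f'.2 := by
      refine HomologicalComplex.from_single_hom_ext ?_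
      rw [HomologicalComplex.comp_f, cycleHom_f, cycleHom_f]
      simp [f', CochainComplex.singleFunctor, CochainComplex.singleFunctors, HomologicalComplex.single_map_f_self]
    change _ ≫ ((singleIso M).hom ≫ DerivedCategory.Q.map (cycleHom I M f.1 f.2) ≫ 𝟙 _) =
      (singleIso M').hom ≫ DerivedCategory.Q.map (cycleHom I M' f'.1 f'.2) ≫ 𝟙 _
    rw [Category.comp_id, Category.comp_id, reassoc_of% hn, ← Functor.map_comp, hc']
  rw [h, homGH_cocycleClass, homGH_cocycleClass]
  rfl

include hM in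
/-- `Hom(M, I) = Hom(M, H⁰(Γ_J I))` for finite torsion modules -/
theorem nonempty_hom_GH : Nonempty ((Dual.inD A M ⟶ DRing.toD I) ≃ₗ[A] (M →ₗ[A] GH J I)) :=
  ⟨homGH hinj a hc M k hM⟩

end Main

end Groth.L29.HomD
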