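import Groth.Agent.L29.Dual.Bounds
import Groth.Agent.L29.Dual.Devissage
import Groth.Agent.L29.Dual.Biduality
import Groth.Agent.L29.Dual.ResidueDegree
import Groth.Agent.L04.InjNoeth
import Mathlib.RingTheory.Ideal.KrullsHeightTheorem

/-!
An object with finite cohomology whose residue duals sit in one degree is a dualizing complex.
-/

universe u

open CategoryTheory CategoryTheory.Limits CategoryTheory.Pretriangulated IsLocalRing
open scoped Pointwise

attribute [local instance] HasDerivedCategory.standard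

set_option backward.isDefEq.respectTransparency false

namespace Groth.L29.HomD

variable {A : Type u} [CommRing A] {I : DRing.Cx A}

section Cycles

variable [I.IsKInjective]

/-- a cocycle is a coboundary where the `Hom` in `D(A)` vanishes -/
lemma exists_lift_of_subsingleton (M : ModuleCat.{u} A) (n : ℤ)
    [Subsingleton (Dual.inD A M ⟶ (DRing.toD I)⟦n⟧)] (f : M ⟶ I.X n)
    (hf : f ≫ I.d n (n + 1) = 0) : ∃ g : M ⟶ I.X (n - 1), g ≫ I.d (n - 1) n = f := by
  haveI : Subsingleton (Dual.HD A (DRing.toD (HM I M)) n) := (homologyEquiv M I n).toEquiv.subsingleton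
  have hz : IsZero ((HM I M).homology n) :=
    (ModuleCat.isZero_of_subsingleton
      ((DerivedCategory.homologyFunctor (ModuleCat.{u} A) n).obj (DRing.toD (HM I M)))).of_iso
      ((DerivedCategory.homologyFunctorFactors (ModuleCat.{u} A) n).app (HM I M)).symm
  have hex := ((HM I M).exactAt_iff' (n - 1) n (n + 1) (by simp) (by simp)).1
    ((HM I M).exactAt_iff_isZero_homology n |>.2 hz)
  rw [ShortComplex.moduleCat_exact_iff] at hex
  exact hex f hf

variable [IsNoetherianRing A] (hinj : DRing.TermwiseInjective I) (b : ℤ)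
  (hvan : ∀ (M : Type u) [AddCommGroup M] [Module A M] [Module.Finite A M] (i : ℤ),
    b < i → Subsingleton (Dual.inD A M ⟶ (DRing.toD I)⟦i⟧))
include hinj hvan

lemma injective_cycles (n : ℤ) (hn : b ≤ n) :
    Module.Injective A (LinearMap.ker (I.d n (n + 1)).hom) := by
  refine Module.Baer.injective fun 𝔞 g => ?_
  obtain ⟨h, hh⟩ := (hinj n).out 𝔞.subtype 𝔞.injective_subtype
    ((LinearMap.ker (I.d n (n + 1)).hom).subtype ∘ₗ g)
  haveI := hvan (A ⧸ 𝔞) (n + 1) (by lia)
  let f : A ⧸ 𝔞 →ₗ[A] I.X (n + 1) := Submodule.liftQ 𝔞 ((I.d n (n + 1)).hom ∘ₗ h) fun x hx => by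
    change (I.d n (n + 1)).hom (h x) = 0
    rw [show h x = _ from hh ⟨x, hx⟩]
    exact (g ⟨x, hx⟩).2
  obtain ⟨g', hg'⟩ := exists_lift_of_subsingleton (I := I) (ModuleCat.of A (A ⧸ 𝔞)) (n + 1)
    (ModuleCat.ofHom f) (ModuleCat.hom_ext (LinearMap.ext fun y => by
      obtain ⟨y, rfl⟩ := Submodule.mkQ_surjective _ y
      exact LinearMap.congr_fun (congrArg ModuleCat.Hom.hom (I.d_comp_d n (n + 1) (n + 1 + 1))) (h y)))
  have hg'' : ∀ j, j = n → ∃ g'' : A ⧸ 𝔞 →ₗ[A] I.X n, ∀ y, (I.d n (n + 1)).hom (g'' y) = f y := by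
    intro j hj
    revert g' hg'
    rw [show n + 1 - 1 = n by lia]
    intro g' hg'
    exact ⟨g'.hom, fun y => LinearMap.congr_fun (congrArg ModuleCat.Hom.hom hg') y⟩
  obtain ⟨g'', hg''⟩ := hg'' n rfl
  refine ⟨(h - g'' ∘ₗ Submodule.mkQ 𝔞).codRestrict _ fun x => ?_, fun x hx => Subtype.ext ?_⟩
  · change (I.d n (n + 1)).hom (h x - g'' (Submodule.mkQ 𝔞 x)) = 0
    rw [map_sub, hg'', sub_eq_zero]
    rfl
  · change h x - g'' (Submodule.mkQ 𝔞 x) = _
    rw [Submodule.mkQ_apply, (Submodule.Quotient.mk_eq_zero 𝔞).2 hx, map_zero, sub_zero]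
    exact hh ⟨x, hx⟩

/-- vanishing for finite modules gives vanishing for all modules one step higher -/
lemma subsingleton_hom_all (M : Type u) [AddCommGroup M] [Module A M] (i : ℤ) (hi : b + 1 < i) :
    Subsingleton (Dual.inD A M ⟶ (DRing.toD I)⟦i⟧) := by
  let κ := ModuleCat.of A M
  obtain ⟨j, rfl⟩ : ∃ j, i = j + 1 := ⟨i - 1, by lia⟩
  suffices h : (HM I κ).ExactAt (j + 1) by
    have hz : IsZero ((DerivedCategory.homologyFunctor (ModuleCat.{u} A) (j + 1)).obj (DRing.toD (HM I κ))) :=
      ((HM I κ).exactAt_iff_isZero_homology (j + 1) |>.1 h).of_iso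
        ((DerivedCategory.homologyFunctorFactors (ModuleCat.{u} A) (j + 1)).app (HM I κ))
    haveI : Subsingleton (Dual.HD A (DRing.toD (HM I κ)) (j + 1)) := ModuleCat.subsingleton_of_isZero hz
    exact (homologyEquiv κ I (j + 1)).symm.toEquiv.subsingleton
  rw [(HM I κ).exactAt_iff' j (j + 1) (j + 1 + 1) (by simp) (by simp), ShortComplex.moduleCat_exact_iff]
  intro (f : κ ⟶ I.X (j + 1)) hf
  let d := (I.d j (j + 1)).hom
  obtain ⟨C, hC⟩ := Groth.L04.exists_isCompl_of_injective _ (injective_cycles hinj b hvan j (by lia))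
  have hmem : ∀ x : M, f.hom x ∈ LinearMap.range d := fun x => by
    haveI := hvan A (j + 1) (by lia)
    obtain ⟨g, hg⟩ := exists_lift_of_subsingleton (I := I) (ModuleCat.of A A) (j + 1)
      (ModuleCat.ofHom (LinearMap.toSpanSingleton A _ (f.hom x)))
      (ModuleCat.hom_ext (LinearMap.ext fun r => by
        change (I.d (j + 1) (j + 1 + 1)).hom (r • f.hom x) = 0
        rw [map_smul, show (I.d (j + 1) (j + 1 + 1)).hom (f.hom x) = 0 from
          LinearMap.congr_fun (congrArg ModuleCat.Hom.hom hf) x, smul_zero]))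
    revert g hg
    rw [show j + 1 - 1 = j by lia]
    intro g hg
    exact ⟨g.hom 1, (LinearMap.congr_fun (congrArg ModuleCat.Hom.hom hg) 1).trans (one_smul A _)⟩
  let sec : LinearMap.range d →ₗ[A] I.X j :=
    C.subtype ∘ₗ (Submodule.quotientEquivOfIsCompl _ C hC).toLinearMap ∘ₗ d.quotKerEquivRange.symm.toLinearMap
  refine ⟨ModuleCat.ofHom (sec ∘ₗ f.hom.codRestrict _ hmem), ModuleCat.hom_ext (LinearMap.ext fun x => ?_)⟩
  change d (sec ⟨f.hom x, hmem x⟩) = f.hom x
  have h2 := Submodule.mk_quotientEquivOfIsCompl_apply hC (d.quotKerEquivRange.symm ⟨f.hom x, hmem x⟩)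
  have h3 := congrArg (fun z => ((d.quotKerEquivRange z : LinearMap.range d) : I.X (j + 1))) h2
  rw [LinearEquiv.apply_symm_apply] at h3
  exact h3

end Cycles

lemma gmap_smul_id (x : A) (M : ModuleCat.{u} A) (l : ℤ) (φ : G I M l) :
    gmap I (x • 𝟙 M) l φ = x • φ := by
  have h : HMmap I (x • 𝟙 M) = x • 𝟙 (HM I M) := by
    ext n : 1
    refine ModuleCat.hom_ext (LinearMap.ext fun ψ : M ⟶ I.X n => ?_)
    exact ModuleCat.hom_ext (LinearMap.ext fun m : M => map_smul ψ.hom x m)
  rw [gmap_apply, h, DerivedCategory.Q.map_smul, CategoryTheory.Functor.map_id, Linear.smul_comp,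
    Category.id_comp]

/-- left exactness -/
lemma gmap_injective_of_prev [∀ n, Injective (I.X n)] {S : ShortComplex (ModuleCat.{u} A)}
    (hS : S.ShortExact) (l : ℤ) (h : Subsingleton (G I S.X₃ (l - 1))) :
    ∀ φ : G I S.X₁ l, gmap I S.f l φ = 0 → φ = 0 := by
  intro φ hφ
  let T := DerivedCategory.triangleOfSES (HMsc_shortExact I S hS)
  obtain ⟨ψ, hψ⟩ := Triangle.yoneda_exact₃ T
    (DerivedCategory.triangleOfSES_distinguished (HMsc_shortExact I S hS)) φ hφ
  let e := (shiftFunctorAdd' (Dual.D A) (l - 1) 1 l (by ring)).app (DRing.toD I)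
  obtain ⟨χ, hχ⟩ := (shiftFunctor (Dual.D A) (1 : ℤ)).map_surjective (ψ ≫ e.hom)
  have h0 : χ = 0 := Subsingleton.elim (α := G I S.X₃ (l - 1)) _ _
  rw [h0, Functor.map_zero] at hχ
  have hψ0 : ψ = 0 := by rw [← cancel_mono e.hom, zero_comp]; exact hχ.symm
  rw [hψ, hψ0, comp_zero]

section Criterion

variable [I.IsKInjective] [∀ n, Injective (I.X n)]

/-- the property propagated by dévissage -/
def Bidual (M : ModuleCat.{u} A) : Prop :=
  Function.Bijective (theta I M) ∧ ∀ l : ℤ, l ≠ 0 → Subsingleton (G I M l)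

omit [I.IsKInjective] [∀ n, Injective (I.X n)] in
lemma bidual_of_iso {M N : ModuleCat.{u} A} (e : M ≅ N) (h : Bidual (I := I) M) : Bidual (I := I) N := by
  have hid : ∀ (l : ℤ) (φ : G I N l), gmap I e.hom l (gmap I e.inv l φ) = φ := fun l φ => by
    rw [← gmap_comp, Iso.inv_hom_id, gmap_id]
  refine ⟨⟨fun x y hxy => ?_, fun φ => ?_⟩, fun l hl => ?_⟩
  · have h1 := congrArg (gmap I e.inv 0) hxy
    rw [theta_natural, theta_natural] at h1
    exact e.symm.toLinearEquiv.injective (h.1.1 h1)
  · obtain ⟨m, hm⟩ := h.1.2 (gmap I e.inv 0 φ)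
    exact ⟨e.hom m, by rw [← theta_natural, hm, hid]⟩
  · haveI := h.2 l hl
    exact ⟨fun φ ψ => by rw [← hid l φ, ← hid l ψ, Subsingleton.elim (gmap I e.inv l φ)]⟩

omit [I.IsKInjective] in
lemma bidual_of_shortExact {S : ShortComplex (ModuleCat.{u} A)} (hS : S.ShortExact)
    (h1 : Bidual (I := I) S.X₁) (h3 : Bidual (I := I) S.X₃) : Bidual (I := I) S.X₂ := by
  haveI := hS.mono_f
  haveI := hS.epi_g
  refine ⟨⟨(injective_iff_map_eq_zero _).2 fun m hm => ?_, fun φ => ?_⟩, fun l hl => ?_⟩
  · have hg : S.g m = 0 := h3.1.1 (by rw [← theta_natural, hm, map_zero, map_zero])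
    obtain ⟨n, rfl⟩ := (ShortComplex.moduleCat_exact_iff S).1 hS.exact m hg
    rw [← theta_natural] at hm
    have hn : theta I S.X₁ n = 0 := gmap_injective_of_prev hS 0 (h3.2 _ (by lia)) _ hm
    rw [h1.1.1 (hn.trans (map_zero _).symm), map_zero]
  · obtain ⟨q, hq⟩ := h3.1.2 (gmap I S.g 0 φ)
    obtain ⟨m, rfl⟩ := (ModuleCat.epi_iff_surjective S.g).1 inferInstance q
    obtain ⟨ψ, hψ⟩ := (gexact_mid I hS 0 (φ - theta I S.X₂ m)).1 (by
      rw [map_sub, theta_natural, hq, sub_self])
    obtain ⟨n, rfl⟩ := h1.1.2 ψ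
    rw [theta_natural] at hψ
    exact ⟨S.f n + m, by rw [map_add, hψ, sub_add_cancel]⟩
  · haveI := h1.2 l hl
    haveI := h3.2 l hl
    refine subsingleton_of_forall_eq 0 fun φ => ?_
    obtain ⟨ψ, hψ⟩ := (gexact_mid I hS l φ).1 (Subsingleton.elim _ _)
    rw [← hψ, Subsingleton.elim ψ 0, map_zero]

variable [IsLocalRing A] [IsNoetherianRing A]

lemma bidual_residueField
    (hvan : ∀ i : ℤ, i ≠ 0 → Subsingleton (Dual.inD A (ResidueField A) ⟶ (DRing.toD I)⟦i⟧))
    (e : (Dual.inD A (ResidueField A) ⟶ (DRing.toD I)⟦(0 : ℤ)⟧) ≃ₗ[A] ResidueField A) :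
    Bidual (I := I) (ModuleCat.of A (ResidueField A)) := by
  let κ := ModuleCat.of A (ResidueField A)
  let X := DRing.toD (HM I κ)
  have hz : ∀ n : ℤ, n ≠ 0 → IsZero ((DerivedCategory.homologyFunctor (ModuleCat.{u} A) n).obj X) :=
    fun n hn => by
      haveI := hvan n hn
      haveI : Subsingleton (Dual.HD A X n) := (homologyEquiv κ I n).toEquiv.subsingleton
      exact ModuleCat.isZero_of_subsingleton _
  haveI : X.IsGE 0 := (DerivedCategory.isGE_iff X 0).2 fun i hi => hz i (by lia)
  haveI : X.IsLE 0 := (DerivedCategory.isLE_iff X 0).2 fun i hi => hz i (by lia)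
  obtain ⟨eX⟩ := Groth.L10.exists_iso_single_H (A := ModuleCat.{u} A) X 0
  let eH : Dual.HD A X 0 ≃ₗ[A] ResidueField A := homologyEquiv κ I 0 ≪≫ₗ e
  let eG : ∀ l, G I κ l ≃ₗ[A] (Dual.inD A (ResidueField A) ⟶ (DRing.toD I)⟦l⟧) := fun l =>
    Linear.homCongr A (eX ≪≫ (DerivedCategory.singleFunctor (ModuleCat.{u} A) 0).mapIso eH.toModuleIso)
      (Iso.refl _)
  refine ⟨?_, fun l hl => ?_⟩
  · haveI : IsSimpleModule A (ResidueField A) :=
      isSimpleModule_iff_isCoatom.2 (maximalIdeal.isMaximal A).out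
    haveI : IsSimpleModule A (G I κ 0) := IsSimpleModule.congr (eG 0 ≪≫ₗ e)
    refine LinearMap.bijective_of_ne_zero (fun h => ?_)
    have h1 : DerivedCategory.Q.map (evHom I κ (1 : ResidueField A)) = 0 := by
      have h2 : theta I κ (1 : ResidueField A) = 0 := LinearMap.congr_fun h (1 : ResidueField A)
      change DerivedCategory.Q.map (evHom I κ (1 : ResidueField A)) ≫
        (shiftFunctorZero (Dual.D A) ℤ).inv.app (DRing.toD I) = 0 at h2
      rw [← cancel_mono ((shiftFunctorZero (Dual.D A) ℤ).inv.app (DRing.toD I)), zero_comp]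
      exact h2
    let S : Dual.inD A κ ≅ DRing.toD ((CochainComplex.singleFunctor (ModuleCat.{u} A) 0).obj κ) :=
      ((SingleFunctors.evaluation _ _ 0).mapIso
        (DerivedCategory.singleFunctorsPostcompQIso (ModuleCat.{u} A))).app κ
    obtain ⟨⟨f, hf⟩, hcl⟩ := cycleClass_surjective I κ (S.inv ≫ e.symm 1 ≫
      ((shiftFunctorZero (Dual.D A) ℤ).app (DRing.toD I)).hom)
    let u : κ ⟶ (HM I κ).X 0 := ModuleCat.ofHom
      { toFun := fun c : ResidueField A =>
          (ConcreteCategory.ofHom (C := ModuleCat.{u} A) (X := κ) (Y := I.X 0)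
            (f.hom ∘ₗ (LinearMap.mulLeft A c : ResidueField A →ₗ[A] ResidueField A)) : κ ⟶ I.X 0)
        map_add' := fun c c' => ModuleCat.hom_ext (LinearMap.ext fun y : ResidueField A => by
          change f.hom ((c + c') * y) = f.hom (c * y) + f.hom (c' * y)
          rw [add_mul, map_add])
        map_smul' := fun r c => ModuleCat.hom_ext (LinearMap.ext fun y : ResidueField A => by
          change f.hom ((r • c) * y) = r • f.hom (c * y)
          rw [smul_mul_assoc, map_smul]) }
    have hu : u ≫ (HM I κ).d 0 1 = 0 := ModuleCat.hom_ext (LinearMap.ext fun c : ResidueField A =>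
      ModuleCat.hom_ext (LinearMap.ext fun y : ResidueField A =>
        LinearMap.congr_fun (congrArg ModuleCat.Hom.hom (show f ≫ I.d 0 1 = 0 from hf)) (c * y : ResidueField A)))
    have hcomp : cycleHom (HM I κ) κ u hu ≫ evHom I κ (1 : ResidueField A) = cycleHom I κ f hf := by
      refine HomologicalComplex.from_single_hom_ext ?_
      rw [HomologicalComplex.comp_f, cycleHom_f, cycleHom_f, Category.assoc]
      congr 1
      exact ModuleCat.hom_ext (LinearMap.ext fun c : ResidueField A => congrArg f.hom (mul_one c))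
    have h3 : DerivedCategory.Q.map (cycleHom I κ f hf) = 0 := by
      rw [← hcomp, Functor.map_comp, h1, comp_zero]
    change DerivedCategory.Q.map (cycleHom I κ f hf) = _ at hcl
    rw [h3] at hcl
    have h4 : e.symm 1 = 0 := by
      rw [← cancel_epi S.inv, ← cancel_mono ((shiftFunctorZero (Dual.D A) ℤ).app (DRing.toD I)).hom,
        Category.assoc, ← hcl, comp_zero, zero_comp]
    exact one_ne_zero (e.symm.map_eq_zero_iff.1 h4)
  · haveI := hvan l hl
    exact (eG l).toEquiv.subsingleton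

omit [∀ n, Injective (I.X n)] in
lemma finite_G (hgood : Good (DRing.toD I)) (a b : ℤ)
    (hab : ∀ (M : Type u) [AddCommGroup M] [Module A M] (i : ℤ),
      (i < a ∨ b < i) → Subsingleton (Dual.inD A M ⟶ (DRing.toD I)⟦i⟧))
    (M : ModuleCat.{u} A) [Module.Finite A M] (l : ℤ) : Module.Finite A (G I M l) := by
  haveI := isGE_HM I a b hab M
  haveI := isLE_HM I a b hab M
  refine bounded_induction (fun Y => Module.Finite A (Y ⟶ (DRing.toD I)⟦l⟧)) ?_ ?_ ?_ _ a b ?_
  · intro X Y e hX
    haveI := hX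
    exact Module.Finite.equiv (Linear.homCongr A e (Iso.refl _))
  · intro T hT h1 h3
    exact finite_of_triangle T hT _ h1 h3
  · intro X hX
    haveI : Subsingleton (X ⟶ (DRing.toD I)⟦l⟧) := ⟨fun p q => hX.eq_of_src p q⟩
    infer_instance
  · intro n _ _
    haveI : Module.Finite A (Dual.HD A (DRing.toD (HM I M)) n) :=
      haveI := finite_hom (DRing.toD I) hgood M n
      Module.Finite.equiv (homologyEquiv M I n).symm
    haveI := finite_hom (DRing.toD I) hgood (Dual.HD A (DRing.toD (HM I M)) n) (l + n)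
    exact Module.Finite.equiv (singleHomEquiv _ _ n l).symm

theorem bidual_of_finite (hgood : Good (DRing.toD I)) (a b : ℤ)
    (hab : ∀ (M : Type u) [AddCommGroup M] [Module A M] (i : ℤ),
      (i < a ∨ b < i) → Subsingleton (Dual.inD A M ⟶ (DRing.toD I)⟦i⟧))
    (hk : Bidual (I := I) (ModuleCat.of A (ResidueField A))) :
    ∀ (d : ℕ) (M : Type u) [AddCommGroup M] [Module A M] [Module.Finite A M],
      Module.supportDim A M ≤ (d : WithBot ℕ∞) → Bidual (I := I) (ModuleCat.of A M) := by
  intro d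
  induction d using Nat.strong_induction_on with
  | _ d ih =>
    intro M _ _ _ hM
    refine IsNoetherianRing.induction_on_isQuotientEquivQuotientPrime A ‹Module.Finite A M›
      (motive := fun N _ _ _ => Module.supportDim A N ≤ (d : WithBot ℕ∞) →
        Bidual (I := I) (ModuleCat.of A N)) ?_ ?_ ?_ hM
    · intro N _ _ _ _ _
      haveI : Subsingleton (ModuleCat.of A N : Type u) := ‹Subsingleton N›
      have hG : ∀ l, Subsingleton (G I (ModuleCat.of A N) l) := fun l => ⟨fun φ ψ => by
        have h0 : (𝟙 (ModuleCat.of A N)) = 0 := (ModuleCat.isZero_of_subsingleton _).eq_of_src _ _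
        rw [← gmap_id I _ l φ, ← gmap_id I _ l ψ, h0]
        exact ((gmapHom I _ _ l φ).map_zero).trans ((gmapHom I _ _ l ψ).map_zero).symm⟩
      haveI := hG 0
      exact ⟨⟨Function.injective_of_subsingleton _, fun φ => ⟨0, Subsingleton.elim _ _⟩⟩, fun l _ => hG l⟩
    · intro N _ _ _ p e hN
      by_cases hp : p.1 = maximalIdeal A
      · exact bidual_of_iso ((e ≪≫ₗ Submodule.quotEquivOfEq _ _ hp).symm.toModuleIso) hk
      obtain ⟨x, hxm, hxp⟩ : ∃ x ∈ maximalIdeal A, x ∉ p.1 := by
        by_contra! h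
        exact hp (le_antisymm (le_maximalIdeal p.2.ne_top) h)
      have hreg : IsSMulRegular N x := by
        intro y z hyz
        refine e.injective ?_
        obtain ⟨c, hc⟩ := Ideal.Quotient.mk_surjective (e y)
        obtain ⟨c', hc'⟩ := Ideal.Quotient.mk_surjective (e z)
        have h2 := congrArg e hyz
        simp only [map_smul, ← hc, ← hc'] at h2
        rw [← hc, ← hc', Ideal.Quotient.eq]
        have h3 : x * c - x * c' ∈ p.1 := Ideal.Quotient.eq.1 h2
        rw [← mul_sub] at h3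
        exact (p.2.mem_or_mem h3).resolve_left hxp
      haveI : Nontrivial N :=
        haveI := Ideal.Quotient.nontrivial_iff.2 p.2.ne_top
        e.toEquiv.nontrivial
      have hdim := Module.supportDim_quotSMulTop_succ_eq_supportDim hreg hxm
      obtain ⟨d', hd, hd'⟩ : ∃ d', d' < d ∧
          Module.supportDim A (QuotSMulTop x N) ≤ (d' : WithBot ℕ∞) := by
        have hle := hN
        rw [← hdim] at hle
        have hne : Module.supportDim A (QuotSMulTop x N) ≠ ⊥ := by
          intro h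
          rw [h, WithBot.bot_add] at hdim
          exact Module.supportDim_ne_bot_of_nontrivial A N hdim.symm
        revert hle hne
        generalize Module.supportDim A (QuotSMulTop x N) = s
        intro hle hne
        obtain ⟨s, rfl⟩ := WithBot.ne_bot_iff_exists.1 hne
        have hle' : s + 1 ≤ (d : ℕ∞) := WithBot.coe_le_coe.1 hle
        obtain ⟨k, rfl⟩ := ENat.ne_top_iff_exists.1 (show s ≠ ⊤ by
          rintro rfl; simp at hle')
        have : k + 1 ≤ d := by exact_mod_cast hle'
        exact ⟨d - 1, by lia, WithBot.coe_le_coe.2 (Nat.cast_le.2 (show k ≤ d - 1 by lia))⟩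
      have hQ := ih d' hd (QuotSMulTop x N) hd'
      let S := sc (x • (LinearMap.id : N →ₗ[A] N)) (Submodule.mkQ (x • ⊤ : Submodule A N)) (exact_smul x)
      have hS : S.ShortExact :=
        sc_shortExact _ _ (fun a b h => hreg h) (Submodule.mkQ_surjective _) _
      have hf : ∀ l φ, gmap I S.f l φ = x • φ := fun l φ => gmap_smul_id x (ModuleCat.of A N) l φ
      refine ⟨⟨(injective_iff_map_eq_zero _).2 ?_, ?_⟩, fun l hl => ?_⟩
      · intro m hm
        haveI : Subsingleton (LinearMap.ker (theta I (ModuleCat.of A N))) :=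
          SuppDim.subsingleton_of_smul_surjective hxm fun ⟨m, hm⟩ => by
            have hg : S.g m = 0 := hQ.1.1 ((theta_natural I S.g m).symm.trans
              ((congrArg (gmap I S.g 0) hm).trans ((map_zero _).trans (map_zero _).symm)))
            obtain ⟨m', hm'⟩ := (ShortComplex.moduleCat_exact_iff S).1 hS.exact m hg
            refine ⟨⟨m', gmap_injective_of_prev hS 0 (hQ.2 _ (by lia)) _ ?_⟩, Subtype.ext ?_⟩
            · exact (theta_natural I S.f m').trans ((congrArg (theta I S.X₂) hm').trans hm)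
            · exact hm'
        exact congrArg Subtype.val
          (Subsingleton.elim (⟨m, hm⟩ : LinearMap.ker (theta I (ModuleCat.of A N))) 0)
      · haveI := finite_G hgood a b hab (ModuleCat.of A N) 0
        haveI : Subsingleton (G I (ModuleCat.of A N) 0 ⧸ LinearMap.range (theta I (ModuleCat.of A N))) :=
          SuppDim.subsingleton_of_smul_surjective hxm fun φ => by
            obtain ⟨φ, rfl⟩ := Submodule.mkQ_surjective _ φ
            obtain ⟨q, hq⟩ := hQ.1.2 (gmap I S.g 0 φ)
            obtain ⟨m, rfl⟩ := Submodule.mkQ_surjective _ q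
            obtain ⟨ψ, hψ⟩ := (gexact_mid I hS 0 (φ - theta I (ModuleCat.of A N) m)).1 (by
              rw [map_sub]
              exact sub_eq_zero.2 (hq.symm.trans (theta_natural I S.g m).symm))
            let ψ' : G I (ModuleCat.of A N) 0 := ψ
            refine ⟨Submodule.Quotient.mk ψ', ?_⟩
            change Submodule.Quotient.mk (x • ψ') = Submodule.Quotient.mk φ
            have h1 : x • ψ' = φ - theta I (ModuleCat.of A N) m := (hf 0 ψ).symm.trans hψ
            rw [h1, Submodule.Quotient.eq]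
            exact ⟨-m, by rw [map_neg]; abel⟩
        exact LinearMap.range_eq_top.1 (Submodule.Quotient.subsingleton_iff.1 this)
      · haveI := hQ.2 l hl
        haveI := finite_G hgood a b hab (ModuleCat.of A N) l
        exact SuppDim.subsingleton_of_smul_surjective hxm fun φ => by
          obtain ⟨ψ, hψ⟩ := (gexact_mid I hS l φ).1 ((hQ.2 l hl).elim _ _)
          exact ⟨ψ, (hf l ψ).symm.trans hψ⟩
    · intro N₁ _ _ _ N₂ _ _ _ N₃ _ _ _ f g hf hg hfg h₁ h₃ hN
      exact bidual_of_shortExact (sc_shortExact f g hf hg hfg)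
        (h₁ ((Module.supportDim_le_of_injective f hf).trans hN))
        (h₃ ((Module.supportDim_le_of_surjective g hg).trans hN))

end Criterion

/-- the criterion, in normalized form -/
theorem isDualizing_of_normalized [IsLocalRing A] [IsNoetherianRing A] {R : Dual.D A} (hgood : Good R)
    (hn : Dual.IsNormalized A R)
    (e : (Dual.inD A (ResidueField A) ⟶ R⟦(0 : ℤ)⟧) ≃ₗ[A] ResidueField A) :
    Dual.IsDualizing A R := by
  obtain ⟨a, ha⟩ := hgood.low
  haveI := isGE_of_lower a fun M _ _ i hi => ha M i hi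
  obtain ⟨I, _, hinj, _, ⟨eI⟩⟩ := exists_injRep R a
  haveI : ∀ n, Injective (I.X n) := fun n =>
    haveI := hinj n
    Module.injective_object_of_injective_module A (I.X n)
  let eHom := fun (N : Type u) [AddCommGroup N] [Module A N] (i : ℤ) =>
    Linear.homCongr A (Iso.refl (Dual.inD A N)) ((shiftFunctor (Dual.D A) i).mapIso eI)
  have hpos : ∀ (M : Type u) [AddCommGroup M] [Module A M] [Module.Finite A M] (i : ℤ), 0 < i →
      Subsingleton (Dual.inD A M ⟶ (DRing.toD I)⟦i⟧) := fun M _ _ _ i hi =>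
    haveI := subsingleton_of_pos R hgood hn M i hi
    (eHom M i).toEquiv.subsingleton
  have hab : ∀ (M : Type u) [AddCommGroup M] [Module A M] (i : ℤ),
      (i < a ∨ 1 < i) → Subsingleton (Dual.inD A M ⟶ (DRing.toD I)⟦i⟧) := fun M _ _ i hi => by
    rcases hi with hi | hi
    · haveI := ha M i hi
      exact (eHom M i).toEquiv.subsingleton
    · exact subsingleton_hom_all hinj 0 (fun M _ _ _ i hi => hpos M i hi) M i hi
  have hgI : Good (DRing.toD I) := ⟨⟨a, fun M _ _ i hi => hab M i (Or.inl hi)⟩, fun i =>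
    haveI := hgood.fin i
    Module.Finite.equiv (((DerivedCategory.homologyFunctor (ModuleCat.{u} A) i).mapIso eI).toLinearEquiv.symm)⟩
  have hk := bidual_residueField (I := I) (fun i hi =>
      haveI := hn i hi
      (eHom (ResidueField A) i).toEquiv.subsingleton) (eHom (ResidueField A) 0 ≪≫ₗ e)
  obtain ⟨D, hD⟩ : ∃ D : ℕ, Module.supportDim A A ≤ (D : WithBot ℕ∞) := by
    have hlt : Module.supportDim A A < ⊤ :=
      lt_of_le_of_lt (Module.supportDim_le_ringKrullDim A A) ringKrullDim_lt_top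
    have hne := Module.supportDim_ne_bot_of_nontrivial A A
    revert hne hlt
    generalize Module.supportDim A A = s
    intro hlt hne
    obtain ⟨s, rfl⟩ := WithBot.ne_bot_iff_exists.1 hne
    obtain ⟨k, rfl⟩ := ENat.ne_top_iff_exists.1 (show s ≠ ⊤ by rintro rfl; exact lt_irrefl _ hlt)
    exact ⟨k, le_rfl⟩
  have hA := bidual_of_finite hgI a 1 hab hk D A hD
  refine ⟨inferInstance, ⟨a, 1, fun M _ _ i hi => ?_⟩, hgood.fin, ?_, fun i hi => ?_⟩
  · haveI := hab M i hi
    exact (eHom M i).symm.toEquiv.subsingleton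
  · let c := Linear.homCongr A
      ((DerivedCategory.Q.mapIso (ringIso I)) ≪≫ eI)
      (((shiftFunctorZero (Dual.D A) ℤ).app (DRing.toD I)) ≪≫ eI)
    have h := c.bijective.comp hA.1
    convert h using 1
    funext x
    rw [Function.comp_apply, theta_ring]
    simp [c, Linear.homCongr, Linear.smul_comp]
    erw [Iso.inv_hom_id_app_assoc, Iso.inv_hom_id]
  · haveI := hA.2 i hi
    exact (Linear.homCongr A ((DerivedCategory.Q.mapIso (ringIso I)) ≪≫ eI)
      ((shiftFunctor (Dual.D A) i).mapIso eI)).symm.toEquiv.subsingleton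

end Groth.L29.HomD

namespace Groth.L29.HomD

variable {A : Type u} [CommRing A]

/-- `Hom(X, W⟦n⟧⟦i⟧) = Hom(X, W⟦n + i⟧)` -/
noncomputable def homShiftEquiv (X W : Dual.D A) (n i j : ℤ) (h : n + i = j) :
    (X ⟶ (W⟦n⟧)⟦i⟧) ≃ₗ[A] (X ⟶ W⟦j⟧) :=
  Linear.homCongr A (Iso.refl X) ((shiftFunctorAdd' (Dual.D A) n i j h).app W).symm

/-- shifts of dualizing complexes are dualizing -/
theorem isDualizing_shift {W : Dual.D A} (h : Dual.IsDualizing A W) (n : ℤ) :
    Dual.IsDualizing A (W⟦n⟧) where
  isNoetherianRing := h.isNoetherianRing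
  finite_injective_dimension := by
    obtain ⟨a, b, hab⟩ := h.finite_injective_dimension
    refine ⟨a - n, b - n, fun M _ _ i hi => ?_⟩
    haveI := hab M (n + i) (by lia)
    exact (homShiftEquiv _ W n i (n + i) rfl).toEquiv.subsingleton
  finite_cohomology i := by
    haveI := h.finite_cohomology (i + n)
    exact Module.Finite.equiv
      (Groth.L10.hShiftIso (A := ModuleCat.{u} A) W n i (i + n) (by lia)).toLinearEquiv.symm
  toEnd_bijective := by
    let F := shiftFunctor (Dual.D A) n
    let e : (W ⟶ W) ≃ₗ[A] (W⟦n⟧ ⟶ W⟦n⟧) :=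
      LinearEquiv.ofBijective (F.mapLinearMap A) ⟨F.map_injective, F.map_surjective⟩
    have h2 := e.bijective.comp h.toEnd_bijective
    convert h2 using 1
    funext x
    change x • 𝟙 _ = F.map (x • 𝟙 W)
    rw [Functor.map_smul, CategoryTheory.Functor.map_id]
  ext_self_subsingleton i hi := by
    haveI := h.ext_self_subsingleton i hi
    let F := shiftFunctor (Dual.D A) n
    let e : (W ⟶ W⟦i⟧) ≃ₗ[A] (W⟦n⟧ ⟶ (W⟦n⟧)⟦i⟧) :=
      (LinearEquiv.ofBijective (F.mapLinearMap A) ⟨F.map_injective, F.map_surjective⟩).trans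
        (Linear.homCongr A (Iso.refl _) (shiftComm W i n))
    exact e.symm.toEquiv.subsingleton

end Groth.L29.HomD
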