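import Groth.Agent.L29.Dual.LocalDualityPairing
import Groth.Agent.L29.Dual.LocalDualityCor
import Groth.Agent.S0299

/-!
Uniqueness of dualizing complexes over a Noetherian local ring.
-/

universe u w

open CategoryTheory CategoryTheory.Limits CategoryTheory.Pretriangulated IsLocalRing

attribute [local instance] HasDerivedCategory.standard

set_option backward.isDefEq.respectTransparency false

namespace Groth.L29.Unique

open Groth.L29.HomD Groth.L29.LocDual

variable {A : Type u} [CommRing A] [IsLocalRing A] [IsNoetherianRing A]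

omit [IsLocalRing A] in
/-- finiteness of maps out of a bounded object with finite cohomology -/
lemma finite_hom_bounded {W : Dual.D A} (hW : Good W) (X : Dual.D A) (a b : ℤ) [X.IsGE a] [X.IsLE b]
    (hfin : ∀ i : ℤ, Module.Finite A (Dual.HD A X i)) (i : ℤ) : Module.Finite A (X ⟶ W⟦i⟧) := by
  refine HomD.bounded_induction (fun Y => Module.Finite A (Y ⟶ W⟦i⟧)) ?_ ?_ ?_ X a b ?_
  · intro X Y e hX
    exact Module.Finite.equiv (Linear.homCongr A e (Iso.refl _))
  · intro T hT h1 h3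
    exact finite_of_triangle T hT _ h1 h3
  · intro Y hY
    haveI : Subsingleton (Y ⟶ W⟦i⟧) := ⟨fun p q => hY.eq_of_src p q⟩
    infer_instance
  · intro n _ _
    haveI := hfin n
    haveI := HomD.finite_hom W hW (Dual.HD A X n) (i + n)
    exact Module.Finite.equiv (singleHomEquiv W _ n i).symm

lemma exists_normalized_shift {ω : Dual.D A} (hω : Dual.IsDualizing A ω) :
    ∃ n : ℤ, Dual.IsDualizing A (ω⟦n⟧) ∧ Dual.IsNormalized A (ω⟦n⟧) := by
  obtain ⟨n, h1, -⟩ := residue_degree (maximalIdeal A) hω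
  exact ⟨n, isDualizing_shift hω n, fun i hi =>
    haveI : Subsingleton (Dual.inD A (ResidueField A) ⟶ ω⟦n + i⟧) := h1 (n + i) (by lia)
    (homShiftEquiv _ ω n i (n + i) rfl).toEquiv.subsingleton⟩

variable {E : Type u} [AddCommGroup E] [Module A E] {ω ω' : Dual.D A}

lemma hom_P_shift_eq_zero (hω : Dual.IsDualizing A ω) (hn : Dual.IsNormalized A ω) (k : ℕ) (n : ℤ)
    (hne : n ≠ 0) : Subsingleton (P A k ⟶ ω⟦n⟧) :=
  subsingleton_hom_of_kills hω hn (A ⧸ maximalIdeal A ^ k) k (fun a ha x => by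
    obtain ⟨x, rfl⟩ := Submodule.Quotient.mk_surjective _ x
    exact (Submodule.Quotient.mk_eq_zero _).2 (Ideal.mul_mem_right _ _ ha)) n hne

/-- a finite module whose dual is the hull is free of rank one -/
theorem exists_generator {f : ResidueField A →ₗ[A] E} (hf : InjHull.IsInjectiveHull f) {N : Type w}
    [AddCommGroup N] [Module A N] [Module.Finite A N] (Ψ : E ≃ₗ[A] (N →ₗ[A] E)) :
    ∃ t : N, Function.Bijective fun a : A => a • t := by
  obtain ⟨N₀, _, _, _, ⟨e₀⟩⟩ := exists_small (A := A) N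
  let Ψ₀ : E ≃ₗ[A] (N₀ →ₗ[A] E) := Ψ ≪≫ₗ e₀.symm.arrowCongr (LinearEquiv.refl A E)
  suffices h : ∃ t : N₀, Function.Bijective fun a : A => a • t by
    obtain ⟨t, ht⟩ := h
    refine ⟨e₀ t, ?_⟩
    have : (fun a : A => a • e₀ t) = e₀ ∘ fun a : A => a • t := funext fun a => (map_smul e₀ a t).symm
    exact this ▸ e₀.bijective.comp ht
  let φ₀ := Ψ₀ (f 1)
  obtain ⟨t, ht⟩ : ∃ t, φ₀ t ≠ 0 := by
    by_contra! h
    exact Groth.L04.hull_one_ne_zero hf (Ψ₀.map_eq_zero_iff.1 (LinearMap.ext h : φ₀ = 0))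
  have htop : Submodule.span A ({t} : Set N₀) = ⊤ := by
    refine top_le_iff.1 (Submodule.le_of_le_smul_of_le_jacobson_bot Module.Finite.fg_top
      (maximalIdeal_le_jacobson ⊥) ?_)
    by_contra h
    obtain ⟨x, -, hx⟩ := SetLike.not_le_iff_exists.1 h
    let U := Submodule.span A ({t} : Set N₀) ⊔ maximalIdeal A • (⊤ : Submodule A N₀)
    obtain ⟨φ, hφ⟩ := Groth.L04.exists_hom_ne_zero hf (x := U.mkQ x)
      (fun h0 => hx ((Submodule.Quotient.mk_eq_zero U).1 h0))
    let φ' : N₀ →ₗ[A] E := φ.comp U.mkQ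
    obtain ⟨r, hr⟩ := Groth.L04.exists_smul_of_killed hf (x := Ψ₀.symm φ') fun a ha => by
      rw [← map_smul, LinearEquiv.map_eq_zero_iff]
      refine LinearMap.ext fun y => ?_
      change a • φ (U.mkQ y) = 0
      rw [← map_smul, ← map_smul, Submodule.mkQ_apply,
        (Submodule.Quotient.mk_eq_zero U).2 (Submodule.mem_sup_right (Submodule.smul_mem_smul ha trivial)),
        map_zero]
    have hr' : φ' = r • φ₀ := by
      rw [← Ψ₀.apply_symm_apply φ', hr, map_smul]
    have ht0 : φ' t = 0 := by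
      change φ (U.mkQ t) = 0
      rw [Submodule.mkQ_apply, (Submodule.Quotient.mk_eq_zero U).2
        (Submodule.mem_sup_left (Submodule.mem_span_singleton_self t)), map_zero]
    have hrm : r ∈ maximalIdeal A := by
      by_contra hu
      obtain ⟨u, rfl⟩ := not_not.1 (fun h' => hu ((mem_maximalIdeal r).2 h'))
      rw [hr'] at ht0
      exact ht ((smul_eq_zero_iff_eq u).1 ht0)
    have : φ' = 0 := by
      rw [hr', ← map_smul, ← map_smul f, Groth.L04.smul_residueField_eq_zero hrm, map_zero, map_zero]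
    exact hφ (LinearMap.congr_fun this x)
  refine ⟨t, (injective_iff_map_eq_zero (LinearMap.toSpanSingleton A N₀ t)).2 fun a ha => ?_, fun x => ?_⟩
  · have h1 : ∀ e : E, a • e = 0 := fun e => by
      rw [← Ψ₀.map_eq_zero_iff, map_smul]
      refine LinearMap.ext fun y => ?_
      obtain ⟨c, rfl⟩ := Submodule.mem_span_singleton.1 (htop ▸ Submodule.mem_top : y ∈ Submodule.span A {t})
      change a • Ψ₀ e (c • t) = 0
      rw [← map_smul, smul_comm, show a • t = 0 from ha, smul_zero, map_zero]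
    by_contra ha0
    obtain ⟨φ, hφ⟩ := Groth.L04.exists_hom_ne_zero hf (M := A) ha0
    rw [← mul_one a, ← smul_eq_mul, map_smul] at hφ
    exact hφ (h1 _)
  · obtain ⟨c, hc⟩ := Submodule.mem_span_singleton.1 (htop ▸ Submodule.mem_top : x ∈ Submodule.span A {t})
    exact ⟨c, hc⟩

set_option maxHeartbeats 800000 in
theorem nonempty_iso_of_normalized (hω : Dual.IsDualizing A ω) (hn : Dual.IsNormalized A ω)
    (hω' : Dual.IsDualizing A ω') (hn' : Dual.IsNormalized A ω') : Nonempty (ω ≅ ω') := by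
  obtain ⟨E, _, _, f, hf⟩ := Groth.Agent.S0299.result A (ResidueField A)
  obtain ⟨S⟩ := exists_pairing hω hn f hf
  obtain ⟨S'⟩ := exists_pairing hω' hn' f hf
  obtain ⟨a, b, hab⟩ := hω.finite_injective_dimension
  haveI := isGE_of_lower a fun M _ _ i hi => hab M i (Or.inl hi)
  haveI : ω.IsLE b := (DerivedCategory.isLE_iff ω b).2 fun i hi => by
    haveI := hab A i (Or.inr hi)
    haveI : Subsingleton (Dual.HD A ω i) := (evalShiftEquiv ω i).symm.toEquiv.subsingleton
    exact ModuleCat.isZero_of_subsingleton _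
  have hLD : ∀ n : ℤ, LD S' (ω⟦n⟧) := LD.of_bounded S' ω a b hω.finite_cohomology
  obtain ⟨hi0, hs0⟩ : LD S' ω := LD.of_iso S' ((shiftFunctorZero (Dual.D A) ℤ).app ω) (hLD 0)
  have hfinN : ∀ i : ℤ, Module.Finite A (ω ⟶ ω'⟦i⟧) :=
    finite_hom_bounded (good_of_isDualizing hω') ω a b hω.finite_cohomology
  have hN : ∀ i : ℤ, i ≠ 0 → Subsingleton (ω ⟶ ω'⟦i⟧) := fun i hi => by
    haveI := hfinN i
    let e : (ω⟦-i⟧ ⟶ ω') ≃ₗ[A] (ω ⟶ ω'⟦i⟧) := (Groth.L29.RestrictAdj.shiftLeft ω ω' i).symm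
    haveI : Module.Finite A (ω⟦-i⟧ ⟶ ω') := Module.Finite.equiv e.symm
    obtain ⟨N₀, _, _, _, ⟨e₀⟩⟩ := exists_small (A := A) (ω⟦-i⟧ ⟶ ω')
    have hz : ∀ φ : (ω⟦-i⟧ ⟶ ω') →ₗ[A] E, φ = 0 := fun φ => by
      obtain ⟨k, x, rfl⟩ := (hLD (-i)).2 φ
      haveI := hom_P_shift_eq_zero hω hn k (-i) (by omega)
      rw [Subsingleton.elim x 0, map_zero]
    haveI : Subsingleton N₀ := subsingleton_of_forall_eq 0 fun x => by
      by_contra hx
      obtain ⟨φ, hφ⟩ := Groth.L04.exists_hom_ne_zero hf hx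
      have := LinearMap.congr_fun (hz (φ.comp e₀.symm.toLinearMap)) (e₀ x)
      exact hφ (by simpa using this)
    exact (e₀.trans e).symm.toEquiv.subsingleton
  haveI : Module.Finite A (ω ⟶ ω') :=
    haveI := hfinN 0
    Module.Finite.equiv (Linear.homCongr A (Iso.refl ω) ((shiftFunctorZero (Dual.D A) ℤ).app ω'))
  have htors : ∀ e : E, ∃ k, ∀ r ∈ maximalIdeal A ^ k, r • e = 0 := isTorsion S
  have hrep : ∀ e : E, ∃ (k : ℕ) (x : P A k ⟶ ω), S.ev k x = e := fun e => by
    obtain ⟨k, hk⟩ := htors e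
    exact ⟨k, S.ev_surjective k e hk⟩
  choose kE xE hxE using hrep
  have hwd : ∀ (k : ℕ) (x : P A k ⟶ ω) (e : E), S.ev k x = e →
      pair S' (kE e) ω (xE e) = pair S' k ω x := fun k x e h => by
    rw [← pair_res S' (le_max_left (kE e) k) (xE e), ← pair_res S' (le_max_right (kE e) k) x]
    refine congrArg _ (S.ev_injective _ ?_)
    rw [S.ev_res, S.ev_res, hxE, h]
  let Ψl : E →ₗ[A] ((ω ⟶ ω') →ₗ[A] E) :=
    { toFun := fun e => pair S' (kE e) ω (xE e)
      map_add' := fun e e' => by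
        rw [hwd _ (res (le_max_left (kE e) (kE e')) ≫ xE e + res (le_max_right (kE e) (kE e')) ≫ xE e')
          (e + e') (by rw [map_add, S.ev_res, S.ev_res, hxE, hxE]), map_add, pair_res, pair_res]
      map_smul' := fun r e => by
        rw [RingHom.id_apply, hwd _ (r • xE e) (r • e) (by rw [map_smul, hxE]), map_smul] }
  have hΨ : Function.Bijective Ψl := by
    refine ⟨(injective_iff_map_eq_zero _).2 fun e he => ?_, fun φ => ?_⟩
    · obtain ⟨l, hl, hl0⟩ := hi0 _ _ he
      rw [← hxE e, ← S.ev_res hl, hl0, map_zero]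
    · obtain ⟨k, x, hx⟩ := hs0 φ
      exact ⟨S.ev k x, (hwd k x _ rfl).trans hx⟩
  obtain ⟨t, ht⟩ := exists_generator hf (LinearEquiv.ofBijective Ψl hΨ)
  -- composition with `t` is bijective on maps from the residue field
  have hres : ∀ x : P A 1 ⟶ ω, x ≫ t = 0 → x = 0 := fun x hx => by
    have h0 : pair S' 1 ω x = 0 := LinearMap.ext fun s => by
      obtain ⟨c, rfl⟩ := ht.2 s
      rw [map_smul, pair_apply, hx, map_zero, smul_zero, LinearMap.zero_apply]
    obtain ⟨l, hl, hl0⟩ := hi0 1 x h0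
    refine S.ev_injective 1 ?_
    rw [← S.ev_res hl, hl0, map_zero, map_zero]
  obtain ⟨f', hf'⟩ : ∃ f' : ResidueField A →ₗ[A] E, InjHull.IsInjectiveHull f' := ⟨f, hf⟩
  obtain ⟨x₀, hx₀⟩ := S.ev_surjective 1 (f 1) fun r hr => by
    rw [← map_smul, Groth.L04.smul_residueField_eq_zero (by simpa using hr), map_zero]
  have hx₀' : S'.ev 1 (x₀ ≫ t) ≠ 0 := fun h => Groth.L04.hull_one_ne_zero hf (by
    rw [← hx₀, hres x₀ (S'.ev_injective 1 (h.trans (map_zero _).symm)), map_zero])
  have hsurj : ∀ y : P A 1 ⟶ ω', ∃ x : P A 1 ⟶ ω, x ≫ t = y := fun y => by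
    obtain ⟨r₀, hr₀⟩ := Groth.L04.exists_smul_of_killed hf (x := S'.ev 1 (x₀ ≫ t))
      fun r hr => killed_ev S' _ (by simpa using hr)
    have hu : IsUnit r₀ := by
      by_contra hu
      exact hx₀' (by rw [hr₀, ← map_smul,
        Groth.L04.smul_residueField_eq_zero ((mem_maximalIdeal r₀).2 hu), map_zero])
    obtain ⟨r, hr⟩ := Groth.L04.exists_smul_of_killed hf (x := S'.ev 1 y)
      fun r hr => killed_ev S' _ (by simpa using hr)
    obtain ⟨v, rfl⟩ := hu
    refine ⟨(r * (↑v⁻¹ : A)) • x₀, S'.ev_injective 1 ?_⟩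
    rw [Linear.smul_comp, map_smul, hr₀, smul_smul, mul_assoc, Units.inv_mul, mul_one, hr]
  -- the cone vanishes
  obtain ⟨C, g, h, hT⟩ := distinguished_cocone_triangle t
  obtain ⟨a', b', hab'⟩ := hω'.finite_injective_dimension
  have hC : ∀ i : ℤ, Subsingleton (P A 1 ⟶ C⟦i⟧) := fun i => by
    have hTi := Triangle.shift_distinguished _ hT i
    refine subsingleton_of_forall_eq 0 fun y => ?_
    obtain ⟨z, hz⟩ : ∃ z : P A 1 ⟶ ω'⟦i⟧, z ≫ (i.negOnePow • g⟦i⟧') = y := by
      by_cases hi : i = -1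
      · subst hi
        have h3 : y ≫ ((Triangle.shiftFunctor (Dual.D A) (-1)).obj (Triangle.mk t g h)).mor₃ = 0 := by
          let eS : (ω⟦(-1 : ℤ)⟧)⟦(1 : ℤ)⟧ ≅ ω :=
            (shiftFunctorCompIsoId (Dual.D A) (-1) 1 (by lia)).app ω
          let x : P A 1 ⟶ ω := (y ≫ ((Triangle.shiftFunctor (Dual.D A) (-1)).obj (Triangle.mk t g h)).mor₃) ≫ eS.hom
          have hx : x ≫ t = 0 := by
            have h31 : ((Triangle.shiftFunctor (Dual.D A) (-1)).obj (Triangle.mk t g h)).mor₃ ≫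
                (((Triangle.shiftFunctor (Dual.D A) (-1)).obj (Triangle.mk t g h)).mor₁)⟦(1 : ℤ)⟧' = 0 :=
              comp_distTriang_mor_zero₃₁ _ hTi
            have hnat : ((t⟦(-1 : ℤ)⟧')⟦(1 : ℤ)⟧') ≫
                ((shiftFunctorCompIsoId (Dual.D A) (-1) 1 (by lia)).app ω').hom = eS.hom ≫ t :=
              (shiftFunctorCompIsoId (Dual.D A) (-1) 1 (by lia)).hom.naturality t
            have h1 : ((Triangle.shiftFunctor (Dual.D A) (-1)).obj (Triangle.mk t g h)).mor₁ =
                ((-1 : ℤ)).negOnePow • t⟦(-1 : ℤ)⟧' := rfl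
            rw [h1, Units.smul_def, Functor.map_zsmul] at h31
            simp only [Int.negOnePow_neg, Int.negOnePow_one, Units.val_neg, Units.val_one, neg_smul,
              one_smul, Preadditive.comp_neg, neg_eq_zero] at h31
            simp only [x, Category.assoc]
            rw [← hnat]
            erw [reassoc_of% h31]
            simp
          have := hres x hx
          exact (cancel_mono eS.hom).1 (this.trans zero_comp.symm)
        obtain ⟨z, hz⟩ := Triangle.coyoneda_exact₂ _ (rot_of_distTriang _ hTi) y h3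
        exact ⟨z, hz.symm⟩
      · obtain ⟨z, hz⟩ := Triangle.coyoneda_exact₂ _ (rot_of_distTriang _ hTi) y
          (haveI : Subsingleton (P A 1 ⟶ (ω⟦i⟧)⟦(1 : ℤ)⟧) :=
            haveI := hom_P_shift_eq_zero hω hn 1 (i + 1) (by lia)
            (Linear.homCongr A (Iso.refl (P A 1))
              ((shiftFunctorAdd' (Dual.D A) i 1 (i + 1) rfl).app ω)).symm.toEquiv.subsingleton
           Subsingleton.elim (α := P A 1 ⟶ (ω⟦i⟧)⟦(1 : ℤ)⟧) _ _)
        exact ⟨z, hz.symm⟩
    by_cases hi0' : i = 0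
    · subst hi0'
      obtain ⟨x, hx⟩ := hsurj (z ≫ (shiftFunctorZero (Dual.D A) ℤ).hom.app ω')
      have hz' : z = (x ≫ (shiftFunctorZero (Dual.D A) ℤ).inv.app ω) ≫ t⟦(0 : ℤ)⟧' := by
        rw [← cancel_mono ((shiftFunctorZero (Dual.D A) ℤ).hom.app ω'), ← hx]
        simp
      have h12 : t⟦(0 : ℤ)⟧' ≫ g⟦(0 : ℤ)⟧' = 0 := by
        rw [← Functor.map_comp, show t ≫ g = 0 from comp_distTriang_mor_zero₁₂ _ hT, Functor.map_zero]
      rw [← hz, hz']
      simp only [Int.negOnePow_zero, one_smul, Category.assoc, h12, comp_zero]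
    · haveI := hom_P_shift_eq_zero hω' hn' 1 i hi0'
      rw [← hz, Subsingleton.elim z 0, zero_comp]
  have hgood : Good C := by
    haveI hGE : ω'.IsGE a' := isGE_of_lower a' fun M _ _ i hi => hab' M i (Or.inl hi)
    refine ⟨⟨min (a - 1) a', fun M _ _ i hi => ?_⟩, fun i => ?_⟩
    · have hTi := Triangle.shift_distinguished _ hT i
      refine subsingleton_of_forall_eq 0 fun y => ?_
      haveI : Subsingleton (Dual.inD A M ⟶ (ω⟦i⟧)⟦(1 : ℤ)⟧) :=
        haveI := hab M (i + 1) (Or.inl (by lia))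
        (Linear.homCongr A (Iso.refl (Dual.inD A M))
          ((shiftFunctorAdd' (Dual.D A) i 1 (i + 1) rfl).app ω)).symm.toEquiv.subsingleton
      obtain ⟨z, hz⟩ := Triangle.coyoneda_exact₂ _ (rot_of_distTriang _ hTi) y
        (Subsingleton.elim (α := Dual.inD A M ⟶ (ω⟦i⟧)⟦(1 : ℤ)⟧) _ _)
      haveI := hab' M i (Or.inl (by lia))
      rw [hz, Subsingleton.elim (α := Dual.inD A M ⟶ ω'⟦i⟧) z 0]
      exact zero_comp
    · haveI := hω'.finite_cohomology i
      haveI := hω.finite_cohomology (i + 1)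
      haveI : IsNoetherian A (Dual.HD A ω' i) := isNoetherian_of_isNoetherianRing_of_finite A _
      haveI : IsNoetherian A (Dual.HD A ω (i + 1)) := isNoetherian_of_isNoetherianRing_of_finite A _
      have hex := DerivedCategory.HomologySequence.exact₃ _ hT i (i + 1) rfl
      rw [ShortComplex.moduleCat_exact_iff_range_eq_ker] at hex
      let H := DerivedCategory.homologyFunctor (ModuleCat.{u} A)
      haveI : IsNoetherian A ((H i).obj C) :=
        isNoetherian_of_range_eq_ker (R := A) (M := Dual.HD A ω' i) (N := (H i).obj C)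
          (P := Dual.HD A ω (i + 1)) _ _ hex
      exact inferInstanceAs (Module.Finite A ((H i).obj C))
  have hCn : ∀ s : ℤ, Dual.IsNormalized A (C⟦s⟧) := fun s i _ => by
    haveI := hC (s + i)
    haveI : Subsingleton (P A 1 ⟶ (C⟦s⟧)⟦i⟧) :=
      (homShiftEquiv _ C s i (s + i) rfl).toEquiv.subsingleton
    exact (Linear.homCongr A ((DerivedCategory.singleFunctor (ModuleCat.{u} A) 0).mapIso
      (Submodule.quotEquivOfEq _ _ (pow_one (maximalIdeal A))).toModuleIso)
      (Iso.refl ((C⟦s⟧)⟦i⟧))).symm.toEquiv.subsingleton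
  have hCz : IsZero C := by
    haveI : ∀ j : ℤ, Subsingleton (Dual.HD A C j) := fun j => by
      obtain ⟨d, hd⟩ := Groth.L01.exists_dim_eq_nat (R := A)
      have hgs : Good (C⟦j - 1⟧) := by
        obtain ⟨a0, ha0⟩ := hgood.low
        refine ⟨⟨a0 - (j - 1), fun M _ _ i hi => ?_⟩, fun i => ?_⟩
        · haveI := ha0 M (j - 1 + i) (by lia)
          exact (homShiftEquiv _ C (j - 1) i (j - 1 + i) rfl).toEquiv.subsingleton
        · haveI := hgood.fin (j - 1 + i)
          exact Module.Finite.equiv ((evalShiftEquiv C (j - 1 + i)).symm ≪≫ₗ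
            (homShiftEquiv _ C (j - 1) i (j - 1 + i) rfl).symm ≪≫ₗ evalShiftEquiv (C⟦j - 1⟧) i)
      haveI := (bound (C⟦j - 1⟧) hgs (hCn (j - 1)) d A
        ((Module.supportDim_le_ringKrullDim _ _).trans hd.le) 1).1 (by lia)
      exact ((homShiftEquiv _ C (j - 1) 1 j (by lia)).trans (evalShiftEquiv C j)).symm.toEquiv.subsingleton
    refine (IsZero.iff_id_eq_zero C).2 ?_
    haveI : C.IsLE 0 := (DerivedCategory.isLE_iff C 0).2 fun i _ => ModuleCat.isZero_of_subsingleton _
    haveI : C.IsGE 1 := (DerivedCategory.isGE_iff C 1).2 fun i _ => ModuleCat.isZero_of_subsingleton _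
    exact (DerivedCategory.TStructure.t.isZero C 0 1 (by lia)).eq_of_src _ _
  haveI : IsIso t := (Triangle.isZero₃_iff_isIso₁ _ hT).1 hCz
  exact ⟨asIso t⟩

theorem exists_shift_iso (hω : Dual.IsDualizing A ω) (hω' : Dual.IsDualizing A ω') :
    ∃ n : ℤ, Nonempty (ω' ≅ ω⟦n⟧) := by
  obtain ⟨n, hn, hnn⟩ := exists_normalized_shift hω
  obtain ⟨m, hm, hmn⟩ := exists_normalized_shift hω'
  obtain ⟨e⟩ := nonempty_iso_of_normalized hm hmn hn hnn
  exact ⟨n - m, ⟨((shiftFunctorCompIsoId (Dual.D A) m (-m) (add_neg_cancel m)).app ω').symm ≪≫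
    (shiftFunctor (Dual.D A) (-m)).mapIso e ≪≫
    ((shiftFunctorAdd' (Dual.D A) n (-m) (n - m) (by lia)).app ω).symm⟩⟩

end Groth.L29.Unique
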