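import Groth.Agent.L29.Dual.ExactHomology
import Groth.Agent.L29.Dual.Bounds
import Groth.Agent.L29.Dual.Devissage
import Groth.Prelude.Def_DDual2
import Mathlib.Algebra.Category.ModuleCat.Descent
import Mathlib.RingTheory.Flat.Basic
import Mathlib.CategoryTheory.Functor.Derived.PointwiseLeftDerived

/-!
Flat base change on the derived category: it is exact, and it commutes with `Hom` out of objects
with finite cohomology.
-/

universe u

open CategoryTheory CategoryTheory.Limits CategoryTheory.Pretriangulated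
open scoped TensorProduct

attribute [local instance] HasDerivedCategory.standard

set_option backward.isDefEq.respectTransparency false

namespace Groth.L29.FlatBC

open Groth.L29.HomD

variable (A B : Type u) [CommRing A] [CommRing B] [Algebra A B]

/-- extension of scalars -/
noncomputable abbrev ext : ModuleCat.{u} A ⥤ ModuleCat.{u} B :=
  ModuleCat.extendScalars.{u, u, u} (algebraMap A B)

instance preservesColimits_ext : PreservesFiniteColimits (ext A B) :=
  haveI : PreservesColimitsOfSize.{0, 0} (ext A B) :=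
    (ModuleCat.extendRestrictScalarsAdj.{u, u, u} (algebraMap A B)).leftAdjoint_preservesColimits
  PreservesColimitsOfSize.preservesFiniteColimits _

/-- `B` seen through `algebraMap` is `B` -/
noncomputable def resSelfEquiv :
    (ModuleCat.restrictScalars.{u} (algebraMap A B)).obj (ModuleCat.of B B) ≃ₗ[A] B where
  toFun b := b
  invFun b := b
  map_add' _ _ := rfl
  map_smul' a b := (Algebra.smul_def a (show B from b)).symm
  left_inv _ := rfl
  right_inv _ := rfl

/-- the underlying additive map of `extEquiv` -/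
noncomputable def extEquiv₀ (M : ModuleCat.{u} A) :
    TensorProduct A ((ModuleCat.restrictScalars.{u} (algebraMap A B)).obj (ModuleCat.of B B)) M ≃ₗ[A]
      B ⊗[A] M :=
  TensorProduct.congr (resSelfEquiv A B) (LinearEquiv.refl A M)

open ChangeOfRings in
/-- extension of scalars is the tensor product -/
noncomputable def extEquiv (M : ModuleCat.{u} A) : (ext A B).obj M ≃ₗ[B] B ⊗[A] M where
  toFun x := extEquiv₀ A B M x
  invFun y := (extEquiv₀ A B M).symm y
  map_add' x y := (extEquiv₀ A B M).map_add x y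
  map_smul' c x := by
    change extEquiv₀ A B M _ = c • extEquiv₀ A B M _
    induction x using TensorProduct.induction_on with
    | zero =>
      exact ((congrArg (extEquiv₀ A B M) (smul_zero c)).trans (map_zero _)).trans
        ((congrArg (c • ·) (map_zero (extEquiv₀ A B M))).trans (smul_zero c)).symm
    | tmul b m => rfl
    | add x y hx hy =>
      refine (congrArg (extEquiv₀ A B M) (smul_add c x y)).trans ?_
      refine ((extEquiv₀ A B M).map_add _ _).trans ?_
      rw [hx, hy, ← smul_add]
      exact congrArg (c • ·) ((extEquiv₀ A B M).map_add x y).symm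
  left_inv x := (extEquiv₀ A B M).symm_apply_apply x
  right_inv y := (extEquiv₀ A B M).apply_symm_apply y

lemma extEquiv_natural {M N : ModuleCat.{u} A} (g : M ⟶ N) (x : (ext A B).obj M) :
    extEquiv A B N ((ext A B).map g x) = g.hom.baseChange B (extEquiv A B M x) := by
  induction x using TensorProduct.induction_on with
  | zero =>
    erw [map_zero]
  | tmul b m => rfl
  | add x y hx hy =>
    erw [map_add, map_add, hx, hy, map_add, map_add]

variable [Module.Flat A B]

instance preservesFiniteLimits_ext : PreservesFiniteLimits (ext A B) :=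
  ModuleCat.preservesFiniteLimits_extendScalars_of_flat (RingHom.flat_algebraMap_iff.mpr inferInstance)

/-- flat base change on derived categories -/
noncomputable abbrev L : Dual.D A ⥤ Dual.D B := (ext A B).mapDerivedCategory

/-- the left derived functor of a flat base change is termwise base change -/
noncomputable def lbcIso [DRing.HasLBaseChange (algebraMap A B)] :
    DRing.LBaseChange (algebraMap A B) ≅ L A B :=
  haveI : (L A B).IsLeftDerivedFunctor ((ext A B).mapDerivedCategoryFactorsh).hom
      (HomotopyCategory.quasiIso (ModuleCat.{u} A) (ComplexShape.up ℤ)) :=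
    Functor.isLeftDerivedFunctor_of_inverts _ (L A B) (ext A B).mapDerivedCategoryFactorsh
  Functor.leftDerivedUnique _ _
    ((DRing.baseChangeKh (algebraMap A B)).totalLeftDerivedCounit DerivedCategory.Qh
      (HomotopyCategory.quasiIso (ModuleCat.{u} A) (ComplexShape.up ℤ)))
    ((ext A B).mapDerivedCategoryFactorsh).hom
    (HomotopyCategory.quasiIso (ModuleCat.{u} A) (ComplexShape.up ℤ))

/-- `Hⁱ` commutes with flat base change -/
noncomputable def hEquiv (X : Dual.D A) (i : ℤ) :
    Dual.HD B ((L A B).obj X) i ≃ₗ[B] B ⊗[A] Dual.HD A X i :=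
  (show Dual.HD B ((L A B).obj X) i ≃ₗ[B] _ from ((ExactHomology.hIso (ext A B) i).app X).toLinearEquiv).trans
    (extEquiv A B ((DerivedCategory.homologyFunctor (ModuleCat.{u} A) i).obj X))

variable {A B}

lemma hEquiv_natural {X Y : Dual.D A} (ψ : X ⟶ Y) (i : ℤ) (x : Dual.HD B ((L A B).obj X) i) :
    hEquiv A B Y i ((DerivedCategory.homologyFunctor (ModuleCat.{u} B) i).map ((L A B).map ψ) x) =
      ((DerivedCategory.homologyFunctor (ModuleCat.{u} A) i).map ψ).hom.baseChange B (hEquiv A B X i x) :=
  (congrArg (extEquiv A B ((DerivedCategory.homologyFunctor (ModuleCat.{u} A) i).obj Y))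
    (LinearMap.congr_fun (congrArg ModuleCat.Hom.hom ((ExactHomology.hIso (ext A B) i).hom.naturality ψ)) x)).trans
    (extEquiv_natural A B _ _)

/-- base change carries multiplication by `a` to multiplication by its image -/
lemma map_smul_id (a : A) (X : Dual.D A) :
    (L A B).map (a • 𝟙 X) = algebraMap A B a • 𝟙 ((L A B).obj X) := by
  let Y := DerivedCategory.Q.objPreimage X
  let e : DerivedCategory.Q.obj Y ≅ X := DerivedCategory.Q.objObjPreimageIso X
  have hM : ∀ M : ModuleCat.{u} A, (ext A B).map (a • 𝟙 M) = algebraMap A B a • 𝟙 ((ext A B).obj M) :=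
    fun M => ModuleCat.hom_ext (LinearMap.ext fun z => (extEquiv A B M).injective (by
      rw [extEquiv_natural]
      change (a • (LinearMap.id : M →ₗ[A] M)).baseChange B (extEquiv A B M z) =
        extEquiv A B M (algebraMap A B a • z)
      rw [map_smul, LinearMap.baseChange_smul, LinearMap.baseChange_id, LinearMap.smul_apply,
        LinearMap.id_apply, algebraMap_smul]))
  have hY : (L A B).map (a • 𝟙 (DerivedCategory.Q.obj Y)) =
      algebraMap A B a • 𝟙 ((L A B).obj (DerivedCategory.Q.obj Y)) := by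
    have h1 : a • 𝟙 (DerivedCategory.Q.obj Y) = DerivedCategory.Q.map (a • 𝟙 Y) := by
      rw [Functor.map_smul, CategoryTheory.Functor.map_id]
    have h2 : ((ext A B).mapHomologicalComplex (ComplexShape.up ℤ)).map (a • 𝟙 Y) =
        algebraMap A B a • 𝟙 (((ext A B).mapHomologicalComplex (ComplexShape.up ℤ)).obj Y) :=
      HomologicalComplex.hom_ext _ _ fun i => hM (Y.X i)
    have h3 := (ext A B).mapDerivedCategoryFactors.hom.naturality (a • 𝟙 Y)
    rw [Functor.comp_map, Functor.comp_map, h2, ← h1, DerivedCategory.Q.map_smul,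
      CategoryTheory.Functor.map_id, Linear.comp_smul] at h3
    rw [← cancel_mono ((ext A B).mapDerivedCategoryFactors.hom.app Y), Linear.smul_comp, Category.id_comp]
    exact h3.trans (congrArg (algebraMap A B a • ·) (Category.comp_id _))
  have h4 : a • 𝟙 X = e.inv ≫ (a • 𝟙 (DerivedCategory.Q.obj Y)) ≫ e.hom := by
    rw [Linear.smul_comp, Category.id_comp, Linear.comp_smul, Iso.inv_hom_id]
  rw [h4, Functor.map_comp, Functor.map_comp, hY, Linear.smul_comp, Category.id_comp,
    Linear.comp_smul, ← Functor.map_comp, Iso.inv_hom_id, CategoryTheory.Functor.map_id]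

variable (B) in
/-- `B ⊗ Hom(X, W) ⟶ Hom(X_B, W_B)` -/
noncomputable def theta (X W : Dual.D A) :
    B ⊗[A] (X ⟶ W) →ₗ[B] ((L A B).obj X ⟶ (L A B).obj W) :=
  letI : Module A ((L A B).obj X ⟶ (L A B).obj W) := Module.compHom _ (algebraMap A B)
  haveI : IsScalarTower A B ((L A B).obj X ⟶ (L A B).obj W) :=
    IsScalarTower.of_algebraMap_smul fun _ _ => rfl
  LinearMap.liftBaseChange B
    { toFun := fun ψ => (L A B).map ψ
      map_add' := fun _ _ => (L A B).map_add
      map_smul' := fun a ψ => by
        change (L A B).map (a • ψ) = algebraMap A B a • (L A B).map ψ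
        rw [← Category.comp_id ψ, ← Linear.comp_smul, Functor.map_comp, map_smul_id, Linear.comp_smul,
          Category.comp_id, Category.comp_id] }

@[simp]
lemma theta_tmul (X W : Dual.D A) (b : B) (ψ : X ⟶ W) :
    theta B X W (b ⊗ₜ ψ) = b • (L A B).map ψ := rfl

lemma theta_natural {X X' : Dual.D A} (f : X' ⟶ X) (W : Dual.D A) (t : B ⊗[A] (X ⟶ W)) :
    theta B X' W ((Linear.leftComp A W f).baseChange B t) = (L A B).map f ≫ theta B X W t := by
  induction t with
  | zero => simp
  | tmul b ψ => simp [Linear.comp_smul]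
  | add s t hs ht => simp [hs, ht, Preadditive.comp_add]

variable (B) in
/-- `Θ` is bijective -/
def Iso' (X W : Dual.D A) : Prop := Function.Bijective (theta B X W)

lemma iso'_of_iso {X X' : Dual.D A} (e : X ≅ X') {W : Dual.D A} (h : Iso' B X W) : Iso' B X' W := by
  have hid : ∀ t : B ⊗[A] (X' ⟶ W),
      (Linear.leftComp A W e.inv).baseChange B ((Linear.leftComp A W e.hom).baseChange B t) = t := by
    intro t
    induction t with
    | zero => simp
    | tmul b ψ => simp
    | add s t hs ht => simp [hs, ht]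
  refine ⟨fun s t hst => ?_, fun g => ?_⟩
  · rw [← hid s, ← hid t, h.1 (by rw [theta_natural, theta_natural, hst] :
      theta B X W ((Linear.leftComp A W e.hom).baseChange B s) =
        theta B X W ((Linear.leftComp A W e.hom).baseChange B t))]
  · obtain ⟨s, hs⟩ := h.2 ((L A B).map e.hom ≫ g)
    refine ⟨(Linear.leftComp A W e.inv).baseChange B s, ?_⟩
    rw [theta_natural, hs, ← Functor.map_comp_assoc, Iso.inv_hom_id, CategoryTheory.Functor.map_id,
      Category.id_comp]

lemma exact_baseChange_leftComp (T : Triangle (Dual.D A)) (hT : T ∈ distTriang _) (W : Dual.D A) :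
    Function.Exact ((Linear.leftComp A W T.mor₂).baseChange B) ((Linear.leftComp A W T.mor₁).baseChange B) := by
  refine Module.Flat.lTensor_exact B (fun φ => ⟨fun h => ?_, ?_⟩)
  · obtain ⟨ψ, hψ⟩ := Triangle.yoneda_exact₂ _ hT φ h
    exact ⟨ψ, hψ.symm⟩
  · rintro ⟨ψ, rfl⟩
    exact ((Category.assoc _ _ _).symm.trans
      ((congrArg (· ≫ ψ) (comp_distTriang_mor_zero₁₂ _ hT)).trans zero_comp))

/-- four lemma, injectivity in the middle -/
lemma injective_of_triangle (T : Triangle (Dual.D A)) (hT : T ∈ distTriang _) (W : Dual.D A)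
    (h3 : Function.Injective (theta B T.obj₃ W)) (h1 : Function.Injective (theta B T.obj₁ W))
    (hs : Function.Surjective (theta B (T.obj₁⟦(1 : ℤ)⟧) W)) :
    Function.Injective (theta B T.obj₂ W) := by
  have hLT := (L A B).map_distinguished _ hT
  rw [injective_iff_map_eq_zero]
  intro t ht
  have h : (Linear.leftComp A W T.mor₁).baseChange B t = 0 :=
    h1 (by rw [theta_natural, ht, comp_zero, map_zero])
  obtain ⟨s, rfl⟩ := (exact_baseChange_leftComp T hT W t).1 h
  rw [theta_natural] at ht
  obtain ⟨r, hr⟩ := Triangle.yoneda_exact₃ _ hLT (theta B T.obj₃ W s) ht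
  obtain ⟨q, hq⟩ := hs (((L A B).commShiftIso (1 : ℤ)).hom.app T.obj₁ ≫ r)
  have hs' : s = (Linear.leftComp A W T.mor₃).baseChange B q := h3 (by
    rw [theta_natural, hq, hr, ← Category.assoc]
    rfl)
  rw [hs']
  have hz : ∀ q : B ⊗[A] (T.obj₁⟦(1 : ℤ)⟧ ⟶ W),
      (Linear.leftComp A W T.mor₂).baseChange B ((Linear.leftComp A W T.mor₃).baseChange B q) = 0 := by
    intro q
    induction q with
    | zero => simp
    | tmul b ψ => simp [comp_distTriang_mor_zero₂₃_assoc _ hT]
    | add s t hs ht => simp [hs, ht]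
  exact hz q

/-- four lemma, surjectivity in the middle -/
lemma surjective_of_triangle (T : Triangle (Dual.D A)) (hT : T ∈ distTriang _) (W : Dual.D A)
    (h3 : Function.Surjective (theta B T.obj₃ W)) (h1 : Function.Surjective (theta B T.obj₁ W))
    (hi : Function.Injective (theta B (T.obj₃⟦(-1 : ℤ)⟧) W)) :
    Function.Surjective (theta B T.obj₂ W) := by
  intro g
  have hLT := (L A B).map_distinguished _ hT
  obtain ⟨q, hq⟩ := h1 ((L A B).map T.mor₁ ≫ g)
  let T' := T.invRotate
  have hT' : T' ∈ distTriang _ := inv_rot_of_distTriang _ hT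
  let m : T.obj₃⟦(-1 : ℤ)⟧ ⟶ T.obj₁ := T'.mor₁
  have hm : m ≫ T.mor₁ = 0 := comp_distTriang_mor_zero₁₂ _ hT'
  have h0 : (Linear.leftComp A W m).baseChange B q = 0 := hi (by
    rw [map_zero, theta_natural, hq, ← Category.assoc, ← Functor.map_comp, hm, Functor.map_zero, zero_comp])
  obtain ⟨s, hs⟩ : ∃ s : B ⊗[A] (T.obj₂ ⟶ W), (Linear.leftComp A W T.mor₁).baseChange B s = q :=
    (exact_baseChange_leftComp T' hT' W q).1 h0
  subst hs
  have hg : (L A B).map T.mor₁ ≫ (g - theta B T.obj₂ W s) = 0 := by
    rw [Preadditive.comp_sub, ← hq]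
    exact sub_eq_zero.2 (theta_natural T.mor₁ W s)
  obtain ⟨r, hr⟩ := Triangle.yoneda_exact₂ _ hLT _ hg
  obtain ⟨p, rfl⟩ := h3 r
  refine ⟨s + (Linear.leftComp A W T.mor₂).baseChange B p, ?_⟩
  rw [map_add, theta_natural]
  exact (add_comm _ _).trans (eq_sub_iff_add_eq.1 hr.symm)

/-- the image of `1` -/
noncomputable def baseOne : Dual.HD B ((L A B).obj (Dual.inD A A)) 0 :=
  (hEquiv A B (Dual.inD A A) 0).symm (1 ⊗ₜ one)

omit [Algebra A B] [Module.Flat A B] in
lemma singleH_one {C : Type u} [CommRing C] :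
    ((DerivedCategory.singleFunctorCompHomologyFunctorIso (ModuleCat.{u} C) 0).app (ModuleCat.of C C)).toLinearEquiv
      (one (A := C)) = (1 : C) := by
  change ((DerivedCategory.singleFunctorCompHomologyFunctorIso (ModuleCat.{u} C) 0).app (ModuleCat.of C C)).hom
    (((DerivedCategory.singleFunctorCompHomologyFunctorIso (ModuleCat.{u} C) 0).app (ModuleCat.of C C)).inv (1 : C)) = (1 : C)
  rw [Iso.inv_hom_id_apply]

omit [Algebra A B] [Module.Flat A B] in
lemma eq_smul_one (x : Dual.HD A (Dual.inD A A) 0) : ∃ a : A, a • one = x := by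
  let e : Dual.HD A (Dual.inD A A) 0 ≃ₗ[A] A :=
    ((DerivedCategory.singleFunctorCompHomologyFunctorIso (ModuleCat.{u} A) 0).app (ModuleCat.of A A)).toLinearEquiv
  have h1 : e one = (1 : A) := singleH_one
  exact ⟨e x, e.injective (by rw [map_smul, h1, smul_eq_mul, mul_one])⟩

lemma baseOne_generates (y : Dual.HD B ((L A B).obj (Dual.inD A A)) 0) : ∃ c : B, c • baseOne = y := by
  obtain ⟨w, rfl⟩ := (hEquiv A B (Dual.inD A A) 0).symm.surjective y
  suffices h : ∃ c : B, c • ((1 : B) ⊗ₜ[A] (one : Dual.HD A (Dual.inD A A) 0)) = w by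
    obtain ⟨c, rfl⟩ := h
    exact ⟨c, (map_smul (hEquiv A B (Dual.inD A A) 0).symm c _).symm⟩
  induction w with
  | zero => exact ⟨0, zero_smul _ _⟩
  | tmul b z =>
    obtain ⟨a, rfl⟩ := eq_smul_one z
    exact ⟨a • b, by rw [TensorProduct.smul_tmul', smul_eq_mul, mul_one, TensorProduct.smul_tmul]⟩
  | add x y hx hy =>
    obtain ⟨c, hc⟩ := hx
    obtain ⟨d, hd⟩ := hy
    exact ⟨c + d, by rw [add_smul, hc, hd]⟩

omit [Module.Flat A B] [Algebra A B] in
lemma eval_bijective_of_generator {P : Dual.D B} (τ : P ≅ Dual.inD B B) (u : Dual.HD B P 0)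
    (hgen : ∀ y : Dual.HD B P 0, ∃ c : B, c • u = y) (Z : Dual.D B) :
    Function.Bijective (fun g : P ⟶ Z => (DerivedCategory.homologyFunctor (ModuleCat.{u} B) 0).map g u) := by
  let eτ : Dual.HD B P 0 ≃ₗ[B] Dual.HD B (Dual.inD B B) 0 :=
    ((DerivedCategory.homologyFunctor (ModuleCat.{u} B) 0).mapIso τ).toLinearEquiv
  let e : Dual.HD B (Dual.inD B B) 0 ≃ₗ[B] B :=
    ((DerivedCategory.singleFunctorCompHomologyFunctorIso (ModuleCat.{u} B) 0).app (ModuleCat.of B B)).toLinearEquiv
  have h1 : e one = (1 : B) := singleH_one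
  obtain ⟨c, hc⟩ : ∃ c : B, c • one = eτ u :=
    ⟨e (eτ u), e.injective (by rw [map_smul, h1, smul_eq_mul, mul_one])⟩
  obtain ⟨d, hd⟩ := hgen (eτ.symm one)
  have hdc : d * c = 1 := by
    have := congrArg (fun x => e (eτ x)) hd
    simp only [map_smul, LinearEquiv.apply_symm_apply, h1, ← hc, smul_eq_mul, mul_one] at this
    exact this
  have key : ∀ g : P ⟶ Z, (DerivedCategory.homologyFunctor (ModuleCat.{u} B) 0).map g u =
      c • evalOne Z (τ.inv ≫ g) := fun g => by
    have h2 : u = c • eτ.symm one := by rw [← map_smul, hc, LinearEquiv.symm_apply_apply]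
    rw [h2, map_smul]
    congr 1
    change _ = (DerivedCategory.homologyFunctor (ModuleCat.{u} B) 0).map (τ.inv ≫ g) one
    rw [Functor.map_comp]
    rfl
  refine ⟨fun g g' h => ?_, fun z => ?_⟩
  · simp only [key] at h
    have h' := congrArg (d • ·) h
    simp only [smul_smul, hdc, one_smul] at h'
    rw [← cancel_epi τ.inv]
    exact (evalOne_bijective Z).1 h'
  · obtain ⟨g, hg⟩ := (evalOne_bijective Z).2 (d • z)
    refine ⟨τ.hom ≫ g, ?_⟩
    simp only [key, Iso.inv_hom_id_assoc, hg, smul_smul, mul_comm c d, hdc, one_smul]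

lemma eval_baseOne_bijective (Z : Dual.D B) : Function.Bijective
    (fun g : (L A B).obj (Dual.inD A A) ⟶ Z =>
      (DerivedCategory.homologyFunctor (ModuleCat.{u} B) 0).map g (baseOne : Dual.HD B _ 0)) :=
  eval_bijective_of_generator
    (((ext A B).mapDerivedCategorySingleFunctor 0).app (ModuleCat.of A A) ≪≫
      (DerivedCategory.singleFunctor (ModuleCat.{u} B) 0).mapIso
        (extEquiv A B (ModuleCat.of A A) ≪≫ₗ TensorProduct.AlgebraTensorModule.rid A B B).toModuleIso)
    baseOne baseOne_generates Z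

theorem iso'_inD_self (W : Dual.D A) : Iso' B (Dual.inD A A) W := by
  let ev := fun g : (L A B).obj (Dual.inD A A) ⟶ (L A B).obj W =>
    (DerivedCategory.homologyFunctor (ModuleCat.{u} B) 0).map g (baseOne : Dual.HD B _ 0)
  have h : ev ∘ theta B (Dual.inD A A) W =
      (hEquiv A B W 0).symm ∘ (evalEquiv W).toLinearMap.baseChange B := by
    funext t
    simp only [Function.comp_apply]
    induction t with
    | zero => simp [ev]
    | tmul b ψ =>
      simp only [ev, theta_tmul, LinearMap.baseChange_tmul]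
      rw [Functor.map_smul]
      change b • (DerivedCategory.homologyFunctor (ModuleCat.{u} B) 0).map ((L A B).map ψ) _ = _
      rw [show b ⊗ₜ[A] (evalEquiv W).toLinearMap ψ = b • ((1 : B) ⊗ₜ[A] (evalEquiv W).toLinearMap ψ) by
        rw [TensorProduct.smul_tmul', smul_eq_mul, mul_one], map_smul]
      congr 1
      refine (hEquiv A B W 0).injective ?_
      rw [LinearEquiv.apply_symm_apply, hEquiv_natural, baseOne, LinearEquiv.apply_symm_apply,
        LinearMap.baseChange_tmul]
      rfl
    | add s t hs ht =>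
      simp only [map_add, ev, Functor.map_add] at hs ht ⊢
      rw [← hs, ← ht]
      rfl
  have h2 : Function.Bijective ((evalEquiv W).toLinearMap.baseChange B) :=
    ((evalEquiv W).baseChange A B).bijective
  exact (Function.Bijective.of_comp_iff' (eval_baseOne_bijective _) _).1
    (h ▸ (hEquiv A B W 0).symm.bijective.comp h2)

lemma theta_natural_right (X : Dual.D A) {W W' : Dual.D A} (g : W ⟶ W') (t : B ⊗[A] (X ⟶ W)) :
    theta B X W' ((Linear.rightComp A X g).baseChange B t) = theta B X W t ≫ (L A B).map g := by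
  induction t with
  | zero => simp
  | tmul b ψ => simp [Linear.smul_comp]
  | add s t hs ht => simp [hs, ht, Preadditive.add_comp]

lemma iso'_of_iso_right {X W W' : Dual.D A} (e : W ≅ W') (h : Iso' B X W) : Iso' B X W' := by
  have hid : ∀ t : B ⊗[A] (X ⟶ W'),
      (Linear.rightComp A X e.hom).baseChange B ((Linear.rightComp A X e.inv).baseChange B t) = t := by
    intro t
    induction t with
    | zero => simp
    | tmul b ψ => simp
    | add s t hs ht => simp [hs, ht]
  refine ⟨fun s t hst => ?_, fun g => ?_⟩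
  · rw [← hid s, ← hid t, h.1 (by rw [theta_natural_right, theta_natural_right, hst] :
      theta B X W ((Linear.rightComp A X e.inv).baseChange B s) =
        theta B X W ((Linear.rightComp A X e.inv).baseChange B t))]
  · obtain ⟨s, hs⟩ := h.2 (g ≫ (L A B).map e.inv)
    refine ⟨(Linear.rightComp A X e.hom).baseChange B s, ?_⟩
    rw [theta_natural_right, hs, Category.assoc, ← Functor.map_comp, Iso.inv_hom_id,
      CategoryTheory.Functor.map_id, Category.comp_id]

lemma iso'_shift {X W : Dual.D A} (j : ℤ) (h : Iso' B X W) : Iso' B (X⟦j⟧) (W⟦j⟧) := by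
  let F : (X ⟶ W) ≃ₗ[A] (X⟦j⟧ ⟶ W⟦j⟧) :=
    LinearEquiv.ofBijective ((shiftFunctor (Dual.D A) j).mapLinearMap A)
      ⟨(shiftFunctor (Dual.D A) j).map_injective, (shiftFunctor (Dual.D A) j).map_surjective⟩
  let G : ((L A B).obj X ⟶ (L A B).obj W) ≃ₗ[B] ((L A B).obj (X⟦j⟧) ⟶ (L A B).obj (W⟦j⟧)) :=
    (LinearEquiv.ofBijective ((shiftFunctor (Dual.D B) j).mapLinearMap B)
      ⟨(shiftFunctor (Dual.D B) j).map_injective, (shiftFunctor (Dual.D B) j).map_surjective⟩).trans
      (Linear.homCongr B (((L A B).commShiftIso j).app X).symm (((L A B).commShiftIso j).app W).symm)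
  have hsq : ∀ t, theta B (X⟦j⟧) (W⟦j⟧) ((F.baseChange A B) t) = G (theta B X W t) := by
    intro t
    induction t with
    | zero => simp
    | tmul b ψ =>
      rw [theta_tmul, map_smul]
      change theta B _ _ (b ⊗ₜ F ψ) = _
      rw [theta_tmul]
      congr 1
      simp only [F, G, LinearEquiv.trans_apply, LinearEquiv.ofBijective_apply, Linear.homCongr_apply]
      change (L A B).map (ψ⟦j⟧') = (((L A B).commShiftIso j).hom.app X ≫
        ((L A B).map ψ)⟦j⟧') ≫ ((L A B).commShiftIso j).inv.app W
      rw [Category.assoc]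
      rw [← (L A B).commShiftIso_hom_naturality_assoc ψ j, Iso.hom_inv_id_app]
      exact (Category.comp_id _).symm
    | add s t hs ht => simp only [map_add, hs, ht]
  refine (Function.Bijective.of_comp_iff (theta B (X⟦j⟧) (W⟦j⟧)) (F.baseChange A B).bijective).1 ?_
  rw [show (theta B (X⟦j⟧) (W⟦j⟧)) ∘ (F.baseChange A B) = G ∘ theta B X W from funext hsq]
  exact G.bijective.comp h

variable (B) in
/-- bijective in every shift of the source -/
def AllShift (X W : Dual.D A) : Prop := ∀ j : ℤ, Iso' B (X⟦j⟧) W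

lemma allShift_of_iso {X X' W : Dual.D A} (e : X ≅ X') (h : AllShift B X W) : AllShift B X' W :=
  fun j => iso'_of_iso ((shiftFunctor (Dual.D A) j).mapIso e) (h j)

lemma allShift_shift {X W : Dual.D A} (n : ℤ) (h : AllShift B X W) : AllShift B (X⟦n⟧) W :=
  fun j => iso'_of_iso ((shiftFunctorAdd' (Dual.D A) n j (n + j) rfl).app X) (h (n + j))

lemma allShift_of_triangle (T : Triangle (Dual.D A)) (hT : T ∈ distTriang _) (W : Dual.D A)
    (h1 : AllShift B T.obj₁ W) (h3 : AllShift B T.obj₃ W) : AllShift B T.obj₂ W := by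
  intro j
  have hS := Triangle.shift_distinguished T hT j
  refine ⟨injective_of_triangle _ hS W (h3 j).1 (h1 j).1 ?_,
    surjective_of_triangle _ hS W (h3 j).2 (h1 j).2 ?_⟩
  · exact (iso'_of_iso ((shiftFunctorAdd' (Dual.D A) j 1 (j + 1) rfl).app T.obj₁) (h1 (j + 1))).2
  · exact (iso'_of_iso ((shiftFunctorAdd' (Dual.D A) j (-1) (j - 1) (by ring)).app T.obj₃) (h3 (j - 1))).1

lemma allShift_inD_self (W : Dual.D A) : AllShift B (Dual.inD A A) W := fun j =>
  iso'_of_iso_right ((shiftFunctorCompIsoId (Dual.D A) (-j) j (by ring)).app W)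
    (iso'_shift j (iso'_inD_self (W⟦-j⟧)))

lemma iso'_of_subsingleton {X W : Dual.D A} [Subsingleton (X ⟶ W)]
    [Subsingleton ((L A B).obj X ⟶ (L A B).obj W)] : Iso' B X W :=
  ⟨fun s t _ => Subsingleton.elim s t, fun g => ⟨0, Subsingleton.elim _ _⟩⟩

lemma allShift_of_isZero {X W : Dual.D A} (hX : IsZero X) : AllShift B X W := fun j => by
  have h1 : IsZero (X⟦j⟧) := (shiftFunctor (Dual.D A) j).map_isZero hX
  have h2 : IsZero ((L A B).obj (X⟦j⟧)) := (L A B).map_isZero h1
  haveI : Subsingleton (X⟦j⟧ ⟶ W) := ⟨fun p q => h1.eq_of_src p q⟩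
  haveI : Subsingleton ((L A B).obj (X⟦j⟧) ⟶ (L A B).obj W) := ⟨fun p q => h2.eq_of_src p q⟩
  exact iso'_of_subsingleton

lemma allShift_free (W : Dual.D A) : ∀ n : ℕ, AllShift B (Dual.inD A (Fin n → A)) W := by
  intro n
  induction n with
  | zero =>
    exact allShift_of_isZero ((DerivedCategory.singleFunctor (ModuleCat.{u} A) 0).map_isZero
      (ModuleCat.isZero_of_subsingleton _))
  | succ n ih =>
    let e : (Fin (n + 1) → A) ≃ₗ[A] A × (Fin n → A) := (Fin.consLinearEquiv A (fun _ : Fin (n + 1) => A)).symm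
    let f : A →ₗ[A] (Fin (n + 1) → A) := e.symm.toLinearMap ∘ₗ LinearMap.inl A A (Fin n → A)
    let g : (Fin (n + 1) → A) →ₗ[A] (Fin n → A) := LinearMap.snd A A (Fin n → A) ∘ₗ e.toLinearMap
    have hex : Function.Exact f g := by
      intro x
      constructor
      · intro hx
        refine ⟨(e x).1, e.injective ?_⟩
        simp only [f, LinearMap.comp_apply, LinearEquiv.coe_coe, LinearEquiv.apply_symm_apply]
        exact Prod.ext rfl hx.symm
      · rintro ⟨y, rfl⟩
        simp [f, g]
    exact allShift_of_triangle _ (sc_shortExact f g (e.symm.injective.comp LinearMap.inl_injective)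
      ((fun y => ⟨e.symm (0, y), by simp [g]⟩ : Function.Surjective g)) hex).singleTriangle_distinguished W
      (allShift_inD_self W) ih

lemma isLE_L (X : Dual.D A) (n : ℤ) [X.IsLE n] : DerivedCategory.IsLE ((L A B).obj X) n :=
  (DerivedCategory.isLE_iff _ n).2 fun i hi => by
    haveI : Subsingleton (Dual.HD A X i) :=
      ModuleCat.subsingleton_of_isZero (DerivedCategory.isZero_of_isLE X n i hi)
    haveI := (hEquiv A B X i).toEquiv.subsingleton
    exact ModuleCat.isZero_of_subsingleton _

lemma isGE_L (X : Dual.D A) (n : ℤ) [X.IsGE n] : DerivedCategory.IsGE ((L A B).obj X) n :=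
  (DerivedCategory.isGE_iff _ n).2 fun i hi => by
    haveI : Subsingleton (Dual.HD A X i) :=
      ModuleCat.subsingleton_of_isZero (DerivedCategory.isZero_of_isGE X n i hi)
    haveI := (hEquiv A B X i).toEquiv.subsingleton
    exact ModuleCat.isZero_of_subsingleton _

variable [IsNoetherianRing A]

/-- `Hom` out of a finite module commutes with flat base change -/
theorem allShift_inD (W : Dual.D A) (a : ℤ) [W.IsGE a] (M : Type u) [AddCommGroup M] [Module A M]
    [Module.Finite A M] : AllShift B (Dual.inD A M) W := by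
  suffices h : ∀ (k : ℕ) (j : ℤ), -a < j + k → ∀ (M : Type u) [AddCommGroup M] [Module A M]
      [Module.Finite A M], Iso' B ((Dual.inD A M)⟦j⟧) W from
    fun j => h (-a + 1 - j).toNat j (by lia) M
  intro k
  induction k with
  | zero =>
    intro j hj M _ _ _
    have h1 : DerivedCategory.IsLE ((Dual.inD A M)⟦j⟧) (-j) :=
      DerivedCategory.TStructure.t.isLE_shift (Dual.inD A M) 0 j (-j) (by lia)
    haveI : Subsingleton ((Dual.inD A M)⟦j⟧ ⟶ W) := ⟨fun p q => by
      rw [DerivedCategory.TStructure.t.zero p (-j) a (by lia), DerivedCategory.TStructure.t.zero q (-j) a (by lia)]⟩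
    haveI : Subsingleton ((L A B).obj ((Dual.inD A M)⟦j⟧) ⟶ (L A B).obj W) := by
      haveI := isLE_L (B := B) ((Dual.inD A M)⟦j⟧) (-j)
      haveI := isGE_L (B := B) W a
      exact ⟨fun p q => by
        rw [DerivedCategory.TStructure.t.zero p (-j) a (by lia), DerivedCategory.TStructure.t.zero q (-j) a (by lia)]⟩
    exact iso'_of_subsingleton
  | succ k ih =>
    intro j hj
    -- one presentation gives injectivity, the next one surjectivity
    have hup : ∀ (M : Type u) [AddCommGroup M] [Module A M] [Module.Finite A M],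
        Iso' B ((Dual.inD A M)⟦j + 1⟧) W := fun M _ _ _ => ih (j + 1) (by push_cast at hj; lia) M
    have pres : ∀ (M : Type u) [AddCommGroup M] [Module A M] [Module.Finite A M],
        ∃ (n : ℕ) (K : Submodule A (Fin n → A)) (T : Triangle (Dual.D A)),
          T ∈ distTriang _ ∧ T.obj₁ = (Dual.inD A (Fin n → A))⟦j⟧ ∧ T.obj₂ = (Dual.inD A M)⟦j⟧ ∧
            T.obj₃ = ((Dual.inD A K)⟦(1 : ℤ)⟧)⟦j⟧ := by
      intro M _ _ _
      obtain ⟨n, g, hg⟩ := Module.Finite.exists_fin' A M
      exact ⟨n, LinearMap.ker g, _, Triangle.shift_distinguished _ (rot_of_distTriang _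
        (sc_shortExact (LinearMap.ker g).subtype g Subtype.val_injective hg
          g.exact_subtype_ker_map).singleTriangle_distinguished) j, rfl, rfl, rfl⟩
    have hinj : ∀ (M : Type u) [AddCommGroup M] [Module A M] [Module.Finite A M],
        Function.Injective (theta B ((Dual.inD A M)⟦j⟧) W) := by
      intro M _ _ _
      obtain ⟨n, K, T, hT, e1, e2, e3⟩ := pres M
      haveI : Module.Finite A K := Module.Finite.iff_fg.2 (IsNoetherian.noetherian _)
      rw [← e2]
      refine injective_of_triangle T hT W ?_ ?_ ?_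
      · rw [e3]
        exact (iso'_of_iso ((shiftFunctorAdd' (Dual.D A) 1 j (j + 1) (by ring)).app _) (hup K)).1
      · rw [e1]; exact (allShift_free W n j).1
      · rw [e1]
        exact (iso'_of_iso ((shiftFunctorAdd' (Dual.D A) j 1 (j + 1) rfl).app _) (allShift_free W n (j + 1))).2
    intro M _ _ _
    refine ⟨hinj M, ?_⟩
    obtain ⟨n, K, T, hT, e1, e2, e3⟩ := pres M
    haveI : Module.Finite A K := Module.Finite.iff_fg.2 (IsNoetherian.noetherian _)
    rw [← e2]
    refine surjective_of_triangle T hT W ?_ ?_ ?_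
    · rw [e3]
      exact (iso'_of_iso ((shiftFunctorAdd' (Dual.D A) 1 j (j + 1) (by ring)).app _) (hup K)).2
    · rw [e1]; exact (allShift_free W n j).2
    · rw [e3]
      let e : ((((Dual.inD A K)⟦(1 : ℤ)⟧)⟦j⟧)⟦(-1 : ℤ)⟧) ≅ (Dual.inD A K)⟦j⟧ :=
        ((shiftFunctorAdd' (Dual.D A) j (-1) (j - 1) (by ring)).app _).symm ≪≫
          ((shiftFunctorAdd' (Dual.D A) 1 (j - 1) j (by ring)).app _).symm
      intro s t hst
      have hid : ∀ t : B ⊗[A] (((((Dual.inD A K)⟦(1 : ℤ)⟧)⟦j⟧)⟦(-1 : ℤ)⟧) ⟶ W),
          (Linear.leftComp A W e.hom).baseChange B ((Linear.leftComp A W e.inv).baseChange B t) = t := by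
        intro t
        induction t with
        | zero => simp
        | tmul b ψ => simp
        | add s t hs ht => simp [hs, ht]
      rw [← hid s, ← hid t, hinj K (by rw [theta_natural, theta_natural, hst] :
        theta B ((Dual.inD A K)⟦j⟧) W ((Linear.leftComp A W e.inv).baseChange B s) =
          theta B ((Dual.inD A K)⟦j⟧) W ((Linear.leftComp A W e.inv).baseChange B t))]

/-- `Hom` out of bounded objects with finite cohomology commutes with flat base change -/
theorem allShift_bounded (W : Dual.D A) (a : ℤ) [W.IsGE a] (X : Dual.D A) (lo hi : ℤ) [X.IsGE lo]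
    [X.IsLE hi] (hX : ∀ n, Module.Finite A (Dual.HD A X n)) : AllShift B X W := by
  refine bounded_induction (fun Y => AllShift B Y W) (fun e h => allShift_of_iso e h)
    (fun T hT h1 h3 => allShift_of_triangle T hT W h1 h3) (fun Y hY => allShift_of_isZero hY) X lo hi ?_
  intro n _ _
  haveI := hX n
  exact allShift_of_iso
    ((shiftFunctor (Dual.D A) (-n)).mapIso (((DerivedCategory.singleFunctors (ModuleCat.{u} A)).shiftIso n 0 n
      (by simp)).app _).symm ≪≫ (shiftFunctorCompIsoId (Dual.D A) n (-n) (by ring)).app _)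
    (allShift_shift (-n) (allShift_inD W a (Dual.HD A X n)))

end Groth.L29.FlatBC
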