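import Groth.Agent.L29.Dual.SchLocus
import Groth.Agent.L29.DCoh.TildeD
import Groth.Agent.L29.BCAdj.HomVanish

/-!
Gorenstein schemes and invertible dualizing complexes: the chart computation.
-/

set_option autoImplicit false
set_option backward.defeqAttrib.useBackward true
set_option backward.isDefEq.respectTransparency false
set_option backward.isDefEq.respectTransparency.types false

universe u

open CategoryTheory CategoryTheory.Limits AlgebraicGeometry

attribute [local instance] HasDerivedCategory.standard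

namespace Groth.L29.InvChart

open Groth.L29.DC

/-- near a prime where a finite module is free of rank one, it is generated freely by one element -/
theorem exists_gen {A : Type u} [CommRing A] (M : Type u) [AddCommGroup M] [Module A M]
    (p : PrimeSpectrum A)
    (e : LocalizedModule p.asIdeal.primeCompl M ≃ₗ[Localization.AtPrime p.asIdeal] Localization.AtPrime p.asIdeal) :
    ∃ m : M, p ∉ Module.support A (LinearMap.ker (LinearMap.toSpanSingleton A M m)) ∧
      p ∉ Module.support A (M ⧸ LinearMap.range (LinearMap.toSpanSingleton A M m)) := by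
  obtain ⟨⟨m, s⟩, hms⟩ := IsLocalizedModule.surj p.asIdeal.primeCompl
    (LocalizedModule.mkLinearMap p.asIdeal.primeCompl M) (e.symm 1)
  refine ⟨m, Module.notMem_support_iff'.2 fun k => ?_, Module.notMem_support_iff'.2 fun y => ?_⟩
  all_goals
    have he : algebraMap A (Localization.AtPrime p.asIdeal) s.1 =
        e (LocalizedModule.mkLinearMap p.asIdeal.primeCompl M m) := by
      have := congrArg e hms
      rw [Submonoid.smul_def, ← algebraMap_smul (Localization.AtPrime p.asIdeal) s.1, map_smul,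
        e.apply_symm_apply, smul_eq_mul, mul_one] at this
      exact this
  · have hk : k.1 • m = 0 := k.2
    have h0 : algebraMap A (Localization.AtPrime p.asIdeal) (k.1 * s.1) = 0 := by
      rw [map_mul, he, ← Algebra.smul_def]
      calc _ = (e.restrictScalars A) (LocalizedModule.mkLinearMap p.asIdeal.primeCompl M (k.1 • m)) := by
            rw [map_smul, map_smul]; rfl
        _ = 0 := by rw [hk, map_zero, map_zero]
    obtain ⟨c, hc⟩ := (IsLocalization.map_eq_zero_iff p.asIdeal.primeCompl _ _).1 h0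
    refine ⟨c.1 * s.1, p.asIdeal.primeCompl.mul_mem c.2 s.2, Subtype.ext ?_⟩
    show (c.1 * s.1) * k.1 = 0
    rw [mul_assoc, mul_comm s.1 k.1, hc]
  · obtain ⟨y, rfl⟩ := Submodule.Quotient.mk_surjective _ y
    obtain ⟨⟨r, t⟩, hrt⟩ := IsLocalization.surj p.asIdeal.primeCompl
      (e (LocalizedModule.mkLinearMap p.asIdeal.primeCompl M y))
    have h1 : LocalizedModule.mkLinearMap p.asIdeal.primeCompl M ((s.1 * t.1) • y) =
        LocalizedModule.mkLinearMap p.asIdeal.primeCompl M (r • m) := by
      apply (e.restrictScalars A).injective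
      rw [map_smul, map_smul, map_smul, map_smul, Algebra.smul_def, Algebra.smul_def, map_mul]
      show _ * e _ = _ * e _
      rw [← he, ← hrt]
      ring
    obtain ⟨c, hc⟩ := (IsLocalizedModule.eq_iff_exists p.asIdeal.primeCompl
      (LocalizedModule.mkLinearMap p.asIdeal.primeCompl M)).1 h1
    refine ⟨c.1 * (s.1 * t.1), p.asIdeal.primeCompl.mul_mem c.2 (p.asIdeal.primeCompl.mul_mem s.2 t.2), ?_⟩
    rw [← Submodule.Quotient.mk_smul, Submodule.Quotient.mk_eq_zero]
    exact ⟨c.1 * r, by
      rw [LinearMap.toSpanSingleton_apply, mul_smul, mul_smul, ← Submonoid.smul_def, ← Submonoid.smul_def, hc]⟩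

variable {R : CommRingCat.{u}}

/-- restriction of a map of tildes whose kernel and cokernel vanish on the open -/
theorem isIso_restrict_tilde {M N : ModuleCat.{u} R} (f : M ⟶ N) (W : (Spec R).Opens)
    (hk : ∀ q ∈ W, q ∉ Module.support R (kernel f : ModuleCat.{u} R))
    (hc : ∀ q ∈ W, q ∉ Module.support R (cokernel f : ModuleCat.{u} R)) :
    IsIso ((Scheme.Modules.restrictFunctor W.ι).map ((tilde.functor R).map f)) := by
  haveI := Groth.L18.TildeF.tilde_preservesFiniteLimits (R := R)
  let F := tilde.functor R ⋙ Scheme.Modules.restrictFunctor W.ι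
  have hz : ∀ Q : ModuleCat.{u} R, (∀ q ∈ W, q ∉ Module.support R Q) → IsZero (F.obj Q) := fun Q hQ =>
    (Groth.L00.Stk.isZero_iff _).2 fun y => by
      refine (((ModuleCat.extendScalars (Groth.L00.PullStalk.φ W.ι y)).map_isZero
        ((Gen.isZero_stalk_tilde_iff (W.ι y) Q).2 fun m => ?_)).of_iso
        ((Groth.L00.PullStalk.stalkIso W.ι y).app _)).of_iso
        ((Groth.L00.Stk.F (W : Scheme.{u}) y).mapIso ((Scheme.Modules.restrictFunctorIsoPullback W.ι).app _))
      exact Module.notMem_support_iff'.1 (hQ _ y.2) m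
  haveI : F.Additive := inferInstance
  haveI : PreservesFiniteLimits F := comp_preservesFiniteLimits _ _
  haveI : PreservesFiniteColimits F := comp_preservesFiniteColimits _ _
  haveI : Mono (F.map f) := Preadditive.mono_of_isZero_kernel _
    ((hz _ hk).of_iso (PreservesKernel.iso F f).symm)
  haveI : Epi (F.map f) := Preadditive.epi_of_isZero_cokernel _
    ((hz _ hc).of_iso (PreservesCokernel.iso F f).symm)
  exact isIso_of_mono_of_epi (F.map f)

/-- a shift of the structure sheaf -/
def ShiftUnit {Z : Scheme.{u}} (K : DCoh.D Z) : Prop :=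
  ∃ n : ℤ, Nonempty (K ≅ (DCoh.inD Z (Coh.structureModule Z))⟦n⟧)

theorem shiftUnit_iso {Z : Scheme.{u}} {K L : DCoh.D Z} (e : K ≅ L) (h : ShiftUnit K) : ShiftUnit L :=
  let ⟨n, ⟨f⟩⟩ := h
  ⟨n, ⟨e.symm ≪≫ f⟩⟩

theorem shiftUnit_res {Z W : Scheme.{u}} (k : W ⟶ Z) [IsOpenImmersion k] {K : DCoh.D Z} (h : ShiftUnit K) :
    ShiftUnit ((DCoh.restrictD k).obj K) :=
  let ⟨n, ⟨f⟩⟩ := h
  ⟨n, ⟨(DCoh.restrictD k).mapIso f ≪≫ ((DCoh.restrictD k).commShiftIso n).app _ ≪≫
    (shiftFunctor _ n).mapIso (((Scheme.Modules.restrictFunctor k).mapDerivedCategorySingleFunctor 0).app _ ≪≫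
      (DerivedCategory.singleFunctor _ 0).mapIso (Scheme.Modules.restrictUnitIso k))⟩⟩

/-- tilde of the ring -/
theorem nonempty_tildeD_unit [PreservesFiniteLimits (tilde.functor R)] (n : ℤ) :
    Nonempty ((DCoh.tildeD R).obj ((Dual.inD R R)⟦n⟧) ≅
      (DCoh.inD (Spec R) (Coh.structureModule (Spec R)))⟦n⟧) :=
  ⟨((DCoh.tildeD R).commShiftIso n).app _ ≪≫
    (shiftFunctor _ n).mapIso (((tilde.functor R).mapDerivedCategorySingleFunctor 0).app _ ≪≫
      (DerivedCategory.singleFunctor _ 0).mapIso tildeSelf)⟩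

/-- free of rank one in a single degree at `p`: a shift of the structure sheaf near `p` -/
theorem exists_shiftUnit [IsNoetherianRing R] [PreservesFiniteLimits (tilde.functor R)] {ω : Dual.D R}
    (hω : Dual.IsDualizing R ω) (p : Spec R)
    (hG : LocCoh.IsGorensteinLocalRing (Localization.AtPrime p.asIdeal)) :
    ∃ W : (Spec R).Opens, p ∈ W ∧ ShiftUnit ((DCoh.restrictD W.ι).obj ((DCoh.tildeD R).obj ω)) := by
  obtain ⟨i, hz, hfree, hrk⟩ := (Groth.L29.Loci.mem_iff_gorenstein p hω).1 hG
  haveI := fun j => hω.finite_cohomology j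
  haveI : Module.Free (Localization.AtPrime p.asIdeal)
      (LocalizedModule p.asIdeal.primeCompl (Dual.HD R ω i)) := hfree
  haveI : Module.Finite (Localization.AtPrime p.asIdeal)
      (LocalizedModule p.asIdeal.primeCompl (Dual.HD R ω i)) :=
    Module.Finite.equiv (LocalizedModule.equivTensorProduct p.asIdeal.primeCompl _).symm
  let M : ModuleCat.{u} R := (Groth.L02.PC.HH i).obj ω
  obtain ⟨m, hk, hc⟩ := exists_gen M p (LinearEquiv.ofFinrankEq _ _ (hrk.trans (Module.finrank_self _).symm))
  let f : ModuleCat.of R R ⟶ M := ModuleCat.ofHom (LinearMap.toSpanSingleton R M m)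
  obtain ⟨a, b, hab'⟩ := Groth.L29.Loci.exists_range hω
  have hab : ∀ j : ℤ, (j < a ∨ b < j) → Module.support R (Dual.HD R ω j) = ∅ := fun j hj => by
    rw [← (Groth.L29.HomD.evalShiftEquiv ω j).support_eq]
    exact hab' R j hj
  haveI : Module.Finite R M := hω.finite_cohomology i
  haveI : IsNoetherian R R := inferInstance
  let T : Set (Spec R) := (⋃ j ∈ (Finset.Icc a b).erase i, Module.support R (Dual.HD R ω j)) ∪
    (Module.support R (LinearMap.ker (LinearMap.toSpanSingleton R M m)) ∪
      Module.support R (M ⧸ LinearMap.range (LinearMap.toSpanSingleton R M m)))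
  have hT : IsClosed T := by
    refine ((Finset.finite_toSet _).isClosed_biUnion fun j _ => ?_).union (IsClosed.union ?_ ?_)
    all_goals
      rw [Module.support_eq_zeroLocus]
      exact PrimeSpectrum.isClosed_zeroLocus _
  let W : (Spec R).Opens := ⟨Tᶜ, hT.isOpen_compl⟩
  have hpW : p ∈ W := by
    rintro (h | h | h)
    · simp only [Set.mem_iUnion] at h
      obtain ⟨j, hj, hjm⟩ := h
      exact hz j (Finset.mem_erase.1 hj).1 hjm
    · exact hk h
    · exact hc h
  haveI : IsIso ((Scheme.Modules.restrictFunctor W.ι).map ((tilde.functor R).map f)) := by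
    refine isIso_restrict_tilde f W (fun q hq => ?_) (fun q hq => ?_)
    · rw [(ModuleCat.kernelIsoKer f).toLinearEquiv.support_eq]
      exact fun h => hq (Or.inr (Or.inl h))
    · rw [(ModuleCat.cokernelIsoRangeQuotient f).toLinearEquiv.support_eq]
      exact fun h => hq (Or.inr (Or.inr h))
  let K := (DCoh.restrictD W.ι).obj ((DCoh.tildeD R).obj ω)
  have hzero : ∀ j : ℤ, j ≠ i → IsZero (DCoh.HD K j) := fun j hj => by
    refine (PCStalk.isZero_HD_iff_stk K j).2 fun y => (PCStalk.isZero_res_iff W.ι _ j y).2 ?_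
    refine IsZero.of_iso ?_ ((Groth.L00.Stk.F (Spec R) (W.ι y)).mapIso (TildeAlg.hdIso ω j))
    refine (Gen.isZero_stalk_tilde_iff (W.ι y) _).2 fun m' => ?_
    refine Module.notMem_support_iff'.1 (fun hmem => y.2 (Or.inl ?_)) m'
    simp only [Set.mem_iUnion]
    refine ⟨j, Finset.mem_erase.2 ⟨hj, Finset.mem_Icc.2 ?_⟩, hmem⟩
    by_contra h
    exact (Set.mem_empty_iff_false _).1 (hab j (by lia) ▸ hmem : W.ι y ∈ (∅ : Set (Spec R)))
  haveI : DerivedCategory.IsGE K i := (DerivedCategory.isGE_iff K i).2 fun j hj => hzero j (by lia)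
  haveI : DerivedCategory.IsLE K i := (DerivedCategory.isLE_iff K i).2 fun j hj => hzero j (by lia)
  obtain ⟨eK⟩ := Groth.L10.exists_iso_single_H (A := (W : Scheme.{u}).Modules) K i
  let eH : DCoh.HD K i ≅ Coh.structureModule (W : Scheme.{u}) :=
    HDResIso W.ι _ i ≪≫ (Scheme.Modules.restrictFunctor W.ι).mapIso (TildeAlg.hdIso ω i) ≪≫
      (asIso ((Scheme.Modules.restrictFunctor W.ι).map ((tilde.functor R).map f))).symm ≪≫
      (Scheme.Modules.restrictFunctor W.ι).mapIso tildeSelf ≪≫ Scheme.Modules.restrictUnitIso W.ι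
  exact ⟨W, hpW, -i, ⟨eK ≪≫ (DerivedCategory.singleFunctor _ i).mapIso eH ≪≫
    (((DerivedCategory.singleFunctors (W : Scheme.{u}).Modules).shiftIso (-i) i 0 (by lia)).app _).symm⟩⟩

/-- if the dualizing complex is a shift of the ring, all localizations are Gorenstein -/
theorem isGorenstein_of_shiftUnit [IsNoetherianRing R] [PreservesFiniteLimits (tilde.functor R)] {ω : Dual.D R}
    (hω : Dual.IsDualizing R ω) (h : ShiftUnit ((DCoh.tildeD R).obj ω)) (p : Spec R) :
    LocCoh.IsGorensteinLocalRing (Localization.AtPrime p.asIdeal) := by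
  obtain ⟨n, ⟨e⟩⟩ := h
  obtain ⟨e'⟩ := nonempty_tildeD_unit (R := R) n
  obtain ⟨hf, hff⟩ := TildeD.fullyFaithful (R := R)
  haveI := hf
  haveI := hff
  let eω : ω ≅ (Dual.inD R R)⟦n⟧ := (DCoh.tildeD R).preimageIso (e ≪≫ e'.symm)
  have h1 : Dual.IsDualizing R (Dual.inD R R) := by
    refine Groth.L29.HomD.isDualizing_of_iso ?_ (Groth.L29.HomD.isDualizing_shift hω (-n))
    exact (shiftFunctor (Dual.D R) (-n)).mapIso eω ≪≫ (shiftEquiv (Dual.D R) n).unitIso.symm.app _
  refine (Groth.L29.Loci.mem_iff_gorenstein p h1).2 ⟨0, fun j hj => ?_, ?_⟩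
  · rw [Module.notMem_support_iff]
    haveI : Subsingleton (Dual.HD R (Dual.inD R R) j) := by
      rcases lt_or_gt_of_ne hj with h' | h'
      · exact ModuleCat.subsingleton_of_isZero (DerivedCategory.isZero_of_isGE _ 0 _ h')
      · exact ModuleCat.subsingleton_of_isZero (DerivedCategory.isZero_of_isLE _ 0 _ h')
    infer_instance
  · let e0 : Dual.HD R (Dual.inD R R) 0 ≃ₗ[R] R :=
      ((DerivedCategory.singleFunctorCompHomologyFunctorIso (ModuleCat.{u} R) 0).app
        (ModuleCat.of R R)).toLinearEquiv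
    haveI : Module.Free R (Dual.HD R (Dual.inD R R) 0) := Module.Free.of_equiv e0.symm
    haveI : Module.Finite R (Dual.HD R (Dual.inD R R) 0) := Module.Finite.equiv e0.symm
    haveI : Nontrivial R := PrimeSpectrum.nontrivial p
    refine ⟨?_, ?_⟩
    · rw [Module.freeLocus_eq_univ]
      trivial
    · rw [Module.rankAtStalk_eq_finrank_of_free, e0.finrank_eq, Module.finrank_self]
      rfl

end Groth.L29.InvChart
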