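import Mathlib.Algebra.Category.ModuleCat.Ext.Basic
import Mathlib.Algebra.Category.ModuleCat.Projective
import Mathlib.Algebra.Homology.DerivedCategory.Ext.EnoughProjectives
import Mathlib.Algebra.Homology.DerivedCategory.Ext.ExactSequences
import Mathlib.Algebra.Homology.ShortComplex.ModuleCat
import Mathlib.RingTheory.Regular.RegularSequence

/-! `Ext` out of the quotient by a weakly regular sequence. -/

set_option autoImplicit false
universe u
open CategoryTheory CategoryTheory.Abelian

namespace Groth.L29.KoszulExt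

variable {A : Type u} [CommRing A]

/-- The short exact sequence `0 → A/I -x→ A/I → A/(I, x) → 0`. -/
lemma exists_shortExact (I J : Ideal A) (x : A) (hJ : J = I ⊔ Ideal.span {x})
    (hx : IsSMulRegular (A ⧸ I) x) :
    ∃ (g : ModuleCat.of A (A ⧸ I) ⟶ ModuleCat.of A (A ⧸ J))
      (w : (x • 𝟙 (ModuleCat.of A (A ⧸ I))) ≫ g = 0),
      (ShortComplex.mk _ g w).ShortExact ∧ Function.Surjective g := by
  have hIJ : I ≤ J := hJ ▸ le_sup_left
  have hxJ : x ∈ J := hJ ▸ Ideal.mem_sup_right (Ideal.mem_span_singleton_self x)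
  let g : (A ⧸ I) →ₗ[A] A ⧸ J := Submodule.factor hIJ
  have hgs : Function.Surjective g := Submodule.factor_surjective _
  have hzero : ∀ y : A ⧸ I, g (x • y) = 0 := by
    intro y
    obtain ⟨a, rfl⟩ := Submodule.Quotient.mk_surjective _ y
    exact (Submodule.Quotient.mk_eq_zero _).2 (J.mul_mem_right a hxJ)
  have hex : ∀ z : A ⧸ I, g z = 0 → ∃ y, x • y = z := by
    intro z hz
    obtain ⟨a, rfl⟩ := Submodule.Quotient.mk_surjective _ z
    have ha : a ∈ J := (Submodule.Quotient.mk_eq_zero _).1 hz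
    rw [hJ] at ha
    obtain ⟨b, hb, c, hc, hbc⟩ := Submodule.mem_sup.1 ha
    obtain ⟨d, rfl⟩ := Ideal.mem_span_singleton'.1 hc
    refine ⟨Submodule.Quotient.mk d, ?_⟩
    rw [← Submodule.Quotient.mk_smul, Submodule.Quotient.eq, ← hbc, smul_eq_mul]
    have : x * d - (b + d * x) = -b := by ring
    rw [this]
    exact I.neg_mem hb
  have w : (x • 𝟙 (ModuleCat.of A (A ⧸ I))) ≫ ModuleCat.ofHom g = 0 := by
    exact ModuleCat.hom_ext (LinearMap.ext fun y => hzero y)
  refine ⟨ModuleCat.ofHom g, w, ?_, hgs⟩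
  refine { exact := ?_, mono_f := ?_, epi_g := ?_ }
  · rw [ShortComplex.moduleCat_exact_iff]
    exact hex
  · rw [ModuleCat.mono_iff_injective]
    exact fun a b h => hx h
  · rw [ModuleCat.epi_iff_surjective]
    exact hgs

lemma precomp_smul {X Y : ModuleCat.{u} A} (x : A) {i : ℕ} (z : Ext X Y i) :
    (Ext.mk₀ (x • 𝟙 X)).comp z (zero_add i) = x • z := by
  rw [Ext.mk₀_smul, Ext.smul_comp, Ext.mk₀_id_comp]

lemma smul_eq_zero_of_killed {X M : ModuleCat.{u} A} (x : A) (hM : ∀ m : M, x • m = 0)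
    {i : ℕ} (z : Ext X M i) : x • z = 0 := by
  have : x • 𝟙 M = 0 := by
    ext m
    exact hM m
  rw [Ext.smul_eq_comp_mk₀, this, Ext.mk₀_zero, Ext.comp_zero]

lemma exists_top_and_vanishing (xs : List A) :
    RingTheory.Sequence.IsWeaklyRegular A xs →
    (∀ (M : ModuleCat.{u} A) (i : ℕ), xs.length < i →
      Subsingleton (Ext (ModuleCat.of A (A ⧸ Ideal.ofList xs)) M i)) ∧
    (∀ M : ModuleCat.{u} A,
      Nonempty (Ext (ModuleCat.of A (A ⧸ Ideal.ofList xs)) M xs.length ≃ₗ[A]
        (M ⧸ (Ideal.ofList xs • (⊤ : Submodule A M))))) := by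
  induction xs using List.reverseRecOn with
  | nil =>
    intro _
    let e : (A ⧸ Ideal.ofList ([] : List A)) ≃ₗ[A] A := Submodule.quotEquivOfEqBot _ Ideal.ofList_nil
    haveI : Module.Projective A (A ⧸ Ideal.ofList ([] : List A)) := Module.Projective.of_equiv e.symm
    haveI : CategoryTheory.Projective (ModuleCat.of A (A ⧸ Ideal.ofList ([] : List A))) :=
      (IsProjective.iff_projective (R := A) (A ⧸ Ideal.ofList ([] : List A))).1 inferInstance
    refine ⟨fun M i hi => ?_, fun M => ⟨?_⟩⟩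
    · obtain ⟨j, rfl⟩ : ∃ j, i = j + 1 := ⟨i - 1, by simp at hi; omega⟩
      exact Ext.subsingleton_of_projective _ _ j
    · exact Ext.linearEquiv₀ ≪≫ₗ ModuleCat.homLinearEquiv (S := A) ≪≫ₗ
        e.arrowCongr (LinearEquiv.refl A M) ≪≫ₗ LinearMap.ringLmapEquivSelf A A M ≪≫ₗ
          (Submodule.quotEquivOfEqBot _ (by rw [Ideal.ofList_nil, Submodule.bot_smul])).symm
  | append_singleton l x ih =>
    intro hreg
    obtain ⟨hl, hx⟩ := (RingTheory.Sequence.isWeaklyRegular_append_iff A l [x]).1 hreg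
    rw [RingTheory.Sequence.isWeaklyRegular_singleton_iff] at hx
    have htop : (Ideal.ofList l • (⊤ : Submodule A A)) = Ideal.ofList l := by simp
    rw [htop] at hx
    have hJ : Ideal.ofList (l ++ [x]) = Ideal.ofList l ⊔ Ideal.span {x} := by
      rw [Ideal.ofList_append, Ideal.ofList_singleton]
    obtain ⟨g, w, hS, -⟩ := exists_shortExact _ _ x hJ hx
    obtain ⟨hvan, htopEq⟩ := ih hl
    refine ⟨fun M i hi => ?_, fun M => ?_⟩
    · simp only [List.length_append, List.length_singleton] at hi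
      refine subsingleton_of_forall_eq 0 fun z => ?_
      haveI := hvan M i (by omega)
      haveI := hvan M (i - 1) (by omega)
      obtain ⟨y, hy⟩ := Ext.contravariant_sequence_exact₃ hS M z (Subsingleton.elim _ _)
        (n₀ := i - 1) (by omega)
      rw [← hy, Subsingleton.elim y 0, Ext.comp_zero]
    · obtain ⟨e⟩ := htopEq M
      haveI := hvan M (l.length + 1) (by omega)
      let δ : Ext (ModuleCat.of A (A ⧸ Ideal.ofList l)) M l.length →ₗ[A]
          Ext (ModuleCat.of A (A ⧸ Ideal.ofList (l ++ [x]))) M (l ++ [x]).length :=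
        Ext.precompOfLinear hS.extClass A M (by simp; omega)
      let φ := δ.comp (e.symm.toLinearMap.comp (Ideal.ofList l • (⊤ : Submodule A M)).mkQ)
      have hφs : Function.Surjective φ := by
        intro z
        haveI := hvan M (l ++ [x]).length (by simp)
        obtain ⟨y, hy⟩ := Ext.contravariant_sequence_exact₃ hS M z (Subsingleton.elim _ _)
          (n₀ := l.length) (by simp; omega)
        obtain ⟨m, hm⟩ := Submodule.Quotient.mk_surjective _ (e y)
        refine ⟨m, ?_⟩
        change δ (e.symm (Submodule.Quotient.mk m)) = z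
        rw [hm, e.symm_apply_apply]
        exact hy
      have hker : LinearMap.ker φ = Ideal.ofList (l ++ [x]) • (⊤ : Submodule A M) := by
        ext m
        rw [LinearMap.mem_ker]
        conv_rhs => rw [hJ, Submodule.sup_smul, Submodule.ideal_span_singleton_smul]
        constructor
        · intro hm
          obtain ⟨y, hy⟩ := Ext.contravariant_sequence_exact₁ hS M
            (e.symm (Submodule.Quotient.mk m)) (n₁ := (l ++ [x]).length) (by simp; omega) hm
          rw [precomp_smul] at hy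
          obtain ⟨m', hm'⟩ := Submodule.Quotient.mk_surjective _ (e y)
          have : (Submodule.Quotient.mk (x • m') : M ⧸ Ideal.ofList l • (⊤ : Submodule A M)) =
              Submodule.Quotient.mk m := by
            rw [Submodule.Quotient.mk_smul, hm', ← map_smul, hy, e.apply_symm_apply]
          refine Submodule.mem_sup.2 ⟨m - x • m', (Submodule.Quotient.eq _).1 this.symm,
            x • m', Submodule.smul_mem_pointwise_smul m' x ⊤ trivial, by abel⟩
        · intro hm
          obtain ⟨a, ha, b, hb, rfl⟩ := Submodule.mem_sup.1 hm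
          obtain ⟨m', -, rfl⟩ := Submodule.mem_smul_pointwise_iff_exists _ x ⊤ |>.1 hb
          change δ (e.symm (Submodule.Quotient.mk (a + x • m'))) = 0
          rw [Submodule.Quotient.mk_add, (Submodule.Quotient.mk_eq_zero _).2 ha, zero_add,
            Submodule.Quotient.mk_smul, map_smul, ← precomp_smul]
          exact hS.extClass_comp_assoc _ (h := (by simp; omega : 1 + l.length = (l ++ [x]).length))
      exact ⟨(LinearMap.quotKerEquivOfSurjective φ hφs).symm ≪≫ₗ Submodule.quotEquivOfEq _ _ hker⟩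

lemma subsingleton_lt_length (xs : List A) :
    RingTheory.Sequence.IsWeaklyRegular A xs → ∀ (M : ModuleCat.{u} A),
    RingTheory.Sequence.IsWeaklyRegular M xs → ∀ i : ℕ, i < xs.length →
      Subsingleton (Ext (ModuleCat.of A (A ⧸ Ideal.ofList xs)) M i) := by
  induction xs using List.reverseRecOn with
  | nil => intro _ M _ i hi; simp at hi
  | append_singleton l x ih =>
    intro hreg M hM i hi
    obtain ⟨hl, hx⟩ := (RingTheory.Sequence.isWeaklyRegular_append_iff A l [x]).1 hreg
    obtain ⟨hlM, hxM⟩ := (RingTheory.Sequence.isWeaklyRegular_append_iff M l [x]).1 hM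
    rw [RingTheory.Sequence.isWeaklyRegular_singleton_iff] at hx hxM
    have htop : (Ideal.ofList l • (⊤ : Submodule A A)) = Ideal.ofList l := by simp
    rw [htop] at hx
    have hJ : Ideal.ofList (l ++ [x]) = Ideal.ofList l ⊔ Ideal.span {x} := by
      rw [Ideal.ofList_append, Ideal.ofList_singleton]
    obtain ⟨g, w, hS, -⟩ := exists_shortExact _ _ x hJ hx
    simp only [List.length_append, List.length_singleton] at hi
    refine subsingleton_of_forall_eq 0 fun z => ?_
    have hz0 : (Ext.mk₀ g).comp z (zero_add i) = 0 := by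
      rcases lt_or_eq_of_le (Nat.lt_succ_iff.1 hi) with h | rfl
      · haveI := ih hl M hlM i h
        exact Subsingleton.elim _ _
      · obtain ⟨e⟩ := (exists_top_and_vanishing l hl).2 M
        have hf : x • (Ext.mk₀ g).comp z (zero_add l.length) = 0 := by
          rw [← precomp_smul, ← Ext.comp_assoc_of_second_deg_zero, Ext.mk₀_comp_mk₀, w,
            Ext.mk₀_zero, Ext.zero_comp]
        refine e.injective ((hxM ?_).trans (map_zero e).symm)
        change x • e ((Ext.mk₀ g).comp z (zero_add l.length)) = x • 0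
        rw [← map_smul, hf, map_zero, smul_zero]
    cases i with
    | zero =>
      haveI := hS.epi_g
      exact Ext.precomp_mk₀_injective_of_epi M g (hz0.trans (map_zero _).symm)
    | succ j =>
      haveI := ih hl M hlM j (by omega)
      obtain ⟨y, hy⟩ := Ext.contravariant_sequence_exact₃ hS M z hz0 (n₀ := j) (by omega)
      rw [← hy, Subsingleton.elim y 0, Ext.comp_zero]

/-- `φ ↦ ∑ₖ (e k) ≫ φ k`. -/
noncomputable def sumComp {X : ModuleCat.{u} A} {ι : Type} [Fintype ι] {i : ℕ} (e : ι → Ext X X i)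
    (M : ModuleCat.{u} A) : (ι → (X ⟶ M)) →ₗ[A] Ext X M i where
  toFun φ := ∑ k, (e k).comp (Ext.mk₀ (φ k)) (add_zero i)
  map_add' φ ψ := by simp [Ext.mk₀_add, Ext.comp_add, Finset.sum_add_distrib]
  map_smul' r φ := by simp [Ext.mk₀_smul, Finset.smul_sum]

lemma exists_basis (xs : List A) :
    RingTheory.Sequence.IsWeaklyRegular A xs → ∀ i : ℕ,
    ∃ (ι : Type) (hι : Fintype ι)
      (e : ι → Ext (ModuleCat.of A (A ⧸ Ideal.ofList xs)) (ModuleCat.of A (A ⧸ Ideal.ofList xs)) i),
      @Fintype.card ι hι = xs.length.choose i ∧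
      ∀ M : ModuleCat.{u} A, (∀ a ∈ Ideal.ofList xs, ∀ m : M, a • m = 0) →
        Function.Bijective (@sumComp A _ _ ι hι i e M) := by
  induction xs using List.reverseRecOn with
  | nil =>
    intro _ i
    match i with
    | 0 =>
      refine ⟨Unit, inferInstance, fun _ => Ext.mk₀ (𝟙 _), by simp, fun M _ => ?_⟩
      have : ∀ φ, sumComp (fun _ : Unit => Ext.mk₀ (𝟙 (ModuleCat.of A (A ⧸ Ideal.ofList ([] : List A)))))
          M φ = Ext.mk₀ (φ ()) := fun φ => by simp [sumComp]
      refine ⟨fun φ ψ h => funext fun _ => ?_, fun z => ⟨fun _ => Ext.homEquiv₀ z, ?_⟩⟩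
      · rw [this, this] at h
        exact (Ext.mk₀_bijective _ _).1 h
      · rw [this]
        exact Ext.homEquiv₀.left_inv z
    | j + 1 =>
      let e : (A ⧸ Ideal.ofList ([] : List A)) ≃ₗ[A] A := Submodule.quotEquivOfEqBot _ Ideal.ofList_nil
      haveI : Module.Projective A (A ⧸ Ideal.ofList ([] : List A)) := Module.Projective.of_equiv e.symm
      haveI : CategoryTheory.Projective (ModuleCat.of A (A ⧸ Ideal.ofList ([] : List A))) :=
        (IsProjective.iff_projective (R := A) (A ⧸ Ideal.ofList ([] : List A))).1 inferInstance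
      refine ⟨Empty, inferInstance, fun k => k.elim, by simp, fun M _ => ?_⟩
      haveI := Ext.subsingleton_of_projective (ModuleCat.of A (A ⧸ Ideal.ofList ([] : List A))) M j
      exact ⟨fun φ ψ _ => funext fun k => k.elim, fun z => ⟨fun k => k.elim, Subsingleton.elim _ _⟩⟩
  | append_singleton l x ih =>
    intro hreg i
    obtain ⟨hl, hx⟩ := (RingTheory.Sequence.isWeaklyRegular_append_iff A l [x]).1 hreg
    rw [RingTheory.Sequence.isWeaklyRegular_singleton_iff] at hx
    have htop : (Ideal.ofList l • (⊤ : Submodule A A)) = Ideal.ofList l := by simp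
    rw [htop] at hx
    have hJ : Ideal.ofList (l ++ [x]) = Ideal.ofList l ⊔ Ideal.span {x} := by
      rw [Ideal.ofList_append, Ideal.ofList_singleton]
    obtain ⟨g, w, hS, hgs⟩ := exists_shortExact _ _ x hJ hx
    have hle : Ideal.ofList l ≤ Ideal.ofList (l ++ [x]) := hJ ▸ le_sup_left
    have hxm : x ∈ Ideal.ofList (l ++ [x]) := hJ ▸ Ideal.mem_sup_right (Ideal.mem_span_singleton_self x)
    have hXJ : ∀ a ∈ Ideal.ofList (l ++ [x]), ∀ m : A ⧸ Ideal.ofList (l ++ [x]), a • m = 0 := by
      intro a ha m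
      obtain ⟨b, rfl⟩ := Submodule.Quotient.mk_surjective _ m
      exact (Submodule.Quotient.mk_eq_zero _).2 (Ideal.mul_mem_right b _ ha)
    have restr : ∀ M : ModuleCat.{u} A, (∀ a ∈ Ideal.ofList (l ++ [x]), ∀ m : M, a • m = 0) →
        ∀ ψ : ModuleCat.of A (A ⧸ Ideal.ofList l) ⟶ M,
          ∃ φ : ModuleCat.of A (A ⧸ Ideal.ofList (l ++ [x])) ⟶ M, g ≫ φ = ψ := by
      intro M hM ψ
      haveI := hS.epi_g
      refine ⟨hS.exact.desc ψ ?_, hS.exact.g_desc _ _⟩
      exact ModuleCat.hom_ext (LinearMap.ext fun m => (map_smul ψ.hom x m).trans (hM x hxm _))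
    match i with
    | 0 =>
      refine ⟨Unit, inferInstance, fun _ => Ext.mk₀ (𝟙 _), by simp, fun M _ => ?_⟩
      have : ∀ φ, sumComp (fun _ : Unit => Ext.mk₀ (𝟙 (ModuleCat.of A (A ⧸ Ideal.ofList (l ++ [x])))))
          M φ = Ext.mk₀ (φ ()) := fun φ => by simp [sumComp]
      refine ⟨fun φ ψ h => funext fun _ => ?_, fun z => ⟨fun _ => Ext.homEquiv₀ z, ?_⟩⟩
      · rw [this, this] at h
        exact (Ext.mk₀_bijective _ _).1 h
      · rw [this]
        exact Ext.homEquiv₀.left_inv z
    | j + 1 =>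
      obtain ⟨ι₁, hι₁, e₁, hc₁, hb₁⟩ := ih hl j
      obtain ⟨ι₂, hι₂, e₂, hc₂, hb₂⟩ := ih hl (j + 1)
      have hlift : ∀ k, ∃ y : Ext (ModuleCat.of A (A ⧸ Ideal.ofList (l ++ [x])))
          (ModuleCat.of A (A ⧸ Ideal.ofList (l ++ [x]))) (j + 1),
          (Ext.mk₀ g).comp y (zero_add (j + 1)) = (e₂ k).comp (Ext.mk₀ g) (add_zero _) := fun k => by
        refine Ext.contravariant_sequence_exact₂ hS _ ((e₂ k).comp (Ext.mk₀ g) (add_zero _)) ?_
        exact (precomp_smul x _).trans (smul_eq_zero_of_killed x (hXJ x hxm) _)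
      choose y hy using hlift
      refine ⟨ι₁ ⊕ ι₂, inferInstance, Sum.elim
        (fun k => hS.extClass.comp ((e₁ k).comp (Ext.mk₀ g) (add_zero j)) (by omega : 1 + j = j + 1)) y,
        ?_, fun M hM => ?_⟩
      · rw [Fintype.card_sum, hc₁, hc₂, List.length_append, List.length_singleton]
        exact (Nat.choose_succ_succ' l.length j).symm
      have hM' : ∀ a ∈ Ideal.ofList l, ∀ m : M, a • m = 0 := fun a ha => hM a (hle ha)
      have hF : ∀ φ, sumComp (Sum.elim
          (fun k => hS.extClass.comp ((e₁ k).comp (Ext.mk₀ g) (add_zero j)) (by omega : 1 + j = j + 1)) y)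
          M φ = hS.extClass.comp (sumComp e₁ M (fun k => g ≫ φ (Sum.inl k))) (by omega : 1 + j = j + 1)
            + ∑ k, (y k).comp (Ext.mk₀ (φ (Sum.inr k))) (add_zero _) := fun φ => by
        simp [sumComp, Fintype.sum_sum_type, Ext.comp_sum, Ext.comp_assoc_of_third_deg_zero]
      have hgF : ∀ φ, (Ext.mk₀ g).comp (sumComp (Sum.elim
          (fun k => hS.extClass.comp ((e₁ k).comp (Ext.mk₀ g) (add_zero j)) (by omega : 1 + j = j + 1)) y)
          M φ) (zero_add (j + 1)) = sumComp e₂ M (fun k => g ≫ φ (Sum.inr k)) := fun φ => by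
        rw [hF, Ext.comp_add, hS.comp_extClass_assoc, zero_add, Ext.comp_sum]
        refine Finset.sum_congr rfl fun k _ => ?_
        rw [← Ext.comp_assoc_of_third_deg_zero, hy, Ext.comp_assoc_of_third_deg_zero,
          Ext.mk₀_comp_mk₀]
      haveI := hS.epi_g
      refine ⟨(injective_iff_map_eq_zero _).2 fun φ hφ => ?_, fun z => ?_⟩
      · have h2 : (fun k => g ≫ φ (Sum.inr k)) = 0 := (hb₂ M hM').1 (by
          rw [← hgF, hφ, Ext.comp_zero, map_zero])
        have h2' : ∀ k, φ (Sum.inr k) = 0 := fun k => Limits.zero_of_epi_comp g (congrFun h2 k)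
        rw [hF] at hφ
        simp only [h2', Ext.mk₀_zero, Ext.comp_zero, Finset.sum_const_zero, add_zero] at hφ
        obtain ⟨t, ht⟩ := Ext.contravariant_sequence_exact₁ hS M _ _ hφ
        rw [precomp_smul, smul_eq_zero_of_killed x (hM x hxm)] at ht
        have h1 : (fun k => g ≫ φ (Sum.inl k)) = 0 := (hb₁ M hM').1 (by rw [← ht, map_zero])
        exact funext (Sum.rec (fun k => Limits.zero_of_epi_comp g (congrFun h1 k)) h2')
      · obtain ⟨ψ₂, hψ₂⟩ := (hb₂ M hM').2 ((Ext.mk₀ g).comp z (zero_add _))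
        choose φ₂ hφ₂ using fun k => restr M hM (ψ₂ k)
        have : (Ext.mk₀ g).comp (z - ∑ k, (y k).comp (Ext.mk₀ (φ₂ k)) (add_zero _))
            (zero_add _) = 0 := by
          rw [sub_eq_add_neg, Ext.comp_add, Ext.comp_neg, ← sub_eq_add_neg, sub_eq_zero,
            Ext.comp_sum, ← hψ₂]
          refine Finset.sum_congr rfl fun k _ => ?_
          rw [← Ext.comp_assoc_of_third_deg_zero, hy, Ext.comp_assoc_of_third_deg_zero,
            Ext.mk₀_comp_mk₀, hφ₂]
        obtain ⟨t, ht⟩ := Ext.contravariant_sequence_exact₃ hS M _ this (n₀ := j) (by omega)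
        obtain ⟨ψ₁, hψ₁⟩ := (hb₁ M hM').2 t
        choose φ₁ hφ₁ using fun k => restr M hM (ψ₁ k)
        refine ⟨Sum.elim φ₁ φ₂, ?_⟩
        rw [hF]
        simp only [Sum.elim_inl, Sum.elim_inr, hφ₁]
        rw [hψ₁, ht, sub_add_cancel]

/-- Hom out of a cyclic module into a module killed by the ideal. -/
noncomputable def homEquivOfKilled (J : Ideal A) (M : Type u) [AddCommGroup M] [Module A M]
    (hM : ∀ a ∈ J, ∀ m : M, a • m = 0) :
    (ModuleCat.of A (A ⧸ J) ⟶ ModuleCat.of A M) ≃ₗ[A] M :=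
  ModuleCat.homLinearEquiv (S := A) ≪≫ₗ
    LinearEquiv.ofBijective
      { toFun := fun f => f (Submodule.Quotient.mk 1)
        map_add' := fun _ _ => rfl
        map_smul' := fun _ _ => rfl }
      ⟨fun f f' h => Submodule.linearMap_qext _ (LinearMap.ext_ring h),
        fun m => ⟨Submodule.liftQ J (LinearMap.toSpanSingleton A M m) (fun a ha => hM a ha m),
          one_smul A m⟩⟩

end Groth.L29.KoszulExt
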