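import Groth.Agent.L29.Dual.BidualDev
import Groth.Agent.L29.DCoh.TildeAlg
import Groth.Agent.L10.DRing.InjAmp
import Groth.Agent.L10.DRing.RHomComp
import Groth.Agent.L10.DRing.KFlatLBC
import Groth.Agent.L10.DRing.TorTest
import Groth.Agent.L10.KFlat.Basic
import Groth.Agent.L02.PC.Coherent
import Groth.Agent.L00.TorFlat

/-!
Finite Tor dimension of `G` against finite injective dimension of `RHom(G, ω)` for a dualizing complex `ω`.
-/

set_option autoImplicit false

universe u

open CategoryTheory CategoryTheory.Limits CochainComplex CochainComplex.HomComplex MonoidalCategory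

attribute [local instance] HasDerivedCategory.standard

set_option backward.defeqAttrib.useBackward true
set_option backward.isDefEq.respectTransparency false
set_option backward.isDefEq.respectTransparency.types false
set_option linter.style.haveILetI false

namespace Groth.L29.TorInj

open Groth.L10

variable {A : Type u} [CommRing A]

theorem isKInjective_of_bounds {I : DRing.Cx A} {a b : ℤ} (hI : DRing.VanishesOutside I a b)
    (hinj : ∀ i, Module.Injective A (I.X i)) : I.IsKInjective := by
  haveI : ∀ i, Injective (I.X i) := fun i => by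
    haveI := hinj i
    exact Module.injective_object_of_injective_module A (I.X i)
  haveI : I.IsStrictlyGE a := (CochainComplex.isStrictlyGE_iff _ _).2 fun i hi => hI i (Or.inl hi)
  exact CochainComplex.isKInjective_of_injective I a

theorem finite_homology [IsNoetherianRing A] (X : DRing.Cx A) (i : ℤ) [Module.Finite A (X.X i)] :
    Module.Finite A (X.homology i) := by
  haveI : Module.Finite A (X.cycles i) :=
    Module.Finite.of_injective (X.iCycles i).hom (Groth.L28.HomElt.iCycles_injective X i)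
  exact Module.Finite.of_surjective (X.homologyπ i).hom (Groth.L28.HomElt.homologyπ_surjective X i)

theorem finite_HD [IsNoetherianRing A] (X : DRing.Cx A) (hX : ∀ i, Module.Finite A (X.X i)) (i : ℤ) :
    Module.Finite A (Dual.HD A (DRing.toD X) i) := by
  haveI := hX i
  haveI : Module.Finite A ((HomologicalComplex.homologyFunctor (ModuleCat.{u} A) (ComplexShape.up ℤ) i).obj X) :=
    finite_homology X i
  exact Module.Finite.equiv
    ((DerivedCategory.homologyFunctorFactors (ModuleCat.{u} A) i).app X).toLinearEquiv.symm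

/-- an injective model of a dualizing complex with biduality -/
theorem exists_model {ω : Dual.D A} (hω : Dual.IsDualizing A ω) :
    ∃ (a b : ℤ) (I : DRing.Cx A), DRing.VanishesOutside I a b ∧ (∀ i, Module.Injective A (I.X i)) ∧
      Nonempty (DRing.toD I ≅ ω) ∧
      ∀ K : DRing.Cx A, (∀ i, Module.Finite A (Dual.HD A (DRing.toD K) i)) → QuasiIso (BidualCx.ev I K) := by
  haveI := hω.isNoetherianRing
  obtain ⟨a, b, hab⟩ := hω.finite_injective_dimension
  obtain ⟨I, hI, hinj, ⟨eI⟩⟩ := Groth.L10.DR.injAmp_of_vanishing (K := ω) (a := a) (b := b)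
    fun J i hi => hab (A ⧸ J) i hi
  haveI := isKInjective_of_bounds hI hinj
  haveI : ∀ i, Injective (I.X i) := fun i => by
    haveI := hinj i
    exact Module.injective_object_of_injective_module A (I.X i)
  have hbij : Function.Bijective (fun x : A => x • 𝟙 (DRing.toD I)) := by
    have h : (fun x : A => x • 𝟙 (DRing.toD I)) =
        (Linear.homCongr A eI.symm eI.symm) ∘ fun x : A => x • 𝟙 ω := by
      funext x
      simp [Linear.homCongr]
    rw [h]
    exact (Linear.homCongr A eI.symm eI.symm).bijective.comp hω.toEnd_bijective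
  have hself : ∀ i : ℤ, i ≠ 0 → Subsingleton (DRing.toD I ⟶ (DRing.toD I)⟦i⟧) := fun i hi => by
    haveI := hω.ext_self_subsingleton i hi
    exact (Iso.homCongr eI ((CategoryTheory.shiftFunctor (Dual.D A) i).mapIso eI)).subsingleton
  have hfin : ∀ i : ℤ, Module.Finite A (Dual.HD A (DRing.toD I) i) := fun i => by
    haveI := hω.finite_cohomology i
    exact Module.Finite.equiv
      ((DerivedCategory.homologyFunctor (ModuleCat.{u} A) i).mapIso eI).toLinearEquiv.symm
  exact ⟨a, b, I, hI, hinj, ⟨eI⟩, fun K hK => BidualCx.quasiIso_ev I hI hbij hself hfin K hK⟩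

/-- Hom complexes into a K-injective complex only depend on the source in `D(A)` -/
theorem nonempty_homCx_iso {E G : DRing.Cx A} (e : DRing.toD E ≅ DRing.toD G) (I : DRing.Cx A)
    [I.IsKInjective] : Nonempty (DRing.toD (DRing.homCx G I) ≅ DRing.toD (DRing.homCx E I)) := by
  obtain ⟨W, s, hs, g, hg⟩ := DerivedCategory.right_fac e.hom
  haveI : IsIso (DerivedCategory.Q.map g) := by
    rw [show DerivedCategory.Q.map g = DerivedCategory.Q.map s ≫ e.hom by rw [hg, IsIso.hom_inv_id_assoc]]
    infer_instance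
  haveI : QuasiIso s := (DerivedCategory.isIso_Q_map_iff_quasiIso _ s).1 inferInstance
  haveI : QuasiIso g := (DerivedCategory.isIso_Q_map_iff_quasiIso _ g).1 inferInstance
  haveI := RHomCx.quasiIso_homCxPre s I
  haveI := RHomCx.quasiIso_homCxPre g I
  exact ⟨asIso (DerivedCategory.Q.map (RHomCx.homCxPre g I)) ≪≫
    (asIso (DerivedCategory.Q.map (RHomCx.homCxPre s I))).symm⟩

/-- a cochain module vanishes if all components do -/
theorem isZero_cochain {X Y : DRing.Cx A} {n : ℤ}
    (h : ∀ p q : ℤ, p + n = q → IsZero (X.X p) ∨ IsZero (Y.X q)) :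
    IsZero ((DRing.homCx X Y).X n) := by
  haveI : Subsingleton (Cochain X Y n) := ⟨fun z z' => Cochain.ext z z' fun p q hpq =>
    (h p q hpq).elim (fun hz => hz.eq_of_src _ _) (fun hz => hz.eq_of_tgt _ _)⟩
  haveI : Subsingleton ((DRing.homCx X Y).X n) := ‹Subsingleton (Cochain X Y n)›
  exact ModuleCat.isZero_of_subsingleton _

/-- a bounded K-injective complex has finite injective dimension -/
theorem injAmp_of_kinj {J : DRing.Cx A} [J.IsKInjective] {a b : ℤ} (hJ : DRing.VanishesOutside J a b) :
    DRing.HasInjAmplitudeIn A a b (DRing.toD J) := by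
  refine Groth.L10.DR.injAmp_of_vanishing fun 𝔞 i hi => ?_
  have hz : IsZero ((DerivedCategory.homologyFunctor (ModuleCat.{u} A) i).obj
      (DRing.toD (Groth.L29.HomD.HM J (ModuleCat.of A (A ⧸ 𝔞))))) :=
    (Groth.L02.PC.isZero_HH_Q_iff _ i).2 ((HomologicalComplex.exactAt_iff_isZero_homology _ i).1
      (HomologicalComplex.ExactAt.of_isZero
        (Functor.map_isZero (Groth.L29.HomD.hFun (ModuleCat.of A (A ⧸ 𝔞))) (hJ i hi))))
  haveI : Subsingleton (Dual.HD A (DRing.toD (Groth.L29.HomD.HM J (ModuleCat.of A (A ⧸ 𝔞)))) i) :=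
    ModuleCat.subsingleton_of_isZero hz
  exact (Groth.L29.HomD.homologyEquiv (ModuleCat.of A (A ⧸ 𝔞)) J i).symm.toEquiv.subsingleton

/-- finite Tor dimension gives finite injective dimension of the dual -/
theorem injDim_of_torDim {G : DRing.Cx A} (h : DRing.HasFiniteTorDimCx A (DRing.toD G)) {I : DRing.Cx A}
    {a b : ℤ} (hI : DRing.VanishesOutside I a b) [I.IsKInjective] :
    ∃ a' b' : ℤ, ∃ J : DRing.Cx A, DRing.HasInjAmplitudeIn A a' b' (DRing.toD J) ∧
      Nonempty (DRing.toD J ≅ DRing.toD (DRing.homCx G I)) := by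
  obtain ⟨c, d, E, hE, hEf, ⟨e⟩⟩ := h
  obtain ⟨e'⟩ := nonempty_homCx_iso e I
  haveI := RHomComp.isKInjective_homCx
    (Groth.L10.KFlat.of_bounded E d (fun i hi => hE i (Or.inr hi)) hEf) I
  have hJ : DRing.VanishesOutside (DRing.homCx E I) (a - d) (b - c) := fun n hn => by
    refine isZero_cochain fun p q hpq => ?_
    by_cases hp : p < c ∨ d < p
    · exact Or.inl (hE p hp)
    · exact Or.inr (hI q (by omega))
  exact ⟨a - d, b - c, DRing.homCx E I, injAmp_of_kinj hJ, ⟨e'.symm⟩⟩

/-- lower bound on the double dual -/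
theorem isZero_homology_homCx {W I : DRing.Cx A} [I.IsKInjective] {a c : ℤ} (hI : ∀ i, i < a → IsZero (I.X i))
    (hW : ∀ i, c < i → IsZero (W.homology i)) (i : ℤ) (hi : i < a - c) :
    IsZero ((DRing.homCx W I).homology i) := by
  haveI : W.IsLE c := (CochainComplex.isLE_iff W c).2 fun j hj =>
    (W.exactAt_iff_isZero_homology j).2 (hW j hj)
  haveI := RHomCx.quasiIso_homCxPre (W.ιTruncLE c) I
  have hz : IsZero ((DRing.homCx (W.truncLE c) I).X i) := isZero_cochain fun p q hpq => by
    by_cases hp : c < p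
    · exact Or.inl (CochainComplex.isZero_of_isStrictlyLE (W.truncLE c) c p hp)
    · exact Or.inr (hI q (by omega))
  exact ((HomologicalComplex.exactAt_iff_isZero_homology _ i).1 (HomologicalComplex.ExactAt.of_isZero hz)).of_iso
    (asIso (HomologicalComplex.homologyMap (RHomCx.homCxPre (W.ιTruncLE c) I) i))

/-- finite injective dimension of the dual gives vanishing of Tor against finite modules -/
theorem isZero_tensor [IsNoetherianRing A] {P I E : DRing.Cx A} [I.IsKInjective] [E.IsKInjective]
    (hPk : DRing.IsKFlat A P) (hPf : ∀ i, Module.Finite A (P.X i)) {a b : ℤ}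
    (hI : ∀ i, i < a → IsZero (I.X i)) (hE : ∀ i, b < i → IsZero (E.X i))
    (e : DRing.toD (DRing.homCx P I) ≅ DRing.toD E)
    (hgood : ∀ K : DRing.Cx A, (∀ i, Module.Finite A (Dual.HD A (DRing.toD K) i)) → QuasiIso (BidualCx.ev I K))
    (N : ModuleCat.{u} A) [Module.Finite A N] (i : ℤ) (hi : i < a - b) :
    IsZero ((DRing.tensorCx P N).homology i) := by
  haveI := RHomComp.isKInjective_homCx hPk I
  obtain ⟨W, s, hs, g, hg⟩ := DerivedCategory.right_fac e.hom
  obtain ⟨f, hf⟩ : ∃ f : DRing.homCx P I ⟶ E, DerivedCategory.Q.map f = e.hom := by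
    let q := HomotopyCategory.quotient (ModuleCat.{u} A) (ComplexShape.up ℤ)
    let η := DerivedCategory.quotientCompQhIso (ModuleCat.{u} A)
    obtain ⟨f', hf'⟩ := (CochainComplex.IsKInjective.Qh_map_bijective (q.obj (DRing.homCx P I)) E).2
      (η.hom.app _ ≫ e.hom ≫ η.inv.app E)
    obtain ⟨f, rfl⟩ := q.map_surjective f'
    refine ⟨f, ?_⟩
    rw [← cancel_epi (η.hom.app (DRing.homCx P I)), ← cancel_mono (η.inv.app E)]
    simp only [Category.assoc]
    rw [← hf', ← η.hom.naturality_assoc, Iso.hom_inv_id_app, Category.comp_id]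
    rfl
  haveI : QuasiIso f := (DerivedCategory.isIso_Q_map_iff_quasiIso _ f).1 (hf ▸ inferInstance)
  let S : DRing.Cx A := (HomologicalComplex.single (ModuleCat.{u} A) (ComplexShape.up ℤ) 0).obj N
  let X : DRing.Cx A := DRing.tensorCx P N
  let φ : X ≅ S ⊗ P := KFlatLBC.singleTensorIso P N
  -- the dual of `X` lives in degrees `≤ b`
  have hS : ∀ j, b < j → IsZero ((DRing.homCx X I).homology j) := fun j hj => by
    have h1 : IsZero ((DRing.homCx S E).homology j) :=
      (HomologicalComplex.exactAt_iff_isZero_homology _ j).1 (HomologicalComplex.ExactAt.of_isZero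
        (isZero_cochain fun p q hpq => by
          by_cases hp : p = 0
          · exact Or.inr (hE q (by omega))
          · exact Or.inl (HomologicalComplex.isZero_single_obj_X (ComplexShape.up ℤ) 0 N p hp)))
    haveI : QuasiIso (DRing.homCxMap S f) :=
      (DerivedCategory.isIso_Q_map_iff_quasiIso _ _).1 (RHomCx.isIso_map_of_quasiIso S f)
    haveI := RHomCx.quasiIso_homCxPre φ.hom I
    refine IsZero.of_iso ?_ (asIso (HomologicalComplex.homologyMap (RHomCx.homCxPre φ.hom I) j)).symm
    exact (h1.of_iso (asIso (HomologicalComplex.homologyMap (DRing.homCxMap S f) j))).of_iso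
      ((HomologicalComplex.homologyFunctor _ _ j).mapIso (HomTensor.iso S P I)).symm
  have hfin : ∀ n, Module.Finite A (Dual.HD A (DRing.toD X) n) := fun n => finite_HD X (fun m => by
    haveI := hPf m
    exact inferInstanceAs (Module.Finite A (TensorProduct A (P.X m) N))) n
  haveI := hgood X hfin
  exact (isZero_homology_homCx hI hS i hi).of_iso (asIso (HomologicalComplex.homologyMap (BidualCx.ev I X) i))

/-- a bounded above complex of finite free modules without Tor against finite modules in low degrees -/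
theorem amp_of_test {K : Dual.D A} {P : DRing.Cx A} {B a : ℤ} (hPb : DRing.VanishesAbove P B)
    (hP : DRing.TermwiseFlat P) (e : DRing.toD P ≅ K)
    (h : ∀ (N : ModuleCat.{u} A), Module.Finite A N → ∀ i, i < a → IsZero ((DRing.tensorCx P N).homology i)) :
    DRing.HasTorAmplitudeIn A a B K := by
  have hz : ∀ i, i < a → IsZero (P.homology i) := fun i hi => by
    rw [Groth.L10.DR.isZero_homology_iff_exact P (i - 1) i (i + 1) (by omega) rfl]
    exact Groth.L00.TorAmp.exact_of_rTensor_self _ _
      ((Groth.L10.DR.tensor_exact_iff P (ModuleCat.of A A) (i - 1) i (i + 1) (by omega) rfl).1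
        (h _ (inferInstanceAs (Module.Finite A A)) i hi))
  haveI := hP a
  have hco : Module.Flat A (P.X a ⧸ LinearMap.range (P.d (a - 1) a).hom) := by
    refine Groth.L00.TorAmp.flat_of_shifted_exact (P.d (a - 1 - 1) (a - 1)).hom (P.d (a - 1) a).hom
      (LinearMap.range (P.d (a - 1) a).hom).mkQ
      (LinearMap.exact_map_mkQ_range _) (Submodule.mkQ_surjective _) ?_ fun I _ =>
        (Groth.L10.DR.tensor_exact_iff P (ModuleCat.of A (A ⧸ I)) (a - 1 - 1) (a - 1) a (by omega) (by omega)).1
          (h _ (inferInstanceAs (Module.Finite A (A ⧸ I))) _ (by omega))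
    change ((P.d (a - 1 - 1) (a - 1)) ≫ P.d (a - 1) a).hom = 0
    rw [P.d_comp_d]
    rfl
  haveI := hco
  exact Groth.L29.DC.TildeAlg.amp_of_flat_cokernel P hPb hP e
    (fun i hi => (Groth.L10.DR.HH_iso_zero e i).2 (hz i hi))
    (Module.Flat.of_linearEquiv (ModuleCat.cokernelIsoRangeQuotient (P.d (a - 1) a)).toLinearEquiv)

/-- pseudo-coherence from finite cohomology bounded above over a Noetherian ring -/
theorem pc'_of_finite [IsNoetherianRing A] (K : Dual.D A) (b : ℤ)
    (hb : ∀ i, b < i → Subsingleton (Dual.HD A K i)) (hfin : ∀ i, Module.Finite A (Dual.HD A K i)) :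
    DRing.IsPseudoCoherent' A K :=
  Groth.L02.PC.pc'_of_forall fun m => Groth.L10.DR.pc_of_homology m K b
    (fun i hi => haveI := hb i hi; ModuleCat.isZero_of_subsingleton _) fun i _ => by
      haveI := hfin i
      exact Groth.L10.DR.pc_single i m
        (Groth.L02.PC.pc_of_pc' (Groth.L10.DR.pcModule'_noetherian ((DerivedCategory.homologyFunctor (ModuleCat.{u} A) i).obj K : ModuleCat.{u} A)) _)

theorem main [IsNoetherianRing A] {ω : Dual.D A} (hω : Dual.IsDualizing A ω) (G : DRing.Cx A) [DRing.HasRHomCx G]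
    (hfin : ∀ i : ℤ, Module.Finite A (Dual.HD A (DRing.toD G) i)) (b₀ : ℤ)
    (hbdd : ∀ i : ℤ, b₀ < i → Subsingleton (Dual.HD A (DRing.toD G) i)) :
    DRing.HasFiniteTorDimCx A (DRing.toD G) ↔ DRing.HasFiniteInjDim A ((DRing.RHomCx G).obj ω) := by
  obtain ⟨a, b, I, hI, hinj, ⟨eI⟩, hgood⟩ := exists_model hω
  haveI := isKInjective_of_bounds hI hinj
  let eR : DRing.toD (DRing.homCx G I) ≅ (DRing.RHomCx G).obj ω :=
    RHomCx.computeInj G I ≪≫ (DRing.RHomCx G).mapIso eI
  constructor
  · intro h
    obtain ⟨a', b', J, ⟨E, hE, hEi, ⟨eE⟩⟩, ⟨eJ⟩⟩ := injDim_of_torDim h hI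
    exact ⟨a', b', E, hE, hEi, ⟨eE ≪≫ eJ ≪≫ eR⟩⟩
  · rintro ⟨c, d, E, hE, hEi, ⟨eE⟩⟩
    haveI := isKInjective_of_bounds hE hEi
    obtain ⟨P, B, hPb, hPf, ⟨eP⟩⟩ := pc'_of_finite (DRing.toD G) b₀ hbdd hfin
    obtain ⟨e'⟩ := nonempty_homCx_iso eP I
    have hflat : DRing.TermwiseFlat P := Groth.L10.DR.flat_of_free fun i => (hPf i).2
    exact ⟨a - d, B, amp_of_test hPb hflat eP fun N hN i hi =>
      isZero_tensor (Groth.L10.KFlat.of_bounded P B hPb hflat) (fun j => (hPf j).1)
        (fun j hj => hI j (Or.inl hj)) (fun j hj => hE j (Or.inr hj)) (e'.symm ≪≫ eR ≪≫ eE.symm) hgood N i hi⟩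

end Groth.L29.TorInj
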