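import Groth.Agent.L29.Dual.DualBC
import Mathlib.RingTheory.TensorProduct.Finite

/-!
Being dualizing descends along a jointly faithful family of flat algebras.
-/

universe u

open CategoryTheory CategoryTheory.Limits
open scoped TensorProduct

attribute [local instance] HasDerivedCategory.standard

set_option backward.isDefEq.respectTransparency false

namespace Groth.L29.FlatBC

open Groth.L29.HomD

variable {A : Type u} [CommRing A] {ι : Type*} (B : ι → Type u) [∀ i, CommRing (B i)]
  [∀ i, Algebra A (B i)]

variable (A) in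
/-- the family detects zero modules -/
def Detects : Prop :=
  ∀ (N : Type (u + 1)) [AddCommGroup N] [Module A N], (∀ i, Subsingleton (B i ⊗[A] N)) → Subsingleton N

variable {B} in
lemma Detects.subsingleton (hdet : Detects A B) (N : Type u) [AddCommGroup N] [Module A N]
    (h : ∀ i, Subsingleton (B i ⊗[A] N)) : Subsingleton N :=
  haveI := hdet (ULift.{u + 1} N) fun i =>
    haveI := h i
    ((ULift.moduleEquiv (R := A) (M := N)).lTensor (B i)).toEquiv.subsingleton
  (ULift.moduleEquiv (R := A) (M := N)).toEquiv.symm.subsingleton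

variable {B} [∀ i, Module.Flat A (B i)]

/-- bijectivity is detected by the family -/
lemma bijective_of_detects (hdet : Detects A B) {M : Type u} {N : Type (u + 1)} [AddCommGroup M] [Module A M]
    [AddCommGroup N] [Module A N] (f : M →ₗ[A] N) (h : ∀ i, Function.Bijective (f.lTensor (B i))) :
    Function.Bijective f := by
  constructor
  · haveI : Subsingleton (LinearMap.ker f) := hdet.subsingleton _ fun i => by
      have hι : Function.Injective ((LinearMap.ker f).subtype.lTensor (B i)) :=
        Module.Flat.lTensor_preserves_injective_linearMap _ Subtype.val_injective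
      have h0 : f.lTensor (B i) ∘ₗ (LinearMap.ker f).subtype.lTensor (B i) = 0 := by
        rw [← LinearMap.lTensor_comp, LinearMap.comp_ker_subtype, LinearMap.lTensor_zero]
      exact ⟨fun s t => hι ((h i).1 ((LinearMap.congr_fun h0 s).trans (LinearMap.congr_fun h0 t).symm))⟩
    exact LinearMap.ker_eq_bot.1 (Submodule.subsingleton_iff_eq_bot.1 inferInstance)
  · haveI : Subsingleton (N ⧸ LinearMap.range f) := hdet _ fun i => by
      have hq : Function.Surjective ((LinearMap.range f).mkQ.lTensor (B i)) :=
        LinearMap.lTensor_surjective _ (Submodule.mkQ_surjective _)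
      have h0 : (LinearMap.range f).mkQ.lTensor (B i) ∘ₗ f.lTensor (B i) = 0 := by
        rw [← LinearMap.lTensor_comp, LinearMap.range_mkQ_comp, LinearMap.lTensor_zero]
      refine subsingleton_of_forall_eq 0 fun y => ?_
      obtain ⟨z, rfl⟩ := hq y
      obtain ⟨w, rfl⟩ := (h i).2 z
      exact LinearMap.congr_fun h0 w
    exact LinearMap.range_eq_top.1 (Submodule.Quotient.subsingleton_iff.1 inferInstance)

variable [IsNoetherianRing A] {K : Dual.D A}

/-- descent of the dualizing property, given finite injective dimension -/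
theorem isDualizing_of_family_of_injDim (hdet : Detects A B)
    (hfin : ∀ n : ℤ, Module.Finite A (Dual.HD A K n)) (a b : ℤ)
    (hab : ∀ (M : Type u) [AddCommGroup M] [Module A M] (i : ℤ), (i < a ∨ b < i) →
      Subsingleton (Dual.inD A M ⟶ K⟦i⟧))
    (hK : ∀ i, Dual.IsDualizing (B i) ((L A (B i)).obj K)) : Dual.IsDualizing A K := by
  haveI := isGE_of_lower a fun M _ _ i hi => hab M i (Or.inl hi)
  haveI : K.IsLE b := (DerivedCategory.isLE_iff K b).2 fun n hn => by
    haveI := hab A n (Or.inr hn)
    haveI : Subsingleton (Dual.HD A K n) := (evalShiftEquiv K n).symm.toEquiv.subsingleton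
    exact ModuleCat.isZero_of_subsingleton _
  have hall : ∀ i, AllShift (B i) K K := fun i => allShift_bounded K a K a b hfin
  refine ⟨inferInstance, ⟨a, b, hab⟩, hfin, ?_, fun j hj => ?_⟩
  · let f : A →ₗ[A] (K ⟶ K) :=
      { toFun := fun x => x • 𝟙 K
        map_add' := fun x y => add_smul x y _
        map_smul' := fun x y => by rw [RingHom.id_apply, smul_eq_mul, mul_smul] }
    refine bijective_of_detects hdet f fun i => ?_
    have h0 : Iso' (B i) K K := iso'_of_iso ((shiftFunctorZero (Dual.D A) ℤ).app K) (hall i 0)
    have h2 : Function.Bijective (fun t => theta (B i) K K (f.lTensor (B i) t)) := by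
      have he : (fun t => theta (B i) K K (f.lTensor (B i) t)) =
          (fun x : B i => x • 𝟙 ((L A (B i)).obj K)) ∘ (TensorProduct.rid A (B i)) := by
        funext t
        induction t with
        | zero => simp
        | tmul b r =>
          change b • (L A (B i)).map (r • 𝟙 K) = _
          rw [map_smul_id, ← mul_smul, Function.comp_apply, TensorProduct.rid_tmul, Algebra.smul_def, mul_comm]
        | add s t hs ht => simp only [map_add, Function.comp_apply, add_smul] at hs ht ⊢; rw [hs, ht]
      rw [he]
      exact (hK i).toEnd_bijective.comp (TensorProduct.rid A (B i)).bijective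
    exact (Function.Bijective.of_comp_iff' h0 _).1 h2
  · refine hdet _ fun i => ?_
    haveI : Subsingleton (B i ⊗[A] ((shiftFunctor (Dual.D A) (-j)).obj K ⟶ K)) := by
      let LK := (L A (B i)).obj K
      let e' : (shiftFunctor (Dual.D (B i)) (-j)).obj LK ≅ (L A (B i)).obj (K⟦-j⟧) :=
        (((L A (B i)).commShiftIso (-j)).app K).symm
      haveI := (hK i).ext_self_subsingleton j hj
      exact ((LinearEquiv.ofBijective (theta (B i) (K⟦-j⟧) K) (hall i (-j))).trans
        ((Groth.L29.RestrictAdj.shiftLeft LK LK j).trans
          (Linear.homCongr (B i) e' (Iso.refl LK))).symm).toEquiv.subsingleton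
    exact ((Groth.L29.RestrictAdj.shiftLeft K K j).lTensor (B i)).toEquiv.subsingleton


/-- descent of the dualizing property -/
theorem isDualizing_of_family (hdet : Detects A B) (hfin : ∀ n : ℤ, Module.Finite A (Dual.HD A K n))
    (a c : ℤ) (hlow : ∀ i, ∀ n : ℤ, n < a → Subsingleton (Dual.HD (B i) ((L A (B i)).obj K) n))
    (hc : ∀ i, ∀ (N : Type u) [AddCommGroup N] [Module (B i) N] [Module.Finite (B i) N] (j : ℤ), c < j →
      Subsingleton (Dual.inD (B i) N ⟶ ((L A (B i)).obj K)⟦j⟧))
    (hK : ∀ i, Dual.IsDualizing (B i) ((L A (B i)).obj K)) : Dual.IsDualizing A K := by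
  have hH : ∀ n : ℤ, n < a ∨ c < n → Subsingleton (Dual.HD A K n) := fun n hn => hdet.subsingleton _ fun i => by
    haveI : Subsingleton (Dual.HD (B i) ((L A (B i)).obj K) n) := by
      rcases hn with hn | hn
      · exact hlow i n hn
      · haveI := hc i (B i) n hn
        exact (evalShiftEquiv ((L A (B i)).obj K) n).symm.toEquiv.subsingleton
    exact (hEquiv A (B i) K n).symm.toEquiv.subsingleton
  haveI : K.IsGE a := (DerivedCategory.isGE_iff K a).2 fun n hn =>
    haveI := hH n (Or.inl hn)
    ModuleCat.isZero_of_subsingleton _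
  haveI : K.IsLE c := (DerivedCategory.isLE_iff K c).2 fun n hn =>
    haveI := hH n (Or.inr hn)
    ModuleCat.isZero_of_subsingleton _
  have hvan : ∀ (M : Type u) [AddCommGroup M] [Module A M] [Module.Finite A M] (j : ℤ), c < j →
      Subsingleton (Dual.inD A M ⟶ K⟦j⟧) := fun M _ _ _ j hj => hdet _ fun i =>
    haveI := hc i (B i ⊗[A] M) j hj
    (homEquiv (B := B i) a M j).toEquiv.subsingleton
  obtain ⟨I, _, hinj, _, ⟨eI⟩⟩ := exists_injRep K a
  refine isDualizing_of_family_of_injDim hdet hfin a (c + 1) (fun M _ _ j hj => ?_) hK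
  rcases hj with hj | hj
  · haveI : DerivedCategory.IsGE (K⟦j⟧) (a - j) :=
      DerivedCategory.TStructure.t.isGE_shift K a j (a - j) (by lia)
    exact ⟨fun p q => by
      rw [DerivedCategory.TStructure.t.zero p 0 (a - j) (by lia),
        DerivedCategory.TStructure.t.zero q 0 (a - j) (by lia)]⟩
  · haveI := subsingleton_hom_all hinj c (fun M _ _ _ j hj =>
      haveI := hvan M j hj
      (Linear.homCongr A (Iso.refl (Dual.inD A M))
        ((shiftFunctor (Dual.D A) j).mapIso eI)).toEquiv.subsingleton) M j (by lia)
    exact (Linear.homCongr A (Iso.refl (Dual.inD A M))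
        ((shiftFunctor (Dual.D A) j).mapIso eI)).symm.toEquiv.subsingleton

/-- uniform bounds are automatic for a finite family -/
theorem isDualizing_of_finite_family [Finite ι] (hdet : Detects A B)
    (hfin : ∀ n : ℤ, Module.Finite A (Dual.HD A K n))
    (hK : ∀ i, Dual.IsDualizing (B i) ((L A (B i)).obj K)) : Dual.IsDualizing A K := by
  choose a b hab using fun i => (hK i).finite_injective_dimension
  obtain ⟨lo, hlo⟩ := Finite.exists_ge a
  obtain ⟨hi, hhi⟩ := Finite.exists_le b
  refine isDualizing_of_family hdet hfin lo hi (fun i n hn => ?_)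
    (fun i N _ _ _ j hj => hab i N j (Or.inr ((hhi i).trans_lt hj))) hK
  haveI := hab i (B i) n (Or.inl (hn.trans_le (hlo i)))
  exact (evalShiftEquiv ((L A (B i)).obj K) n).symm.toEquiv.subsingleton

end Groth.L29.FlatBC
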