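import Groth.Agent.L29.Dual.GorensteinBC
import Groth.Agent.L29.Dual.Pointwise
import Groth.Agent.L29.Dual.Descent
import Groth.Agent.L29.Dual.FiniteType
import Groth.Agent.L29.Dual.DualFlat
import Groth.Agent.L21.GorensteinFieldExt
import Groth.Agent.L09.DerivedRetract
import Groth.Agent.S0371
import Mathlib.RingTheory.Finiteness.Descent

/-!
Dualizing complexes along flat maps of finite type with Gorenstein fibres.
-/

set_option autoImplicit false
set_option backward.defeqAttrib.useBackward true

universe u

open CategoryTheory CategoryTheory.Limits IsLocalRing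
open scoped TensorProduct

attribute [local instance] HasDerivedCategory.standard

set_option backward.isDefEq.respectTransparency false

namespace Groth.L29.GorBC

open Groth.L29.HomD

/-- base change composes -/
noncomputable def lComp (A A' B : Type u) [CommRing A] [CommRing A'] [CommRing B] [Algebra A A'] [Algebra A' B]
    [Algebra A B] [IsScalarTower A A' B] [Module.Flat A A'] [Module.Flat A' B] [Module.Flat A B] :
    FlatBC.L A A' ⋙ FlatBC.L A' B ≅ FlatBC.L A B :=
  let f : A →+* A' := algebraMap A A'
  let g : A' →+* B := algebraMap A' B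
  let e : FlatBC.ext A B ≅ FlatBC.ext A A' ⋙ FlatBC.ext A' B :=
    eqToIso (by rw [FlatBC.ext, IsScalarTower.algebraMap_eq A A' B]) ≪≫ ModuleCat.extendScalarsComp f g
  haveI : PreservesFiniteLimits (FlatBC.ext A A' ⋙ FlatBC.ext A' B) := comp_preservesFiniteLimits _ _
  haveI : PreservesFiniteColimits (FlatBC.ext A A' ⋙ FlatBC.ext A' B) := comp_preservesFiniteColimits _ _
  Groth.L09.DerivedRetract.compIso _ _ ≪≫ (Groth.L09.DerivedRetract.natIso e).symm

variable {A B : Type u} [CommRing A] [CommRing B] [Algebra A B]

/-- a faithfully flat map detects the dualizing property -/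
theorem isDualizing_of_faithfullyFlat [IsNoetherianRing A] [Module.FaithfullyFlat A B] {K : Dual.D A}
    (h : Dual.IsDualizing B ((FlatBC.L A B).obj K)) : Dual.IsDualizing A K := by
  haveI := h.isNoetherianRing
  obtain ⟨a, b, hab⟩ := h.finite_injective_dimension
  refine FlatBC.isDualizing_of_family (B := fun _ : PUnit.{1} => B) (fun N _ _ hN => ?_) (fun n => ?_) a b
    (fun _ n hn => ?_) (fun _ N _ _ _ j hj => hab N j (Or.inr hj)) (fun _ => h)
  · haveI := hN ⟨⟩
    exact (Module.FaithfullyFlat.subsingleton_tensorProduct_iff_right A B (N := N)).1 inferInstance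
  · haveI := h.finite_cohomology n
    haveI : Module.Finite B (B ⊗[A] Dual.HD A K n) := Module.Finite.equiv (FlatBC.hEquiv A B K n)
    exact Module.Finite.of_finite_tensorProduct_of_faithfullyFlat B
  · haveI := hab B n (Or.inl hn)
    exact (evalShiftEquiv ((FlatBC.L A B).obj K) n).symm.toEquiv.subsingleton

/-- flat, finite type, Gorenstein fibres -/
theorem isDualizing_L_of_gorenstein_fibres [IsNoetherianRing A] [Module.Flat A B] [Algebra.FiniteType A B]
    (hG : ∀ (p : Ideal A) [p.IsPrime], Groth.L21.GorensteinFieldExt.LocGor (p.Fiber B))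
    {K : Dual.D A} (hK : Dual.IsDualizing A K) : Dual.IsDualizing B ((FlatBC.L A B).obj K) := by
  haveI : IsNoetherianRing B := Algebra.FiniteType.isNoetherianRing A B
  obtain ⟨ω', hω'⟩ := FlatBC.exists_dualizing_finiteType (A := A) (B := B) ⟨K, hK⟩
  obtain ⟨a, b, hab⟩ := hK.finite_injective_dimension
  haveI := isGE_of_lower a fun M _ _ i hi => hab M i (Or.inl hi)
  haveI := FlatBC.isGE_L (B := B) K a
  haveI : ∀ p : PrimeSpectrum B, Module.Flat B (Localization.AtPrime p.asIdeal) :=
    fun p => IsLocalization.flat _ p.asIdeal.primeCompl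
  refine FlatBC.isDualizing_of_pointwise (Groth.Agent.S0371.result B ω' hω')
    (FlatBC.finite_HD_L hK.finite_cohomology) a
    (fun i hi => ModuleCat.subsingleton_of_isZero
      (DerivedCategory.isZero_of_isGE ((FlatBC.L A B).obj K) a i hi)) (fun Q => ?_)
  let q : Ideal A := Q.asIdeal.comap (algebraMap A B)
  haveI : Q.asIdeal.LiesOver q := ⟨rfl⟩
  obtain ⟨i, hl, hcomm, hf, P, hP, ⟨e⟩⟩ := Groth.L07.CIFibre.exists_local_map q Q.asIdeal
  letI := i
  haveI := hl
  haveI := hf
  haveI : Module.Flat A (Localization.AtPrime q) := IsLocalization.flat _ q.primeCompl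
  haveI : IsNoetherianRing (Localization.AtPrime q) := IsLocalization.isNoetherianRing q.primeCompl _ inferInstance
  haveI : IsNoetherianRing (Localization.AtPrime Q.asIdeal) :=
    IsLocalization.isNoetherianRing Q.asIdeal.primeCompl _ inferInstance
  haveI : IsScalarTower A (Localization.AtPrime q) (Localization.AtPrime Q.asIdeal) :=
    IsScalarTower.of_algebraMap_eq fun r => by
      rw [hcomm r, ← IsScalarTower.algebraMap_apply]
  haveI : Module.Flat A (Localization.AtPrime Q.asIdeal) := Module.Flat.trans A (Localization.AtPrime q) _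
  have h1 := isDualizing_L_of_gorenstein (A := Localization.AtPrime q) (B := Localization.AtPrime Q.asIdeal)
    (FlatBC.isDualizing_L_localization (B := Localization.AtPrime q) q.primeCompl hK)
    (Groth.L21.GorensteinAscend.isGorensteinLocalRing_of_ringEquiv e (hG q P))
  exact isDualizing_of_iso ((lComp A (Localization.AtPrime q) (Localization.AtPrime Q.asIdeal)).app K ≪≫
    ((lComp A B (Localization.AtPrime Q.asIdeal)).app K).symm) h1

end Groth.L29.GorBC
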