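import Groth.Agent.L29.Dual.TorInj
import Groth.Agent.L10.DRing.LiftCx.Minimal
import Groth.Agent.L10.DRing.TensorFinite
import Mathlib.LinearAlgebra.TensorProduct.Finiteness

/-!
Invertible objects of the derived category of a Noetherian local ring.
-/

set_option autoImplicit false

universe u

open CategoryTheory CategoryTheory.Limits MonoidalCategory
open scoped TensorProduct

attribute [local instance] HasDerivedCategory.standard

set_option backward.defeqAttrib.useBackward true
set_option backward.isDefEq.respectTransparency false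
set_option backward.isDefEq.respectTransparency.types false
set_option linter.style.haveILetI false

namespace Groth.L29.LocalInvertible

open Groth.L10 Groth.L10.LiftCx Groth.L28.TensorCx

variable {A : Type u} [CommRing A]

/-- a complex concentrated in one degree -/
theorem nonempty_iso_single (P : DRing.Cx A) (p : ℤ) (h : ∀ i, i ≠ p → IsZero (P.X i)) :
    Nonempty (P ≅ (HomologicalComplex.single (ModuleCat.{u} A) (ComplexShape.up ℤ) p).obj (P.X p)) := by
  let f : P ⟶ (HomologicalComplex.single (ModuleCat.{u} A) (ComplexShape.up ℤ) p).obj (P.X p) :=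
    HomologicalComplex.mkHomToSingle (𝟙 (P.X p)) fun i hi => (h i (by
      have : i + 1 = p := hi
      omega)).eq_of_src _ _
  haveI : ∀ i, IsIso (f.f i) := fun i => by
    by_cases hi : i = p
    · subst hi
      rw [HomologicalComplex.mkHomToSingle_f]
      infer_instance
    · exact ⟨0, (h i hi).eq_of_src _ _,
        (HomologicalComplex.isZero_single_obj_X (ComplexShape.up ℤ) p _ i hi).eq_of_src _ _⟩
  haveI : IsIso f := HomologicalComplex.Hom.isIso_of_components f
  exact ⟨asIso f⟩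

variable [IsLocalRing A]

/-- minimal finite free models -/
theorem exists_minimal (K : Dual.D A) (hK : DRing.IsPseudoCoherent' A K) :
    ∃ (P : DRing.Cx A) (b : ℤ), DRing.VanishesAbove P b ∧ DRing.TermwiseFiniteFree P ∧
      Nonempty (DRing.toD P ≅ K) ∧
      ∀ i j x, (P.d i j).hom x ∈ IsLocalRing.maximalIdeal A • (⊤ : Submodule A (P.X j)) := by
  haveI : DRing.HasLBaseChange (Ideal.Quotient.mk (IsLocalRing.maximalIdeal A)) :=
    KFlatLBC.hasLBaseChange _
  letI : Field (A ⧸ IsLocalRing.maximalIdeal A) := Ideal.Quotient.field (IsLocalRing.maximalIdeal A)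
  obtain ⟨-, -, ⟨P, ⟨b, hb⟩, hf, ⟨eP⟩⟩, -⟩ := minimal_spec K hK
  refine ⟨P, b, hb, fun i => ⟨(hf i).2.1, (hf i).1⟩, ⟨eP⟩, ?_⟩
  haveI := isKProjective_of_vanishesAbove P b hb fun i => haveI := (hf i).1; Module.Projective.of_free
  let G : DRing.Cx (A ⧸ IsLocalRing.maximalIdeal A) := (redCx (IsLocalRing.maximalIdeal A)).obj P
  let eG := (Groth.L02.PC.lbcIso _ P).symm ≪≫
    (DRing.LBaseChange (Ideal.Quotient.mk (IsLocalRing.maximalIdeal A))).mapIso eP
  haveI : ∀ i, Module.Finite (A ⧸ IsLocalRing.maximalIdeal A) (G.X i) := fun i =>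
    haveI := (hf i).2.1
    Module.Finite.equiv (Groth.L29.FlatBC.extEquiv A (A ⧸ IsLocalRing.maximalIdeal A) (P.X i)).symm
  have h0 := d_eq_zero_of_finrank G fun i => by
    obtain ⟨e⟩ := finrank_HD G eG i
    haveI := (hf i).1
    rw [e.finrank_eq, ← (hf i).2.2]
    exact (Groth.L29.FlatBC.extEquiv A (A ⧸ IsLocalRing.maximalIdeal A) (P.X i)).finrank_eq.trans
      Module.finrank_baseChange
  intro i j x
  rcases eq_or_ne (i + 1) j with rfl | hij
  · refine eta_ker _ _ _ ?_
    rw [eta_natural]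
    exact LinearMap.congr_fun (h0 i) _
  · rw [P.shape i j hij]
    exact zero_mem _

local notation "κ" => IsLocalRing.ResidueField A

theorem tensor_residue_eq_zero {M : Type u} [AddCommGroup M] [Module A M] {r : A}
    (hr : r ∈ IsLocalRing.maximalIdeal A) (z : M ⊗[A] κ) : r • z = 0 := by
  induction z using TensorProduct.induction_on with
  | zero => exact smul_zero r
  | tmul m c =>
    rw [← TensorProduct.tmul_smul]
    have : r • c = 0 := by
      rw [Algebra.smul_def, show algebraMap A κ r = 0 from Ideal.Quotient.eq_zero_iff_mem.2 hr, zero_mul]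
    rw [this, TensorProduct.tmul_zero]
  | add a b ha hb => rw [smul_add, ha, hb, add_zero]

theorem map_residue_eq_zero {M N : Type u} [AddCommGroup M] [Module A M] [AddCommGroup N] [Module A N]
    (φ : M →ₗ[A] N ⊗[A] κ) {x : M} (hx : x ∈ IsLocalRing.maximalIdeal A • (⊤ : Submodule A M)) : φ x = 0 := by
  refine Submodule.smul_induction_on hx (fun r hr m _ => ?_) fun a b ha hb => ?_
  · rw [map_smul]
    exact tensor_residue_eq_zero hr _
  · rw [map_add, ha, hb, add_zero]

/-- the differential of a tensor product of minimal complexes vanishes modulo the maximal ideal -/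
theorem tensor_d_zero {P Q : DRing.Cx A}
    (hP : ∀ i j x, (P.d i j).hom x ∈ IsLocalRing.maximalIdeal A • (⊤ : Submodule A (P.X j)))
    (hQ : ∀ i j x, (Q.d i j).hom x ∈ IsLocalRing.maximalIdeal A • (⊤ : Submodule A (Q.X j))) (n : ℤ) :
    (DRing.tensorCx (P ⊗ Q) (ModuleCat.of A κ)).d n (n + 1) = 0 := by
  have h : (tensorRight (ModuleCat.of A κ)).map ((P ⊗ Q).d n (n + 1)) = 0 := by
    refine ModuleCat.hom_ext (TensorProduct.ext' fun w c => ?_)
    change ((P ⊗ Q).d n (n + 1)).hom w ⊗ₜ[A] c = 0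
    let φ : ↑((P ⊗ Q).X (n + 1)) →ₗ[A] ↑((P ⊗ Q).X (n + 1)) ⊗[A] κ := (TensorProduct.mk A _ κ).flip c
    suffices h' : φ ∘ₗ ((P ⊗ Q).d n (n + 1)).hom = 0 from LinearMap.congr_fun h' w
    suffices h' : (P ⊗ Q).d n (n + 1) ≫ ModuleCat.ofHom φ = 0 from congrArg ModuleCat.Hom.hom h'
    refine HomologicalComplex.mapBifunctor.hom_ext fun p q hpq => ?_
    refine ModuleCat.hom_ext (TensorProduct.ext' fun x y => ?_)
    have hd := Groth.L28.TensorCx.d_ins P Q p q n (n + 1) (p + 1) (q + 1) hpq rfl rfl rfl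
      (by dsimp at hpq; omega) (by dsimp at hpq; omega) (x ⊗ₜ y)
    simp only [LinearMap.rTensor_tmul, LinearMap.lTensor_tmul] at hd
    change φ (((P ⊗ Q).d n (n + 1)).hom (ins P Q p q n hpq (x ⊗ₜ y))) = _
    erw [hd]
    rw [map_add, map_zsmul]
    have h1 := map_residue_eq_zero (φ ∘ₗ (ins P Q (p + 1) q (n + 1) (by dsimp at hpq; omega)) ∘ₗ
      ((TensorProduct.mk A (P.X (p + 1)) (Q.X q)).flip y)) (hP p (p + 1) x)
    have h2 := map_residue_eq_zero (φ ∘ₗ (ins P Q p (q + 1) (n + 1) (by dsimp at hpq; omega)) ∘ₗ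
      (TensorProduct.mk A (P.X p) (Q.X (q + 1)) x)) (hQ q (q + 1) y)
    erw [h1, h2]
    simp
  exact h

/-- the projection on a summand of the tensor product of complexes -/
theorem exists_proj (P Q : DRing.Cx A) (p q n : ℤ) (h : p + q = n) :
    ∃ π : ↑((P ⊗ Q).X n) →ₗ[A] P.X p ⊗[A] Q.X q, ∀ z, π (ins P Q p q n h z) = z := by
  classical
  refine ⟨(HomologicalComplex.mapBifunctorDesc (K₁ := P) (K₂ := Q) (c := ComplexShape.up ℤ)
    (F := curriedTensor (ModuleCat.{u} A)) (A := ModuleCat.of A (P.X p ⊗[A] Q.X q)) (j := n)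
    fun p' q' h' => if hp : p' = p then
        ((curriedTensor (ModuleCat.{u} A)).map (P.XIsoOfEq hp).hom).app (Q.X q') ≫
          ((curriedTensor (ModuleCat.{u} A)).obj (P.X p)).map
            (Q.XIsoOfEq (show q' = q by dsimp at h'; omega)).hom
      else 0).hom, fun z => ?_⟩
  refine (LinearMap.congr_fun (congrArg ModuleCat.Hom.hom
    (HomologicalComplex.ι_mapBifunctorDesc (K₁ := P) (K₂ := Q) (c := ComplexShape.up ℤ)
      (F := curriedTensor (ModuleCat.{u} A)) (A := ModuleCat.of A (P.X p ⊗[A] Q.X q)) (j := n) _ p q h)) z).trans ?_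
  simp
  rfl

/-- a degree where the tensor product is trivial modulo the maximal ideal -/
theorem isZero_or_isZero {P Q : DRing.Cx A} (hPf : DRing.TermwiseFiniteFree P) (hQf : DRing.TermwiseFiniteFree Q)
    (p q n : ℤ) (h : p + q = n) (h0 : Subsingleton (↑((P ⊗ Q).X n) ⊗[A] κ)) :
    IsZero (P.X p) ∨ IsZero (Q.X q) := by
  haveI := (hPf p).1; haveI := (hPf p).2; haveI := (hQf q).1; haveI := (hQf q).2
  obtain ⟨π, hπ⟩ := exists_proj P Q p q n h
  haveI := h0
  haveI : Subsingleton ((P.X p ⊗[A] Q.X q) ⊗[A] κ) :=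
    (LinearMap.rTensor_surjective κ (g := π) fun z => ⟨_, hπ z⟩).subsingleton
  haveI : Subsingleton (κ ⊗[A] (P.X p ⊗[A] Q.X q)) :=
    (TensorProduct.comm A κ (P.X p ⊗[A] Q.X q)).toEquiv.subsingleton
  haveI : Subsingleton (P.X p ⊗[A] Q.X q) := IsLocalRing.subsingleton_tensorProduct.1 this
  rcases subsingleton_or_nontrivial (P.X p) with hs | hs
  · exact Or.inl (ModuleCat.isZero_of_subsingleton _)
  rcases subsingleton_or_nontrivial (Q.X q) with ht | ht
  · exact Or.inr (ModuleCat.isZero_of_subsingleton _)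
  exfalso
  have h1 : Module.finrank A (P.X p ⊗[A] Q.X q) = 0 := Module.finrank_zero_of_subsingleton
  rw [Module.finrank_tensorProduct] at h1
  exact (Nat.mul_pos ((Module.finrank_pos_iff_of_free A _).2 hs) ((Module.finrank_pos_iff_of_free A _).2 ht)).ne' h1

/-- minimal models of inverse objects are concentrated in opposite degrees, of rank one -/
theorem concentrated {P Q : DRing.Cx A} {b d : ℤ} (hPb : DRing.VanishesAbove P b)
    (hQb : DRing.VanishesAbove Q d) (hPf : DRing.TermwiseFiniteFree P) (hQf : DRing.TermwiseFiniteFree Q)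
    (hP : ∀ i j x, (P.d i j).hom x ∈ IsLocalRing.maximalIdeal A • (⊤ : Submodule A (P.X j)))
    (hQ : ∀ i j x, (Q.d i j).hom x ∈ IsLocalRing.maximalIdeal A • (⊤ : Submodule A (Q.X j)))
    (e : DRing.toD (P ⊗ Q) ≅ Dual.inD A A) :
    ∃ p : ℤ, (∀ i, i ≠ p → IsZero (P.X i)) ∧ (∀ i, i ≠ -p → IsZero (Q.X i)) ∧
      Nonempty (P.X p ≅ ModuleCat.of A A) ∧ Nonempty (Q.X (-p) ≅ ModuleCat.of A A) := by
  classical
  let X : DRing.Cx A := P ⊗ Q
  let S : DRing.Cx A :=
    (HomologicalComplex.single (ModuleCat.{u} A) (ComplexShape.up ℤ) 0).obj (ModuleCat.of A A)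
  let e' : DRing.toD X ≅ DRing.toD S :=
    e ≪≫ (DerivedCategory.singleFunctorIsoCompQ (ModuleCat.{u} A) 0).app (ModuleCat.of A A)
  have hXb : DRing.VanishesAbove X (b + d) := fun i hi => AmpTest.isZero_tensor_X P Q i fun p q hpq => by
    by_cases hp : b < p
    · exact Or.inl (hPb p hp)
    · exact Or.inr (hQb q (by omega))
  have hXf : DRing.TermwiseFlat X := fun n => by
    haveI := (TensorFinite.finProj_X P Q n (Finset.Icc (n - d) b) (fun p hp => by
      simp only [Finset.mem_Icc] at hp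
      by_cases hp' : b < p
      · exact Or.inl (hPb p hp')
      · exact Or.inr (hQb _ (by omega)))
      (TensorFinite.finProj_of_finFree hPf) (TensorFinite.finProj_of_finFree hQf)).2
    infer_instance
  have hSf : DRing.TermwiseFlat S := fun i => by
    by_cases hi : i = 0
    · subst hi
      exact Module.Flat.of_linearEquiv
        (HomologicalComplex.singleObjXSelf (ComplexShape.up ℤ) 0 (ModuleCat.of A A)).toLinearEquiv
    · haveI := ModuleCat.subsingleton_of_isZero
        (HomologicalComplex.isZero_single_obj_X (ComplexShape.up ℤ) 0 (ModuleCat.of A A) i hi)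
      exact inferInstance
  have hzero : ∀ n : ℤ, n ≠ 0 → Subsingleton (↑((P ⊗ Q).X n) ⊗[A] κ) := fun n hn => by
    have ht : DR.TZ X n := (DR.tz_iff_of_iso e' hXb hXf (c := 0)
      (fun j hj => HomologicalComplex.isZero_single_obj_X (ComplexShape.up ℤ) 0 _ j (by omega)) hSf n).2
      fun N => (HomologicalComplex.exactAt_iff_isZero_homology _ n).1 (HomologicalComplex.ExactAt.of_isZero
        ((tensorRight N).map_isZero (HomologicalComplex.isZero_single_obj_X (ComplexShape.up ℤ) 0 _ n hn)))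
    have hz := ht (ModuleCat.of A κ)
    have hd1 := tensor_d_zero hP hQ n
    have hd0 : (DRing.tensorCx X (ModuleCat.of A κ)).d (n - 1) n = 0 := by
      have := tensor_d_zero hP hQ (n - 1)
      rwa [show n - 1 + 1 = n by omega] at this
    haveI := (DRing.tensorCx X (ModuleCat.of A κ)).isIso_homologyπ (n - 1) n (by simp) hd0
    haveI := (DRing.tensorCx X (ModuleCat.of A κ)).isIso_iCycles n (n + 1) (by simp) hd1
    exact ModuleCat.subsingleton_of_isZero (hz.of_iso
      ((asIso ((DRing.tensorCx X (ModuleCat.of A κ)).iCycles n)).symm ≪≫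
        asIso ((DRing.tensorCx X (ModuleCat.of A κ)).homologyπ n)))
  have hH : ¬ IsZero (X.homology 0) := fun h => by
    have h1 : IsZero (S.homology 0) := (AmpTest.homology_iff e' 0).1 h
    have h2 : IsZero (ModuleCat.of A A) := h1.of_iso
      (HomologicalComplex.singleObjHomologySelfIso (ComplexShape.up ℤ) 0 _).symm
    haveI : Subsingleton A := ModuleCat.subsingleton_of_isZero h2
    exact false_of_nontrivial_of_subsingleton A
  obtain ⟨p, hp1, hp2⟩ : ∃ p, ¬ IsZero (P.X p) ∧ ¬ IsZero (Q.X (-p)) := by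
    by_contra hne
    apply hH
    refine (HomologicalComplex.exactAt_iff_isZero_homology _ 0).1 (HomologicalComplex.ExactAt.of_isZero
      (AmpTest.isZero_tensor_X P Q 0 fun p q hpq => ?_))
    by_contra hboth
    obtain rfl : q = -p := by omega
    exact hne ⟨p, fun h => hboth (Or.inl h), fun h => hboth (Or.inr h)⟩
  have hPz : ∀ i, i ≠ p → IsZero (P.X i) := fun i hi =>
    (isZero_or_isZero hPf hQf i (-p) _ rfl (hzero _ (by omega))).elim id fun h => absurd h hp2
  have hQz : ∀ i, i ≠ -p → IsZero (Q.X i) := fun i hi =>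
    (isZero_or_isZero hPf hQf p i _ rfl (hzero _ (by omega))).elim (fun h => absurd h hp1) id
  have hX : ∀ i, i ≠ 0 → IsZero (X.X i) := fun i hi => AmpTest.isZero_tensor_X P Q i fun a c hac => by
    by_cases ha : a = p
    · exact Or.inr (hQz c (by omega))
    · exact Or.inl (hPz a ha)
  obtain ⟨eX⟩ := nonempty_iso_single X 0 hX
  let η : X.X 0 ≅ ModuleCat.of A A :=
    (HomologicalComplex.singleObjHomologySelfIso (ComplexShape.up ℤ) 0 (X.X 0)).symm ≪≫
      ((HomologicalComplex.homologyFunctor _ _ 0).mapIso eX).symm ≪≫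
      ((DerivedCategory.homologyFunctorFactors (ModuleCat.{u} A) 0).app X).symm ≪≫
      (DerivedCategory.homologyFunctor (ModuleCat.{u} A) 0).mapIso e' ≪≫
      (DerivedCategory.homologyFunctorFactors (ModuleCat.{u} A) 0).app S ≪≫
      HomologicalComplex.singleObjHomologySelfIso (ComplexShape.up ℤ) 0 (ModuleCat.of A A)
  obtain ⟨π, hπ⟩ := exists_proj P Q p (-p) 0 (by omega)
  have hins : Function.Surjective (ins P Q p (-p) 0 (by omega)) := fun w => ⟨π w, by
    have hid : (ModuleCat.ofHom ((ins P Q p (-p) 0 (by omega)) ∘ₗ π) : (P ⊗ Q).X 0 ⟶ (P ⊗ Q).X 0) = 𝟙 _ := by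
      refine HomologicalComplex.mapBifunctor.hom_ext fun a c hac => ?_
      by_cases ha : a = p
      · subst ha
        obtain rfl : c = -a := by dsimp at hac; omega
        refine ModuleCat.hom_ext (LinearMap.ext fun z => ?_)
        change ins P Q a (-a) 0 _ (π (ins P Q a (-a) 0 _ z)) = _
        rw [hπ]
        rfl
      · exact (((curriedTensor (ModuleCat.{u} A)).flip.obj (Q.X c)).map_isZero (hPz a ha)).eq_of_src _ _
    exact LinearMap.congr_fun (congrArg ModuleCat.Hom.hom hid) w⟩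
  let θ : P.X p ⊗[A] Q.X (-p) ≃ₗ[A] A := (LinearEquiv.ofBijective (ins P Q p (-p) 0 (by omega))
    ⟨Function.LeftInverse.injective hπ, hins⟩).trans η.toLinearEquiv
  haveI := (hPf p).1; haveI := (hPf p).2; haveI := (hQf (-p)).1; haveI := (hQf (-p)).2
  have hr := θ.finrank_eq
  rw [Module.finrank_tensorProduct, Module.finrank_self] at hr
  have hr1 := Nat.eq_one_of_mul_eq_one_right hr
  have hr2 := Nat.eq_one_of_mul_eq_one_left hr
  exact ⟨p, hPz, hQz,
    ⟨(LinearEquiv.ofFinrankEq (R := A) (P.X p) A (by rw [hr1, Module.finrank_self])).toModuleIso⟩,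
    ⟨(LinearEquiv.ofFinrankEq (R := A) (Q.X (-p)) A (by rw [hr2, Module.finrank_self])).toModuleIso⟩⟩

/-- invertible objects of the derived category of a local ring -/
theorem main [IsNoetherianRing A] (L : Dual.D A) (E : DRing.Cx A) [DRing.HasLTensorCx A E]
    (hLfin : ∀ i : ℤ, Module.Finite A (Dual.HD A L i)) (bL : ℤ) (hL : ∀ i : ℤ, bL < i → Subsingleton (Dual.HD A L i))
    (hEfin : ∀ i : ℤ, Module.Finite A (Dual.HD A (DRing.toD E) i)) (bE : ℤ)
    (hE : ∀ i : ℤ, bE < i → Subsingleton (Dual.HD A (DRing.toD E) i))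
    (h : (DRing.LTensorCx A E).obj L ≅ Dual.inD A A) :
    ∃ n : ℤ, Nonempty (L ≅ (Dual.inD A A)⟦n⟧) ∧ Nonempty (DRing.toD E ≅ (Dual.inD A A)⟦(-n)⟧) := by
  obtain ⟨P, b, hPb, hPf, ⟨eP⟩, hP⟩ := exists_minimal L (TorInj.pc'_of_finite L bL hL hLfin)
  obtain ⟨Q, d, hQb, hQf, ⟨eQ⟩, hQ⟩ := exists_minimal (DRing.toD E) (TorInj.pc'_of_finite _ bE hE hEfin)
  obtain ⟨e1⟩ := TensorFinite.LTensorCx_iso E
    (Groth.L10.KFlat.of_bounded P b hPb (DR.flat_of_free fun i => (hPf i).2)) eP eQ
  obtain ⟨q, hQz, hPz, ⟨eq⟩, ⟨ep⟩⟩ := concentrated hQb hPb hQf hPf hQ hP (e1.symm ≪≫ h)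
  obtain ⟨i1⟩ := nonempty_iso_single P (-q) hPz
  obtain ⟨i2⟩ := nonempty_iso_single Q q hQz
  refine ⟨q, ⟨eP.symm ≪≫ DerivedCategory.Q.mapIso (i1 ≪≫ (HomologicalComplex.single _ _ _).mapIso ep) ≪≫
      (DR.singleShift (-q) (ModuleCat.of A A)).symm ≪≫
      eqToIso (congrArg (fun k : ℤ => (Dual.inD A A)⟦k⟧) (neg_neg q))⟩,
    ⟨eQ.symm ≪≫ DerivedCategory.Q.mapIso (i2 ≪≫ (HomologicalComplex.single _ _ _).mapIso eq) ≪≫
      (DR.singleShift q (ModuleCat.of A A)).symm⟩⟩

end Groth.L29.LocalInvertible
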