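import Groth.Agent.L29.Dual.Coind

/-! The target of a surjective ring map is a finite module over the source. -/

set_option autoImplicit false
set_option backward.isDefEq.respectTransparency false

universe u

open CategoryTheory

namespace Groth.L29.RestrictAdj

theorem finite_ringRes {P A : Type u} [CommRing P] [CommRing A] (φ : P →+* A) (hφ : Function.Surjective φ) :
    Module.Finite P (ringRes φ) :=
  let g : P →ₗ[P] ringRes φ :=
    { toFun := fun x => φ x, map_add' := map_add φ, map_smul' := fun x y => map_mul φ x y }
  Module.Finite.of_surjective g hφ

end Groth.L29.RestrictAdj
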