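import Groth.Agent.L29.Dual.Bounds
import Groth.Agent.L29.Dual.Devissage
import Groth.Prelude.Def_DDual2

/-!
Restriction of scalars on derived categories and a right adjoint of it.
-/

universe u

open CategoryTheory CategoryTheory.Limits

attribute [local instance] HasDerivedCategory.standard

set_option backward.isDefEq.respectTransparency false

namespace Groth.L29.RestrictAdj

open Groth.L29.HomD

variable {A B : Type u} [CommRing A] [CommRing B] (φ : A →+* B)

/-- restriction of scalars carries multiplication by `φ a` to multiplication by `a` -/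
lemma restrictD_map_smul_id (a : A) (X : Dual.D B) :
    (DRing.restrictD φ).map (φ a • 𝟙 X) = a • 𝟙 ((DRing.restrictD φ).obj X) := by
  let G := ModuleCat.restrictScalars.{u} φ
  let Y := DerivedCategory.Q.objPreimage X
  let e : DerivedCategory.Q.obj Y ≅ X := DerivedCategory.Q.objObjPreimageIso X
  have hY : (DRing.restrictD φ).map (φ a • 𝟙 (DerivedCategory.Q.obj Y)) =
      a • 𝟙 ((DRing.restrictD φ).obj (DerivedCategory.Q.obj Y)) := by
    have h1 : φ a • 𝟙 (DerivedCategory.Q.obj Y) = DerivedCategory.Q.map (φ a • 𝟙 Y) := by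
      rw [Functor.map_smul, CategoryTheory.Functor.map_id]
    have h2 : (G.mapHomologicalComplex (ComplexShape.up ℤ)).map (φ a • 𝟙 Y) =
        a • 𝟙 ((G.mapHomologicalComplex (ComplexShape.up ℤ)).obj Y) :=
      HomologicalComplex.hom_ext _ _ fun i => ModuleCat.hom_ext (LinearMap.ext fun y => rfl)
    have h3 := G.mapDerivedCategoryFactors.hom.naturality (φ a • 𝟙 Y)
    rw [Functor.comp_map, Functor.comp_map, h2, ← h1, DerivedCategory.Q.map_smul, CategoryTheory.Functor.map_id,
      Linear.comp_smul] at h3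
    rw [← cancel_mono (G.mapDerivedCategoryFactors.hom.app Y), Linear.smul_comp, Category.id_comp]
    exact h3.trans (congrArg (a • ·) (Category.comp_id _))
  have h4 : φ a • 𝟙 X = e.inv ≫ (φ a • 𝟙 (DerivedCategory.Q.obj Y)) ≫ e.hom := by
    rw [Linear.smul_comp, Category.id_comp, Linear.comp_smul, Iso.inv_hom_id]
  rw [h4, Functor.map_comp, Functor.map_comp, hY, Linear.smul_comp, Category.id_comp,
    Linear.comp_smul, ← Functor.map_comp, Iso.inv_hom_id, CategoryTheory.Functor.map_id]

variable {R : Dual.D A ⥤ Dual.D B} (adj : DRing.restrictD φ ⊣ R)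

lemma homEquiv_smul (a : A) {X : Dual.D B} {K : Dual.D A} (f : (DRing.restrictD φ).obj X ⟶ K) :
    adj.homEquiv X K (a • f) = φ a • adj.homEquiv X K f := by
  have h : a • f = (DRing.restrictD φ).map (φ a • 𝟙 X) ≫ f := by
    rw [restrictD_map_smul_id, Linear.smul_comp, Category.id_comp]
  rw [h, Adjunction.homEquiv_naturality_left, Linear.smul_comp, Category.id_comp]

lemma homEquiv_add {X : Dual.D B} {K : Dual.D A} (f g : (DRing.restrictD φ).obj X ⟶ K) :
    adj.homEquiv X K (f + g) = adj.homEquiv X K f + adj.homEquiv X K g := by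
  haveI : R.Additive := adj.right_adjoint_additive
  simp [Adjunction.homEquiv_unit, Functor.map_add]

include adj in
lemma finite_hom_of_finite {X : Dual.D B} {K : Dual.D A}
    (h : Module.Finite A ((DRing.restrictD φ).obj X ⟶ K)) : Module.Finite B (X ⟶ R.obj K) := by
  let f : ((DRing.restrictD φ).obj X ⟶ K) →ₛₗ[φ] (X ⟶ R.obj K) :=
    { toFun := adj.homEquiv X K
      map_add' := homEquiv_add φ adj
      map_smul' := fun a x => homEquiv_smul φ adj a x }
  obtain ⟨S, hS⟩ := h.fg_top
  classical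
  refine ⟨⟨S.image f, ?_⟩⟩
  rw [eq_top_iff]
  intro y hy
  clear hy
  obtain ⟨x, rfl⟩ := (adj.homEquiv X K).surjective y
  have hx : x ∈ Submodule.span A (S : Set ((DRing.restrictD φ).obj X ⟶ K)) := hS ▸ Submodule.mem_top
  change f x ∈ _
  induction hx using Submodule.span_induction with
  | mem x hx => exact Submodule.subset_span (by simpa using ⟨x, hx, rfl⟩)
  | zero => simp
  | add x y _ _ hx hy => rw [map_add]; exact add_mem hx hy
  | smul a x _ hx => rw [LinearMap.map_smulₛₗ]; exact Submodule.smul_mem _ _ hx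

/-- restriction of scalars on modules placed in degree zero -/
noncomputable def restrictSingle (M : ModuleCat.{u} B) :
    (DRing.restrictD φ).obj (Dual.inD B M) ≅ Dual.inD A ((ModuleCat.restrictScalars.{u} φ).obj M) :=
  ((ModuleCat.restrictScalars.{u} φ).mapDerivedCategorySingleFunctor 0).app M

/-- `Hom(X, W⟦i⟧)` and `Hom(X⟦-i⟧, W)` -/
noncomputable def shiftLeft {C : Type u} [CommRing C] (X W : Dual.D C) (i : ℤ) :
    (X ⟶ W⟦i⟧) ≃ₗ[C] ((shiftFunctor (Dual.D C) (-i)).obj X ⟶ W) :=
  (LinearEquiv.ofBijective ((shiftFunctor (Dual.D C) (-i)).mapLinearMap C)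
    ⟨(shiftFunctor (Dual.D C) (-i)).map_injective, (shiftFunctor (Dual.D C) (-i)).map_surjective⟩).trans
    (Linear.homCongr C (Iso.refl _) ((shiftEquiv (Dual.D C) i).unitIso.app W).symm)

include adj in
lemma subsingleton_hom_iff (M : ModuleCat.{u} B) (K : Dual.D A) (i : ℤ) :
    Subsingleton (Dual.inD B M ⟶ (R.obj K)⟦i⟧) ↔
      Subsingleton (Dual.inD A ((ModuleCat.restrictScalars.{u} φ).obj M) ⟶ K⟦i⟧) := by
  refine ((shiftLeft _ _ i).toEquiv.trans ((adj.homEquiv _ _).symm.trans ?_)).subsingleton_congr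
  exact (Iso.homCongr (((DRing.restrictD φ).commShiftIso (-i)).app _ ≪≫
    (shiftFunctor (Dual.D A) (-i)).mapIso (restrictSingle φ M)) (Iso.refl _)).trans
    (shiftLeft _ _ i).toEquiv.symm

include adj in
lemma finite_hom_shift (M : ModuleCat.{u} B) (K : Dual.D A) (i : ℤ)
    (h : Module.Finite A (Dual.inD A ((ModuleCat.restrictScalars.{u} φ).obj M) ⟶ K⟦i⟧)) :
    Module.Finite B (Dual.inD B M ⟶ (R.obj K)⟦i⟧) := by
  haveI := finite_hom_of_finite φ adj (X := (shiftFunctor (Dual.D B) (-i)).obj (Dual.inD B M))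
    (Module.Finite.equiv ((shiftLeft _ K i).trans (Linear.homCongr A
      (((DRing.restrictD φ).commShiftIso (-i)).app _ ≪≫
        (shiftFunctor (Dual.D A) (-i)).mapIso (restrictSingle φ M)).symm (Iso.refl K))))
  exact Module.Finite.equiv (shiftLeft _ _ i).symm

lemma good_of_boundedBelow {C : Type u} [CommRing C] (K : Dual.D C) (a : ℤ)
    (ha : ∀ i : ℤ, i < a → Subsingleton (Dual.HD C K i))
    (hK : ∀ i : ℤ, Module.Finite C (Dual.HD C K i)) : Groth.L29.HomD.Good K := by
  haveI : K.IsGE a := (DerivedCategory.isGE_iff K a).2 fun i hi => by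
    haveI := ha i hi
    exact ModuleCat.isZero_of_subsingleton _
  refine ⟨⟨a, fun M _ _ i hi => ⟨fun f g => ?_⟩⟩, hK⟩
  haveI : DerivedCategory.IsGE (K⟦i⟧) (a - i) :=
    DerivedCategory.TStructure.t.isGE_shift K a i (a - i) (by lia)
  have hz : ∀ f : Dual.inD C M ⟶ K⟦i⟧, f = 0 := fun f =>
    DerivedCategory.TStructure.t.zero f 0 (a - i) (by lia)
  rw [hz f, hz g]

end Groth.L29.RestrictAdj
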