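import Groth.Agent.L29.Dual.RestrictAdj
import Groth.Agent.L29.Dual.ResidueDegree

/-!
A right adjoint of restriction of scalars sends a complex of injectives to the coinduced complex;
dualizing complexes along finite ring maps.
-/

universe u

open CategoryTheory CategoryTheory.Limits

attribute [local instance] HasDerivedCategory.standard

set_option backward.isDefEq.respectTransparency false

namespace Groth.L29.RestrictAdj

open Groth.L29.HomD

variable {A B : Type u} [CommRing A] [CommRing B] (φ : A →+* B)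

instance additive_coextendScalars : (ModuleCat.coextendScalars.{u, u, u} φ).Additive :=
  (ModuleCat.restrictCoextendScalarsAdj φ).right_adjoint_additive

/-- coinduction of a complex -/
noncomputable abbrev coindCx (I : DRing.Cx A) : DRing.Cx B :=
  ((ModuleCat.coextendScalars.{u, u, u} φ).mapHomologicalComplex (ComplexShape.up ℤ)).obj I

/-- restriction of a complex -/
noncomputable abbrev resCx : DRing.Cx B ⥤ DRing.Cx A :=
  (ModuleCat.restrictScalars.{u} φ).mapHomologicalComplex (ComplexShape.up ℤ)

/-- the counit on complexes -/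
noncomputable abbrev counitCx (I : DRing.Cx A) : (resCx φ).obj (coindCx φ I) ⟶ I where
  f n := (ModuleCat.restrictCoextendScalarsAdj φ).counit.app (I.X n)
  comm' i j _ := ((ModuleCat.restrictCoextendScalarsAdj φ).counit.naturality (I.d i j)).symm

/-- the unit on complexes -/
noncomputable abbrev unitCx (Y : DRing.Cx B) : Y ⟶ coindCx φ ((resCx φ).obj Y) where
  f n := (ModuleCat.restrictCoextendScalarsAdj φ).unit.app (Y.X n)
  comm' i j _ := ((ModuleCat.restrictCoextendScalarsAdj φ).unit.naturality (Y.d i j)).symm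

lemma unit_map_counit {Y : DRing.Cx B} {I : DRing.Cx A} (g : Y ⟶ coindCx φ I) :
    unitCx φ Y ≫ ((ModuleCat.coextendScalars.{u, u, u} φ).mapHomologicalComplex _).map ((resCx φ).map g ≫ counitCx φ I) = g := by
  ext n : 1
  exact ((ModuleCat.restrictCoextendScalarsAdj φ).homEquiv_unit _ _ _).symm.trans
    (((ModuleCat.restrictCoextendScalarsAdj φ).homEquiv _ _).eq_symm_apply.1
      ((ModuleCat.restrictCoextendScalarsAdj φ).homEquiv_counit _ _ (g.f n)).symm)

lemma map_unit_counit {Y : DRing.Cx B} {I : DRing.Cx A} (g : (resCx φ).obj Y ⟶ I) :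
    (resCx φ).map (unitCx φ Y ≫ ((ModuleCat.coextendScalars.{u, u, u} φ).mapHomologicalComplex _).map g) ≫ counitCx φ I = g := by
  ext n : 1
  exact ((ModuleCat.restrictCoextendScalarsAdj φ).homEquiv_counit _ _ _).symm.trans
    (((ModuleCat.restrictCoextendScalarsAdj φ).homEquiv _ _).symm_apply_eq.2
      ((ModuleCat.restrictCoextendScalarsAdj φ).homEquiv_unit _ _ (g.f n)).symm)

/-- a null homotopy of the adjunct gives one of the map -/
noncomputable def homotopyOfAdjunct {Y : DRing.Cx B} {I : DRing.Cx A} (g : Y ⟶ coindCx φ I)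
    (h : Homotopy ((resCx φ).map g ≫ counitCx φ I) 0) : Homotopy g 0 :=
  (Homotopy.ofEq (unit_map_counit φ g).symm).trans
    ((((ModuleCat.coextendScalars.{u, u, u} φ).mapHomotopy h).compLeft (unitCx φ Y)).trans (Homotopy.ofEq (by simp)))

instance isKInjective_coindCx (I : DRing.Cx A) [I.IsKInjective] :
    CochainComplex.IsKInjective (coindCx φ I) where
  nonempty_homotopy_zero {Y} g hY :=
    ⟨homotopyOfAdjunct φ g (CochainComplex.IsKInjective.homotopyZero _
      (fun i => ShortComplex.Exact.map (hY i) (ModuleCat.restrictScalars.{u} φ)))⟩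

/-- the transposition -/
noncomputable def transpose (I : DRing.Cx A) {X : Dual.D B} (g : X ⟶ DRing.toD (coindCx φ I)) :
    (DRing.restrictD φ).obj X ⟶ DRing.toD I :=
  (DRing.restrictD φ).map g ≫ (ModuleCat.restrictScalars.{u} φ).mapDerivedCategoryFactors.hom.app (coindCx φ I) ≫
    DerivedCategory.Q.map (counitCx φ I)

lemma transpose_comp (I : DRing.Cx A) {X X' : Dual.D B} (u : X' ⟶ X) (g : X ⟶ DRing.toD (coindCx φ I)) :
    transpose φ I (u ≫ g) = (DRing.restrictD φ).map u ≫ transpose φ I g := by
  rw [transpose, transpose, Functor.map_comp, Category.assoc]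

lemma transpose_Q (I : DRing.Cx A) {Y : DRing.Cx B} (g : Y ⟶ coindCx φ I) :
    transpose φ I (DerivedCategory.Q.map g) = (ModuleCat.restrictScalars.{u} φ).mapDerivedCategoryFactors.hom.app Y ≫
      DerivedCategory.Q.map ((resCx φ).map g ≫ counitCx φ I) := by
  have h := (ModuleCat.restrictScalars.{u} φ).mapDerivedCategoryFactors.hom.naturality g
  rw [Functor.comp_map, Functor.comp_map] at h
  rw [transpose, Functor.map_comp, ← Category.assoc, ← Category.assoc]
  exact congrArg (· ≫ DerivedCategory.Q.map (counitCx φ I)) h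

theorem transpose_bijective (I : DRing.Cx A) [I.IsKInjective] (X : Dual.D B) :
    Function.Bijective (transpose φ I (X := X)) := by
  let Y := DerivedCategory.Q.objPreimage X
  let e : DerivedCategory.Q.obj Y ≅ X := DerivedCategory.Q.objObjPreimageIso X
  suffices h : Function.Bijective (transpose φ I (X := DerivedCategory.Q.obj Y)) by
    constructor
    · intro g g' hg
      rw [← cancel_epi e.hom]
      exact h.1 (by rw [transpose_comp, transpose_comp, hg])
    · intro f
      obtain ⟨g, hg⟩ := h.2 ((DRing.restrictD φ).map e.hom ≫ f)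
      refine ⟨e.inv ≫ g, ?_⟩
      rw [transpose_comp, hg, ← Functor.map_comp_assoc, Iso.inv_hom_id,
        CategoryTheory.Functor.map_id, Category.id_comp]
  have hQ : ∀ {C : Type u} [CommRing C] (Z W : DRing.Cx C) [W.IsKInjective]
      (f : DerivedCategory.Q.obj Z ⟶ DerivedCategory.Q.obj W),
      ∃ g : Z ⟶ W, DerivedCategory.Q.map g = f := by
    intro C _ Z W _ f
    obtain ⟨g, hg⟩ := (CochainComplex.IsKInjective.Qh_map_bijective
      ((HomotopyCategory.quotient _ _).obj Z) W).2
      ((DerivedCategory.quotientCompQhIso (ModuleCat.{u} C)).hom.app Z ≫ f ≫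
        (DerivedCategory.quotientCompQhIso (ModuleCat.{u} C)).inv.app W)
    obtain ⟨g, rfl⟩ := (HomotopyCategory.quotient _ _).map_surjective g
    refine ⟨g, ?_⟩
    rw [← cancel_epi ((DerivedCategory.quotientCompQhIso (ModuleCat.{u} C)).hom.app Z),
      ← DerivedCategory.quotientCompQhIso_hom_naturality, hg]
    simp
  have hQ0 : ∀ {C : Type u} [CommRing C] (Z W : DRing.Cx C) [W.IsKInjective] (g : Z ⟶ W),
      DerivedCategory.Q.map g = 0 → Nonempty (Homotopy g 0) := by
    intro C _ Z W _ g hg
    refine ⟨HomotopyCategory.homotopyOfEq _ _ ((CochainComplex.IsKInjective.Qh_map_bijective _ W).1 ?_)⟩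
    rw [Functor.map_zero, Functor.map_zero,
      ← cancel_mono ((DerivedCategory.quotientCompQhIso (ModuleCat.{u} C)).hom.app W),
      DerivedCategory.quotientCompQhIso_hom_naturality, hg]
    simp
  constructor
  · intro g g' hg
    obtain ⟨g, rfl⟩ := hQ _ _ g
    obtain ⟨g', rfl⟩ := hQ _ _ g'
    rw [transpose_Q, transpose_Q, cancel_epi] at hg
    obtain ⟨h⟩ := hQ0 _ _ ((resCx φ).map (g - g') ≫ counitCx φ I) (by
      rw [Functor.map_sub, Preadditive.sub_comp, Functor.map_sub, hg, sub_self])
    rw [← sub_eq_zero, ← Functor.map_sub]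
    have := DerivedCategory.quotientCompQhIso_hom_naturality (homotopyOfAdjunct φ _ h |> fun _ => g - g')
    rw [HomotopyCategory.eq_of_homotopy _ _ (homotopyOfAdjunct φ _ h), Functor.map_zero,
      Functor.map_zero, zero_comp] at this
    exact (cancel_epi ((DerivedCategory.quotientCompQhIso (ModuleCat.{u} B)).hom.app Y)).1
      (this.symm.trans comp_zero.symm)
  · intro f
    obtain ⟨g, hg⟩ := hQ _ _ ((ModuleCat.restrictScalars.{u} φ).mapDerivedCategoryFactors.inv.app Y ≫ f)
    refine ⟨DerivedCategory.Q.map (unitCx φ Y ≫ ((ModuleCat.coextendScalars.{u, u, u} φ).mapHomologicalComplex _).map g), ?_⟩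
    rw [transpose_Q, map_unit_counit, hg, Iso.hom_inv_id_app_assoc]

variable {R : Dual.D A ⥤ Dual.D B} (adj : DRing.restrictD φ ⊣ R)

/-- the comparison with the coinduced complex -/
noncomputable def coindTo (I : DRing.Cx A) : DRing.toD (coindCx φ I) ⟶ R.obj (DRing.toD I) :=
  adj.homEquiv _ _ (transpose φ I (𝟙 _))

lemma comp_coindTo (I : DRing.Cx A) {X : Dual.D B} (g : X ⟶ DRing.toD (coindCx φ I)) :
    g ≫ coindTo φ adj I = adj.homEquiv _ _ (transpose φ I g) := by
  conv_rhs => rw [← Category.comp_id g]
  rw [transpose_comp, Adjunction.homEquiv_naturality_left, coindTo]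

include adj in
theorem nonempty_coind_iso (I : DRing.Cx A) [I.IsKInjective] :
    Nonempty (DRing.toD (coindCx φ I) ≅ R.obj (DRing.toD I)) := by
  have h : ∀ X : Dual.D B, Function.Bijective fun g : X ⟶ DRing.toD (coindCx φ I) => g ≫ coindTo φ adj I := by
    intro X
    simp only [comp_coindTo]
    exact (adj.homEquiv _ _).bijective.comp (transpose_bijective φ I X)
  obtain ⟨g, hg⟩ := (h _).2 (𝟙 _)
  exact ⟨⟨coindTo φ adj I, g, (h _).1 (by
    change (coindTo φ adj I ≫ g) ≫ coindTo φ adj I = 𝟙 _ ≫ coindTo φ adj I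
    rw [Category.assoc]
    exact (congrArg (coindTo φ adj I ≫ ·) hg).trans ((Category.comp_id _).trans (Category.id_comp _).symm)), hg⟩⟩

/-- `B` as an `A`-module -/
noncomputable abbrev ringRes : ModuleCat.{u} A := (ModuleCat.restrictScalars.{u} φ).obj (ModuleCat.of B B)

/-- restricting the coinduced complex gives `Hom(B, I)` -/
noncomputable def resCoindIso (I : DRing.Cx A) : (resCx φ).obj (coindCx φ I) ≅ HM I (ringRes φ) :=
  HomologicalComplex.Hom.isoOfComponents (fun n =>
    (({ toFun := fun f : (ModuleCat.restrictScalars.{u} φ).obj ((ModuleCat.coextendScalars.{u, u, u} φ).obj (I.X n)) =>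
          (ConcreteCategory.ofHom (C := ModuleCat.{u} A) (X := ringRes φ) (Y := I.X n) (ModuleCat.CoextendScalars.equiv φ (I.X n) f))
        invFun := fun g : ringRes φ ⟶ I.X n => (ModuleCat.CoextendScalars.equiv φ (I.X n)).symm g.hom
        map_add' := fun _ _ => rfl
        map_smul' := fun a f => ModuleCat.hom_ext (LinearMap.ext fun s => by
          have h1 := map_smul (ModuleCat.CoextendScalars.equiv φ (I.X n) f) a s
          refine Eq.trans ?_ h1
          exact congrArg (ModuleCat.CoextendScalars.equiv φ (I.X n) f) (mul_comm (show B from s) (φ a)))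
        left_inv := fun _ => rfl
        right_inv := fun _ => rfl } :
      (ModuleCat.restrictScalars.{u} φ).obj ((ModuleCat.coextendScalars.{u, u, u} φ).obj (I.X n)) ≃ₗ[A]
        (ringRes φ ⟶ I.X n))).toModuleIso)
    (fun i j _ => ModuleCat.hom_ext (LinearMap.ext fun _ => rfl))

/-- multiplication by `b` transposes to evaluation at `b` -/
lemma transpose_smul_id (I : DRing.Cx A) (b : B) :
    transpose φ I (b • 𝟙 (DRing.toD (coindCx φ I))) =
      ((ModuleCat.restrictScalars.{u} φ).mapDerivedCategoryFactors.hom.app (coindCx φ I) ≫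
        DerivedCategory.Q.map (resCoindIso φ I).hom) ≫
        DerivedCategory.Q.map (evHom I (ringRes φ) b) := by
  rw [← CategoryTheory.Functor.map_id, ← DerivedCategory.Q.map_smul, transpose_Q, Category.assoc,
    ← Functor.map_comp]
  congr 2
  ext n : 1
  refine ModuleCat.hom_ext (LinearMap.ext fun f : (ModuleCat.restrictScalars.{u} φ).obj ((ModuleCat.coextendScalars.{u, u, u} φ).obj (I.X n)) => ?_)
  change (ModuleCat.CoextendScalars.equiv φ (I.X n) f) ((1 : B) * b) = _
  rw [one_mul]
  rfl

include adj in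
/-- dualizing complexes along finite maps -/
theorem isDualizing_rightAdjoint [IsNoetherianRing A] [IsNoetherianRing B]
    (hfin : Module.Finite A (ringRes φ)) {ω : Dual.D A} (hω : Dual.IsDualizing A ω) :
    Dual.IsDualizing B (R.obj ω) := by
  obtain ⟨a, b, hab0⟩ := hω.finite_injective_dimension
  haveI := isGE_of_lower a fun M _ _ i hi => hab0 M i (Or.inl hi)
  obtain ⟨I, _, hinj, _, ⟨eI⟩⟩ := exists_injRep ω a
  haveI : ∀ n, Injective (I.X n) := fun n =>
    haveI := hinj n
    Module.injective_object_of_injective_module A (I.X n)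
  refine isDualizing_of_iso (R.mapIso eI) ?_
  have hI := isDualizing_of_iso eI.symm hω
  have hab : ∀ (M : Type u) [AddCommGroup M] [Module A M] (i : ℤ),
      (i < a ∨ b < i) → Subsingleton (Dual.inD A M ⟶ (DRing.toD I)⟦i⟧) := fun M _ _ i hi =>
    haveI := hab0 M i hi
    (Linear.homCongr A (Iso.refl (Dual.inD A M)) ((shiftFunctor (Dual.D A) i).mapIso eI)).toEquiv.subsingleton
  have bid := fun l => biduality I a b hab hI.toEnd_bijective hI.ext_self_subsingleton l (ringRes φ) hfin
  obtain ⟨e⟩ := nonempty_coind_iso φ adj I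
  let eF : (DRing.restrictD φ).obj (DRing.toD (coindCx φ I)) ≅ DRing.toD (HM I (ringRes φ)) :=
    (ModuleCat.restrictScalars.{u} φ).mapDerivedCategoryFactors.app (coindCx φ I) ≪≫ DerivedCategory.Q.mapIso (resCoindIso φ I)
  refine ⟨inferInstance, ⟨a, b, fun M _ _ i hi => ?_⟩, fun i => ?_, ?_, fun i hi => ?_⟩
  · exact (subsingleton_hom_iff φ adj (ModuleCat.of B M) (DRing.toD I) i).2 (hab _ i hi)
  · haveI := finite_hom_shift φ adj (ModuleCat.of B B) (DRing.toD I) i
      (finite_hom (DRing.toD I) (good_of_isDualizing hI) (ringRes φ) i)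
    exact Module.Finite.equiv (evalShiftEquiv (R.obj (DRing.toD I)) i)
  · suffices h : Function.Bijective fun c : B => c • 𝟙 (DRing.toD (coindCx φ I)) by
      have := (Iso.homCongr e e).bijective.comp h
      convert this using 2 with c
      simp [Iso.homCongr, Linear.smul_comp]
    refine ((transpose_bijective φ I _).of_comp_iff' _).1 ?_
    have h2 := ((Iso.homCongr eF.symm ((shiftFunctorZero (Dual.D A) ℤ).app (DRing.toD I))).bijective.comp
      ((bid 0).2 rfl))
    have h3 : (transpose φ I ∘ fun c : B => c • 𝟙 (DRing.toD (coindCx φ I))) =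
        fun c : B => (Iso.homCongr eF.symm ((shiftFunctorZero (Dual.D A) ℤ).app (DRing.toD I)))
          (theta I (ringRes φ) c) := funext fun c => by
      simp [transpose_smul_id, Iso.homCongr, theta, eF]
      erw [Iso.inv_hom_id_app, Category.comp_id]
    rw [h3]
    exact h2
  · haveI : Subsingleton (DRing.toD (HM I (ringRes φ)) ⟶ (DRing.toD I)⟦i⟧) := (bid i).1 hi
    let E : ((DRing.restrictD φ).obj ((shiftFunctor (Dual.D B) (-i)).obj (R.obj (DRing.toD I))) ⟶ DRing.toD I) ≃
        (DRing.toD (HM I (ringRes φ)) ⟶ (DRing.toD I)⟦i⟧) :=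
      (Iso.homCongr (((DRing.restrictD φ).commShiftIso (-i)).app _ ≪≫
        (shiftFunctor (Dual.D A) (-i)).mapIso ((DRing.restrictD φ).mapIso e.symm ≪≫ eF))
        (Iso.refl (DRing.toD I))).trans (shiftLeft _ _ i).toEquiv.symm
    exact ((shiftLeft _ _ i).toEquiv.trans ((adj.homEquiv _ _).symm.trans E)).subsingleton

end Groth.L29.RestrictAdj
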