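import Groth.Agent.L29.Dual.FlatBC
import Groth.Agent.L29.Dual.RestrictAdj
import Groth.Agent.L29.Dual.Criterion

/-!
Dualizing complexes along flat ring maps.
-/

universe u

open CategoryTheory CategoryTheory.Limits
open scoped TensorProduct Pointwise

attribute [local instance] HasDerivedCategory.standard

set_option backward.isDefEq.respectTransparency false

namespace Groth.L29.FlatBC

open Groth.L29.HomD

variable {A B : Type u} [CommRing A] [CommRing B] [Algebra A B] [Module.Flat A B] {W : Dual.D A}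

lemma finite_HD_L (h : ∀ i : ℤ, Module.Finite A (Dual.HD A W i)) (i : ℤ) :
    Module.Finite B (Dual.HD B ((L A B).obj W) i) :=
  haveI := h i
  Module.Finite.equiv (hEquiv A B W i).symm

lemma good_L (a : ℤ) [W.IsGE a] (h : ∀ i : ℤ, Module.Finite A (Dual.HD A W i)) :
    Good ((L A B).obj W) := by
  refine Groth.L29.RestrictAdj.good_of_boundedBelow _ a (fun i hi => ?_) (finite_HD_L h)
  haveI : Subsingleton (Dual.HD A W i) :=
    ModuleCat.subsingleton_of_isZero (DerivedCategory.isZero_of_isGE W a i hi)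
  exact (hEquiv A B W i).toEquiv.subsingleton

variable (B) in
/-- a module in degree zero, base changed -/
noncomputable def singleL (M : Type u) [AddCommGroup M] [Module A M] :
    (L A B).obj (Dual.inD A M) ≅ Dual.inD B (B ⊗[A] M) :=
  ((ext A B).mapDerivedCategorySingleFunctor 0).app (ModuleCat.of A M) ≪≫
    (DerivedCategory.singleFunctor (ModuleCat.{u} B) 0).mapIso
      (extEquiv A B (ModuleCat.of A M)).toModuleIso

variable [IsNoetherianRing A]

/-- the base change of `Hom(M, W[i])` -/
noncomputable def homEquiv (a : ℤ) [W.IsGE a] (M : Type u) [AddCommGroup M] [Module A M]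
    [Module.Finite A M] (i : ℤ) :
    B ⊗[A] (Dual.inD A M ⟶ W⟦i⟧) ≃ₗ[B] (Dual.inD B (B ⊗[A] M) ⟶ ((L A B).obj W)⟦i⟧) :=
  ((Groth.L29.RestrictAdj.shiftLeft (Dual.inD A M) W i).baseChange A B).trans <|
    (LinearEquiv.ofBijective (theta B ((Dual.inD A M)⟦-i⟧) W) (allShift_inD W a M (-i))).trans <|
      (Linear.homCongr B (((L A B).commShiftIso (-i)).app _ ≪≫
        (shiftFunctor (Dual.D B) (-i)).mapIso (singleL B M)) (Iso.refl _)).trans
        (Groth.L29.RestrictAdj.shiftLeft _ _ i).symm

lemma subsingleton_hom_baseChange (a : ℤ) [W.IsGE a] (M : Type u) [AddCommGroup M] [Module A M]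
    [Module.Finite A M] (i : ℤ) [Subsingleton (Dual.inD A M ⟶ W⟦i⟧)]
    (N : Type u) [AddCommGroup N] [Module B N] (e : (B ⊗[A] M) ≃ₗ[B] N) :
    Subsingleton (Dual.inD B N ⟶ ((L A B).obj W)⟦i⟧) := by
  haveI : Subsingleton (Dual.inD B (B ⊗[A] M) ⟶ ((L A B).obj W)⟦i⟧) :=
    (homEquiv (B := B) a M i).symm.toEquiv.subsingleton
  exact (preEquiv ((L A B).obj W) e i).toEquiv.subsingleton

/-- flat base change of a dualizing complex is dualizing as soon as it has finite injective dimension -/
theorem isDualizing_L [IsNoetherianRing B] (hW : Dual.IsDualizing A W) (c : ℤ)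
    (hvan : ∀ (N : Type u) [AddCommGroup N] [Module B N] [Module.Finite B N] (i : ℤ), c < i →
      Subsingleton (Dual.inD B N ⟶ ((L A B).obj W)⟦i⟧)) :
    Dual.IsDualizing B ((L A B).obj W) := by
  obtain ⟨a, b, hab⟩ := hW.finite_injective_dimension
  haveI := isGE_of_lower a fun M _ _ i hi => hab M i (Or.inl hi)
  haveI : W.IsLE b := (DerivedCategory.isLE_iff W b).2 fun i hi => by
    haveI := hab A i (Or.inr hi)
    haveI : Subsingleton (Dual.HD A W i) := (evalShiftEquiv W i).symm.toEquiv.subsingleton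
    exact ModuleCat.isZero_of_subsingleton _
  have hall : AllShift B W W := allShift_bounded W a W a b hW.finite_cohomology
  let LW := (L A B).obj W
  haveI : DerivedCategory.IsGE LW a := isGE_L W a
  obtain ⟨I, _, hinj, _, ⟨eI⟩⟩ := exists_injRep LW a
  refine ⟨inferInstance, ⟨a, c + 1, fun N _ _ i hi => ?_⟩, finite_HD_L hW.finite_cohomology, ?_,
    fun i hi => ?_⟩
  · rcases hi with hi | hi
    · haveI : DerivedCategory.IsGE (LW⟦i⟧) (a - i) :=
        DerivedCategory.TStructure.t.isGE_shift LW a i (a - i) (by lia)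
      exact ⟨fun p q => by
        rw [DerivedCategory.TStructure.t.zero p 0 (a - i) (by lia),
          DerivedCategory.TStructure.t.zero q 0 (a - i) (by lia)]⟩
    · haveI := subsingleton_hom_all hinj c (fun M _ _ _ j hj =>
        haveI := hvan M j hj
        (Linear.homCongr B (Iso.refl (Dual.inD B M))
          ((shiftFunctor (Dual.D B) j).mapIso eI)).toEquiv.subsingleton) N i (by lia)
      exact (Linear.homCongr B (Iso.refl (Dual.inD B N))
          ((shiftFunctor (Dual.D B) i).mapIso eI)).symm.toEquiv.subsingleton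
  · have h0 : Iso' B W W := iso'_of_iso ((shiftFunctorZero (Dual.D A) ℤ).app W) (hall 0)
    let e1 : B ≃ₗ[B] B ⊗[A] A := (TensorProduct.AlgebraTensorModule.rid A B B).symm
    let f : A →ₗ[A] (W ⟶ W) :=
      { toFun := fun x => x • 𝟙 W
        map_add' := fun x y => add_smul x y _
        map_smul' := fun x y => by rw [RingHom.id_apply, smul_eq_mul, mul_smul] }
    let e2 := (LinearEquiv.ofBijective f hW.toEnd_bijective).baseChange A B
    have h2 := h0.comp (e2.bijective.comp e1.bijective)
    convert h2 using 1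
    funext x
    change x • 𝟙 ((L A B).obj W) = theta B W W (x ⊗ₜ ((1 : A) • 𝟙 W))
    rw [theta_tmul, one_smul, CategoryTheory.Functor.map_id]
  · haveI : Subsingleton (W⟦-i⟧ ⟶ W) :=
      haveI := hW.ext_self_subsingleton i hi
      (Groth.L29.RestrictAdj.shiftLeft W W i).symm.toEquiv.subsingleton
    haveI : Subsingleton ((L A B).obj (W⟦-i⟧) ⟶ LW) :=
      (LinearEquiv.ofBijective (theta B (W⟦-i⟧) W) (hall (-i))).symm.toEquiv.subsingleton
    let e' : (shiftFunctor (Dual.D B) (-i)).obj LW ≅ (L A B).obj (W⟦-i⟧) :=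
      (((L A B).commShiftIso (-i)).app W).symm
    exact ((Groth.L29.RestrictAdj.shiftLeft LW LW i).trans
      (Linear.homCongr B e' (Iso.refl LW))).toEquiv.subsingleton

omit [Algebra A B] [Module.Flat A B] [IsNoetherianRing A] in
/-- dévissage of vanishing -/
lemma subsingleton_hom_of_primes [IsNoetherianRing B] (V : Dual.D B) (i : ℤ) (N : Type u)
    [AddCommGroup N] [Module B N] [Module.Finite B N]
    (h : ∀ r : PrimeSpectrum B, Module.annihilator B N ≤ r.asIdeal →
      Subsingleton (Dual.inD B (B ⧸ r.asIdeal) ⟶ V⟦i⟧)) :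
    Subsingleton (Dual.inD B N ⟶ V⟦i⟧) := by
  revert h
  refine IsNoetherianRing.induction_on_isQuotientEquivQuotientPrime B ‹Module.Finite B N›
    (motive := fun N _ _ _ => (∀ r : PrimeSpectrum B, Module.annihilator B N ≤ r.asIdeal →
      Subsingleton (Dual.inD B (B ⧸ r.asIdeal) ⟶ V⟦i⟧)) → Subsingleton (Dual.inD B N ⟶ V⟦i⟧)) ?_ ?_ ?_
  · intro N _ _ _ _ _
    exact subsingleton_of_module V i
  · intro N _ _ _ r e h
    haveI := h r (e.annihilator_eq.trans Ideal.annihilator_quotient).le
    exact (preEquiv V e i).symm.toEquiv.subsingleton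
  · intro N₁ _ _ _ N₂ _ _ _ N₃ _ _ _ f g hf hg hfg h₁ h₃ h
    exact subsingleton_mid V f g hf hg hfg i
      (h₁ fun r hr => h r ((f.annihilator_le_of_injective hf).trans hr))
      (h₃ fun r hr => h r ((g.annihilator_le_of_surjective hg).trans hr))

omit [Algebra A B] [Module.Flat A B] [IsNoetherianRing A] in
/-- vanishing on modules killed by an ideal in the Jacobson radical propagates -/
lemma subsingleton_hom_of_jacobson [IsNoetherianRing B] {V : Dual.D B} (hV : Good V) (J : Ideal B)
    (hJ : J ≤ (⊥ : Ideal B).jacobson) (c : ℤ)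
    (h : ∀ (N : Type u) [AddCommGroup N] [Module B N] [Module.Finite B N],
      J ≤ Module.annihilator B N → ∀ i : ℤ, c < i → Subsingleton (Dual.inD B N ⟶ V⟦i⟧))
    (N : Type u) [AddCommGroup N] [Module B N] [Module.Finite B N] (i : ℤ) (hi : c < i) :
    Subsingleton (Dual.inD B N ⟶ V⟦i⟧) := by
  suffices key : ∀ q : Ideal B, q.IsPrime → ∀ i : ℤ, c < i → Subsingleton (Dual.inD B (B ⧸ q) ⟶ V⟦i⟧) from
    subsingleton_hom_of_primes V i N fun r _ => key r.asIdeal r.2 i hi
  intro q
  induction q using WellFoundedGT.induction with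
  | _ q ih =>
    intro hq i hi
    by_cases hJq : J ≤ q
    · exact h (B ⧸ q) (hJq.trans Ideal.annihilator_quotient.ge) i hi
    obtain ⟨x, hxJ, hxq⟩ := SetLike.not_le_iff_exists.1 hJq
    let f := x • (LinearMap.id : (B ⧸ q) →ₗ[B] B ⧸ q)
    have hf : Function.Injective f := by
      intro y z hyz
      obtain ⟨y, rfl⟩ := Ideal.Quotient.mk_surjective y
      obtain ⟨z, rfl⟩ := Ideal.Quotient.mk_surjective z
      rw [Ideal.Quotient.eq]
      have h3 : x * y - x * z ∈ q := Ideal.Quotient.eq.1 hyz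
      rw [← mul_sub] at h3
      exact (hq.mem_or_mem h3).resolve_left hxq
    haveI hQ : Subsingleton (Dual.inD B (QuotSMulTop x (B ⧸ q)) ⟶ V⟦i + 1⟧) := by
      refine subsingleton_hom_of_primes V _ _ fun r hr => ?_
      have hxr : x ∈ r.asIdeal := hr (Module.mem_annihilator.2 fun y => by
        obtain ⟨y, rfl⟩ := Submodule.mkQ_surjective _ y
        rw [← map_smul, Submodule.mkQ_apply, Submodule.Quotient.mk_eq_zero]
        exact Submodule.smul_mem_pointwise_smul _ _ _ Submodule.mem_top)
      have hqr : q ≤ r.asIdeal := le_trans (fun a ha => Module.mem_annihilator.2 fun y => by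
        obtain ⟨y, rfl⟩ := Submodule.mkQ_surjective _ y
        obtain ⟨b, rfl⟩ := Ideal.Quotient.mk_surjective y
        rw [← map_smul, show a • Ideal.Quotient.mk q b = 0 from
          Ideal.Quotient.eq_zero_iff_mem.2 (Ideal.mul_mem_right _ _ ha), map_zero]) hr
      exact ih r.asIdeal (lt_of_le_of_ne hqr fun e => hxq (e ▸ hxr)) r.2 (i + 1) (by lia)
    have hex := exact_left V f (Submodule.mkQ (x • ⊤ : Submodule B (B ⧸ q))) hf
      (Submodule.mkQ_surjective _) (exact_smul x) i
    haveI := finite_hom V hV (B ⧸ q) i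
    have hle : (⊤ : Submodule B (Dual.inD B (B ⧸ q) ⟶ V⟦i⟧)) ≤ J • ⊤ := fun φ _ => by
      obtain ⟨ψ, hψ⟩ := (hex φ).1 (Subsingleton.elim (α := Dual.inD B (QuotSMulTop x (B ⧸ q)) ⟶ V⟦i + 1⟧) _ _)
      rw [pre_smul, pre_id] at hψ
      rw [← hψ]
      exact Submodule.smul_mem_smul hxJ trivial
    have := Submodule.eq_bot_of_le_smul_of_le_jacobson_bot J ⊤ Module.Finite.fg_top hle hJ
    exact Submodule.subsingleton_iff B |>.1 (subsingleton_of_bot_eq_top this.symm)

end Groth.L29.FlatBC
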