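import Mathlib.Algebra.Homology.DerivedCategory.ExactFunctor
import Mathlib.Algebra.Homology.DerivedCategory.HomologySequence
import Mathlib.Algebra.Homology.ShortComplex.PreservesHomology

/-!
Exact functors commute with the cohomology of the derived category.
-/

universe w₁ w₂ v₁ v₂ u₁ u₂

open CategoryTheory Category Limits

namespace Groth.L29.ExactHomology

variable {C₁ : Type u₁} [Category.{v₁} C₁] [Abelian C₁] [HasDerivedCategory.{w₁} C₁]
  {C₂ : Type u₂} [Category.{v₂} C₂] [Abelian C₂] [HasDerivedCategory.{w₂} C₂]
  (F : C₁ ⥤ C₂) [F.Additive] [PreservesFiniteLimits F] [PreservesFiniteColimits F]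

set_option backward.isDefEq.respectTransparency false in
/-- cohomology of complexes commutes with an exact functor -/
noncomputable def cxIso (n : ℤ) :
    F.mapHomologicalComplex (ComplexShape.up ℤ) ⋙ HomologicalComplex.homologyFunctor C₂ (ComplexShape.up ℤ) n ≅
      HomologicalComplex.homologyFunctor C₁ (ComplexShape.up ℤ) n ⋙ F :=
  NatIso.ofComponents (fun K => (K.sc n).mapHomologyIso F) fun {K L} f =>
    ShortComplex.mapHomologyIso_hom_naturality
      ((HomologicalComplex.shortComplexFunctor C₁ (ComplexShape.up ℤ) n).map f) F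

/-- cohomology on the derived category commutes with an exact functor -/
noncomputable def hIso (n : ℤ) :
    F.mapDerivedCategory ⋙ DerivedCategory.homologyFunctor C₂ n ≅
      DerivedCategory.homologyFunctor C₁ n ⋙ F :=
  letI : Localization.Lifting DerivedCategory.Q (HomologicalComplex.quasiIso C₁ (ComplexShape.up ℤ))
      (F.mapHomologicalComplex (ComplexShape.up ℤ) ⋙ HomologicalComplex.homologyFunctor C₂ _ n)
      (F.mapDerivedCategory ⋙ DerivedCategory.homologyFunctor C₂ n) :=
    ⟨(Functor.associator _ _ _).symm ≪≫ Functor.isoWhiskerRight F.mapDerivedCategoryFactors _ ≪≫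
      Functor.associator _ _ _ ≪≫
      Functor.isoWhiskerLeft _ (DerivedCategory.homologyFunctorFactors C₂ n)⟩
  letI : Localization.Lifting DerivedCategory.Q (HomologicalComplex.quasiIso C₁ (ComplexShape.up ℤ))
      (HomologicalComplex.homologyFunctor C₁ (ComplexShape.up ℤ) n ⋙ F)
      (DerivedCategory.homologyFunctor C₁ n ⋙ F) :=
    ⟨(Functor.associator _ _ _).symm ≪≫
      Functor.isoWhiskerRight (DerivedCategory.homologyFunctorFactors C₁ n) F⟩
  Localization.liftNatIso DerivedCategory.Q (HomologicalComplex.quasiIso C₁ (ComplexShape.up ℤ))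
    (F.mapHomologicalComplex (ComplexShape.up ℤ) ⋙ HomologicalComplex.homologyFunctor C₂ _ n)
    (HomologicalComplex.homologyFunctor C₁ (ComplexShape.up ℤ) n ⋙ F) _ _ (cxIso F n)

end Groth.L29.ExactHomology
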