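import Mathlib.Algebra.Homology.HomologySequenceLemmas
import Mathlib.Algebra.Homology.Double
import Mathlib.Algebra.Homology.HomotopyCategory.ShortExact
import Mathlib.CategoryTheory.Adjunction.FullyFaithful
import Mathlib.Algebra.Homology.Bifunctor
import Mathlib.Algebra.Homology.Embedding.IsSupported
import Mathlib.Algebra.Homology.Embedding.CochainComplex

/-!
Abstract lemmas used for dévissage along homology sequences.
-/

set_option autoImplicit false
set_option backward.defeqAttrib.useBackward true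
set_option backward.isDefEq.respectTransparency false

universe v u

open CategoryTheory CategoryTheory.Limits HomologicalComplex

namespace Groth.L29.DevGen

section

variable {C : Type*} [Category C] [Abelian C] {S₁ S₂ : ShortComplex (CochainComplex C ℤ)} (φ : S₁ ⟶ S₂)
  (h₁ : S₁.ShortExact) (h₂ : S₂.ShortExact)

include h₁ h₂ in
/-- the middle of a map of short exact sequences -/
theorem isIso_τ₂ (n : ℤ) [Epi (homologyMap φ.τ₃ (n - 1))] [IsIso (homologyMap φ.τ₁ n)]
    [IsIso (homologyMap φ.τ₃ n)] [Mono (homologyMap φ.τ₁ (n + 1))] : IsIso (homologyMap φ.τ₂ n) := by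
  open ComposableArrows in
  haveI : Mono (homologyMap φ.τ₂ n) := by
    refine Abelian.mono_of_epi_of_mono_of_mono ((δ₀Functor ⋙ δ₀Functor).map
      (HomologySequence.mapComposableArrows₅ φ h₁ h₂ (n - 1) n (sub_add_cancel n 1)))
      (HomologySequence.composableArrows₅_exact h₁ _ _ _).δ₀.δ₀
      (HomologySequence.composableArrows₅_exact h₂ _ _ _).δ₀.δ₀ ?_ ?_ ?_
    · exact inferInstanceAs (Epi (homologyMap φ.τ₃ (n - 1)))
    · exact inferInstanceAs (Mono (homologyMap φ.τ₁ n))
    · exact inferInstanceAs (Mono (homologyMap φ.τ₃ n))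
  haveI : Epi (homologyMap φ.τ₂ n) := by
    refine Abelian.epi_of_epi_of_epi_of_mono ((δlastFunctor ⋙ δlastFunctor).map
      (HomologySequence.mapComposableArrows₅ φ h₁ h₂ n (n + 1) rfl))
      (HomologySequence.composableArrows₅_exact h₁ _ _ _).δlast.δlast
      (HomologySequence.composableArrows₅_exact h₂ _ _ _).δlast.δlast ?_ ?_ ?_
    · exact inferInstanceAs (Epi (homologyMap φ.τ₁ n))
    · exact inferInstanceAs (Epi (homologyMap φ.τ₃ n))
    · exact inferInstanceAs (Mono (homologyMap φ.τ₁ (n + 1)))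
  exact isIso_of_mono_of_epi _

theorem isIso_δ {S : ShortComplex (CochainComplex C ℤ)} (hS : S.ShortExact) (n : ℤ)
    (a : IsZero (S.X₂.homology n)) (b : IsZero (S.X₂.homology (n + 1))) : IsIso (hS.δ n (n + 1) rfl) := by
  haveI := (hS.homology_exact₃ n (n + 1) rfl).mono_g (a.eq_of_src _ _)
  haveI := (hS.homology_exact₁ n (n + 1) rfl).epi_f (b.eq_of_tgt _ _)
  exact isIso_of_mono_of_epi _

include h₁ h₂ in
/-- a negligible middle links the two ends -/
theorem isIso_outer_iff (n : ℤ) (a₁ : IsZero (S₁.X₂.homology n)) (b₁ : IsZero (S₁.X₂.homology (n + 1)))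
    (a₂ : IsZero (S₂.X₂.homology n)) (b₂ : IsZero (S₂.X₂.homology (n + 1))) :
    IsIso (homologyMap φ.τ₃ n) ↔ IsIso (homologyMap φ.τ₁ (n + 1)) := by
  haveI := isIso_δ h₁ n a₁ b₁
  haveI := isIso_δ h₂ n a₂ b₂
  have e := HomologySequence.δ_naturality φ h₁ h₂ n (n + 1) rfl
  constructor
  · intro _
    haveI : IsIso (h₁.δ n (n + 1) rfl ≫ homologyMap φ.τ₁ (n + 1)) := by rw [e]; infer_instance
    exact IsIso.of_isIso_comp_left (h₁.δ n (n + 1) rfl) _
  · intro _
    haveI : IsIso (homologyMap φ.τ₃ n ≫ h₂.δ n (n + 1) rfl) := by rw [← e]; infer_instance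
    exact IsIso.of_isIso_comp_right _ (h₂.δ n (n + 1) rfl)

theorem isIso_g {S : ShortComplex (CochainComplex C ℤ)} (hS : S.ShortExact) (n : ℤ)
    (a : IsZero (S.X₁.homology n)) (b : IsZero (S.X₁.homology (n + 1))) : IsIso (homologyMap S.g n) := by
  haveI := (hS.homology_exact₂ n).mono_g (a.eq_of_src _ _)
  haveI := (hS.homology_exact₃ n (n + 1) rfl).epi_f (b.eq_of_tgt _ _)
  exact isIso_of_mono_of_epi _

include h₁ h₂ in
/-- a negligible first term -/
theorem isIso_τ₂_iff_τ₃ (n : ℤ) (a₁ : IsZero (S₁.X₁.homology n)) (b₁ : IsZero (S₁.X₁.homology (n + 1)))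
    (a₂ : IsZero (S₂.X₁.homology n)) (b₂ : IsZero (S₂.X₁.homology (n + 1))) :
    IsIso (homologyMap φ.τ₂ n) ↔ IsIso (homologyMap φ.τ₃ n) := by
  haveI := isIso_g h₁ n a₁ b₁
  haveI := isIso_g h₂ n a₂ b₂
  have e : homologyMap φ.τ₂ n ≫ homologyMap S₂.g n = homologyMap S₁.g n ≫ homologyMap φ.τ₃ n := by
    rw [← homologyMap_comp, φ.comm₂₃, homologyMap_comp]
  constructor
  · intro _
    haveI : IsIso (homologyMap S₁.g n ≫ homologyMap φ.τ₃ n) := by rw [← e]; infer_instance
    exact IsIso.of_isIso_comp_left (homologyMap S₁.g n) _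
  · intro _
    haveI : IsIso (homologyMap φ.τ₂ n ≫ homologyMap S₂.g n) := by rw [e]; infer_instance
    exact IsIso.of_isIso_comp_right _ (homologyMap S₂.g n)

end

/-- vanishing of a total complex -/
theorem isZero_mapBifunctor {C₁ C₂ D : Type*} [Category C₁] [Category C₂] [Category D] [Preadditive C₁]
    [Preadditive C₂] [Preadditive D] [HasZeroObject D] (F : C₁ ⥤ C₂ ⥤ D) [F.PreservesZeroMorphisms]
    [∀ X, (F.obj X).PreservesZeroMorphisms]
    (P : CochainComplex C₁ ℤ) (Q : CochainComplex C₂ ℤ) [HasMapBifunctor P Q F (ComplexShape.up ℤ)] (m : ℤ)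
    (h : ∀ i j, i + j = m → IsZero (P.X i) ∨ IsZero (Q.X j)) :
    IsZero ((mapBifunctor P Q F (ComplexShape.up ℤ)).X m) := by
  refine (IsZero.iff_id_eq_zero _).2 (mapBifunctor.hom_ext fun i j hij => ?_)
  rcases h i j hij with hi | hj
  · exact ((F.map_isZero hi).obj (Q.X j)).eq_of_src _ _
  · exact ((F.obj (P.X i)).map_isZero hj).eq_of_src _ _

/-- a degree of the right adjoint vanishes when maps out of the disk vanish -/
theorem isZero_X_of_adj {C : Type*} [Category C] [Abelian C] {L : CochainComplex C ℤ ⥤ CochainComplex C ℤ}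
    {G : CochainComplex C ℤ ⥤ CochainComplex C ℤ} (adj : L ⊣ G) (J : CochainComplex C ℤ) (n : ℤ)
    (h : ∀ (D : CochainComplex C ℤ), (∀ i, i ≠ n → i ≠ n + 1 → IsZero (D.X i)) →
      ∀ m, IsZero ((L.obj D).X m) ∨ IsZero (J.X m)) :
    IsZero ((G.obj J).X n) := by
  have hn : n ≠ n + 1 := by omega
  have hr : (ComplexShape.up ℤ).Rel n (n + 1) := rfl
  let D := double (𝟙 ((G.obj J).X n)) hr
  let e : (D ⟶ G.obj J) ≃ ((G.obj J).X n ⟶ (G.obj J).X n) :=
    (evalCompCoyonedaCorepresentableByDoubleId hr hn _).homEquiv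
  haveI : Subsingleton (L.obj D ⟶ J) := ⟨fun f g => HomologicalComplex.hom_ext _ _ fun m => by
    rcases h D (fun i h0 h1 => isZero_double_X _ hr i h0 h1) m with hm | hm
    · exact hm.eq_of_src _ _
    · exact hm.eq_of_tgt _ _⟩
  haveI : Subsingleton (D ⟶ G.obj J) := (adj.homEquiv D J).symm.subsingleton
  exact (IsZero.iff_id_eq_zero _).2 (e.symm.injective (Subsingleton.elim _ _))

/-- a map with bijective composites is an isomorphism -/
theorem isIso_of_bijective {C D : Type*} [Category C] [Category D] (L : C ⥤ D) [L.IsEquivalence] {Z : C} {Y : D}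
    (e : L.obj Z ⟶ Y) (h : ∀ Q : C, Function.Bijective fun f : Q ⟶ Z => L.map f ≫ e) : IsIso e := by
  let Q := L.objPreimage Y
  obtain ⟨f, hf⟩ := (h Q).2 (L.objObjPreimageIso Y).hom
  refine ⟨(L.objObjPreimageIso Y).inv ≫ L.map f, ?_, ?_⟩
  · obtain ⟨g, hg⟩ := L.map_surjective (e ≫ (L.objObjPreimageIso Y).inv ≫ L.map f)
    rw [← hg, ← L.map_id]
    refine congrArg L.map ((h Z).1 ?_)
    simp only at hf ⊢
    rw [hg, Category.assoc, Category.assoc, hf, Iso.inv_hom_id, Category.comp_id, L.map_id, Category.id_comp]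
  · simp only at hf
    rw [Category.assoc, hf, Iso.inv_hom_id]

/-- transposes of isomorphisms under an adjunction with fully faithful left adjoint -/
theorem isIso_homEquiv {C D : Type*} [Category C] [Category D] {L : C ⥤ D} {G : D ⥤ C} (adj : L ⊣ G)
    [L.Full] [L.Faithful] {Z : C} {Y : D} (f : L.obj Z ⟶ Y) [IsIso f] : IsIso (adj.homEquiv Z Y f) := by
  rw [adj.homEquiv_unit]
  infer_instance

end Groth.L29.DevGen
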