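import Groth.Agent.L29.Dual.SchLocus
import Groth.Agent.L04.LC.LowestDegree

/-!
Stalks of a dualizing complex on a scheme are dualizing complexes; the lowest cohomology sheaf is S₂.
-/

set_option autoImplicit false
set_option backward.defeqAttrib.useBackward true
set_option backward.isDefEq.respectTransparency false
set_option backward.isDefEq.respectTransparency.types false
set_option linter.style.haveILetI false

universe u

open CategoryTheory CategoryTheory.Limits AlgebraicGeometry

attribute [local instance] HasDerivedCategory.standard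

namespace Groth.L29.SchStalk

open Groth.L29.DC Groth.L29.HomD

variable {X : Scheme.{u}} [IsLocallyNoetherian X]
  [∀ (U : Scheme.{u}) (j : U ⟶ X) [IsOpenImmersion j], PreservesFiniteLimits (Scheme.Modules.restrictFunctor j)]
  [∀ (R : CommRingCat.{u}), PreservesFiniteLimits (tilde.functor R)]

theorem exists_stalk {K : DCoh.D X} (hK : Dual2.IsDualizingSch X K) (x : X) :
    ∃ ω : Dual.D (X.presheaf.stalk x), Dual.IsDualizing (X.presheaf.stalk x) ω ∧
      ∀ i : ℤ, Nonempty (PCStalk.stk K i x ≃ₗ[X.presheaf.stalk x] Dual.HD (X.presheaf.stalk x) ω i) := by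
  obtain ⟨_, ⟨U, hU, rfl⟩, hxU, -⟩ :=
    X.isBasis_affineOpens.exists_subset_of_mem_open (Set.mem_univ x) isOpen_univ
  obtain ⟨ω, hω, ⟨e⟩⟩ := hK Γ(X, U) hU.fromSpec
  obtain ⟨q, rfl⟩ : ∃ q, hU.fromSpec q = x := hU.opensRange_fromSpec.ge hxU
  let j := hU.fromSpec
  let φ := Groth.L00.PullStalk.φ j q
  haveI hbij : Function.Bijective φ := (asIso (j.stalkMap q)).commRingCatIsoToRingEquiv.bijective
  let ε : X.presheaf.stalk (j q) ≃+* (Spec Γ(X, U)).presheaf.stalk q := RingEquiv.ofBijective φ hbij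
  let t := Groth.L00.KFlat.toStalk Γ(X, U) q
  letI : Algebra Γ(X, U) ((Spec Γ(X, U)).presheaf.stalk q) := t.toAlgebra
  haveI := TorTest.isLocalization_toStalk q
  letI : Algebra Γ(X, U) (X.presheaf.stalk (j q)) := (ε.symm.toRingHom.comp t).toAlgebra
  haveI : IsLocalization.AtPrime (X.presheaf.stalk (j q)) q.asIdeal :=
    IsLocalization.isLocalization_of_algEquiv q.asIdeal.primeCompl
      ({ ε.symm with commutes' := fun a => rfl } :
        (Spec Γ(X, U)).presheaf.stalk q ≃ₐ[Γ(X, U)] X.presheaf.stalk (j q))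
  haveI : Module.Flat Γ(X, U) (X.presheaf.stalk (j q)) := IsLocalization.flat _ q.asIdeal.primeCompl
  haveI := hω.isNoetherianRing
  refine ⟨_, FlatBC.isDualizing_L_localization (B := X.presheaf.stalk (j q)) q.asIdeal.primeCompl hω, fun i => ?_⟩
  let M := (Groth.L02.PC.HH i).obj ω
  let a : (ModuleCat.extendScalars φ).obj (PCStalk.stk K i (j q)) ≅ (ModuleCat.extendScalars t).obj M :=
    (PCStalk.hdResStk j K i q).symm ≪≫ (Groth.L00.Stk.F _ q).mapIso
      ((DerivedCategory.homologyFunctor _ i).mapIso e ≪≫ TildeAlg.hdIso ω i) ≪≫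
      (Groth.L00.KFlat.tildeStalkIso Γ(X, U) q).app M
  have hid : ε.symm.toRingHom.comp φ = RingHom.id (X.presheaf.stalk (j q)) :=
    RingHom.ext fun y => ε.symm_apply_apply y
  let b : PCStalk.stk K i (j q) ≅ (FlatBC.ext Γ(X, U) (X.presheaf.stalk (j q))).obj M :=
    ((ModuleCat.extendScalarsId (X.presheaf.stalk (j q))).app _).symm ≪≫
      (eqToIso (congrArg ModuleCat.extendScalars hid.symm)).app _ ≪≫
      (ModuleCat.extendScalarsComp φ ε.symm.toRingHom).app _ ≪≫ (ModuleCat.extendScalars ε.symm.toRingHom).mapIso a ≪≫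
      ((ModuleCat.extendScalarsComp t ε.symm.toRingHom).app M).symm
  exact ⟨b.toLinearEquiv.trans ((FlatBC.extEquiv _ _ M).trans (FlatBC.hEquiv _ _ ω i).symm)⟩

section Ring

open Groth.L04.Lowest

variable {A : Type u} [CommRing A] [IsNoetherianRing A] {ω : Dual.D A}

theorem bound_of_low (hω : Dual.IsDualizing A ω) (a : ℤ) (hlow : ∀ j < a, Subsingleton (Dual.HD A ω j))
    (Q : PrimeSpectrum A) (hQ : Q.asIdeal ∈ (Module.annihilator A A).minimalPrimes) : dimFun hω Q ≤ -a := by
  rw [Module.annihilator_eq_bot.2 inferInstance] at hQ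
  haveI := Q.isPrime
  by_contra h
  haveI := hlow (-dimFun hω Q) (by omega)
  exact (not_lz_HD_iff hω Q hQ (-dimFun hω Q)).2 rfl fun y =>
    ⟨1, fun h1 => Q.isPrime.ne_top ((Ideal.eq_top_iff_one _).2 h1), Subsingleton.elim _ _⟩

/-- the lowest cohomology of a dualizing complex of a domain is torsion-free -/
theorem isTorsionFree_lowest [IsDomain A] (hω : Dual.IsDualizing A ω) (a : ℤ)
    (hlow : ∀ j < a, Subsingleton (Dual.HD A ω j)) : Module.IsTorsionFree A (Dual.HD A ω a) := by
  haveI := isGE_of_low a hlow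
  refine ⟨fun s hs => isSMulRegular_iff_right_eq_zero_of_smul.2 fun y hy => ?_⟩
  by_contra hy0
  obtain ⟨P, hP, hle⟩ := exists_le_isAssociatedPrime_of_isNoetherianRing A y hy0
  haveI := hP.isPrime
  obtain ⟨z, hz⟩ := ((isAssociatedPrime_iff_exists_injective_linearMap P _).1 hP).2
  have hsP : s ∈ P := hle (Submodule.mem_colon_singleton.2 ((Submodule.mem_bot A).2 hy))
  let p : PrimeSpectrum A := ⟨P, inferInstance⟩
  let b : PrimeSpectrum A := ⟨⊥, Ideal.isPrime_bot⟩
  have hlt : dimFun hω p < dimFun hω b := dimFun_strictAnti hω (show b < p from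
    lt_of_le_of_ne (show (⊥ : Ideal A) ≤ P from bot_le) fun hb => hs.ne_zero (by
      have : (⊥ : Ideal A) = P := congrArg PrimeSpectrum.asIdeal hb
      exact (Submodule.mem_bot A).1 (this ▸ hsP)))
  have hb := bound_of_low hω a hlow b (by
    rw [Module.annihilator_eq_bot.2 inferInstance]
    exact ⟨⟨Ideal.isPrime_bot, le_rfl⟩, fun q _ _ => bot_le⟩)
  obtain ⟨e⟩ := exists_iso_bottom ω a
  let F := DerivedCategory.singleFunctor (ModuleCat.{u} A) a
  let f : ModuleCat.of A (A ⧸ P) ⟶ (DerivedCategory.homologyFunctor (ModuleCat.{u} A) a).obj ω := ModuleCat.ofHom z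
  obtain ⟨c, hc, hc0⟩ := lz_of_ne hω p (i := a) (by omega)
    (homSingle ω (ModuleCat.of A (A ⧸ P)) a (F.map f ≫ e.inv ≫ (tri ω a).mor₁))
  rw [← map_smul] at hc0
  have h1 : (c • (F.map f ≫ e.inv)) ≫ (tri ω a).mor₁ = 0 := by
    rw [Linear.smul_comp, Category.assoc]
    exact (homSingle ω _ a).map_eq_zero_iff.1 hc0
  have h2 := eq_zero_of_comp ω a a (by omega) _ h1
  rw [← Linear.smul_comp, Preadditive.IsIso.comp_right_eq_zero, ← Functor.map_smul] at h2
  have h3 : c • z (Ideal.Quotient.mk P 1) = 0 := by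
    have := F.map_injective (h2.trans (F.map_zero _ _).symm)
    exact LinearMap.congr_fun (congrArg ModuleCat.Hom.hom this) (Ideal.Quotient.mk P 1)
  rw [← map_smul, ← map_zero z] at h3
  exact hc (Ideal.Quotient.eq_zero_iff_mem.1 ((by simp [Algebra.smul_def] : c • Ideal.Quotient.mk P 1 = Ideal.Quotient.mk P c).symm.trans (hz h3)))

end Ring

section
open scoped TensorProduct

theorem hasSk_congr {k : ℕ} {R M N : Type u} [CommRing R] [AddCommGroup M] [Module R M] [AddCommGroup N] [Module R N]
    (e : M ≃ₗ[R] N) (h : LocCoh.HasSk k R M) : LocCoh.HasSk k R N := by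
  intro p _
  let e' : LocalizedModule p.primeCompl M ≃ₗ[Localization.AtPrime p] LocalizedModule p.primeCompl N :=
    (LocalizedModule.equivTensorProduct p.primeCompl M).trans
      ((TensorProduct.AlgebraTensorModule.congr (LinearEquiv.refl (Localization.AtPrime p) (Localization.AtPrime p)) e).trans
        (LocalizedModule.equivTensorProduct p.primeCompl N).symm)
  rw [← Module.supportDim_eq_of_equiv e', LocCoh.depth, ← Groth.L04.idealDepth_congr e']
  exact h p
end

end Groth.L29.SchStalk

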