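import Groth.Agent.L29.Dual.Descent
import Groth.Agent.L29.Dual.SchLocus
import Groth.Agent.L29.DCoh.LBC
import Groth.Agent.L29.DCoh.PCNoeth

/-!
Dualizing complexes on schemes are recognised on an affine cover.
-/

set_option autoImplicit false
set_option backward.defeqAttrib.useBackward true
set_option backward.isDefEq.respectTransparency false
set_option backward.isDefEq.respectTransparency.types false

universe u

open CategoryTheory CategoryTheory.Limits AlgebraicGeometry
open scoped TensorProduct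

attribute [local instance] HasDerivedCategory.standard

namespace Groth.L29.SchCharts

open Groth.L29.DC Groth.L29.HomD

/-- restriction along an open immersion of affine schemes is flat base change -/
theorem nonempty_restrict_tilde {R S : CommRingCat.{u}} [Algebra R S] [Module.Flat R S]
    [IsOpenImmersion (Spec.map (CommRingCat.ofHom (algebraMap R S)))]
    [PreservesFiniteLimits (tilde.functor R)] [PreservesFiniteLimits (tilde.functor S)] (ω : Dual.D R) :
    Nonempty ((DCoh.restrictD (Spec.map (CommRingCat.ofHom (algebraMap R S)))).obj ((DCoh.tildeD R).obj ω) ≅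
      (DCoh.tildeD S).obj ((FlatBC.L R S).obj ω)) := by
  haveI := Groth.L00.KFlat.hasLpull (Spec.map (CommRingCat.ofHom (algebraMap R S)))
  haveI : DRing.HasLBaseChange (algebraMap R S) := LBC.hasLBaseChange (CommRingCat.ofHom (algebraMap R S))
  obtain ⟨e⟩ := nonempty_Lpull_iso_restrictD (Spec.map (CommRingCat.ofHom (algebraMap R S))) ((DCoh.tildeD R).obj ω)
  obtain ⟨e'⟩ := LBC.nonempty_tildeDIso (CommRingCat.ofHom (algebraMap R S))
  exact ⟨e.symm ≪≫ (e'.app ω).symm ≪≫ (DCoh.tildeD S).mapIso ((FlatBC.lbcIso (A := R) (B := S)).app ω)⟩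

theorem iso_of_tilde {R : CommRingCat.{u}} [PreservesFiniteLimits (tilde.functor R)] {M N : Dual.D R}
    (e : (DCoh.tildeD R).obj M ≅ (DCoh.tildeD R).obj N) : Nonempty (M ≅ N) := by
  obtain ⟨hf, hff⟩ := TildeD.fullyFaithful (R := R)
  haveI := hf
  haveI := hff
  exact ⟨(DCoh.tildeD R).preimageIso e⟩

/-- a flat family of algebras covering the spectrum detects zero modules -/
theorem detects_of_cover {A : Type u} [CommRing A] {ι : Type*} (B : ι → Type u) [∀ i, CommRing (B i)]
    [∀ i, Algebra A (B i)] [∀ i, Module.Flat A (B i)]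
    (h : ∀ p : PrimeSpectrum A, ∃ (i : ι) (q : PrimeSpectrum (B i)), PrimeSpectrum.comap (algebraMap A (B i)) q = p) :
    FlatBC.Detects A B := by
  intro N _ _ hN
  refine subsingleton_of_forall_eq 0 fun n => ?_
  let f := LinearMap.toSpanSingleton A N n
  by_contra hn
  obtain ⟨m, hm, hle⟩ := Ideal.exists_le_maximal (LinearMap.ker f) (fun htop => hn (by
    have : (1 : A) ∈ LinearMap.ker f := htop ▸ Submodule.mem_top
    simpa [f] using this))
  obtain ⟨i, q, hq⟩ := h ⟨m, hm.isPrime⟩
  haveI := hN i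
  have hex : Function.Exact ((LinearMap.ker f).subtype.lTensor (B i)) (f.lTensor (B i)) :=
    Module.Flat.lTensor_exact _ (LinearMap.exact_subtype_ker_map f)
  obtain ⟨t, ht⟩ := (hex ((1 : B i) ⊗ₜ[A] (1 : A))).1 (Subsingleton.elim _ _)
  have hall : ∀ t : B i ⊗[A] ↥(LinearMap.ker f),
      TensorProduct.rid A (B i) ((LinearMap.ker f).subtype.lTensor (B i) t) ∈ q.asIdeal := fun t => by
    induction t with
    | zero => simp
    | tmul b k =>
      rw [LinearMap.lTensor_tmul, TensorProduct.rid_tmul, Algebra.smul_def]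
      refine q.asIdeal.mul_mem_right _ ?_
      have h1 : (k : A) ∈ (PrimeSpectrum.comap (algebraMap A (B i)) q).asIdeal := by rw [hq]; exact hle k.2
      exact h1
    | add s t hs ht => simp only [map_add]; exact q.asIdeal.add_mem hs ht
  have h1 := hall t
  rw [ht, TensorProduct.rid_tmul, one_smul] at h1
  exact q.isPrime.ne_top ((Ideal.eq_top_iff_one _).2 h1)

variable {X : Scheme.{u}} [IsLocallyNoetherian X]
  [∀ (R : CommRingCat.{u}), PreservesFiniteLimits (tilde.functor R)] {K : DCoh.D X}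

theorem isDualizingSch_of_cover
    [∀ (U : Scheme.{u}) (j : U ⟶ X) [IsOpenImmersion j], PreservesFiniteLimits (Scheme.Modules.restrictFunctor j)]
    (hK : ∀ x : X, ∃ (R : CommRingCat.{u}) (j : Spec R ⟶ X) (_ : IsOpenImmersion j) (ω : Dual.D R),
      x ∈ j.opensRange ∧ Dual.IsDualizing R ω ∧ Nonempty ((DCoh.restrictD j).obj K ≅ (DCoh.tildeD R).obj ω)) :
    Dual2.IsDualizingSch X K := by
  have hQ : DCoh.IsQCohD K := isQCohD_of_charts fun x => by
    obtain ⟨R, j, hj, ω, hx, -, ⟨e⟩⟩ := hK x
    exact ⟨R, j, hj, hx, isQCohD_of_iso e.symm (isQCohD_tildeD ω)⟩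
  have hC : ∀ i, Coh.IsCoh (DCoh.HD K i) := fun i => Groth.L16.CohKernel.isCoh_of_tilde_charts _ fun x => by
    obtain ⟨R, j, hj, ω, hx, hω, ⟨e⟩⟩ := hK x
    exact ⟨R, j, hj, _, hx, hω.finite_cohomology i, ⟨PCNoeth.hdResIso K j e.symm i⟩⟩
  intro A _ j' hj'
  haveI : IsLocallyNoetherian (Spec (CommRingCat.of A)) := isLocallyNoetherian_of_isOpenImmersion j'
  haveI := IsLocallyNoetherian.component_noetherian (X := Spec (CommRingCat.of A)) ⟨⊤, isAffineOpen_top _⟩
  haveI : IsNoetherianRing A := isNoetherianRing_of_ringEquiv _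
    (Scheme.ΓSpecIso (CommRingCat.of A)).commRingCatIsoToRingEquiv
  obtain ⟨ω, ⟨eω⟩⟩ := (TildeD.isQCohD_iff _).1 (isQCohD_restrictD j' hQ)
  refine ⟨ω, ?_, ⟨eω.symm⟩⟩
  have hfin : ∀ n : ℤ, Module.Finite A (Dual.HD A ω n) := fun n => by
    haveI : Coh.IsQCoh (DCoh.HD K n) := hQ n
    exact Groth.L16.CohKernel.finite_of_tilde_iso _ (hC n).2 j' _ (PCNoeth.hdResIso K j' eω n)
  have hloc : ∀ p : Spec (CommRingCat.of A), ∃ (R : CommRingCat.{u}) (_ : Algebra A R) (_ : Module.Flat A R)
      (_ : IsOpenImmersion (Spec.map (CommRingCat.ofHom (algebraMap A R)))),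
      p ∈ Set.range (Spec.map (CommRingCat.ofHom (algebraMap A R))) ∧
        Dual.IsDualizing R ((FlatBC.L A R).obj ω) := by
    intro p
    obtain ⟨S, j, hj, ωS, ⟨r, hr⟩, hωS, ⟨eS⟩⟩ := hK (j' p)
    haveI := hωS.isNoetherianRing
    obtain ⟨_, ⟨g, rfl⟩, hrg, hsub⟩ := PrimeSpectrum.isTopologicalBasis_basic_opens.exists_subset_of_mem_open
      (show r ∈ j ⁻¹' (j'.opensRange : Set X) from ⟨p, hr.symm⟩) (j.continuous.isOpen_preimage _ j'.opensRange.2)
    let T : CommRingCat.{u} := CommRingCat.of (Localization.Away g)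
    let k : Spec T ⟶ Spec S := Spec.map (CommRingCat.ofHom (algebraMap S (Localization.Away g)))
    haveI : IsOpenImmersion k := IsOpenImmersion.of_isLocalization g
    have hrk : Set.range k = (PrimeSpectrum.basicOpen g : Set (PrimeSpectrum S)) :=
      PrimeSpectrum.localization_away_comap_range (Localization.Away g) g
    have hle : Set.range (k ≫ j) ⊆ Set.range j' := by
      rintro _ ⟨t, rfl⟩
      exact hsub (hrk.le ⟨t, rfl⟩)
    let l : Spec T ⟶ Spec (CommRingCat.of A) := IsOpenImmersion.lift j' (k ≫ j) hle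
    have hl : l ≫ j' = k ≫ j := IsOpenImmersion.lift_fac _ _ _
    haveI : IsOpenImmersion (l ≫ j') := hl ▸ inferInstance
    haveI : IsOpenImmersion l := IsOpenImmersion.of_comp l j'
    letI : Algebra A T := (Spec.preimage l).hom.toAlgebra
    have hal : Spec.map (CommRingCat.ofHom (algebraMap A T)) = l := Spec.map_preimage l
    haveI hoi : IsOpenImmersion (Spec.map (CommRingCat.ofHom (algebraMap A T))) := hal.symm ▸ inferInstance
    haveI hflat : Module.Flat A T := by
      have : (CommRingCat.ofHom (algebraMap A T)).hom.Flat :=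
        (AlgebraicGeometry.HasRingHomProperty.Spec_iff (P := @Flat)).1 inferInstance
      exact RingHom.flat_algebraMap_iff.1 this
    haveI : Module.Flat S T := IsLocalization.flat (Localization.Away g) (Submonoid.powers g)
    refine ⟨T, inferInstance, hflat, hoi, ?_, ?_⟩
    · obtain ⟨t, ht⟩ := (hrk ▸ hrg : r ∈ Set.range k)
      refine ⟨t, j'.isOpenEmbedding.injective ?_⟩
      rw [hal]
      exact ((Scheme.Hom.comp_apply l j' t).symm.trans (by rw [hl, Scheme.Hom.comp_apply, ht])).trans hr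
    · obtain ⟨a⟩ := nonempty_restrict_tilde (R := CommRingCat.of A) (S := T) ω
      obtain ⟨b⟩ := nonempty_restrict_tilde (R := S) (S := T) ωS
      obtain ⟨c⟩ := iso_of_tilde (b.symm ≪≫ (DCoh.restrictD k).mapIso eS.symm ≪≫
        (resTransD j k (k ≫ j) rfl).app K ≪≫
        ((resTransD j' (Spec.map (CommRingCat.ofHom (algebraMap A T))) (k ≫ j) (by rw [hal, hl])).app K).symm ≪≫
        (DCoh.restrictD (Spec.map (CommRingCat.ofHom (algebraMap A T)))).mapIso eω.symm ≪≫ a)
      exact isDualizing_of_iso c (FlatBC.isDualizing_L_localization (B := T) (Submonoid.powers g) hωS)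
  choose R hAlg hFlat hOI hmem hdual using hloc
  letI := hAlg
  haveI := hFlat
  obtain ⟨s, hs⟩ := isCompact_univ.elim_finite_subcover
    (fun p : Spec (CommRingCat.of A) => Set.range (Spec.map (CommRingCat.ofHom (algebraMap A (R p)))))
    (fun p => (hOI p).base_open.isOpen_range)
    (fun p _ => Set.mem_iUnion.2 ⟨p, hmem p⟩)
  let B : s → Type u := fun p => R p.1
  letI : ∀ i : s, Algebra A (B i) := fun i => hAlg i.1
  haveI : ∀ i : s, Module.Flat A (B i) := fun i => hFlat i.1
  choose a b hab using fun p : s => (hdual p.1).finite_injective_dimension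
  obtain ⟨a₀, ha₀⟩ := Finite.exists_ge a
  obtain ⟨b₀, hb₀⟩ := Finite.exists_le b
  refine FlatBC.isDualizing_of_family (B := B) (detects_of_cover B fun p => ?_) hfin a₀ b₀
    (fun i n hn => ?_) (fun i N _ _ _ n hn => hab i N n (Or.inr ((hb₀ i).trans_lt hn))) (fun i => hdual i.1)
  · obtain ⟨i, hi, t, ht⟩ := by simpa using hs (Set.mem_univ p)
    exact ⟨⟨i, hi⟩, t, ht⟩
  · haveI := hab i (B i) n (Or.inl (hn.trans_le (ha₀ i)))
    exact (evalShiftEquiv ((FlatBC.L A (B i)).obj ω) n).symm.toEquiv.subsingleton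

end Groth.L29.SchCharts
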