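import Groth.Agent.L29.Dual.CompareBounds

/-!
The dévissage with the functor on complexes given up to equality.
-/

set_option autoImplicit false
set_option backward.defeqAttrib.useBackward true
set_option backward.isDefEq.respectTransparency false
set_option backward.isDefEq.respectTransparency.types false

universe v' u' u

open CategoryTheory CategoryTheory.Limits CochainComplex HomologicalComplex

attribute [local instance] HasDerivedCategory.standard

namespace Groth.L29.Compare

open Groth.L29.DC

theorem quasiIso_of_base {R : Type u} [CommRing R] [IsNoetherianRing R] (I : DRing.Cx R) [I.IsKInjective]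
    [∀ n, Injective (I.X n)] {C : Type u'} [catC : Category.{v'} C] [abC : Abelian C]
    (T : ModuleCat.{u} R ⥤ C) [T.Additive] [PreservesFiniteLimits T] [PreservesFiniteColimits T]
    (F' : CochainComplex (ModuleCat.{u} R) ℤ ⥤ CochainComplex C ℤ) (hF : F' = Tc T)
    (Φ : CochainComplex C ℤ ⥤ CochainComplex C ℤ ⥤ CochainComplex C ℤ) [∀ X, (Φ.obj X).IsLeftAdjoint]
    (d : HomCx.Data Φ) (J : CochainComplex C ℤ) [J.IsKInjective] {a b : ℤ} (B : Bounds I Φ J a b)
    (app : ∀ F : DRing.Cx R, F'.obj (DRing.homCx F I) ⟶ (HomCx.H Φ (F'.obj F)).obj J)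
    (natural : ∀ {F G : DRing.Cx R} (g : F ⟶ G), F'.map (Groth.L10.RHomCx.homCxPre g I) ≫ app F =
      app G ≫ RHomExact.mate (HomCx.adj Φ (F'.obj F)) (HomCx.adj Φ (F'.obj G)) (Φ.map (F'.map g)) J)
    (hbase : IsIso (app (BidualCx.rk1 0)))
    (K : DRing.Cx R) (hK : ∀ i, Module.Finite R (Dual.HD R (DRing.toD K) i)) : QuasiIso (app K) := by
  subst hF
  refine (quasiIso_iff _).2 fun i => (quasiIsoAt_iff_isIso_homologyMap _ i).2 ?_
  exact good (⟨app, natural⟩ : Map I T Φ J) d B
    (fun n => inferInstanceAs (IsIso (HomologicalComplex.homologyMap (app (BidualCx.rk1 0)) n))) K hK i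

end Groth.L29.Compare
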