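import Groth.Agent.L29.Dual.AffineEv
import Groth.Agent.L29.DCoh.EvalMain
import Groth.Agent.L29.Dual.CompareMain

/-!
The comparison of `Hom•(F, I)~` with the internal Hom complex of `F~` into `I~`.
-/

set_option autoImplicit false
set_option backward.defeqAttrib.useBackward true
set_option backward.isDefEq.respectTransparency false
set_option backward.isDefEq.respectTransparency.types false
set_option linter.style.haveILetI false

universe u

open CategoryTheory CategoryTheory.Limits MonoidalCategory CochainComplex CochainComplex.HomComplex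
  AlgebraicGeometry

attribute [local instance] HasDerivedCategory.standard

namespace Groth.L29.AffineDual

open Groth.L29.DC Groth.L29.AffineEv

variable {R : CommRingCat.{u}}

theorem homEquiv_mate {D : Type*} [Category D] [Preadditive D] {F₁ R₁ F₂ R₂ : D ⥤ D} (a₁ : F₁ ⊣ R₁) (a₂ : F₂ ⊣ R₂)
    (τ : F₁ ⟶ F₂) {Z₁ Z₂ L : D} (f : Z₂ ⟶ Z₁) (β₁ : F₁.obj Z₁ ⟶ L) (β₂ : F₂.obj Z₂ ⟶ L)
    (h : F₁.map f ≫ β₁ = τ.app Z₂ ≫ β₂) :
    f ≫ a₁.homEquiv Z₁ L β₁ = a₂.homEquiv Z₂ L β₂ ≫ RHomExact.mate a₁ a₂ τ L := by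
  apply (a₁.homEquiv _ _).symm.injective
  rw [Adjunction.homEquiv_naturality_left_symm, RHomExact.symm_comp_mate, Equiv.symm_apply_apply,
    Equiv.symm_apply_apply, h]

theorem bridge₁ {X : Scheme.{u}} {K K' : CochainComplex X.Modules ℤ} (f : K ⟶ K') (L : CochainComplex X.Modules ℤ) :
    ((Eval.PhiR X).obj L).map f = HomologicalComplex.mapBifunctorMap f (𝟙 L) (DCoh.tensorBi (X := X)) (ComplexShape.up ℤ) := rfl
theorem bridge₂ {X : Scheme.{u}} {L L' : CochainComplex X.Modules ℤ} (K : CochainComplex X.Modules ℤ) (g : L ⟶ L') :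
    ((Eval.PhiR X).map g).app K = HomologicalComplex.mapBifunctorMap (𝟙 K) g (DCoh.tensorBi (X := X)) (ComplexShape.up ℤ) := rfl
theorem bridge₃ {K K' : DRing.Cx R} (f : K ⟶ K') (L : DRing.Cx R) :
    f ▷ L = HomologicalComplex.mapBifunctorMap f (𝟙 L) (curriedTensor (ModuleCat.{u} R)) (ComplexShape.up ℤ) := rfl
theorem bridge₄ {L L' : DRing.Cx R} (K : DRing.Cx R) (g : L ⟶ L') :
    K ◁ g = HomologicalComplex.mapBifunctorMap (𝟙 K) g (curriedTensor (ModuleCat.{u} R)) (ComplexShape.up ℤ) := rfl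
theorem θnat₁ {K K' : DRing.Cx R} (f : K ⟶ K') (L : DRing.Cx R) :
    ((Eval.PhiR (Spec R)).obj ((ModRes.tCx R).obj L)).map ((ModRes.tCx R).map f) ≫ (tildeTensorCxIso K' L).hom =
      (tildeTensorCxIso K L).hom ≫ (ModRes.tCx R).map (f ▷ L) := by
  have h := AffineEv.tildeTensorCxIso_natural f (𝟙 L)
  rw [CategoryTheory.Functor.map_id] at h
  rw [bridge₁, bridge₃]
  exact h
theorem θnat₂ (K : DRing.Cx R) {L L' : DRing.Cx R} (g : L ⟶ L') :
    ((Eval.PhiR (Spec R)).map ((ModRes.tCx R).map g)).app ((ModRes.tCx R).obj K) ≫ (tildeTensorCxIso K L').hom =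
      (tildeTensorCxIso K L).hom ≫ (ModRes.tCx R).map (K ◁ g) := by
  have h := AffineEv.tildeTensorCxIso_natural (𝟙 K) g
  rw [CategoryTheory.Functor.map_id] at h
  rw [bridge₂, bridge₄]
  exact h


theorem β_natural {F G I : DRing.Cx R} (g : F ⟶ G) :
    ((Eval.PhiR (Spec R)).obj ((ModRes.tCx R).obj F)).map
        ((ModRes.tCx R).map (Groth.L10.RHomCx.homCxPre g I)) ≫ ((tildeTensorCxIso (DRing.homCx F I) F).hom ≫ (ModRes.tCx R).map (ev F I)) =
      ((Eval.PhiR (Spec R)).map ((ModRes.tCx R).map g)).app ((ModRes.tCx R).obj (DRing.homCx G I)) ≫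
        ((tildeTensorCxIso (DRing.homCx G I) G).hom ≫ (ModRes.tCx R).map (ev G I)) := by
  rw [← Category.assoc, θnat₁, Category.assoc, ← Functor.map_comp, ev_natural, Functor.map_comp, ← Category.assoc,
    ← Category.assoc, θnat₂]

theorem α_natural {F G : DRing.Cx R} (I : DRing.Cx R) (g : F ⟶ G) :
    (ModRes.tCx R).map (Groth.L10.RHomCx.homCxPre g I) ≫
        ((HomCx.adj (Eval.PhiR (Spec R)) ((ModRes.tCx R).obj F)).homEquiv ((ModRes.tCx R).obj (DRing.homCx F I)) ((ModRes.tCx R).obj I) ((tildeTensorCxIso (DRing.homCx F I) F).hom ≫ (ModRes.tCx R).map (ev F I))) =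
      ((HomCx.adj (Eval.PhiR (Spec R)) ((ModRes.tCx R).obj G)).homEquiv ((ModRes.tCx R).obj (DRing.homCx G I)) ((ModRes.tCx R).obj I) ((tildeTensorCxIso (DRing.homCx G I) G).hom ≫ (ModRes.tCx R).map (ev G I))) ≫
        RHomExact.mate (HomCx.adj (Eval.PhiR (Spec R)) ((ModRes.tCx R).obj F))
          (HomCx.adj (Eval.PhiR (Spec R)) ((ModRes.tCx R).obj G))
          ((Eval.PhiR (Spec R)).map ((ModRes.tCx R).map g)) ((ModRes.tCx R).obj I) :=
  homEquiv_mate _ _ _ _ _ _ (β_natural g)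

end Groth.L29.AffineDual
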