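import Groth.Agent.L29.Dual.AffineAlpha

/-!
`Hom•(K, I)~ ⟶ Hom•(K~, I~)` is a quasi-isomorphism on an affine Noetherian scheme, for `K` with finite cohomology.
-/

set_option autoImplicit false
set_option backward.defeqAttrib.useBackward true
set_option backward.isDefEq.respectTransparency false
set_option backward.isDefEq.respectTransparency.types false
set_option linter.style.haveILetI false

universe u

open CategoryTheory CategoryTheory.Limits MonoidalCategory CochainComplex AlgebraicGeometry

attribute [local instance] HasDerivedCategory.standard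

namespace Groth.L29.AffineDual

open Groth.L29.DC Groth.L29.AffineEv

variable {R : CommRingCat.{u}} (I : DRing.Cx R)

theorem bounds [((ModRes.tCx R).obj I).IsKInjective] {a b : ℤ} (hI : DRing.VanishesOutside I a b) :
    Compare.Bounds I (Eval.PhiR (Spec R)) ((ModRes.tCx R).obj I) a b :=
  Compare.bounds I (DCoh.tensorBi (X := Spec R)) ((ModRes.tCx R).obj I) hI
    (fun _ h => (tilde.functor R).map_isZero h) (EvalMain.acyclic_H ((ModRes.tCx R).obj I))

theorem isEquivalence_tensorRight : (tensorRight (BidualCx.rk1 (A := R) 0)).IsEquivalence :=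
  haveI : (tensorRight (𝟙_ (DRing.Cx R))).IsEquivalence :=
    Functor.isEquivalence_of_iso (rightUnitorNatIso (DRing.Cx R)).symm
  this

theorem isIso_ev_rk1 : IsIso (ev (BidualCx.rk1 (A := R) 0) I) := by
  haveI := isEquivalence_tensorRight (R := R)
  refine DevGen.isIso_of_bijective (tensorRight (BidualCx.rk1 (A := R) 0)) _ fun Q => ?_
  have h := uncurry_bijective (Q := Q) (F := (BidualCx.rk1 (A := R) 0)) (I := I)
  rwa [show (uncurry : (Q ⟶ DRing.homCx (BidualCx.rk1 (A := R) 0) I) → _) = fun f => (f ▷ _) ≫ ev _ I from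
    funext uncurry_eq] at h

theorem rk1TildeIso : Nonempty ((ModRes.tCx R).obj (BidualCx.rk1 (A := R) 0) ≅ RHom.O0 (Spec R)) :=
  ⟨(HomologicalComplex.singleMapHomologicalComplex (tilde.functor R) (ComplexShape.up ℤ) 0).app (ModuleCat.of R R) ≪≫
    (HomologicalComplex.single (Spec R).Modules (ComplexShape.up ℤ) 0).mapIso
      (tildeSelf : tilde (ModuleCat.of R R) ≅ Coh.structureModule (Spec R))⟩

theorem isEquivalence_Phi :
    ((Eval.PhiR (Spec R)).obj ((ModRes.tCx R).obj (BidualCx.rk1 (A := R) 0))).IsEquivalence := by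
  obtain ⟨e⟩ := rk1TildeIso (R := R)
  exact Functor.isEquivalence_of_iso ((Eval.PhiR (Spec R)).mapIso e ≪≫ RHom.unitCxIso).symm

theorem isIso_α_rk1 : IsIso ((HomCx.adj (Eval.PhiR (Spec R)) ((ModRes.tCx R).obj (BidualCx.rk1 (A := R) 0))).homEquiv ((ModRes.tCx R).obj (DRing.homCx (BidualCx.rk1 (A := R) 0) I)) ((ModRes.tCx R).obj I) ((tildeTensorCxIso (DRing.homCx (BidualCx.rk1 (A := R) 0) I) (BidualCx.rk1 (A := R) 0)).hom ≫ (ModRes.tCx R).map (ev (BidualCx.rk1 (A := R) 0) I))) := by
  haveI := isEquivalence_Phi (R := R)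
  haveI := isIso_ev_rk1 I
  haveI : IsIso ((ModRes.tCx R).map (ev (BidualCx.rk1 (A := R) 0) I)) := inferInstance
  haveI : IsIso ((tildeTensorCxIso (DRing.homCx (BidualCx.rk1 (A := R) 0) I) (BidualCx.rk1 (A := R) 0)).hom ≫ (ModRes.tCx R).map (ev (BidualCx.rk1 (A := R) 0) I)) := IsIso.comp_isIso
  exact DevGen.isIso_homEquiv _ _

variable [IsNoetherianRing R]

/-- bijectivity on cohomology -/
theorem quasiIso_α [∀ n, Injective (I.X n)] [I.IsKInjective] [((ModRes.tCx R).obj I).IsKInjective] {a b : ℤ}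
    (hI : DRing.VanishesOutside I a b) (K : DRing.Cx R)
    (hK : ∀ i, Module.Finite R (Dual.HD R (DRing.toD K) i)) : QuasiIso ((HomCx.adj (Eval.PhiR (Spec R)) ((ModRes.tCx R).obj K)).homEquiv ((ModRes.tCx R).obj (DRing.homCx K I)) ((ModRes.tCx R).obj I) ((tildeTensorCxIso (DRing.homCx K I) K).hom ≫ (ModRes.tCx R).map (ev K I))) := by
  haveI := Groth.L18.TildeF.tilde_preservesFiniteLimits (R := R)
  haveI : PreservesColimitsOfSize.{u, u} (tilde.functor R) :=
    (tilde.adjunction (R := R)).leftAdjoint_preservesColimits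
  haveI : PreservesColimitsOfSize.{0, 0} (tilde.functor R) := preservesColimitsOfSize_shrink.{0, u, 0, u} _
  haveI : PreservesFiniteColimits (tilde.functor R) :=
    PreservesColimitsOfSize.preservesFiniteColimits.{0, 0} _
  haveI : Functor.Additive (D := (Spec R).Modules) (tilde.functor R) :=
    @inferInstance ((tilde.functor R).Additive) _
  exact Compare.quasiIso_of_base (C := (Spec R).Modules) (catC := Scheme.Modules.instCategory)
    (abC := Scheme.Modules.instAbelian) I (tilde.functor R) (ModRes.tCx R) rfl (Eval.PhiR (Spec R))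
    (Eval.dataR (Spec R)) ((ModRes.tCx R).obj I) (bounds I hI)
    (fun F => ((HomCx.adj (Eval.PhiR (Spec R)) ((ModRes.tCx R).obj F)).homEquiv ((ModRes.tCx R).obj (DRing.homCx F I)) ((ModRes.tCx R).obj I) ((tildeTensorCxIso (DRing.homCx F I) F).hom ≫ (ModRes.tCx R).map (ev F I)))) (fun g => α_natural I g) (isIso_α_rk1 I) K hK

end Groth.L29.AffineDual
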