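import Groth.Agent.S1823
import Groth.Agent.L29.Dual.InvertibleChart
import Groth.Agent.L29.Dual.SchCharts
import Groth.Agent.L29.Dual.Unique
import Groth.Agent.L29.Dual.DualFlat
import Groth.Agent.L29.DCoh.EvalMain
import Groth.Agent.L29.DCoh.PCNoeth
import Groth.Agent.L29.DCoh.ExtZeroD
import Groth.Agent.L29.BC.AdjTensor
import Groth.Agent.L07.BvdB.DualFun
import Groth.Agent.L10.ShriekLoc.Dualizing

/-!
Two dualizing complexes on a scheme differ by an invertible object.
-/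

set_option autoImplicit false
set_option backward.defeqAttrib.useBackward true
set_option backward.isDefEq.respectTransparency false
set_option backward.isDefEq.respectTransparency.types false
set_option linter.style.haveILetI false

universe u

open CategoryTheory CategoryTheory.Limits CategoryTheory.Pretriangulated AlgebraicGeometry
open scoped TensorProduct

attribute [local instance] HasDerivedCategory.standard

noncomputable section

namespace Groth.L29.SchUnique

open Groth.L00 Groth.L29.DC Groth.L29.HomD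

section Ring

variable {A : Type u} [CommRing A] [IsNoetherianRing A]

/-- dualizing complexes agree up to a shift near every prime -/
theorem exists_local_shift {ω ω' : Dual.D A} (hω : Dual.IsDualizing A ω) (hω' : Dual.IsDualizing A ω')
    (p : PrimeSpectrum A) :
    ∃ g ∉ p.asIdeal, ∃ n : ℤ, ∀ [Module.Flat A (Localization.Away g)],
      Nonempty ((FlatBC.L A (Localization.Away g)).obj ω' ≅ ((FlatBC.L A (Localization.Away g)).obj ω)⟦n⟧) := by
  let B := Localization.AtPrime p.asIdeal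
  haveI : Module.Flat A B := IsLocalization.flat _ p.asIdeal.primeCompl
  obtain ⟨n, ⟨e₀⟩⟩ := Unique.exists_shift_iso
    (FlatBC.isDualizing_L_localization (B := B) p.asIdeal.primeCompl hω)
    (FlatBC.isDualizing_L_localization (B := B) p.asIdeal.primeCompl hω')
  let e : (FlatBC.L A B).obj ω' ≅ (FlatBC.L A B).obj (ω⟦n⟧) :=
    e₀ ≪≫ (((FlatBC.L A B).commShiftIso n).app ω).symm
  obtain ⟨a, b, hab⟩ := hω.finite_injective_dimension
  obtain ⟨a', b', hab'⟩ := hω'.finite_injective_dimension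
  haveI := isGE_of_lower a fun M _ _ i hi => hab M i (Or.inl hi)
  haveI := isGE_of_lower a' fun M _ _ i hi => hab' M i (Or.inl hi)
  haveI : DerivedCategory.IsLE ω b := (DerivedCategory.isLE_iff ω b).2 fun i hi => by
    haveI := hab A i (Or.inr hi)
    haveI : Subsingleton (Dual.HD A ω i) := (evalShiftEquiv ω i).symm.toEquiv.subsingleton
    exact ModuleCat.isZero_of_subsingleton _
  haveI : DerivedCategory.IsLE ω' b' := (DerivedCategory.isLE_iff ω' b').2 fun i hi => by
    haveI := hab' A i (Or.inr hi)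
    haveI : Subsingleton (Dual.HD A ω' i) := (evalShiftEquiv ω' i).symm.toEquiv.subsingleton
    exact ModuleCat.isZero_of_subsingleton _
  haveI : DerivedCategory.IsGE (ω⟦n⟧) (a - n) :=
    DerivedCategory.TStructure.t.isGE_shift ω a n (a - n) (by omega)
  have hiso : FlatBC.Iso' B ω' (ω⟦n⟧) := FlatBC.iso'_of_iso ((shiftFunctorZero (Dual.D A) ℤ).app ω')
    (FlatBC.allShift_bounded (ω⟦n⟧) (a - n) ω' a' b' hω'.finite_cohomology 0)
  obtain ⟨t, ht⟩ := hiso.2 e.hom
  obtain ⟨z, rfl⟩ := (LocalizedModule.equivTensorProduct p.asIdeal.primeCompl _).surjective t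
  induction z using LocalizedModule.induction_on with
  | _ ψ s =>
  have hz : LocalizedModule.equivTensorProduct p.asIdeal.primeCompl _ (LocalizedModule.mk ψ s) =
      (Localization.mk 1 s : B) ⊗ₜ[A] ψ := by
    rw [← LinearEquiv.eq_symm_apply, LocalizedModule.equivTensorProduct_symm_apply_tmul, one_smul]
  rw [hz, FlatBC.theta_tmul] at ht
  let u : B := Localization.mk 1 s
  let v : B := algebraMap A B s
  have huv : v * u = 1 := by
    change algebraMap A (Localization p.asIdeal.primeCompl) (s : A) * Localization.mk 1 s = 1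
    rw [← Localization.mk_one_eq_algebraMap, Localization.mk_mul, mul_one, one_mul]
    exact Localization.mk_self s
  have hψ : (FlatBC.L A B).map ψ = v • e.hom := by
    rw [← ht, smul_smul, huv, one_smul]
  haveI : IsIso ((FlatBC.L A B).map ψ) := by
    rw [hψ]
    refine ⟨u • e.inv, ?_, ?_⟩
    · rw [Linear.comp_smul, Linear.smul_comp, smul_smul, mul_comm u v, huv, one_smul, e.hom_inv_id]
    · rw [Linear.smul_comp, Linear.comp_smul, smul_smul, mul_comm u v, huv, one_smul, e.inv_hom_id]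
  obtain ⟨C, f₂, f₃, hT⟩ := distinguished_cocone_triangle ψ
  have hTL := (FlatBC.L A B).map_distinguished _ hT
  have hz0 : IsZero ((FlatBC.L A B).obj C) :=
    (Triangle.isZero₃_iff_isIso₁ _ hTL).2 (inferInstanceAs (IsIso ((FlatBC.L A B).map ψ)))
  let H := fun j => DerivedCategory.homologyFunctor (ModuleCat.{u} A) j
  have hn : ∀ j, Module.Finite A (Dual.HD A (ω⟦n⟧) j) := fun j => by
    haveI := hω.finite_cohomology (n + j)
    exact Module.Finite.equiv
      ((Groth.L10.hShiftIso (A := ModuleCat.{u} A) ω n j (n + j) rfl).toLinearEquiv.symm)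
  have hfin : ∀ j, Module.Finite A (Dual.HD A C j) := fun j => by
    haveI := hn j
    haveI := hω'.finite_cohomology (j + 1)
    haveI : IsNoetherian A ((H j).obj (ω⟦n⟧)) := inferInstanceAs (IsNoetherian A (Dual.HD A (ω⟦n⟧) j))
    haveI : IsNoetherian A ((DerivedCategory.homologyFunctor (ModuleCat.{u} A) (j + 1)).obj
        (Triangle.mk ψ f₂ f₃).obj₁) := inferInstanceAs (IsNoetherian A (Dual.HD A ω' (j + 1)))
    haveI : IsNoetherian A ((H j).obj C) := by
      refine isNoetherian_of_range_eq_ker ((H j).map f₂).hom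
        (DerivedCategory.HomologySequence.δ (Triangle.mk ψ f₂ f₃) j (j + 1) rfl).hom ?_
      refine le_antisymm ?_ fun y hy => (ShortComplex.moduleCat_exact_iff _).1
        (DerivedCategory.HomologySequence.exact₃ _ hT j (j + 1) rfl) y hy
      rintro _ ⟨z, rfl⟩
      exact LinearMap.congr_fun (congrArg ModuleCat.Hom.hom
        (DerivedCategory.HomologySequence.comp_δ (Triangle.mk ψ f₂ f₃) hT j (j + 1) rfl)) z
    exact inferInstanceAs (Module.Finite A ((H j).obj C))
  have hkill : ∀ j, ∃ g ∉ p.asIdeal, ∀ y : Dual.HD A C j, g • y = 0 := fun j => by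
    haveI := hfin j
    haveI : Subsingleton (Dual.HD B ((FlatBC.L A B).obj C) j) :=
      ModuleCat.subsingleton_of_isZero ((DerivedCategory.homologyFunctor _ j).map_isZero hz0)
    haveI : Subsingleton (B ⊗[A] Dual.HD A C j) := (FlatBC.hEquiv A B C j).symm.toEquiv.subsingleton
    have hp : p ∉ Module.support A (Dual.HD A C j) := Module.notMem_support_iff.2
      (LocalizedModule.equivTensorProduct p.asIdeal.primeCompl _).toEquiv.subsingleton
    rw [Module.support_eq_zeroLocus] at hp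
    obtain ⟨g, hg, hgp⟩ := Set.not_subset.1 hp
    exact ⟨g, hgp, fun y => Module.mem_annihilator.1 hg y⟩
  choose G hG hGk using hkill
  let lo := min (a' - 1) (a - n)
  let hi := max b' (b - n)
  let g := ∏ j ∈ Finset.Icc lo hi, G j
  have hg : g ∉ p.asIdeal := fun h => by
    obtain ⟨j, -, hj⟩ := (Ideal.IsPrime.prod_mem_iff).1 h
    exact hG j hj
  have hout : ∀ j, (j < lo ∨ hi < j) → IsZero ((H j).obj C) := fun j hj => by
    have h0 : IsZero ((H j).obj (ω⟦n⟧)) := by
      refine IsZero.of_iso ?_ (Groth.L10.hShiftIso (A := ModuleCat.{u} A) ω n j (n + j) rfl)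
      rcases hj with hj | hj
      · exact DerivedCategory.isZero_of_isGE ω a _ (by omega)
      · exact DerivedCategory.isZero_of_isLE ω b _ (by omega)
    have h1 : IsZero ((H (j + 1)).obj ω') := by
      rcases hj with hj | hj
      · exact DerivedCategory.isZero_of_isGE ω' a' _ (by omega)
      · exact DerivedCategory.isZero_of_isLE ω' b' _ (by omega)
    exact (DerivedCategory.HomologySequence.exact₃ _ hT j (j + 1) rfl).isZero_of_both_zeros
      (h0.eq_of_src _ _) (h1.eq_of_tgt _ _)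
  refine ⟨g, hg, n, fun {_} => ?_⟩
  let B' := Localization.Away g
  have hk : ∀ (j : ℤ) (y : Dual.HD A C j), g • y = 0 := fun j y => by
    by_cases hj : j ∈ Finset.Icc lo hi
    · obtain ⟨c, hc⟩ := Finset.dvd_prod_of_mem G hj
      change (∏ j ∈ Finset.Icc lo hi, G j) • y = 0
      rw [hc, mul_comm, mul_smul, hGk, smul_zero]
    · rw [Finset.mem_Icc] at hj
      haveI := ModuleCat.subsingleton_of_isZero (hout j (by omega))
      exact Subsingleton.elim _ _
  have hzero : IsZero ((FlatBC.L A B').obj C) := TildeAlg.isZero_of_homology _ fun j => by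
    haveI : Subsingleton (B' ⊗[A] Dual.HD A C j) := subsingleton_of_forall_eq 0 fun z => by
      induction z with
      | zero => rfl
      | add x y hx hy => rw [hx, hy, add_zero]
      | tmul x y =>
        obtain ⟨w, hw⟩ := (IsLocalization.Away.algebraMap_isUnit (S := B') g).exists_right_inv
        have hx : x = g • (w * x) := by rw [Algebra.smul_def, ← mul_assoc, hw, one_mul]
        rw [hx, TensorProduct.smul_tmul, hk, TensorProduct.tmul_zero]
    haveI : Subsingleton (Dual.HD B' ((FlatBC.L A B').obj C) j) :=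
      (FlatBC.hEquiv A B' C j).toEquiv.subsingleton
    exact ModuleCat.isZero_of_subsingleton _
  haveI : IsIso ((FlatBC.L A B').map ψ) :=
    (Triangle.isZero₃_iff_isIso₁ _ ((FlatBC.L A B').map_distinguished _ hT)).1 hzero
  exact ⟨asIso ((FlatBC.L A B').map ψ) ≪≫ ((FlatBC.L A B').commShiftIso n).app ω⟩

end Ring

attribute [local instance] KFlat.hasLTensorCx RHom.hasRSheafHom

variable {X : Scheme.{u}}

local notation "OD" => fun X => DCoh.inD X (Coh.structureModule X)

/-- the structure sheaf complex -/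
def o0Iso (X : Scheme.{u}) : DerivedCategory.Q.obj (RHom.O0 X) ≅ DCoh.inD X (Coh.structureModule X) :=
  (((SingleFunctors.evaluation _ _ 0).mapIso
    (DerivedCategory.singleFunctorsPostcompQIso X.Modules)).app (Coh.structureModule X)).symm

/-- a shift of the structure sheaf -/
def oShiftIso (X : Scheme.{u}) (m : ℤ) :
    DCoh.toD X ((RHom.O0 X)⟦m⟧) ≅ (DCoh.inD X (Coh.structureModule X))⟦m⟧ :=
  (DerivedCategory.Q.commShiftIso m).app _ ≪≫ (shiftFunctor _ m).mapIso (o0Iso X)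

theorem nonempty_RSheafHom_shift_unit (m : ℤ) (K : DCoh.D X) :
    Nonempty ((DCoh.RSheafHom ((RHom.O0 X)⟦m⟧)).obj K ≅ K⟦-m⟧) := by
  let Q := DerivedCategory.Q (C := X.Modules)
  let O := RHom.O0 X
  have hO : DCoh.IsKFlat O := isKFlat_of_isStrictlyPerfect RHom.isStrictlyPerfect_O0
  have hOn : DCoh.IsKFlat (O⟦m⟧) := KFlat.shift O m hO
  let e : Q ⋙ DCoh.LTensorCx (O⟦m⟧) ≅ Q ⋙ shiftFunctor (DCoh.D X) m ⋙ DCoh.LTensorCx O :=
    Assoc.allIso _ hOn ≪≫ Functor.isoWhiskerRight (Groth.L07.BvdB.DualFun.tensorShiftIso O m) _ ≪≫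
      Functor.associator _ _ _ ≪≫ Functor.isoWhiskerLeft _ (Assoc.allIso O hO).symm ≪≫
      (Functor.associator _ _ _).symm ≪≫ Functor.isoWhiskerRight (DerivedCategory.Q.commShiftIso m) _ ≪≫
      Functor.associator _ _ _
  let t : DCoh.LTensorCx (O⟦m⟧) ≅ shiftFunctor (DCoh.D X) m ⋙ DCoh.LTensorCx O :=
    Localization.liftNatIso Q (HomologicalComplex.quasiIso X.Modules (ComplexShape.up ℤ))
      (Q ⋙ DCoh.LTensorCx (O⟦m⟧)) (Q ⋙ shiftFunctor (DCoh.D X) m ⋙ DCoh.LTensorCx O) _ _ e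
  let a := ((shiftEquiv (DCoh.D X) m).toAdjunction.comp (DCoh.RSheafHomAdj O)).ofNatIsoLeft t.symm
  obtain ⟨u⟩ := RHom.nonempty_RSheafHom_O0 (X := X)
  exact ⟨((DCoh.RSheafHomAdj (O⟦m⟧)).rightAdjointUniq a).app _ ≪≫ (shiftFunctor _ (-m)).mapIso (u.app K)⟩

theorem cohD_shift_unit [IsLocallyNoetherian X] (m : ℤ) : DCoh.IsCohD (DCoh.toD X ((RHom.O0 X)⟦m⟧)) := fun i =>
  Groth.L16.CohSupport.isCoh_of_iso
    ((Groth.L10.hShiftIso (A := X.Modules) (DerivedCategory.Q.obj (RHom.O0 X)) m i (m + i) rfl).symm ≪≫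
      (DerivedCategory.homologyFunctor _ i).mapIso ((DerivedCategory.Q.commShiftIso m).app _).symm)
    (PCNoeth.coh_of_pc (E := DerivedCategory.Q.obj (RHom.O0 X))
      (BC.AdjTensor.isQCohD_O0) (pc_of_perfect BC.AdjTensor.isPerfect_O0 (m + i)) _ le_rfl)

variable [∀ (U V : Scheme.{u}) (j : U ⟶ V) [IsOpenImmersion j], PreservesFiniteLimits (Scheme.Modules.restrictFunctor j)]
  [∀ (R : CommRingCat.{u}), PreservesFiniteLimits (tilde.functor R)]

theorem isDualizingSch_restrict {U : Scheme.{u}} (j : U ⟶ X) [IsOpenImmersion j] {K : DCoh.D X}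
    (hK : Dual2.IsDualizingSch X K) : Dual2.IsDualizingSch U ((DCoh.restrictD j).obj K) := fun A _ k _ => by
  obtain ⟨ω, hω, ⟨e⟩⟩ := hK A (k ≫ j)
  exact ⟨ω, hω, ⟨(resTransD j k (k ≫ j) rfl).app K ≪≫ e⟩⟩

/-- `RHom(K[m], K)` is a shift of the structure sheaf -/
theorem nonempty_RHom_shift [IsLocallyNoetherian X] {K : DCoh.D X} (hK : Dual2.IsDualizingSch X K) (m : ℤ)
    (E : CochainComplex X.Modules ℤ) (e : DCoh.toD X E ≅ K⟦m⟧) :
    Nonempty ((DCoh.RSheafHom E).obj K ≅ (DCoh.inD X (Coh.structureModule X))⟦-m⟧) := by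
  obtain ⟨a⟩ := nonempty_RSheafHom_shift_unit (X := X) (-m) K
  obtain ⟨b⟩ := (Groth.Agent.S1823.result X K hK ((RHom.O0 X)⟦-m⟧) (cohD_shift_unit (-m))).2 E
    ⟨e ≪≫ eqToIso (by rw [neg_neg]) ≪≫ a.symm⟩
  exact ⟨b ≪≫ oShiftIso X (-m)⟩

/-- near every point two dualizing complexes differ by a shift -/
theorem exists_chart_shift [IsLocallyNoetherian X] {K K' : DCoh.D X} (hK : Dual2.IsDualizingSch X K)
    (hK' : Dual2.IsDualizingSch X K') (x : X) :
    ∃ (W : Scheme.{u}) (k : W ⟶ X) (_ : IsOpenImmersion k) (n : ℤ), x ∈ Set.range k ∧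
      Nonempty ((DCoh.restrictD k).obj K' ≅ ((DCoh.restrictD k).obj K)⟦n⟧) := by
  obtain ⟨_, ⟨U, hU, rfl⟩, hxU, -⟩ :=
    X.isBasis_affineOpens.exists_subset_of_mem_open (Set.mem_univ x) isOpen_univ
  obtain ⟨ω, hω, ⟨e⟩⟩ := hK Γ(X, U) hU.fromSpec
  obtain ⟨ω', hω', ⟨e'⟩⟩ := hK' Γ(X, U) hU.fromSpec
  haveI : IsNoetherianRing Γ(X, U) := IsLocallyNoetherian.component_noetherian ⟨U, hU⟩
  obtain ⟨q, hq⟩ := hU.opensRange_fromSpec.ge hxU
  subst hq
  obtain ⟨g, hg, n, h⟩ := exists_local_shift hω hω' q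
  let R : CommRingCat.{u} := Γ(X, U)
  let S : CommRingCat.{u} := CommRingCat.of (Localization.Away g)
  letI : Algebra R S := inferInstanceAs (Algebra Γ(X, U) (Localization.Away g))
  haveI : IsLocalization.Away g (S : Type u) := inferInstanceAs (IsLocalization.Away g (Localization.Away g))
  haveI : Module.Flat R S := IsLocalization.flat _ (Submonoid.powers g)
  let i : Spec S ⟶ Spec R := Spec.map (CommRingCat.ofHom (algebraMap R S))
  haveI : IsOpenImmersion i := IsOpenImmersion.of_isLocalization g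
  haveI : IsOpenImmersion (Spec.map (CommRingCat.ofHom (algebraMap R S))) := ‹IsOpenImmersion i›
  obtain ⟨f⟩ := @h (IsLocalization.flat _ (Submonoid.powers g))
  obtain ⟨a⟩ := SchCharts.nonempty_restrict_tilde (R := R) (S := S) ω
  obtain ⟨a'⟩ := SchCharts.nonempty_restrict_tilde (R := R) (S := S) ω'
  have hx : hU.fromSpec q ∈ Set.range (i ≫ hU.fromSpec) := by
    obtain ⟨r, hr⟩ : q ∈ Set.range i := by
      have hrange : Set.range i = (PrimeSpectrum.basicOpen g : Set (PrimeSpectrum R)) :=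
        PrimeSpectrum.localization_away_comap_range (S : Type u) g
      rw [hrange]
      exact hg
    exact ⟨r, by rw [Scheme.Hom.comp_apply, hr]⟩
  exact ⟨Spec S, i ≫ hU.fromSpec, inferInstance, n, hx,
    ⟨((resTransD hU.fromSpec i _ rfl).app K').symm ≪≫ (DCoh.restrictD i).mapIso e' ≪≫ a' ≪≫
      (DCoh.tildeD S).mapIso f ≪≫ ((DCoh.tildeD S).commShiftIso n).app _ ≪≫
      (shiftFunctor _ n).mapIso (a.symm ≪≫ (DCoh.restrictD i).mapIso e.symm ≪≫
        (resTransD hU.fromSpec i _ rfl).app K)⟩⟩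

theorem restrict_RSheafHom {U : Scheme.{u}} (j : U ⟶ X) [IsOpenImmersion j] (E : CochainComplex X.Modules ℤ)
    (L : DCoh.D X) :
    Nonempty ((DCoh.restrictD j).obj ((DCoh.RSheafHom E).obj L) ≅
      (DCoh.RSheafHom ((ExtZero.rCx j).obj E)).obj ((DCoh.restrictD j).obj L)) := by
  haveI : PreservesFiniteLimits (ExtZero.res j) :=
    inferInstanceAs (PreservesFiniteLimits (Scheme.Modules.restrictFunctor j))
  obtain ⟨i⟩ := ExtZero.nonempty_res_RSheafHom j E
  exact ⟨i.app L⟩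

/-- `RHom(K', K)` is invertible -/
theorem exists_chart_invertible [IsLocallyNoetherian X] {K K' : DCoh.D X} (hK : Dual2.IsDualizingSch X K)
    (hK' : Dual2.IsDualizingSch X K') (E : CochainComplex X.Modules ℤ) (eE : DCoh.toD X E ≅ K') (x : X) :
    ∃ (U : X.Opens) (m : ℤ), x ∈ U ∧ Nonempty ((DCoh.restrictD U.ι).obj ((DCoh.RSheafHom E).obj K) ≅
      (DCoh.inD (U : Scheme.{u}) (Coh.structureModule (U : Scheme.{u})))⟦m⟧) := by
  obtain ⟨W, k, hk, n, hx, ⟨e⟩⟩ := exists_chart_shift hK hK' x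
  haveI : IsLocallyNoetherian W := isLocallyNoetherian_of_isOpenImmersion k
  haveI : PreservesFiniteLimits (ExtZero.res k) :=
    inferInstanceAs (PreservesFiniteLimits (Scheme.Modules.restrictFunctor k))
  obtain ⟨r⟩ := restrict_RSheafHom k E K
  obtain ⟨s⟩ := nonempty_RHom_shift (isDualizingSch_restrict k hK) n ((ExtZero.rCx k).obj E)
    (((Scheme.Modules.restrictFunctor k).mapDerivedCategoryFactors.app E).symm ≪≫
      (DCoh.restrictD k).mapIso eE ≪≫ e)
  obtain ⟨V, hV, m, hm⟩ := exists_opens_of_on InvChart.ShiftUnit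
    (fun l _ _ h => InvChart.shiftUnit_res l h) (fun i h => InvChart.shiftUnit_iso i h)
    k hx ⟨-n, ⟨r ≪≫ s⟩⟩
  exact ⟨V, m, hV, hm⟩

theorem main [IsLocallyNoetherian X] {K K' : DCoh.D X} (hK : Dual2.IsDualizingSch X K)
    (hK' : Dual2.IsDualizingSch X K') :
    ∃ (E : CochainComplex X.Modules ℤ) (_ : DCoh.HasLTensorCx E), Dual3.IsInvertibleD (DCoh.toD X E) ∧
      Nonempty (K' ≅ (DCoh.LTensorCx E).obj K) := by
  let L₀ := DerivedCategory.Q.objPreimage K'
  let eL : DCoh.toD X L₀ ≅ K' := DerivedCategory.Q.objObjPreimageIso K'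
  have hinv := exists_chart_invertible hK hK' L₀ eL
  let M₀ := DerivedCategory.Q.objPreimage ((DCoh.RSheafHom L₀).obj K)
  let eM₀ : DCoh.toD X M₀ ≅ (DCoh.RSheafHom L₀).obj K := DerivedCategory.Q.objObjPreimageIso _
  have hq' : DCoh.IsCohD (DCoh.toD X L₀) := fun i => by
    refine Groth.L16.CohSupport.isCoh_of_iso ((DerivedCategory.homologyFunctor _ i).mapIso eL.symm) ?_
    refine Groth.L10.ShriekLoc.isCoh_dualizing K' hK' i
  obtain ⟨β⟩ := (Groth.Agent.S1823.result X K hK L₀ hq').2 M₀ ⟨eM₀⟩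
  have hMperf : DCoh.IsPerfect ((DCoh.RSheafHom L₀).obj K) := EvalMain.isPerfect_of_local fun x => by
    obtain ⟨U, m, hx, ⟨e⟩⟩ := hinv x
    exact ⟨U, hx, isPerfect_of_iso (e.symm)
      (perfect_shift (isPerfect_of_iso (o0Iso _) BC.AdjTensor.isPerfect_O0) m)⟩
  let M' := (KFlat.RF X).obj M₀
  have hM'flat : DCoh.IsKFlat M' := KFlat.isKFlat_RF M₀
  haveI : QuasiIso ((KFlat.rF X).app M₀) := KFlat.quasiIso_rF M₀
  let eM' : DCoh.toD X M' ≅ DCoh.toD X M₀ :=
    @asIso _ _ _ _ (DerivedCategory.Q.map ((KFlat.rF X).app M₀))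
      ((DerivedCategory.isIso_Q_map_iff_quasiIso _ _).2 inferInstance)
  obtain ⟨β'⟩ := EvalMain.nonempty_RSheafHom_iso (E := M') (E' := M₀) eM'
  let D := DerivedCategory.Q.objPreimage ((DCoh.RSheafHom M').obj (DCoh.toD X (RHom.O0 X)))
  let eD : DCoh.toD X D ≅ (DCoh.RSheafHom M').obj (DCoh.toD X (RHom.O0 X)) :=
    DerivedCategory.Q.objObjPreimageIso _
  let D' := (KFlat.RF X).obj D
  haveI : QuasiIso ((KFlat.rF X).app D) := KFlat.quasiIso_rF D
  let eD' : DCoh.toD X D' ≅ DCoh.toD X D :=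
    @asIso _ _ _ _ (DerivedCategory.Q.map ((KFlat.rF X).app D))
      ((DerivedCategory.isIso_Q_map_iff_quasiIso _ _).2 inferInstance)
  have hDinv : ∀ x : X, ∃ (U : X.Opens) (m : ℤ), x ∈ U ∧ Nonempty ((DCoh.restrictD U.ι).obj (DCoh.toD X D') ≅
      (DCoh.inD (U : Scheme.{u}) (Coh.structureModule (U : Scheme.{u})))⟦m⟧) := fun x => by
    obtain ⟨U, m, hx, ⟨e⟩⟩ := hinv x
    obtain ⟨r⟩ := restrict_RSheafHom U.ι M' (DCoh.toD X (RHom.O0 X))
    obtain ⟨s⟩ := EvalMain.nonempty_RSheafHom_iso (E := (ExtZero.rCx U.ι).obj M')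
      (E' := (RHom.O0 (U : Scheme.{u}))⟦m⟧)
      (((Scheme.Modules.restrictFunctor U.ι).mapDerivedCategoryFactors.app M').symm ≪≫
        (DCoh.restrictD U.ι).mapIso (eM' ≪≫ eM₀) ≪≫ e ≪≫ (oShiftIso _ m).symm)
    obtain ⟨t⟩ := nonempty_RSheafHom_shift_unit (X := (U : Scheme.{u})) m
      ((DCoh.restrictD U.ι).obj (DCoh.toD X (RHom.O0 X)))
    exact ⟨U, -m, hx, ⟨(DCoh.restrictD U.ι).mapIso (eD' ≪≫ eD) ≪≫ r ≪≫ s.app _ ≪≫ t ≪≫
      (shiftFunctor _ (-m)).mapIso ((DCoh.restrictD U.ι).mapIso (o0Iso X) ≪≫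
        ((Scheme.Modules.restrictFunctor U.ι).mapDerivedCategorySingleFunctor 0).app _ ≪≫
        (DerivedCategory.singleFunctor _ 0).mapIso (Scheme.Modules.restrictUnitIso U.ι))⟩⟩
  have hD'perf : DCoh.IsPerfect (DCoh.toD X D') := EvalMain.isPerfect_of_local fun x => by
    obtain ⟨U, m, hx, ⟨e⟩⟩ := hDinv x
    exact ⟨U, hx, isPerfect_of_iso (e.symm)
      (perfect_shift (isPerfect_of_iso (o0Iso _) BC.AdjTensor.isPerfect_O0) m)⟩
  -- `D'` has `M'` as dual
  obtain ⟨u⟩ := RHom.nonempty_RSheafHom_O0 (X := X)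
  obtain ⟨w₀⟩ := EvalMain.nonempty_eval M' (RHom.O0 X) D' hM'flat
    (isPerfect_of_iso (eM' ≪≫ eM₀).symm hMperf) ⟨eD' ≪≫ eD⟩ (DCoh.toD X (RHom.O0 X))
  let d : DCoh.toD X M' ≅ (DCoh.RSheafHom D').obj (DCoh.toD X (RHom.O0 X)) :=
    (DerivedCategory.Q.mapIso ((RHom.flipIso (RHom.O0 X) ≪≫ RHom.unitCxIso).app M')).symm ≪≫
      ((Assoc.allIso M' hM'flat).app (RHom.O0 X)).symm ≪≫ (DCoh.LTensorCx M').mapIso (u.app _).symm ≪≫ w₀
  obtain ⟨w⟩ := EvalMain.nonempty_eval D' (RHom.O0 X) M' (KFlat.isKFlat_RF D) hD'perf ⟨d⟩ K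
  exact ⟨D', inferInstance, hDinv, ⟨eL.symm ≪≫ β.symm ≪≫ β'.symm.app K ≪≫ w.symm ≪≫
    (DCoh.LTensorCx D').mapIso (u.app K)⟩⟩

end Groth.L29.SchUnique
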