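import Groth.Prelude.Def_CAlgX
import Groth.Agent.L02.InjFlat.Main
import Groth.Agent.L20.FibreFT
import Groth.Agent.L20.FlatLocusOpen
import Mathlib.RingTheory.Flat.Localization
import Mathlib.RingTheory.LocalRing.ResidueField.Ideal
import Mathlib.Algebra.Module.FinitePresentation
import Mathlib.RingTheory.IsTensorProduct
import Mathlib.RingTheory.Localization.BaseChange

/-!
Maps of finitely presented modules over a finitely presented algebra, injective on every fibre.
-/

set_option autoImplicit false
set_option maxSynthPendingDepth 3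
set_option linter.style.haveILetI false
universe u

open TensorProduct IsLocalRing

namespace Groth.L29.FlatInj

variable {A B : Type u} [CommRing A] [CommRing B] [Algebra A B] (p : Ideal A) [p.IsPrime]

/-- Every element of a fibre ring comes from the ring, up to an element outside the prime. -/
theorem exists_smul_eq_tmul (s : B ⊗[A] p.ResidueField) :
    ∃ a ∉ p, ∃ b : B, a • s = b ⊗ₜ[A] (1 : p.ResidueField) := by
  induction s using TensorProduct.induction_on with
  | zero => exact ⟨1, p.ne_top_iff_one.1 (Ideal.IsPrime.ne_top inferInstance), 0, by simp⟩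
  | tmul b k =>
    obtain ⟨n, d, hd, rfl⟩ := IsFractionRing.div_surjective (A ⧸ p) k
    obtain ⟨n, rfl⟩ := Ideal.Quotient.mk_surjective n
    obtain ⟨d, rfl⟩ := Ideal.Quotient.mk_surjective d
    have hd' : d ∉ p := fun h => by
      rw [Ideal.Quotient.eq_zero_iff_mem.2 h] at hd
      exact zero_notMem_nonZeroDivisors hd
    have hd0 : algebraMap (A ⧸ p) p.ResidueField (Ideal.Quotient.mk p d) ≠ 0 :=
      IsLocalization.to_map_ne_zero_of_mem_nonZeroDivisors _ le_rfl hd
    refine ⟨d, hd', n • b, ?_⟩
    rw [← TensorProduct.tmul_smul, TensorProduct.smul_tmul]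
    congr 1
    rw [Algebra.smul_def, Algebra.smul_def, mul_one,
      IsScalarTower.algebraMap_apply A (A ⧸ p) p.ResidueField,
      IsScalarTower.algebraMap_apply A (A ⧸ p) p.ResidueField]
    exact mul_div_cancel₀ _ hd0
  | add x y hx hy =>
    obtain ⟨a, ha, b, hb⟩ := hx
    obtain ⟨a', ha', b', hb'⟩ := hy
    refine ⟨a * a', fun h => (Ideal.IsPrime.mem_or_mem ‹_› h).elim ha ha', a' • b + a • b', ?_⟩
    rw [smul_add, mul_smul, mul_smul, smul_comm a a' x, hb, hb', TensorProduct.smul_tmul',
      TensorProduct.smul_tmul', ← TensorProduct.add_tmul]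

/-- An element of the ring vanishing on the fibre is killed modulo the prime outside it. -/
theorem exists_mul_mem_of_tmul_eq_zero (b : B) (h : b ⊗ₜ[A] (1 : p.ResidueField) = 0) :
    ∃ a ∉ p, algebraMap A B a * b ∈ p.map (algebraMap A B) := by
  let J := p.map (algebraMap A B)
  let W := Localization (Algebra.algebraMapSubmonoid (B ⧸ J) p.primeCompl)
  have hker : p ≤ RingHom.ker (algebraMap A W) := fun r hr => by
    rw [RingHom.mem_ker, IsScalarTower.algebraMap_apply A (B ⧸ J) W, IsScalarTower.algebraMap_apply A B (B ⧸ J),
      show algebraMap B (B ⧸ J) (algebraMap A B r) = 0 from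
        Ideal.Quotient.eq_zero_iff_mem.2 (Ideal.mem_map_of_mem _ hr), map_zero]
  have hunit : p.primeCompl ≤ (IsUnit.submonoid W).comap (algebraMap A W) := fun r hr => by
    show IsUnit (algebraMap A W r)
    rw [IsScalarTower.algebraMap_apply A (B ⧸ J) W]
    exact IsLocalization.map_units W (⟨_, r, hr, rfl⟩ : Algebra.algebraMapSubmonoid (B ⧸ J) p.primeCompl)
  let κW : p.ResidueField →ₐ[A] W :=
    { Ideal.ResidueField.lift p (algebraMap A W) hker hunit with
      commutes' := fun r => Ideal.ResidueField.lift_algebraMap p (algebraMap A W) hker hunit r }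
  let χ : B ⊗[A] p.ResidueField →ₐ[A] W :=
    Algebra.TensorProduct.lift ((IsScalarTower.toAlgHom A (B ⧸ J) W).comp (Ideal.Quotient.mkₐ A J)) κW
      fun _ _ => Commute.all _ _
  have h1 : algebraMap (B ⧸ J) W (Ideal.Quotient.mk J b) = 0 := by
    have := congrArg χ h
    simpa [χ] using this
  obtain ⟨⟨_, a, ha, rfl⟩, hm⟩ :=
    (IsLocalization.map_eq_zero_iff (Algebra.algebraMapSubmonoid (B ⧸ J) p.primeCompl) W _).1 h1
  refine ⟨a, ha, Ideal.Quotient.eq_zero_iff_mem.1 ?_⟩
  rw [map_mul]
  exact hm

variable {p}

/-- Elements of `J • M` after localisation come from `J • M`. -/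
theorem exists_smul_mk_mem {M : Type u} [AddCommGroup M] [Module B M] (q : Ideal B) [q.IsPrime] (J : Ideal B)
    {z : LocalizedModule q.primeCompl M}
    (hz : z ∈ J.map (algebraMap B (Localization.AtPrime q)) •
      (⊤ : Submodule (Localization.AtPrime q) (LocalizedModule q.primeCompl M))) :
    ∃ n ∈ J • (⊤ : Submodule B M), ∃ s ∈ q.primeCompl, s • z = LocalizedModule.mkLinearMap q.primeCompl M n := by
  refine Submodule.smul_induction_on hz (fun r hr w _ => ?_) (fun z₁ z₂ h₁ h₂ => ?_)
  · obtain ⟨⟨j, s⟩, hrs⟩ := (IsLocalization.mem_map_algebraMap_iff q.primeCompl _).1 hr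
    obtain ⟨⟨n, t⟩, hw⟩ := IsLocalizedModule.surj q.primeCompl (LocalizedModule.mkLinearMap q.primeCompl M) w
    refine ⟨(j : B) • n, Submodule.smul_mem_smul j.2 trivial, (s : B) * t, mul_mem s.2 t.2, ?_⟩
    have hw' : (t : B) • w = LocalizedModule.mkLinearMap q.primeCompl M n := hw
    rw [map_smul, ← hw', mul_smul, smul_comm (t : B) r w, ← algebraMap_smul (Localization.AtPrime q) (s : B),
      smul_smul, mul_comm, hrs, algebraMap_smul]
  · obtain ⟨n₁, hn₁, s₁, hs₁, e₁⟩ := h₁
    obtain ⟨n₂, hn₂, s₂, hs₂, e₂⟩ := h₂
    refine ⟨s₂ • n₁ + s₁ • n₂, add_mem (Submodule.smul_mem _ _ hn₁) (Submodule.smul_mem _ _ hn₂), s₁ * s₂,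
      mul_mem hs₁ hs₂, ?_⟩
    rw [map_add, map_smul, map_smul, ← e₁, ← e₂, smul_add, smul_smul, smul_smul, mul_comm s₂ s₁]

/-- Injectivity on every fibre gives injectivity and a flat cokernel. -/
theorem inj_flat_of_elements [Algebra.FinitePresentation A B] {M N : Type u} [AddCommGroup M] [Module B M]
    [Module.FinitePresentation B M] [AddCommGroup N] [Module B N] [Module A N] [IsScalarTower A B N]
    [Module.FinitePresentation B N] [Module.Flat A N] (u : M →ₗ[B] N)
    (hu : ∀ (p : Ideal A) [p.IsPrime] (x : M), u x ∈ p.map (algebraMap A B) • (⊤ : Submodule B N) →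
      ∃ a ∉ p, algebraMap A B a • x ∈ p.map (algebraMap A B) • (⊤ : Submodule B M)) :
    Function.Injective u ∧ Module.Flat A (N ⧸ LinearMap.range u) := by
  have key : ∀ (q : Ideal B) [q.IsMaximal],
      Function.Injective (LocalizedModule.map q.primeCompl u) ∧
        Module.Flat A (LocalizedModule q.primeCompl (N ⧸ LinearMap.range u)) := by
    intro q _
    let p := q.comap (algebraMap A B)
    let R := Localization.AtPrime p
    let S := Localization.AtPrime q
    letI : Algebra R S := (Localization.localRingHom p q (algebraMap A B) rfl).toAlgebra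
    haveI : IsLocalHom (algebraMap R S) := Localization.isLocalHom_localRingHom p q (algebraMap A B) rfl
    haveI : IsScalarTower A R S := IsScalarTower.of_algebraMap_eq fun x => by
      rw [RingHom.algebraMap_toAlgebra, Localization.localRingHom_to_map, ← IsScalarTower.algebraMap_apply]
    have hS : CAlgX.IsEssFinitePresentation R S := by
      let Sp := Localization (Algebra.algebraMapSubmonoid B p.primeCompl)
      have hle : Algebra.algebraMapSubmonoid B p.primeCompl ≤ q.primeCompl := by
        rintro _ ⟨r, hr, rfl⟩
        exact hr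
      let σ : Sp →+* S := IsLocalization.lift (M := Algebra.algebraMapSubmonoid B p.primeCompl) (g := algebraMap B S)
        fun y => IsLocalization.map_units S (⟨y, hle y.2⟩ : q.primeCompl)
      letI : Algebra Sp S := σ.toAlgebra
      haveI : IsScalarTower B Sp S := IsScalarTower.of_algebraMap_eq fun x => (IsLocalization.lift_eq _ x).symm
      haveI : IsScalarTower R Sp S := IsScalarTower.of_algebraMap_eq' (IsLocalization.ringHom_ext p.primeCompl (by
        ext r
        simp only [RingHom.comp_apply, ← IsScalarTower.algebraMap_apply]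
        rw [IsScalarTower.algebraMap_apply A B Sp, ← IsScalarTower.algebraMap_apply B Sp S,
          ← IsScalarTower.algebraMap_apply A B S]))
      haveI := Algebra.isPushout_of_isLocalization p.primeCompl R B Sp
      haveI : Algebra.IsPushout A R B Sp := Algebra.IsPushout.symm inferInstance
      exact ⟨Sp, inferInstance, inferInstance, inferInstance, inferInstance,
        q.primeCompl.map (algebraMap B Sp),
        Algebra.FinitePresentation.equiv (Algebra.IsPushout.equiv A R B Sp),
        IsLocalization.isLocalization_of_submonoid_le Sp S _ _ hle⟩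
    letI : Module R (LocalizedModule q.primeCompl N) := Module.compHom _ (algebraMap R S)
    haveI : IsScalarTower R S (LocalizedModule q.primeCompl N) := IsScalarTower.of_algebraMap_smul fun _ _ => rfl
    letI : Module R (LocalizedModule q.primeCompl M) := Module.compHom _ (algebraMap R S)
    haveI : IsScalarTower R S (LocalizedModule q.primeCompl M) := IsScalarTower.of_algebraMap_smul fun _ _ => rfl
    haveI : IsScalarTower A R (LocalizedModule q.primeCompl N) := IsScalarTower.of_algebraMap_smul fun r x => by
      rw [← algebraMap_smul S (algebraMap A R r), ← IsScalarTower.algebraMap_apply A R S, algebraMap_smul]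
    haveI : Module.Flat A (LocalizedModule q.primeCompl N) := Groth.L20.FibreCrit.flat_localizedModule_of_flat _
    haveI : Module.Flat R (LocalizedModule q.primeCompl N) :=
      (Module.flat_iff_of_isLocalization R p.primeCompl _).2 inferInstance
    haveI : Module.FinitePresentation S (LocalizedModule q.primeCompl M) :=
      inferInstance
    haveI : Module.FinitePresentation S (LocalizedModule q.primeCompl N) :=
      inferInstance
    have hm : (maximalIdeal R).map (algebraMap R S) = (p.map (algebraMap A B)).map (algebraMap B S) := by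
      rw [← Localization.AtPrime.map_eq_maximalIdeal, Ideal.map_map, Ideal.map_map, ← IsScalarTower.algebraMap_eq,
        ← IsScalarTower.algebraMap_eq]
    let uq : LocalizedModule q.primeCompl M →ₗ[S] LocalizedModule q.primeCompl N := LocalizedModule.map q.primeCompl u
    have hmk : ∀ m, uq (LocalizedModule.mkLinearMap q.primeCompl M m) = LocalizedModule.mkLinearMap q.primeCompl N (u m) :=
      fun m => LocalizedModule.map_mk q.primeCompl u m 1
    obtain ⟨h1, h2⟩ := Groth.L02.InjFlat.inj_flat hS uq fun X hX => by
      rw [hm] at hX ⊢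
      obtain ⟨⟨m, t⟩, hmt⟩ := IsLocalizedModule.surj q.primeCompl (LocalizedModule.mkLinearMap q.primeCompl M) X
      obtain ⟨n, hn, s, hs, hsn⟩ := exists_smul_mk_mem q _ hX
      have hmt' : (t : B) • X = LocalizedModule.mkLinearMap q.primeCompl M m := hmt
      have h3 : LocalizedModule.mkLinearMap q.primeCompl N (s • u m) =
          LocalizedModule.mkLinearMap q.primeCompl N ((t : B) • n) := by
        rw [map_smul, map_smul, ← hmk, ← hmt', ← hsn, smul_comm (t : B) s]
        congr 1
        exact LinearMap.map_smul_of_tower _ (t : B) X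
      obtain ⟨c, hc⟩ := (IsLocalizedModule.eq_iff_exists q.primeCompl (LocalizedModule.mkLinearMap q.primeCompl N)).1 h3
      have h4 : u (((c : B) * s) • m) ∈ p.map (algebraMap A B) • (⊤ : Submodule B N) := by
        rw [map_smul, mul_smul, show (c : B) • s • u m = (c : B) • (t : B) • n from hc]
        exact Submodule.smul_mem _ _ (Submodule.smul_mem _ _ hn)
      obtain ⟨a, ha, ha'⟩ := hu p _ h4
      have hu' : IsUnit (algebraMap B S (algebraMap A B a * ((c : B) * s) * t)) :=
        IsLocalization.map_units S (⟨_, mul_mem (mul_mem (show algebraMap A B a ∈ q.primeCompl from ha)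
          (mul_mem c.2 hs)) t.2⟩ : q.primeCompl)
      obtain ⟨w, hw⟩ := hu'.exists_left_inv
      rw [← one_smul S X, ← hw, ← smul_smul]
      refine Submodule.smul_mem _ _ ?_
      rw [algebraMap_smul, mul_smul, hmt', ← map_smul, mul_smul]
      refine Submodule.smul_induction_on ha' (fun r hr w _ => ?_) (fun x y hx hy => by rw [map_add]; exact add_mem hx hy)
      rw [map_smul, ← algebraMap_smul S r]
      exact Submodule.smul_mem_smul (Ideal.mem_map_of_mem _ hr) trivial
    refine ⟨h1, ?_⟩
    have hex : Function.Exact uq (LocalizedModule.map q.primeCompl (LinearMap.range u).mkQ) :=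
      LocalizedModule.map_exact q.primeCompl u _ u.exact_map_mkQ_range
    have hs' : Function.Surjective (LocalizedModule.map q.primeCompl (LinearMap.range u).mkQ) :=
      LocalizedModule.map_surjective q.primeCompl _ (Submodule.mkQ_surjective _)
    haveI := h2
    haveI : Module.Flat A (LocalizedModule q.primeCompl N ⧸ LinearMap.range uq) :=
      (Module.flat_iff_of_isLocalization R p.primeCompl _).1 inferInstance
    exact Module.Flat.of_linearEquiv (((Submodule.quotEquivOfEq _ _ (LinearMap.exact_iff.1 hex).symm).trans
      ((LocalizedModule.map q.primeCompl (LinearMap.range u).mkQ).quotKerEquivOfSurjective hs')).restrictScalars A).symm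
  refine ⟨?_, ?_⟩
  · refine injective_of_localized_maximal u fun q _ => (key q).1
  · exact Module.flat_of_isLocalized_maximal (R := A) B (N ⧸ LinearMap.range u)
      (fun q _ => LocalizedModule q.primeCompl (N ⧸ LinearMap.range u))
      (fun q _ => LocalizedModule.mkLinearMap q.primeCompl _) fun q _ => (key q).2

end Groth.L29.FlatInj
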