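import Groth.Agent.L29.Dual.RegImmDual
import Groth.Agent.L29.BC.AdjTensorGlobal
import Groth.Agent.L29.BC.PerfMorTor
import Groth.Agent.L29.RelPC.PerfSmooth
import Groth.Agent.L16.SmoothSection.RelDim
import Groth.Agent.Lead.ClShriek.Adj
import Groth.Agent.L10.FMDiag.Basic
import Groth.Agent.L10.FMBC.ModKernel
import Groth.Agent.Lead.FlatPerfectCx
import Groth.Agent.Lead.RelPCTest
import Groth.Agent.L22.PDual.LocFreeLow
import Groth.Agent.L22.CurveDeg.Det.ExtPow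
import Groth.Agent.L02.Canon.Basic
import Groth.Agent.L08.Cube.Inverse
import Groth.Agent.S1766
import Groth.Agent.S0911
import Groth.Agent.S15821

/-!
A relative dualizing complex of a smooth separated morphism is the top exterior power of the differentials,
placed in degree minus the relative dimension.
-/

set_option autoImplicit false
set_option backward.defeqAttrib.useBackward true
set_option backward.isDefEq.respectTransparency false
set_option backward.isDefEq.respectTransparency.types false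
set_option linter.style.haveILetI false

universe u

attribute [local instance] HasDerivedCategory.standard

open CategoryTheory CategoryTheory.Limits AlgebraicGeometry Opposite
open Groth.L00 Groth.L29.DC Groth.L29.BC

noncomputable section

namespace Groth.L29.SmoothDual

variable {X : Scheme.{u}}

/-- `inD A ≅ toD (S0 A)` -/
def eS0 (A : X.Modules) : DCoh.inD X A ≅ DCoh.toD X (Groth.Lead.LTMod.S0 A) :=
  (DerivedCategory.singleFunctorIsoCompQ X.Modules 0).app A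

/-- `K ⊗^L O ≅ K` -/
theorem nonempty_tensor_S0_unit (K : DCoh.D X) [DCoh.HasLTensorCx (Groth.Lead.LTMod.S0 (Coh.structureModule X))] :
    Nonempty ((DCoh.LTensorCx (Groth.Lead.LTMod.S0 (Coh.structureModule X))).obj K ≅ K) := by
  let A := DerivedCategory.Q.objPreimage K
  let P := (KFlat.RF X).obj A
  haveI : QuasiIso ((KFlat.rF X).app A) := KFlat.quasiIso_rF A
  let eP : DCoh.toD X P ≅ K := asIso (DerivedCategory.Q.map ((KFlat.rF X).app A)) ≪≫ DerivedCategory.Q.objObjPreimageIso K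
  haveI := KFlat.hasLTensorCx P
  obtain ⟨c⟩ := Groth.Lead.FlatPerfect.nonempty_LTensorCx_comm (Groth.Lead.LTMod.S0 (Coh.structureModule X)) P
    (KFlat.isKFlat_RF A)
  obtain ⟨v⟩ := Groth.Lead.RelPCTest.nonempty_LTensorCx_unit P (KFlat.isKFlat_RF A)
  exact ⟨(DCoh.LTensorCx _).mapIso eP.symm ≪≫ c ≪≫ (DCoh.LTensorCx P).mapIso (eS0 _).symm ≪≫ v ≪≫ eP⟩

/-- tensoring with a shifted complex -/
theorem nonempty_tensor_shiftCx (E : CochainComplex X.Modules ℤ) (hE : DCoh.IsKFlat E) (m : ℤ) (K : DCoh.D X)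
    [DCoh.HasLTensorCx E] [DCoh.HasLTensorCx (E⟦m⟧)] :
    Nonempty ((DCoh.LTensorCx (E⟦m⟧)).obj K ≅ ((DCoh.LTensorCx E).obj K)⟦m⟧) := by
  let A := DerivedCategory.Q.objPreimage K
  let P := (KFlat.RF X).obj A
  haveI : QuasiIso ((KFlat.rF X).app A) := KFlat.quasiIso_rF A
  let eP : DCoh.toD X P ≅ K := asIso (DerivedCategory.Q.map ((KFlat.rF X).app A)) ≪≫ DerivedCategory.Q.objObjPreimageIso K
  haveI := KFlat.hasLTensorCx P
  obtain ⟨c⟩ := Groth.Lead.FlatPerfect.nonempty_LTensorCx_comm (E⟦m⟧) P (KFlat.isKFlat_RF A)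
  obtain ⟨c'⟩ := Groth.Lead.FlatPerfect.nonempty_LTensorCx_comm E P (KFlat.isKFlat_RF A)
  obtain ⟨s⟩ := Groth.Lead.FlatPerfect.nonempty_LTensorCx_shift P (KFlat.isKFlat_RF A) E m
  exact ⟨(DCoh.LTensorCx _).mapIso eP.symm ≪≫ c ≪≫ s ≪≫
    (shiftFunctor _ m).mapIso (c'.symm ≪≫ (DCoh.LTensorCx E).mapIso eP)⟩

/-- inverting the twist by an invertible module -/
theorem nonempty_of_tensor {L N : X.Modules} (hL : PicF.IsInvertible L) (hN : PicF.IsInvertible N)
    (e : CohB1.tensorMod N L ≅ Coh.structureModule X) (K : DCoh.D X) (n : ℤ)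
    [DCoh.HasLTensorCx ((Groth.Lead.LTMod.S0 N)⟦(-n)⟧)]
    (h : Nonempty ((DCoh.LTensorCx ((Groth.Lead.LTMod.S0 N)⟦(-n)⟧)).obj K ≅ DCoh.inD X (Coh.structureModule X))) :
    Nonempty (K ≅ (DCoh.inD X L)⟦n⟧) := by
  obtain ⟨h⟩ := h
  haveI := fun (E : CochainComplex X.Modules ℤ) => KFlat.hasLTensorCx E
  obtain ⟨s⟩ := nonempty_tensor_shiftCx (Groth.Lead.LTMod.S0 N) (Groth.L10.FMBC.isKFlat_S0 hN) (-n) K
  let hn : (DCoh.LTensorCx (Groth.Lead.LTMod.S0 N)).obj K ≅ (DCoh.inD X (Coh.structureModule X))⟦n⟧ :=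
    ((shiftFunctorCompIsoId (DCoh.D X) (-n) n (by omega)).app _).symm ≪≫ (shiftFunctor _ n).mapIso (s.symm ≪≫ h)
  obtain ⟨a⟩ := Groth.L10.FMBC.nonempty_assocD _ _ (Groth.L10.FMBC.isKFlat_S0 hN) (Groth.L10.FMBC.isKFlat_S0 hL)
  obtain ⟨t⟩ := Groth.L10.FMBC.nonempty_singleTensor N L
  obtain ⟨c⟩ := ProjQC.nonempty_LTensorCx_congr (A := (DCoh.tensorCx.obj (Groth.Lead.LTMod.S0 N)).obj (Groth.Lead.LTMod.S0 L))
    (B := Groth.Lead.LTMod.S0 (Coh.structureModule X))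
    (DerivedCategory.Q.mapIso (t ≪≫ (HomologicalComplex.single X.Modules (ComplexShape.up ℤ) 0).mapIso e))
  obtain ⟨v⟩ := nonempty_tensor_S0_unit K
  obtain ⟨w⟩ := Groth.Lead.RelPCTest.nonempty_LTensorCx_unit (Groth.Lead.LTMod.S0 L) (Groth.L10.FMBC.isKFlat_S0 hL)
  obtain ⟨sh⟩ := Groth.Lead.FlatPerfect.nonempty_LTensorCx_shift (Groth.Lead.LTMod.S0 L)
    (Groth.L10.FMBC.isKFlat_S0 hL) (Groth.Lead.LTMod.S0 (Coh.structureModule X)) n
  exact ⟨v.symm ≪≫ (c.app K).symm ≪≫ (a.app K).symm ≪≫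
    (DCoh.LTensorCx (Groth.Lead.LTMod.S0 L)).mapIso (hn ≪≫ (shiftFunctor _ n).mapIso (eS0 _) ≪≫
      ((DerivedCategory.Q.commShiftIso n).app _).symm) ≪≫
    sh ≪≫ (shiftFunctor _ n).mapIso ((DCoh.LTensorCx _).mapIso (eS0 _).symm ≪≫ w ≪≫ (eS0 L).symm)⟩

variable {S : Scheme.{u}}

/-- `K ≅ Ω^n[n]` -/
theorem nonempty_iso [IsNoetherian X] [IsNoetherian S] (n : ℕ) (f : X ⟶ S) [IsSeparated f]
    [SmoothOfRelativeDimension n f] [DCoh.HasLpull (pullback.fst f f)]
    [PreservesFiniteLimits (Scheme.Modules.pushforward (pullback.diagonal f))]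
    [PreservesFiniteColimits (Scheme.Modules.pushforward (pullback.diagonal f))] (K : DCoh.D X)
    (hK : Dual3.IsRelDualizing f K) (L : X.Modules) (hL : ExtPow.IsExtPow n (Omega.sheaf f) L) :
    Nonempty (K ≅ (DCoh.inD X L)⟦(n : ℤ)⟧) := by
  haveI := smoothOfRelativeDimension_isStableUnderBaseChange (n := n)
  haveI : SmoothOfRelativeDimension n (pullback.fst f f) :=
    MorphismProperty.pullback_fst (P := @SmoothOfRelativeDimension n) f f inferInstance
  haveI : Smooth f := SmoothOfRelativeDimension.smooth n f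
  haveI : IsLocallyNoetherian (pullback f f) := LocallyOfFiniteType.isLocallyNoetherian (pullback.fst f f)
  haveI : CompactSpace (pullback f f : Scheme.{u}) := QuasiCompact.compactSpace_of_compactSpace (pullback.fst f f)
  haveI : IsNoetherian (pullback f f) := {}
  let Δ := pullback.diagonal f
  have hΔ : RegImm.IsRegularImmersionOfCodim RegImm.Kind.regular n Δ :=
    Groth.L16.SmoothSection.isRegularImmersionOfCodim_section (pullback.fst f f) n Δ (pullback.diagonal_fst f)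
  haveI : DCoh.HasRpush Δ := RpushQC.hasRpush Δ
  haveI : DCoh.HasLpull Δ := KFlat.hasLpull Δ
  haveI : DCoh.HasLpull (Δ ≫ pullback.fst f f) := KFlat.hasLpull _
  have hq : DCoh.RpushPreservesQCoh Δ := fun M hM => RpushQC.isQCohD_Rpush Δ M hM
  haveI : (DCoh.RpushQ Δ hq).IsLeftAdjoint := Groth.Agent.S1766.result X (pullback f f) Δ hq
  let adj := Adjunction.ofIsLeftAdjoint (DCoh.RpushQ Δ hq)
  set a := (DCoh.RpushQ Δ hq).rightAdjoint with ha
  obtain ⟨ξ, hpc, -, hbij⟩ := hK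
  have hKq : DCoh.IsQCohD K := PCQCoh.isQCohD_of_pc hpc
  let K' : DCoh.DQCoh (pullback f f) :=
    ⟨(DCoh.Lpull (pullback.fst f f)).obj K, Groth.Agent.S1054.result _ K hKq⟩
  obtain ⟨ep⟩ := Groth.Lead.ClShriek.nonempty_pushD_iso Δ
  -- the bijection in degree zero
  let O : DCoh.D X := DCoh.inD X (Coh.structureModule X)
  have hbij0 : ∀ M : DCoh.D X, Function.Bijective fun φ : M ⟶ O => (Dual3.pushD Δ).map φ ≫ ξ := by
    intro M
    have h0 := hbij M 0
    have e1 : (fun φ : M ⟶ O⟦(0 : ℤ)⟧ => (Dual3.pushD Δ).map φ ≫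
        ((Dual3.pushD Δ).commShiftIso (0 : ℤ)).hom.app O ≫ (shiftFunctor (DCoh.D (pullback f f)) (0 : ℤ)).map ξ) =
        (fun ψ => ψ ≫ (shiftFunctorZero (DCoh.D (pullback f f)) ℤ).inv.app _) ∘
          (fun φ : M ⟶ O => (Dual3.pushD Δ).map φ ≫ ξ) ∘
          (fun φ => φ ≫ (shiftFunctorZero (DCoh.D X) ℤ).hom.app O) := by
      funext φ
      simp only [Function.comp_apply, Functor.map_comp, Category.assoc, Functor.commShiftIso_zero,
        Functor.CommShift.isoZero_hom_app]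
      exact congrArg (fun t => (Dual3.pushD Δ).map φ ≫ (Dual3.pushD Δ).map _ ≫ t)
        ((shiftFunctorZero (DCoh.D (pullback f f)) ℤ).inv.naturality ξ).symm
    have h1 : Function.Bijective fun φ : M ⟶ O => φ ≫ (shiftFunctorZero (DCoh.D X) ℤ).inv.app O :=
      ⟨fun p q h => (cancel_mono _).1 h, fun p => ⟨p ≫ (shiftFunctorZero (DCoh.D X) ℤ).hom.app O, by simp⟩⟩
    refine (congrArg Function.Bijective ?_).mp
      ((show Function.Bijective fun ψ : (Dual3.pushD Δ).obj M ⟶ ((DCoh.Lpull (pullback.fst f f)).obj K)⟦(0 : ℤ)⟧ =>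
        ψ ≫ (shiftFunctorZero (DCoh.D (pullback f f)) ℤ).hom.app _ from
          ⟨fun p q h => (cancel_mono _).1 h, fun p =>
            ⟨p ≫ (shiftFunctorZero (DCoh.D (pullback f f)) ℤ).inv.app _, by simp⟩⟩).comp ((e1 ▸ h0).comp h1))
    funext φ
    simp
  -- `a K' ≅ O`
  have hOq : DCoh.IsQCohD O := Groth.Lead.LTMod.isQCohD_inD_of
    (Groth.L16.Rees.RelVanish.isCoh_structureModule X).1
  let OX : DCoh.DQCoh X := ⟨O, hOq⟩
  let β₀ : (DCoh.RpushQ Δ hq).obj OX ⟶ K' := ObjectProperty.homMk (ep.hom.app O ≫ ξ)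
  let β := adj.homEquiv _ _ β₀
  haveI : IsIso β := by
    refine isIso_of_yoneda_map_bijective β fun M => ?_
    have e2 : (fun φ : M ⟶ OX => φ ≫ β) = (adj.homEquiv M K') ∘ (fun ψ => ObjectProperty.homMk (ep.hom.app M.obj ≫ ψ)) ∘
        (fun φ : M.obj ⟶ O => (Dual3.pushD Δ).map φ ≫ ξ) ∘ (fun φ : M ⟶ OX => φ.hom) := by
      funext φ
      simp only [Function.comp_apply]
      rw [← adj.homEquiv_naturality_left]
      refine congrArg _ (ObjectProperty.hom_ext _ ?_)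
      show (DCoh.Rpush Δ).map φ.hom ≫ ep.hom.app O ≫ ξ = ep.hom.app M.obj ≫ (Dual3.pushD Δ).map φ.hom ≫ ξ
      exact ep.hom.naturality_assoc _ _
    rw [e2]
    refine (adj.homEquiv M K').bijective.comp (Function.Bijective.comp ?_ ((hbij0 M.obj).comp ?_))
    · exact ⟨fun p q h => (cancel_epi (ep.hom.app M.obj)).1 (congrArg (fun t => t.hom) h), fun p =>
        ⟨ep.inv.app M.obj ≫ p.hom, ObjectProperty.hom_ext _ (by simp)⟩⟩
    · exact ⟨fun p q h => ObjectProperty.hom_ext _ h, fun p => ⟨ObjectProperty.homMk p, rfl⟩⟩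
  -- the value of `a` at the structure sheaf
  have hE := Groth.L02.Canon.isFinLocFreeOfRank_omega (f := f) n
  obtain ⟨φ, hφ⟩ := hL
  have hLi : PicF.IsInvertible L := Groth.L22.CurveDeg.Det.isInvertible_of_extPow φ hφ hE
  obtain ⟨N, hN, ⟨eLN⟩⟩ := Groth.L08.Cube.exists_inverse hLi
  haveI := Groth.L17.Duality.hasSheafHom L
  let OP : DCoh.DQCoh (pullback f f) :=
    ⟨DCoh.inD _ (Coh.structureModule (pullback f f)),
      Groth.Lead.LTMod.isQCohD_inD_of (Groth.L16.Rees.RelVanish.isCoh_structureModule _).1⟩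
  obtain ⟨eA⟩ := Groth.L29.RegImmDual.exists_iso_adjoint hΔ adj OP ⟨Iso.refl _⟩ L ⟨φ, hφ⟩
  obtain ⟨hm⟩ := Groth.L22.PDual.nonempty_homMod_invertible eLN
  let eW : (ModSite.sheafHom (O := X.sheaf) L).obj (Coh.structureModule X) ≅ N :=
    hm.app (Coh.structureModule X) ≪≫ Groth.L00.Tensor.tensorUnitLeft N
  let E : CochainComplex X.Modules ℤ := (Groth.Lead.LTMod.S0 N)⟦(-(n : ℤ))⟧
  haveI := KFlat.hasLTensorCx E
  let eE : DCoh.toD X E ≅ (a.obj OP).obj :=
    (DerivedCategory.Q.commShiftIso (-(n : ℤ))).app _ ≪≫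
      (shiftFunctor _ (-(n : ℤ))).mapIso ((eS0 N).symm ≪≫
        (DerivedCategory.singleFunctor X.Modules 0).mapIso eW.symm) ≪≫ eA.symm
  have hperf : ∀ P : DCoh.DQCoh X, DCoh.IsPerfect P.obj → DCoh.IsPerfect ((DCoh.RpushQ Δ hq).obj P).obj :=
    fun P hP => Groth.L29.BC.PerfMorTor.isPerfect_Rpush Δ
      (Groth.L29.RelPC.perfect_of_regularImmersion Δ fun z => by
        obtain ⟨U, hz, hcl, rs, -, hrs, hker⟩ := hΔ.2 z
        exact ⟨U, hz, hcl, rs, (Groth.Agent.S15821.result _ rs hrs.toIsWeaklyRegular).1, hker⟩) hP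
  obtain ⟨eT⟩ := AdjTensor.nonempty_iso Δ adj hperf OP ⟨Iso.refl _⟩ E ⟨eE⟩
  obtain ⟨lc⟩ := Groth.Agent.S0911.result Δ (pullback.fst f f)
  obtain ⟨li⟩ := Groth.L10.FMDiag.nonempty_Lpull_eq_id (pullback.diagonal_fst f : Δ ≫ pullback.fst f f = 𝟙 X)
  let eK : (DCoh.LTensorCx E).obj K ≅ O :=
    (DCoh.LTensorCx E).mapIso ((lc ≪≫ li).app K).symm ≪≫ (eT.app K').symm ≪≫
      (DCoh.IsQCohD (X := X)).ι.mapIso (asIso β).symm
  exact nonempty_of_tensor hLi hN (Groth.L00.Tensor.tensorComm N L ≪≫ eLN) K n ⟨eK⟩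

end Groth.L29.SmoothDual
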