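import Groth.Agent.L29.Dual.LocalDualityFinite
import Groth.Agent.L29.Dual.RestrictAdj
import Groth.Agent.L01.Regular

/-!
The pairing of a normalized dualizing complex, and local duality for bounded objects with finite cohomology.
-/

universe u

open CategoryTheory CategoryTheory.Limits CategoryTheory.Pretriangulated IsLocalRing

attribute [local instance] HasDerivedCategory.standard

set_option backward.isDefEq.respectTransparency false

namespace Groth.L29.LocDual

open Groth.L29.HomD

variable {A : Type u} [CommRing A] [IsLocalRing A] [IsNoetherianRing A]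

/-- `Hom(X⟦n⟧, W) ≅ Hom(X, W⟦-n⟧)` -/
noncomputable def shiftTo (X W : Dual.D A) (n : ℤ) : (X⟦n⟧ ⟶ W) ≃ₗ[A] (X ⟶ W⟦-n⟧) :=
  ((Groth.L29.RestrictAdj.shiftLeft X W (-n)).trans
    (Linear.homCongr A ((eqToIso (congrArg (shiftFunctor (Dual.D A)) (neg_neg n))).app X) (Iso.refl W))).symm

lemma exists_pairing {ω : Dual.D A} (hω : Dual.IsDualizing A ω) (hn : Dual.IsNormalized A ω)
    {E : Type u} [AddCommGroup E] [Module A E] (f : ResidueField A →ₗ[A] E)
    (hf : InjHull.IsInjectiveHull f) : Nonempty (Pairing ω E) := by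
  obtain ⟨I, a, hGE, hinj, hK, hc, ⟨eI⟩, ⟨e3⟩⟩ := exists_gamma_hull hω hn f hf
  have hkill : ∀ k : ℕ, ∀ r ∈ maximalIdeal A ^ k, ∀ x : Q (A := A) k, r • x = 0 := fun k r hr x => by
    obtain ⟨x, rfl⟩ := Submodule.Quotient.mk_surjective _ x
    exact (Submodule.Quotient.mk_eq_zero _).2 (Ideal.mul_mem_right _ _ hr)
  let hG := fun k => homGH hinj a hc (Q (A := A) k) k (hkill k)
  let hI := fun k => Linear.homCongr A (Iso.refl (P A k)) eI.symm
  let ev : ∀ k, (P A k ⟶ ω) →ₗ[A] E := fun k =>
    { toFun := fun t => e3 (hG k (hI k t) (Submodule.Quotient.mk 1))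
      map_add' := fun t t' => by rw [map_add, map_add, LinearMap.add_apply, map_add]
      map_smul' := fun r t => by rw [map_smul, map_smul, LinearMap.smul_apply, map_smul]; rfl }
  refine ⟨⟨⟨f, hf⟩, ev, fun k t t' h => ?_, fun k e he => ?_, fun {k l} h t => ?_, fun n hn0 => ?_,
    fun N _ _ _ n => ?_⟩⟩
  · refine (hI k).injective ((hG k).injective (Submodule.linearMap_qext _ (LinearMap.ext_ring ?_)))
    exact e3.injective h
  · let ψ : (A ⧸ maximalIdeal A ^ k) →ₗ[A] GH (maximalIdeal A) I :=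
      Submodule.liftQ _ (LinearMap.toSpanSingleton A _ (e3.symm e)) fun r hr => by
        change r • e3.symm e = 0
        rw [← map_smul, he r hr, map_zero]
    refine ⟨(hI k).symm ((hG k).symm ψ), ?_⟩
    change e3 (hG k (hI k ((hI k).symm ((hG k).symm ψ))) (Submodule.Quotient.mk 1)) = e
    rw [LinearEquiv.apply_symm_apply, LinearEquiv.apply_symm_apply]
    change e3 ((1 : A) • e3.symm e) = e
    rw [one_smul, LinearEquiv.apply_symm_apply]
  · have h1 : hI l (res h ≫ t) =
        (DerivedCategory.singleFunctor (ModuleCat.{u} A) 0).map (proj h) ≫ hI k t := by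
      simp [hI, Linear.homCongr, res]
    change e3 (hG l (hI l (res h ≫ t)) (Submodule.Quotient.mk 1)) =
      e3 (hG k (hI k t) (Submodule.Quotient.mk 1))
    rw [h1]
    exact congrArg e3 (LinearMap.congr_fun
      (homGH_natural hinj a hc (Q (A := A) k) k (hkill k) (Q l) l (hkill l) (proj h) (hI k t))
      (Submodule.Quotient.mk 1))
  · haveI := subsingleton_hom_of_kills hω hn (A ⧸ maximalIdeal A ^ 1) 1 (fun r hr x => hkill 1 r hr x)
      (-n) (by omega)
    exact (shiftTo (P A 1) ω n).toEquiv.subsingleton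
  · haveI := finite_hom ω (good_of_isDualizing hω) N (-n)
    exact Module.Finite.equiv (shiftTo (Dual.inD A N) ω n).symm

/-- local duality for bounded objects with finite cohomology -/
theorem LD.of_bounded {W : Dual.D A} {E : Type u} [AddCommGroup E] [Module A E] (S : Pairing W E)
    (X : Dual.D A) (a b : ℤ) [X.IsGE a] [X.IsLE b] (hfin : ∀ i : ℤ, Module.Finite A (Dual.HD A X i))
    (n : ℤ) : LD S (X⟦n⟧) := by
  refine HomD.bounded_induction (fun X => ∀ n : ℤ, LD S (X⟦n⟧))
    (fun e h n => LD.of_iso S ((shiftFunctor (Dual.D A) n).mapIso e) (h n))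
    (fun T hT h1 h3 => LD.second S T hT h1 h3)
    (fun X hX n => LD.of_isZero S ((shiftFunctor (Dual.D A) n).map_isZero hX)) X a b (fun i _ _ n => ?_) n
  obtain ⟨d, hd⟩ : ∃ d : ℕ, ringKrullDim A ≤ (d : WithBot ℕ∞) := by
    obtain ⟨d, hd⟩ := Groth.L01.exists_dim_eq_nat (R := A)
    exact ⟨d, hd.le⟩
  haveI := hfin i
  refine LD.of_iso S ((shiftFunctorAdd' (Dual.D A) (-i) n (-i + n) rfl).app _ ≪≫
    (shiftFunctor (Dual.D A) n).mapIso
      (((DerivedCategory.singleFunctors (ModuleCat.{u} A)).shiftIso (-i) i 0 (by lia)).app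
        ((DerivedCategory.homologyFunctor (ModuleCat.{u} A) i).obj X)))
    (LD.finite S d (Dual.HD A X i) ((Module.supportDim_le_ringKrullDim _ _).trans hd) (-i + n))

end Groth.L29.LocDual
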