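import Groth.Agent.L29.Dual.BidualBase
import Mathlib.Algebra.Homology.Embedding.AreComplementary

/-!
Dévissage: finiteness and biduality of `Hom•(-, I)` on all complexes with finite cohomology.
-/

set_option autoImplicit false

universe u

open CategoryTheory CategoryTheory.Limits CochainComplex CochainComplex.HomComplex HomologicalComplex

attribute [local instance] HasDerivedCategory.standard

set_option backward.defeqAttrib.useBackward true
set_option backward.isDefEq.respectTransparency false
set_option linter.style.haveILetI false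

namespace Groth.L29.BidualCx

variable {A : Type u} [CommRing A] (I : DRing.Cx A) {a b : ℤ}

theorem isZero_homology_of_X (X : DRing.Cx A) (n : ℤ) (h : IsZero (X.X n)) : IsZero (X.homology n) :=
  (HomologicalComplex.ExactAt.isZero_homology (ShortComplex.exact_of_isZero_X₂ (X.sc n) h))

variable (hI : DRing.VanishesOutside I a b)

include hI in
/-- the dual of a complex vanishing in low degrees vanishes in high degrees -/
theorem isZero_dual_of_ge (X : DRing.Cx A) (m : ℤ) (hX : ∀ i, i < m → IsZero (X.X i)) (n : ℤ) (hn : b - m < n) :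
    IsZero ((DRing.homCx X I).X n) := by
  haveI : Subsingleton (Cochain X I n) := ⟨fun φ ψ => Cochain.ext _ _ fun p q hpq => by
    by_cases hp : p < m
    · exact (hX p hp).eq_of_src _ _
    · exact (hI q (Or.inr (by omega))).eq_of_tgt _ _⟩
  exact @ModuleCat.isZero_of_subsingleton _ _ (ModuleCat.of A (Cochain X I n)) ‹_›

include hI in
/-- the dual of a complex vanishing in high degrees vanishes in low degrees -/
theorem isZero_dual_of_le (X : DRing.Cx A) (m : ℤ) (hX : ∀ i, m < i → IsZero (X.X i)) (n : ℤ) (hn : n < a - m) :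
    IsZero ((DRing.homCx X I).X n) := by
  haveI : Subsingleton (Cochain X I n) := ⟨fun φ ψ => Cochain.ext _ _ fun p q hpq => by
    by_cases hp : m < p
    · exact (hX p hp).eq_of_src _ _
    · exact (hI q (Or.inl (by omega))).eq_of_tgt _ _⟩
  exact @ModuleCat.isZero_of_subsingleton _ _ (ModuleCat.of A (Cochain X I n)) ‹_›

/-- finiteness and biduality in one degree -/
def Good (K : DRing.Cx A) (n : ℤ) : Prop :=
  IsIso (HomologicalComplex.homologyMap (ev I K) n) ∧ Module.Finite A ((DRing.homCx K I).homology n)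

theorem isIso_f_of_isZero {S : ShortComplex (DRing.Cx A)} (hS : S.ShortExact) (n : ℤ)
    (h₁ : IsZero (S.X₃.homology (n - 1))) (h₂ : IsZero (S.X₃.homology n)) :
    IsIso (HomologicalComplex.homologyMap S.f n) := by
  haveI := (hS.homology_exact₁ (n - 1) n (sub_add_cancel n 1)).mono_g (h₁.eq_of_src _ _)
  haveI := (hS.homology_exact₂ n).epi_f (h₂.eq_of_tgt _ _)
  exact isIso_of_mono_of_epi _

theorem isIso_g_of_isZero {S : ShortComplex (DRing.Cx A)} (hS : S.ShortExact) (n : ℤ)
    (h₁ : IsZero (S.X₁.homology n)) (h₂ : IsZero (S.X₁.homology (n + 1))) :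
    IsIso (HomologicalComplex.homologyMap S.g n) := by
  haveI := (hS.homology_exact₂ n).mono_g (h₁.eq_of_src _ _)
  haveI := (hS.homology_exact₃ n (n + 1) rfl).epi_f (h₂.eq_of_tgt _ _)
  exact isIso_of_mono_of_epi _

/-- the middle of a map of short exact sequences with quasi-isomorphic ends -/
theorem quasiIso_τ₂ {S₁ S₂ : ShortComplex (DRing.Cx A)} (φ : S₁ ⟶ S₂) (h₁ : S₁.ShortExact) (h₂ : S₂.ShortExact)
    [QuasiIso φ.τ₁] [QuasiIso φ.τ₃] : QuasiIso φ.τ₂ := by
  open ComposableArrows in
  rw [quasiIso_iff]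
  intro n
  rw [quasiIsoAt_iff_isIso_homologyMap]
  haveI : Mono (HomologicalComplex.homologyMap φ.τ₂ n) := by
    refine Abelian.mono_of_epi_of_mono_of_mono ((δ₀Functor ⋙ δ₀Functor).map
      (HomologySequence.mapComposableArrows₅ φ h₁ h₂ (n - 1) n (sub_add_cancel n 1)))
      (HomologySequence.composableArrows₅_exact h₁ _ _ _).δ₀.δ₀
      (HomologySequence.composableArrows₅_exact h₂ _ _ _).δ₀.δ₀ ?_ ?_ ?_
    · exact inferInstanceAs (Epi (HomologicalComplex.homologyMap φ.τ₃ (n - 1)))
    · exact inferInstanceAs (Mono (HomologicalComplex.homologyMap φ.τ₁ n))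
    · exact inferInstanceAs (Mono (HomologicalComplex.homologyMap φ.τ₃ n))
  haveI : Epi (HomologicalComplex.homologyMap φ.τ₂ n) := by
    refine Abelian.epi_of_epi_of_epi_of_mono ((δlastFunctor ⋙ δlastFunctor).map
      (HomologySequence.mapComposableArrows₅ φ h₁ h₂ n (n + 1) rfl))
      (HomologySequence.composableArrows₅_exact h₁ _ _ _).δlast.δlast
      (HomologySequence.composableArrows₅_exact h₂ _ _ _).δlast.δlast ?_ ?_ ?_
    · exact inferInstanceAs (Epi (HomologicalComplex.homologyMap φ.τ₁ n))
    · exact inferInstanceAs (Epi (HomologicalComplex.homologyMap φ.τ₃ n))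
    · exact inferInstanceAs (Mono (HomologicalComplex.homologyMap φ.τ₁ (n + 1)))
  exact isIso_of_mono_of_epi _

variable [I.IsKInjective]

omit hI in
theorem quasiIso_DDmap {X Y : DRing.Cx A} (g : X ⟶ Y) [QuasiIso g] : QuasiIso (DDmap I g) := by
  haveI : QuasiIso (Dmap I g) := Groth.L10.RHomCx.quasiIso_homCxPre g I
  exact Groth.L10.RHomCx.quasiIso_homCxPre (Dmap I g) I

theorem good_iff {X Y : DRing.Cx A} (g : X ⟶ Y) [QuasiIso g] (n : ℤ) : Good I X n ↔ Good I Y n := by
  haveI : QuasiIso (Dmap I g) := Groth.L10.RHomCx.quasiIso_homCxPre g I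
  haveI := quasiIso_DDmap I g
  have h := congrArg (HomologicalComplex.homologyMap · n) (ev_naturality I g)
  simp only [HomologicalComplex.homologyMap_comp] at h
  refine and_congr ⟨fun _ => ?_, fun _ => ?_⟩ ⟨fun h' => ?_, fun h' => ?_⟩
  · haveI : IsIso (HomologicalComplex.homologyMap g n ≫ HomologicalComplex.homologyMap (ev I Y) n) := by
      rw [h]; infer_instance
    exact IsIso.of_isIso_comp_left (HomologicalComplex.homologyMap g n) _
  · haveI : IsIso (HomologicalComplex.homologyMap (ev I X) n ≫ HomologicalComplex.homologyMap (DDmap I g) n) := by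
      rw [← h]; infer_instance
    exact IsIso.of_isIso_comp_right _ (HomologicalComplex.homologyMap (DDmap I g) n)
  · exact Module.Finite.equiv (asIso (HomologicalComplex.homologyMap (Dmap I g) n)).toLinearEquiv.symm
  · exact Module.Finite.equiv (asIso (HomologicalComplex.homologyMap (Dmap I g) n)).toLinearEquiv

variable [∀ n, Injective (I.X n)]

theorem good_of_negligible {S : ShortComplex (DRing.Cx A)} (hS : S.ShortExact) (n : ℤ)
    (h₁ : IsZero (S.X₃.homology (n - 1))) (h₂ : IsZero (S.X₃.homology n))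
    (h₃ : IsZero ((DRing.homCx S.X₃ I).homology n)) (h₄ : IsZero ((DRing.homCx S.X₃ I).homology (n + 1)))
    (h₅ : IsZero ((DD I S.X₃).homology (n - 1))) (h₆ : IsZero ((DD I S.X₃).homology n))
    (h : Good I S.X₁ n) : Good I S.X₂ n := by
  haveI := isIso_f_of_isZero hS n h₁ h₂
  haveI : IsIso (HomologicalComplex.homologyMap (Dmap I S.f) n) :=
    isIso_g_of_isZero (Dsc_shortExact I hS) n h₃ h₄
  haveI : IsIso (HomologicalComplex.homologyMap (DDmap I S.f) n) :=
    isIso_f_of_isZero (Dsc_shortExact I (Dsc_shortExact I hS)) n h₅ h₆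
  haveI := h.1
  haveI := h.2
  have e := congrArg (HomologicalComplex.homologyMap · n) (ev_naturality I S.f)
  simp only [HomologicalComplex.homologyMap_comp] at e
  refine ⟨?_, Module.Finite.equiv (asIso (HomologicalComplex.homologyMap (Dmap I S.f) n)).toLinearEquiv.symm⟩
  haveI : IsIso (HomologicalComplex.homologyMap S.f n ≫ HomologicalComplex.homologyMap (ev I S.X₂) n) := by
    rw [e]; infer_instance
  exact IsIso.of_isIso_comp_left (HomologicalComplex.homologyMap S.f n) _

variable [IsNoetherianRing A]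

theorem good_second {S : ShortComplex (DRing.Cx A)} (hS : S.ShortExact)
    (h₁ : ∀ n, Good I S.X₁ n) (h₃ : ∀ n, Good I S.X₃ n) (n : ℤ) : Good I S.X₂ n := by
  haveI : QuasiIso (ev I S.X₁) :=
    (quasiIso_iff _).2 fun i => (quasiIsoAt_iff_isIso_homologyMap _ i).2 (h₁ i).1
  haveI : QuasiIso (ev I S.X₃) :=
    (quasiIso_iff _).2 fun i => (quasiIsoAt_iff_isIso_homologyMap _ i).2 (h₃ i).1
  haveI : QuasiIso (evSc I S).τ₁ := ‹QuasiIso (ev I S.X₁)›
  haveI : QuasiIso (evSc I S).τ₃ := ‹QuasiIso (ev I S.X₃)›
  haveI : QuasiIso (ev I S.X₂) := quasiIso_τ₂ (evSc I S) hS (Dsc_shortExact I (Dsc_shortExact I hS))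
  refine ⟨inferInstance, ?_⟩
  haveI := (h₁ n).2
  haveI := (h₃ n).2
  have hex := (ShortComplex.ShortExact.moduleCat_exact_iff_function_exact _).1
    ((Dsc_shortExact I hS).homology_exact₂ n)
  haveI : IsNoetherian A ((DRing.homCx S.X₁ I).homology n) := isNoetherian_of_isNoetherianRing_of_finite A _
  haveI : IsNoetherian A ((DRing.homCx S.X₃ I).homology n) := isNoetherian_of_isNoetherianRing_of_finite A _
  haveI : IsNoetherian A ((DRing.homCx S.X₂ I).homology n) :=
    isNoetherian_of_range_eq_ker (HomologicalComplex.homologyMap (Dmap I S.g) n).hom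
      (HomologicalComplex.homologyMap (Dmap I S.f) n).hom hex.linearMap_ker_eq.symm
  infer_instance

theorem good_of_isZero (K : DRing.Cx A) (hK : ∀ i, IsZero (K.X i)) (n : ℤ) : Good I K n := by
  have hD : ∀ i, IsZero ((DRing.homCx K I).X i) := fun i => by
    haveI : Subsingleton (Cochain K I i) := ⟨fun φ ψ => Cochain.ext _ _ fun p q hpq => (hK p).eq_of_src _ _⟩
    exact @ModuleCat.isZero_of_subsingleton _ _ (ModuleCat.of A (Cochain K I i)) ‹_›
  have hDD : IsZero ((DD I K).X n) := by
    haveI : Subsingleton (Cochain (DRing.homCx K I) I n) :=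
      ⟨fun φ ψ => Cochain.ext _ _ fun p q hpq => (hD p).eq_of_src _ _⟩
    exact @ModuleCat.isZero_of_subsingleton _ _ (ModuleCat.of A (Cochain (DRing.homCx K I) I n)) ‹_›
  refine ⟨(isZero_homology_of_X K n (hK n)).isIso (isZero_homology_of_X _ n hDD) _, ?_⟩
  haveI := ModuleCat.subsingleton_of_isZero (isZero_homology_of_X _ n (hD n))
  infer_instance

variable (hbij : Function.Bijective (fun x : A => x • 𝟙 (DRing.toD I)))
  (hself : ∀ i : ℤ, i ≠ 0 → Subsingleton (DRing.toD I ⟶ (DRing.toD I)⟦i⟧))
  (hfin : ∀ i : ℤ, Module.Finite A (Dual.HD A (DRing.toD I) i))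

include hbij hself hfin

theorem good_rk1 (p n : ℤ) : Good I (rk1 p) n := by
  haveI := quasiIso_ev_rk1 I p hbij hself
  refine ⟨inferInstance, ?_⟩
  haveI := hfin (p + n)
  haveI : Module.Finite A ((DerivedCategory.Q ⋙ DerivedCategory.homologyFunctor (ModuleCat.{u} A) (p + n)).obj I) :=
    hfin (p + n)
  haveI : Module.Finite A (I.homology (p + n)) :=
    Module.Finite.equiv ((DerivedCategory.homologyFunctorFactors (ModuleCat.{u} A) (p + n)).app I).toLinearEquiv
  haveI : Module.Finite A (((HomologicalComplex.homologyFunctor (ModuleCat.{u} A) (ComplexShape.up ℤ) 0).shift (p + n)).obj I) :=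
    ‹Module.Finite A (I.homology (p + n))›
  exact Module.Finite.equiv ((HomologicalComplex.homologyFunctor _ _ n).mapIso (dualRk1Iso I p) ≪≫
    ((HomologicalComplex.homologyFunctor (ModuleCat.{u} A) (ComplexShape.up ℤ) 0).shiftIso p n (p + n) rfl).app I).toLinearEquiv.symm

theorem good_single_free (p : ℤ) : ∀ (k : ℕ) (n : ℤ),
    Good I ((HomologicalComplex.single (ModuleCat.{u} A) (ComplexShape.up ℤ) p).obj
      (ModuleCat.of A (Fin k → A))) n := by
  intro k
  induction k with
  | zero =>
    refine good_of_isZero I _ fun i => ?_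
    exact ((HomologicalComplex.single (ModuleCat.{u} A) (ComplexShape.up ℤ) p) ⋙
      HomologicalComplex.eval _ _ i).map_isZero (ModuleCat.isZero_of_subsingleton (ModuleCat.of A (Fin 0 → A)))
  | succ k ih =>
    let e := (Fin.consLinearEquiv A fun _ : Fin (k + 1) => A)
    let f : A →ₗ[A] (Fin (k + 1) → A) := e.toLinearMap ∘ₗ LinearMap.inl A A (Fin k → A)
    let g : (Fin (k + 1) → A) →ₗ[A] (Fin k → A) := LinearMap.snd A A (Fin k → A) ∘ₗ e.symm.toLinearMap
    let S : ShortComplex (ModuleCat.{u} A) := ShortComplex.mk (ModuleCat.ofHom f) (ModuleCat.ofHom g)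
      (ModuleCat.hom_ext (LinearMap.ext fun x => by simp [f, g]))
    have hS : S.ShortExact :=
      { exact := by
          rw [ShortComplex.moduleCat_exact_iff]
          intro (x : Fin (k + 1) → A) (hx : g x = 0)
          refine ⟨(e.symm x).1, ?_⟩
          change e ((e.symm x).1, 0) = x
          have : (e.symm x).2 = 0 := hx
          rw [← this]
          exact e.apply_symm_apply x
        mono_f := (ModuleCat.mono_iff_injective _).2 (e.injective.comp LinearMap.inl_injective)
        epi_g := (ModuleCat.epi_iff_surjective _).2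
          ((LinearMap.snd_surjective (R := A) (M := A) (M₂ := Fin k → A)).comp e.symm.surjective) }
    exact good_second I (hS.map_of_exact (HomologicalComplex.single (ModuleCat.{u} A) (ComplexShape.up ℤ) p))
      (good_rk1 I hbij hself hfin p) ih

theorem good_of_bounded_free : ∀ (k : ℕ) (c : ℤ) (P : DRing.Cx A),
    DRing.VanishesOutside P c (c + k - 1) → DRing.TermwiseFiniteFree P → ∀ n, Good I P n := by
  intro k
  induction k with
  | zero =>
    intro c P hP _ n
    exact good_of_isZero I P (fun i => hP i (by omega)) n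
  | succ k ih =>
    intro c P hP hF n
    let ι := Groth.L02.PC.truncι P (c + 1)
    haveI : ∀ i, Mono (ι.f i) := fun i => ConcreteCategory.mono_of_injective _ Subtype.val_injective
    haveI : Mono ι := HomologicalComplex.mono_of_mono_f ι inferInstance
    let S : ShortComplex (DRing.Cx A) := ShortComplex.mk ι (cokernel.π ι) (cokernel.condition ι)
    have hS : S.ShortExact := { exact := S.exact_of_g_is_cokernel (cokernelIsCokernel ι) }
    have hSi : ∀ i, (S.map (HomologicalComplex.eval _ _ i)).ShortExact := fun i =>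
      hS.map_of_exact (HomologicalComplex.eval (ModuleCat.{u} A) (ComplexShape.up ℤ) i)
    have hout : ∀ i, i ≠ c → IsZero (S.X₃.X i) := fun i hi => by
      haveI := (hSi i).epi_g
      by_cases hic : c + 1 ≤ i
      · haveI : IsIso (ι.f i) :=
          (ConcreteCategory.isIso_iff_bijective _).2 (Groth.L02.PC.truncι_bijective P (c + 1) hic)
        have hg : (S.map (HomologicalComplex.eval _ _ i)).g = 0 :=
          (cancel_epi (ι.f i)).1 (((S.map (HomologicalComplex.eval _ _ i)).zero).trans comp_zero.symm)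
        exact IsZero.of_epi_eq_zero _ hg
      · exact IsZero.of_epi (S.map (HomologicalComplex.eval _ _ i)).g (hP i (by omega))
    haveI : S.X₃.IsStrictlyGE c := (CochainComplex.isStrictlyGE_iff _ _).2 fun i hi => hout i (by omega)
    haveI : S.X₃.IsStrictlyLE c := (CochainComplex.isStrictlyLE_iff _ _).2 fun i hi => hout i (by omega)
    obtain ⟨M, ⟨e⟩⟩ := CochainComplex.exists_iso_single S.X₃ c
    have hXc : IsIso (S.g.f c) := by
      haveI : Mono (S.g.f c) := (hSi c).exact.mono_g
        ((Groth.L02.PC.isZero_trunc_X P (c + 1) (i := c) (by omega)).eq_of_src _ _)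
      haveI : Epi (S.g.f c) := (hSi c).epi_g
      exact isIso_of_mono_of_epi _
    have eM : P.X c ≅ M := asIso (S.g.f c) ≪≫
      (HomologicalComplex.eval (ModuleCat.{u} A) (ComplexShape.up ℤ) c).mapIso e ≪≫
      HomologicalComplex.singleObjXSelf (ComplexShape.up ℤ) c M
    obtain ⟨_, _⟩ := hF c
    rcases subsingleton_or_nontrivial A with hA | hA
    · refine good_of_isZero I P (fun i => ?_) n
      haveI := Module.subsingleton A (P.X i)
      exact ModuleCat.isZero_of_subsingleton _
    let b' := (Module.Free.chooseBasis A (P.X c)).reindex (Fintype.equivFin _)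
    let e' : M ≅ ModuleCat.of A (Fin (Fintype.card (Module.Free.ChooseBasisIndex A (P.X c))) → A) :=
      eM.symm ≪≫ b'.equivFun.toModuleIso
    have h3 : ∀ i, Good I S.X₃ i := fun i =>
      (good_iff I (e.hom ≫ (HomologicalComplex.single (ModuleCat.{u} A) (ComplexShape.up ℤ) c).map e'.hom) i).2
        (good_single_free I hbij hself hfin c _ i)
    refine good_second I hS (ih (c + 1) _ (fun i hi => ?_) ?_) h3 n
    · rcases hi with hi | hi
      · exact Groth.L02.PC.isZero_trunc_X P (c + 1) hi
      · by_cases hic : c + 1 ≤ i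
        · exact (hP i (Or.inr (by omega))).of_iso (@asIso _ _ _ _ (ι.f i)
            ((ConcreteCategory.isIso_iff_bijective _).2 (Groth.L02.PC.truncι_bijective P (c + 1) hic)))
        · exact Groth.L02.PC.isZero_trunc_X P (c + 1) (by omega)
    · exact Groth.L02.PC.trunc_finiteFree P (c + 1) fun i _ => hF i

include hI

theorem good_of_free (P : DRing.Cx A) (c : ℤ) (hP : DRing.VanishesAbove P c) (hF : DRing.TermwiseFiniteFree P)
    (n : ℤ) : Good I P n := by
  let m : ℤ := min (min (n - 1) c) (min (a - n - 1) (n - 1 - (b - a)))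
  let ι := Groth.L02.PC.truncι P m
  haveI : ∀ i, Mono (ι.f i) := fun i => ConcreteCategory.mono_of_injective _ Subtype.val_injective
  haveI : Mono ι := HomologicalComplex.mono_of_mono_f ι inferInstance
  let S : ShortComplex (DRing.Cx A) := ShortComplex.mk ι (cokernel.π ι) (cokernel.condition ι)
  have hS : S.ShortExact := { exact := S.exact_of_g_is_cokernel (cokernelIsCokernel ι) }
  have hout : ∀ i, m - 1 < i → IsZero (S.X₃.X i) := fun i hi => by
    have hSi := hS.map_of_exact (HomologicalComplex.eval (ModuleCat.{u} A) (ComplexShape.up ℤ) i)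
    haveI : IsIso (ι.f i) :=
      (ConcreteCategory.isIso_iff_bijective _).2 (Groth.L02.PC.truncι_bijective P m (show m ≤ i by omega))
    have hg : (S.map (HomologicalComplex.eval _ _ i)).g = 0 :=
      (cancel_epi (ι.f i)).1 (((S.map (HomologicalComplex.eval _ _ i)).zero).trans comp_zero.symm)
    haveI := hSi.epi_g
    exact IsZero.of_epi_eq_zero _ hg
  have hD := isZero_dual_of_le I hI S.X₃ (m - 1) hout
  have hDD : ∀ i, b - a + m - 1 < i → IsZero ((DD I S.X₃).X i) := fun i hi =>
    isZero_dual_of_ge I hI _ (a - (m - 1)) hD i (by omega)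
  refine good_of_negligible I hS n (isZero_homology_of_X _ _ (hout _ (by omega)))
    (isZero_homology_of_X _ _ (hout _ (by omega))) (isZero_homology_of_X _ _ (hD _ (by omega)))
    (isZero_homology_of_X _ _ (hD _ (by omega))) (isZero_homology_of_X _ _ (hDD _ (by omega)))
    (isZero_homology_of_X _ _ (hDD _ (by omega))) ?_
  refine good_of_bounded_free I hbij hself hfin (c - m + 1).toNat m _ (fun i hi => ?_) ?_ n
  · exact Groth.L02.PC.trunc_vanishesOutside P m c hP i (by omega)
  · exact Groth.L02.PC.trunc_finiteFree P m fun i _ => hF i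

open Groth.L02.PC in
theorem good_of_boundedAbove (L : DRing.Cx A) (c : ℤ) (hL : LEH (DRing.toD L) c)
    (hL' : ∀ i, Module.Finite A (Dual.HD A (DRing.toD L) i)) (n : ℤ) : Good I L n := by
  have hpc : ∀ m, DRing.IsPseudoCoherent A m (DRing.toD L) := fun m =>
    Groth.L10.DR.pc_of_homology m (DRing.toD L) c hL fun i _ => by
      refine Groth.L10.DR.pc_single (M := (HH i).obj (DRing.toD L)) i m ?_
      haveI := hL' i
      exact pc_mono (show -((-(m - i)).toNat : ℤ) ≤ m - i by omega)
        (Groth.L10.DR.pcModule_noetherian _ ((HH i).obj (DRing.toD L)))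
  obtain ⟨P, hP, hPF, ⟨e⟩⟩ := Groth.L10.DR.exists_finiteFree_le hpc c hL
  haveI : P.IsKProjective := isKProjective_of_vanishesAbove hP fun i => by
    haveI := (hPF i).2
    infer_instance
  obtain ⟨f, hf⟩ := exists_chainMap e.hom
  haveI : QuasiIso f := (DerivedCategory.isIso_Q_map_iff_quasiIso (C := ModuleCat.{u} A) f).1
    (by rw [hf]; infer_instance)
  exact (good_iff I f n).1 (good_of_free I hI hbij hself hfin P c hP hPF n)

theorem good (K : DRing.Cx A) (hK : ∀ i, Module.Finite A (Dual.HD A (DRing.toD K) i)) (n : ℤ) :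
    Good I K n := by
  let m : ℤ := max (max n (b - n)) (n + (b - a))
  let T := K.truncGE (m + 1)
  let g := K.shortComplexTruncLEX₃ToTruncGE m (m + 1)
  haveI : QuasiIso g := inferInstance
  have hT : ∀ i, i < m + 1 → IsZero (T.X i) := fun i hi => CochainComplex.isZero_of_isStrictlyGE T (m + 1) i hi
  have hD := isZero_dual_of_ge I hI T (m + 1) hT
  have hDD : ∀ i, i < a - b + (m + 1) → IsZero ((DD I T).X i) := fun i hi =>
    isZero_dual_of_le I hI _ (b - (m + 1)) hD i (by omega)
  haveI : QuasiIso (Dmap I g) := Groth.L10.RHomCx.quasiIso_homCxPre g I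
  haveI := quasiIso_DDmap I g
  have t1 : ∀ i, i < m + 1 → IsZero ((K.shortComplexTruncLE m).X₃.homology i) := fun i hi =>
    (isZero_homology_of_X _ _ (hT i hi)).of_iso (asIso (HomologicalComplex.homologyMap g i))
  have t2 : ∀ i, b - (m + 1) < i → IsZero ((DRing.homCx (K.shortComplexTruncLE m).X₃ I).homology i) := fun i hi =>
    (isZero_homology_of_X _ _ (hD i hi)).of_iso (asIso (HomologicalComplex.homologyMap (Dmap I g) i)).symm
  have t3 : ∀ i, i < a - b + (m + 1) → IsZero ((DD I (K.shortComplexTruncLE m).X₃).homology i) := fun i hi =>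
    (isZero_homology_of_X _ _ (hDD i hi)).of_iso (asIso (HomologicalComplex.homologyMap (DDmap I g) i))
  refine good_of_negligible I (K.shortComplexTruncLE_shortExact m) n (t1 _ (by omega)) (t1 _ (by omega))
    (t2 _ (by omega)) (t2 _ (by omega)) (t3 _ (by omega)) (t3 _ (by omega)) ?_
  change Good I (K.truncLE m) n
  have hLEH : Groth.L02.PC.LEH (DRing.toD (K.truncLE m)) m := fun i hi =>
    (Groth.L02.PC.isZero_HH_Q_iff _ i).2
      (isZero_homology_of_X _ _ (CochainComplex.isZero_of_isStrictlyLE (K.truncLE m) m i hi))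
  refine good_of_boundedAbove I hI hbij hself hfin _ m hLEH (fun i => ?_) n
  by_cases hi : i ≤ m
  · haveI : QuasiIsoAt (K.ιTruncLE m) i := K.quasiIsoAt_ιTruncLE m i hi
    haveI := hK i
    haveI : Module.Finite A ((DerivedCategory.Q ⋙ DerivedCategory.homologyFunctor (ModuleCat.{u} A) i).obj K) := hK i
    haveI : Module.Finite A (K.homology i) :=
      Module.Finite.equiv ((DerivedCategory.homologyFunctorFactors (ModuleCat.{u} A) i).app K).toLinearEquiv
    exact Module.Finite.equiv
      ((DerivedCategory.homologyFunctorFactors (ModuleCat.{u} A) i).app (K.truncLE m) ≪≫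
        asIso (HomologicalComplex.homologyMap (K.ιTruncLE m) i)).toLinearEquiv.symm
  · haveI := ModuleCat.subsingleton_of_isZero (hLEH i (by omega))
    exact inferInstanceAs (Module.Finite A ((Groth.L02.PC.HH i).obj (DRing.toD (K.truncLE m))))

/-- biduality -/
theorem quasiIso_ev (K : DRing.Cx A) (hK : ∀ i, Module.Finite A (Dual.HD A (DRing.toD K) i)) :
    QuasiIso (ev I K) :=
  (quasiIso_iff _).2 fun i => (quasiIsoAt_iff_isIso_homologyMap _ i).2 (good I hI hbij hself hfin K hK i).1

end Groth.L29.BidualCx
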