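import Groth.Agent.L29.DCoh.QCohTensor
import Groth.Agent.L10.DRing.HomTensor
import Groth.Agent.L10.DRing.RHomCx

/-!
The evaluation map `Hom•(F, I) ⊗ F ⟶ I`, and naturality of the compatibility of tilde with tensor products.
-/

set_option autoImplicit false
set_option backward.defeqAttrib.useBackward true
set_option backward.isDefEq.respectTransparency false
set_option backward.isDefEq.respectTransparency.types false
set_option linter.style.haveILetI false

universe u

open CategoryTheory CategoryTheory.Limits MonoidalCategory CochainComplex CochainComplex.HomComplex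
  AlgebraicGeometry
open scoped TensorProduct

attribute [local instance] HasDerivedCategory.standard

namespace Groth.L29.AffineEv

open Groth.L10 Groth.L28.TensorCx

variable {A : Type u} [CommRing A]

theorem ins_whiskerRight {K K' : DRing.Cx A} (f : K ⟶ K') (L : DRing.Cx A) (p a m : ℤ) (h : p + a = m)
    (x : K.X p) (y : L.X a) :
    ((f ▷ L).f m).hom (ins K L p a m h (x ⊗ₜ y)) = ins K' L p a m h (((f.f p).hom x) ⊗ₜ y) :=
  ConcreteCategory.congr_hom (HomologicalComplex.ι_mapBifunctorMap f (𝟙 L) (curriedTensor (ModuleCat.{u} A))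
    (ComplexShape.up ℤ) p a m h) (x ⊗ₜ y)

theorem ins_whiskerLeft (K : DRing.Cx A) {L L' : DRing.Cx A} (g : L ⟶ L') (p a m : ℤ) (h : p + a = m)
    (x : K.X p) (y : L.X a) :
    ((K ◁ g).f m).hom (ins K L p a m h (x ⊗ₜ y)) = ins K L' p a m h (x ⊗ₜ ((g.f a).hom y)) :=
  ConcreteCategory.congr_hom (HomologicalComplex.ι_mapBifunctorMap (𝟙 K) g (curriedTensor (ModuleCat.{u} A))
    (ComplexShape.up ℤ) p a m h) (x ⊗ₜ y)

theorem fwd_precomp {Q Z F I : DRing.Cx A} (f : Q ⟶ Z) (z : Cochain Z (DRing.homCx F I) 0) :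
    HomTensor.fwd ((Cochain.ofHom f).comp z (zero_add 0)) =
      (Cochain.ofHom (f ▷ F)).comp (HomTensor.fwd z) (zero_add 0) := by
  refine HomTensor.ext_ins fun p a m h b hb x y => ?_
  rw [HomTensor.fwd_ins _ p a m h b hb p (add_zero p), Cochain.zero_cochain_comp_v, Cochain.ofHom_v,
    ModuleCat.hom_comp, LinearMap.comp_apply, ins_whiskerRight,
    HomTensor.fwd_ins _ p a m h b hb p (add_zero p)]
  change (((((Cochain.ofHom f).comp z (zero_add 0)).v p p (add_zero p)).hom x : Cochain F I p).v a b _).hom y = _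
  rw [Cochain.zero_cochain_comp_v, Cochain.ofHom_v]
  rfl

theorem fwd_postcomp {Q G F I : DRing.Cx A} (g : F ⟶ G) (z : Cochain Q (DRing.homCx G I) 0) :
    HomTensor.fwd (z.comp (Cochain.ofHom (RHomCx.homCxPre g I)) (add_zero 0)) =
      (Cochain.ofHom (Q ◁ g)).comp (HomTensor.fwd z) (zero_add 0) := by
  refine HomTensor.ext_ins fun p a m h b hb x y => ?_
  rw [HomTensor.fwd_ins _ p a m h b hb p (add_zero p), Cochain.zero_cochain_comp_v, Cochain.ofHom_v,
    ModuleCat.hom_comp, LinearMap.comp_apply, ins_whiskerLeft,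
    HomTensor.fwd_ins _ p a m h b hb p (add_zero p)]
  change ((((z.comp (Cochain.ofHom (RHomCx.homCxPre g I)) (add_zero 0)).v p p (add_zero p)).hom x : Cochain F I p).v
    a b _).hom y = _
  rw [Cochain.comp_zero_cochain_v, Cochain.ofHom_v]
  change (((Cochain.ofHom g).comp ((z.v p p (add_zero p)).hom x : Cochain G I p) (zero_add p)).v a b _).hom y = _
  rw [Cochain.zero_cochain_comp_v, Cochain.ofHom_v]
  rfl

/-- the uncurried chain map -/
noncomputable def uncurry {Q F I : DRing.Cx A} (f : Q ⟶ DRing.homCx F I) : Q ⊗ F ⟶ I :=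
  Cocycle.homOf (Cocycle.mk (HomTensor.fwd (Cochain.ofHom f)) 1 rfl (by
    rw [HomTensor.fwd_δ (zero_add 1), δ_ofHom]
    exact map_zero (HomTensor.equiv (K := Q) (L := F) (M := I) 1)))

theorem ofHom_uncurry {Q F I : DRing.Cx A} (f : Q ⟶ DRing.homCx F I) :
    Cochain.ofHom (uncurry f) = HomTensor.fwd (Cochain.ofHom f) :=
  Cocycle.cochain_ofHom_homOf_eq_coe _

theorem uncurry_bijective {Q F I : DRing.Cx A} :
    Function.Bijective (uncurry : (Q ⟶ DRing.homCx F I) → (Q ⊗ F ⟶ I)) := by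
  constructor
  · intro f f' h
    have h' := congrArg Cochain.ofHom h
    rw [ofHom_uncurry, ofHom_uncurry] at h'
    exact Cochain.ofHom_injective ((HomTensor.equiv (K := Q) (L := F) (M := I) 0).injective h')
  · intro w
    have hd : δ 0 1 (HomTensor.bwd (Cochain.ofHom w)) = 0 := by
      refine (HomTensor.equiv (K := Q) (L := F) (M := I) 1).injective ?_
      change HomTensor.fwd (δ 0 1 (HomTensor.bwd (Cochain.ofHom w))) = _
      rw [← HomTensor.fwd_δ (zero_add 1), HomTensor.fwd_bwd, δ_ofHom, map_zero]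
    refine ⟨Cocycle.homOf (Cocycle.mk (HomTensor.bwd (Cochain.ofHom w)) 1 rfl hd), Cochain.ofHom_injective ?_⟩
    rw [ofHom_uncurry, Cocycle.cochain_ofHom_homOf_eq_coe]
    exact HomTensor.fwd_bwd _

/-- evaluation -/
noncomputable def ev (F I : DRing.Cx A) : DRing.homCx F I ⊗ F ⟶ I := uncurry (𝟙 _)

theorem uncurry_eq {Q F I : DRing.Cx A} (f : Q ⟶ DRing.homCx F I) : uncurry f = (f ▷ F) ≫ ev F I := by
  refine Cochain.ofHom_injective ?_
  rw [ofHom_uncurry, Cochain.ofHom_comp, ev, ofHom_uncurry, ← fwd_precomp, ← Cochain.ofHom_comp,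
    Category.comp_id]

/-- dinaturality of evaluation -/
theorem ev_natural {F G I : DRing.Cx A} (g : F ⟶ G) :
    (RHomCx.homCxPre g I ▷ F) ≫ ev F I = (DRing.homCx G I ◁ g) ≫ ev G I := by
  refine Cochain.ofHom_injective ?_
  rw [← uncurry_eq, ofHom_uncurry, Cochain.ofHom_comp (DRing.homCx G I ◁ g), ev, ofHom_uncurry,
    ← fwd_postcomp, ← Cochain.ofHom_comp, Category.id_comp]

end Groth.L29.AffineEv

namespace Groth.L00.FunctorTotal

universe v v' w₁

variable {C₁ C₂ C₁' C₂' : Type*} [Category C₁] [Category C₂] [Category C₁'] [Category C₂']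
  {D : Type*} [Category.{v} D] {E : Type*} [Category.{v'} E]
  [Preadditive C₁] [Preadditive C₂] [Preadditive C₁'] [Preadditive C₂'] [Preadditive D] [Preadditive E]
  (F : C₁ ⥤ C₂ ⥤ D) [F.Additive] [∀ X, (F.obj X).Additive]
  (F' : C₁' ⥤ C₂' ⥤ E) [F'.Additive] [∀ X, (F'.obj X).Additive]
  (G₁ : C₁ ⥤ C₁') (G₂ : C₂ ⥤ C₂') (G : D ⥤ E) [G₁.Additive] [G₂.Additive] [G.Additive]
  (β : ∀ X Y, (F'.obj (G₁.obj X)).obj (G₂.obj Y) ≅ G.obj ((F.obj X).obj Y))
  (hβ₁ : ∀ {X X' : C₁} (f : X ⟶ X') (Y : C₂),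
    (F'.map (G₁.map f)).app (G₂.obj Y) ≫ (β X' Y).hom = (β X Y).hom ≫ G.map ((F.map f).app Y))
  (hβ₂ : ∀ (X : C₁) {Y Y' : C₂} (g : Y ⟶ Y'),
    (F'.obj (G₁.obj X)).map (G₂.map g) ≫ (β X Y').hom = (β X Y).hom ≫ G.map ((F.obj X).map g))
  {I₁ I₂ J : Type w₁} {c₁ : ComplexShape I₁} {c₂ : ComplexShape I₂} {c : ComplexShape J}
  [TotalComplexShape c₁ c₂ c] [DecidableEq J]
  {K₁ L₁ : HomologicalComplex C₁ c₁} {K₂ L₂ : HomologicalComplex C₂ c₂}
  [K₁.HasMapBifunctor K₂ F c] [L₁.HasMapBifunctor L₂ F c]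
  [HomologicalComplex.HasMapBifunctor ((G₁.mapHomologicalComplex c₁).obj K₁) ((G₂.mapHomologicalComplex c₂).obj K₂) F' c]
  [HomologicalComplex.HasMapBifunctor ((G₁.mapHomologicalComplex c₁).obj L₁) ((G₂.mapHomologicalComplex c₂).obj L₂) F' c]
  [∀ j : J, PreservesColimitsOfShape (Discrete ((ComplexShape.π c₁ c₂ c) ⁻¹' {j})) G]

include hβ₁ hβ₂ in
theorem totalIso_natural (f : K₁ ⟶ L₁) (g : K₂ ⟶ L₂) :
    HomologicalComplex.mapBifunctorMap ((G₁.mapHomologicalComplex c₁).map f) ((G₂.mapHomologicalComplex c₂).map g)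
        F' c ≫ (totalIso F F' G₁ G₂ G β hβ₁ hβ₂ L₁ L₂ (c := c)).hom =
      (totalIso F F' G₁ G₂ G β hβ₁ hβ₂ K₁ K₂ (c := c)).hom ≫
        (G.mapHomologicalComplex c).map (HomologicalComplex.mapBifunctorMap f g F c) := by
  refine HomologicalComplex.hom_ext _ _ fun n => HomologicalComplex.mapBifunctor.hom_ext fun p q h => ?_
  change HomologicalComplex.ιMapBifunctor _ _ F' c p q n h ≫
      (HomologicalComplex.mapBifunctorMap ((G₁.mapHomologicalComplex c₁).map f) ((G₂.mapHomologicalComplex c₂).map g)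
        F' c).f n ≫ compX F F' G₁ G₂ G β L₁ L₂ n =
    HomologicalComplex.ιMapBifunctor _ _ F' c p q n h ≫ compX F F' G₁ G₂ G β K₁ K₂ n ≫
      G.map ((HomologicalComplex.mapBifunctorMap f g F c).f n)
  rw [HomologicalComplex.ι_mapBifunctorMap_assoc, ι_compX, ← Category.assoc (f := HomologicalComplex.ιMapBifunctor _ _ F' c p q n h),
    ι_compX, Category.assoc, ← G.map_comp, HomologicalComplex.ι_mapBifunctorMap, G.map_comp, G.map_comp]
  change (F'.map (G₁.map (f.f p))).app (G₂.obj (K₂.X q)) ≫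
      (F'.obj (G₁.obj (L₁.X p))).map (G₂.map (g.f q)) ≫ (β (L₁.X p) (L₂.X q)).hom ≫
        G.map (HomologicalComplex.ιMapBifunctor L₁ L₂ F c p q n h) = _
  rw [← Category.assoc (f := (F'.obj _).map _), hβ₂, Category.assoc, ← Category.assoc (f := (F'.map _).app _),
    hβ₁, Category.assoc]

end Groth.L00.FunctorTotal

namespace Groth.L29.AffineEv

open Groth.L29.DC

variable {R : CommRingCat.{u}}

theorem tildeTensorCxIso_natural {K K' L L' : CochainComplex (ModuleCat.{u} R) ℤ} (f : K ⟶ K') (g : L ⟶ L') :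
    HomologicalComplex.mapBifunctorMap ((ModRes.tCx R).map f) ((ModRes.tCx R).map g)
        (DCoh.tensorBi (X := Spec R)) (ComplexShape.up ℤ) ≫ (tildeTensorCxIso K' L').hom =
      (tildeTensorCxIso K L).hom ≫ (ModRes.tCx R).map
        (HomologicalComplex.mapBifunctorMap f g (curriedTensor (ModuleCat.{u} R)) (ComplexShape.up ℤ)) := by
  haveI : PreservesColimitsOfSize.{u, u} (tilde.functor R) :=
    (tilde.adjunction (R := R)).leftAdjoint_preservesColimits
  haveI : PreservesColimitsOfSize.{0, 0} (tilde.functor R) := preservesColimitsOfSize_shrink.{0, u, 0, u} _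
  haveI : Functor.Additive (D := (Spec R).Modules) (tilde.functor R) :=
    @inferInstance ((tilde.functor R).Additive) _
  unfold tildeTensorCxIso
  apply Groth.L00.FunctorTotal.totalIso_natural
  intro M M' f N
  rw [tensorBi_map, ← CategoryTheory.Functor.map_id (tilde.functor R)]
  exact (tildeTensorIso_natural f (𝟙 N)).trans
    (congrArg (fun t => (Groth.L00.Tensor.tildeTensorIso M N).inv ≫ tilde.map t) (MonoidalCategory.tensorHom_id f N))

end Groth.L29.AffineEv
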