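import Groth.Agent.L29.Dual.BidualCx

/-!
Biduality on the level of Hom complexes for the free module of rank one in a single degree.
-/

set_option autoImplicit false

universe u

open CategoryTheory CategoryTheory.Limits CochainComplex CochainComplex.HomComplex HomologicalComplex

attribute [local instance] HasDerivedCategory.standard

set_option backward.defeqAttrib.useBackward true
set_option backward.isDefEq.respectTransparency false
set_option linter.style.haveILetI false

namespace Groth.L29.BidualCx

variable {A : Type u} [CommRing A] (I : DRing.Cx A) (p : ℤ)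

/-- `A` in degree `p` -/
noncomputable abbrev rk1 : DRing.Cx A :=
  (HomologicalComplex.single (ModuleCat.{u} A) (ComplexShape.up ℤ) p).obj (ModuleCat.of A A)

/-- the generator -/
noncomputable def one : (rk1 (A := A) p).X p :=
  (HomologicalComplex.singleObjXSelf (ComplexShape.up ℤ) p (ModuleCat.of A A)).inv (1 : A)

theorem eq_smul_one (x : (rk1 (A := A) p).X p) : ∃ c : A, c • one p = x := by
  refine ⟨(HomologicalComplex.singleObjXSelf (ComplexShape.up ℤ) p (ModuleCat.of A A)).hom x, ?_⟩
  rw [one, ← map_smul, smul_eq_mul, mul_one]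
  exact ConcreteCategory.congr_hom
    (HomologicalComplex.singleObjXSelf (ComplexShape.up ℤ) p (ModuleCat.of A A)).hom_inv_id x

/-- evaluation at an element of degree `p`, as a cocycle -/
noncomputable def evCocycle (x : (rk1 (A := A) p).X p) : Cocycle (DRing.homCx (rk1 p) I) I p :=
  Cocycle.mk (evC I (rk1 p) p x) (p + 1) rfl (by
    rw [δ_evC, (HomologicalComplex.isZero_single_obj_X (ComplexShape.up ℤ) p (ModuleCat.of A A) (p + 1)
      (by omega)).eq_of_tgt ((rk1 p).d p (p + 1)) 0]
    exact ((ev I (rk1 p)).f (p + 1)).hom.map_zero)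

/-- evaluation as a chain map into the shift -/
noncomputable def theta (x : (rk1 (A := A) p).X p) : DRing.homCx (rk1 p) I ⟶ I⟦p⟧ :=
  Cocycle.equivHomShift.symm (evCocycle I p x)

theorem theta_apply (x : (rk1 (A := A) p).X p) (q : ℤ) (φ : Cochain (rk1 p) I q) :
    (theta I p x).f q φ = (I.shiftFunctorObjXIso p q (q + p) rfl).inv
      ((p * q).negOnePow • (φ.v p (q + p) (add_comm p q)).hom x) := by
  rw [theta, Cocycle.equivHomShift_symm_apply, Cocycle.homOf_f, Cocycle.rightShift_coe,
    Cochain.rightShift_v _ _ _ _ _ _ _ (q + p) rfl]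
  rfl

theorem theta_smul (c : A) (x : (rk1 (A := A) p).X p) : theta I p (c • x) = c • theta I p x := by
  refine HomologicalComplex.hom_ext _ _ fun q => ModuleCat.hom_ext (LinearMap.ext fun φ : Cochain (rk1 p) I q => ?_)
  change (theta I p (c • x)).f q φ = c • (theta I p x).f q φ
  rw [theta_apply, theta_apply, (φ.v p (q + p) (add_comm p q)).hom.map_smul, smul_comm]
  exact ((I.shiftFunctorObjXIso p q (q + p) rfl).inv).hom.map_smul c _

theorem isIso_theta : IsIso (theta I p (one p)) := by
  haveI : ∀ q, IsIso ((theta I p (one p)).f q) := fun q => by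
    let e := (I.shiftFunctorObjXIso p q (q + p) rfl).toLinearEquiv
    refine (ConcreteCategory.isIso_iff_bijective _).2 ⟨?_, fun y => ?_⟩
    · intro (φ : Cochain (rk1 p) I q) (ψ : Cochain (rk1 p) I q) h
      rw [theta_apply, theta_apply] at h
      have h' : (φ.v p (q + p) (add_comm p q)).hom (one p) = (ψ.v p (q + p) (add_comm p q)).hom (one p) :=
        smul_left_cancel _ (e.symm.injective h)
      refine Cochain.ext _ _ fun i j hij => ?_
      by_cases hi : i = p
      · obtain rfl : i = p := hi
        obtain rfl : j = q + i := by omega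
        refine ModuleCat.hom_ext (LinearMap.ext fun x => ?_)
        obtain ⟨c, rfl⟩ := eq_smul_one i x
        rw [map_smul, map_smul, h']
      · exact (HomologicalComplex.isZero_single_obj_X (ComplexShape.up ℤ) p (ModuleCat.of A A) i hi).eq_of_src _ _
    · let c : (rk1 (A := A) p).X p ⟶ I.X (q + p) :=
        (HomologicalComplex.singleObjXSelf (ComplexShape.up ℤ) p (ModuleCat.of A A)).hom ≫
          ModuleCat.ofHom (LinearMap.toSpanSingleton A (I.X (q + p)) ((p * q).negOnePow • e y))
      refine ⟨(Cochain.single c q : Cochain (rk1 p) I q), ?_⟩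
      rw [theta_apply, Cochain.single_v]
      have hc : c.hom (one p) = (p * q).negOnePow • e y := by
        change LinearMap.toSpanSingleton A (I.X (q + p)) ((p * q).negOnePow • e y)
          ((HomologicalComplex.singleObjXSelf (ComplexShape.up ℤ) p (ModuleCat.of A A)).hom (one p)) = _
        rw [one, ← ConcreteCategory.comp_apply, Iso.inv_hom_id]
        exact one_smul A _
      rw [hc, smul_smul, Int.units_mul_self, one_smul]
      exact e.symm_apply_apply y
  exact HomologicalComplex.Hom.isIso_of_components _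

variable [I.IsKInjective]

theorem Q_map_eq_zero_iff {K : DRing.Cx A} {n : ℤ} (z : Cocycle K I n) :
    DerivedCategory.Q.map (Cocycle.equivHomShift.symm z) = 0 ↔ ∃ w, δ (n - 1) n w = z.1 := by
  refine Iff.trans ?_ (mem_coboundaries_iff z (n - 1) (sub_add_cancel n 1))
  rw [← CohomologyClass.toHom_mk_eq_zero_iff, CohomologyClass.toHom_mk]
  let q := HomotopyCategory.quotient (ModuleCat.{u} A) (ComplexShape.up ℤ)
  have hn := (DerivedCategory.quotientCompQhIso (ModuleCat.{u} A)).hom.naturality (Cocycle.equivHomShift.symm z)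
  simp only [Functor.comp_map] at hn
  constructor
  · intro h
    rw [h, comp_zero] at hn
    refine (CochainComplex.IsKInjective.Qh_map_bijective (q.obj K) (I⟦n⟧)).1 ?_
    rw [Functor.map_zero]
    exact (cancel_mono ((DerivedCategory.quotientCompQhIso (ModuleCat.{u} A)).hom.app (I⟦n⟧))).1
      (hn.trans zero_comp.symm)
  · intro h
    rw [h, Functor.map_zero, zero_comp] at hn
    exact (cancel_epi ((DerivedCategory.quotientCompQhIso (ModuleCat.{u} A)).hom.app K)).1
      (hn.symm.trans comp_zero.symm)

variable (hbij : Function.Bijective (fun x : A => x • 𝟙 (DRing.toD I)))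
  (hself : ∀ i : ℤ, i ≠ 0 → Subsingleton (DRing.toD I ⟶ (DRing.toD I)⟦i⟧))

include hself in
omit [I.IsKInjective] in
theorem subsingleton_shift (n : ℤ) (hn : n ≠ p) :
    Subsingleton (DRing.toD (I⟦p⟧) ⟶ DRing.toD (I⟦n⟧)) := by
  haveI := hself (n - p) (by omega)
  let e : DRing.toD (I⟦n⟧) ≅ ((DRing.toD I)⟦n - p⟧)⟦p⟧ :=
    (DerivedCategory.Q.commShiftIso n).app I ≪≫
      (CategoryTheory.shiftFunctorAdd' (Dual.D A) (n - p) p n (sub_add_cancel n p)).app (DRing.toD I)
  exact ((Iso.homCongr ((DerivedCategory.Q.commShiftIso p).app I) e).trans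
    (Functor.FullyFaithful.ofFullyFaithful (CategoryTheory.shiftFunctor (Dual.D A) p)).homEquiv.symm).subsingleton

include hbij in
omit [I.IsKInjective] in
theorem bijective_shift :
    Function.Bijective (fun c : A => c • 𝟙 (DRing.toD (I⟦p⟧))) := by
  let eC := Linear.homCongr A ((DerivedCategory.Q.commShiftIso p).app I).symm
    ((DerivedCategory.Q.commShiftIso p).app I).symm
  let F := (Functor.FullyFaithful.ofFullyFaithful (CategoryTheory.shiftFunctor (Dual.D A) p)).homEquiv
    (X := DRing.toD I) (Y := DRing.toD I)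
  have h : (fun c : A => c • 𝟙 (DRing.toD (I⟦p⟧))) = eC ∘ F ∘ fun c : A => c • 𝟙 (DRing.toD I) := by
    funext c
    change _ = eC ((CategoryTheory.shiftFunctor (Dual.D A) p).map (c • 𝟙 (DRing.toD I)))
    rw [Functor.map_smul, CategoryTheory.Functor.map_id, map_smul]
    simp [eC, Linear.homCongr]
  rw [h]
  exact eC.bijective.comp (F.bijective.comp hbij)

include hbij hself in
/-- biduality for `A` in degree `p` -/
theorem quasiIso_ev_rk1 : QuasiIso (ev I (rk1 p)) := by
  haveI := isIso_theta I p
  let θ := theta I p (one p)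
  have hθ : ∀ c : A, DerivedCategory.Q.map (theta I p (c • one p)) =
      DerivedCategory.Q.map θ ≫ (c • 𝟙 (DRing.toD (I⟦p⟧))) := fun c => by
    rw [theta_smul, Functor.map_smul, Linear.comp_smul, Category.comp_id]
  refine Groth.L10.RHomCx.quasiIso_of_elements _
    (fun n (y : Cochain (DRing.homCx (rk1 p) I) I n) (hy : δ n (n + 1) y = 0) => ?_)
    (fun n x (w : Cochain (DRing.homCx (rk1 p) I) I (n - 1)) _ hw => ?_)
  · let z : Cocycle (DRing.homCx (rk1 p) I) I n := Cocycle.mk y (n + 1) rfl hy
    by_cases hn : n = p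
    · obtain rfl : n = p := hn
      obtain ⟨c, hc⟩ := (bijective_shift I n hbij).2
        (inv (DerivedCategory.Q.map θ) ≫ DerivedCategory.Q.map (Cocycle.equivHomShift.symm z))
      have hc' : DerivedCategory.Q.map (Cocycle.equivHomShift.symm z) =
          DerivedCategory.Q.map (theta I n (c • one n)) := by
        rw [hθ, show c • 𝟙 (DRing.toD (I⟦n⟧)) = _ from hc, IsIso.hom_inv_id_assoc]
      obtain ⟨w, hw⟩ := (Q_map_eq_zero_iff I (z - evCocycle I n (c • one n))).1 (by
        rw [map_sub, Functor.map_sub, hc']; exact sub_self _)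
      refine ⟨c • one n, w, ?_, ?_⟩
      · rw [(HomologicalComplex.isZero_single_obj_X (ComplexShape.up ℤ) n (ModuleCat.of A A) (n + 1)
          (by omega)).eq_of_tgt ((rk1 n).d n (n + 1)) 0]
        rfl
      · change evC I (rk1 n) n (c • one n) + δ (n - 1) n w = y
        rw [hw]
        exact add_sub_cancel (evC I (rk1 n) n (c • one n)) y
    · haveI := subsingleton_shift I p hself n hn
      obtain ⟨w, hw⟩ := (Q_map_eq_zero_iff I z).1 (by
        rw [← cancel_epi (inv (DerivedCategory.Q.map θ))]
        exact Subsingleton.elim _ _)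
      refine ⟨0, w, map_zero _, ?_⟩
      have h0 : (show Cochain (DRing.homCx (rk1 p) I) I n from (ev I (rk1 p)).f n 0) = 0 :=
        ((ev I (rk1 p)).f n).hom.map_zero
      change (show Cochain (DRing.homCx (rk1 p) I) I n from (ev I (rk1 p)).f n 0) + δ (n - 1) n w = y
      rw [h0, hw]
      exact zero_add y
  · refine ⟨0, ?_⟩
    rw [map_zero]
    by_cases hn : n = p
    · obtain rfl : n = p := hn
      obtain ⟨c, rfl⟩ := eq_smul_one n x
      have h0 : DerivedCategory.Q.map (theta I n (c • one n)) = 0 :=
        (Q_map_eq_zero_iff I (evCocycle I n (c • one n))).2 ⟨w, hw.symm⟩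
      rw [hθ] at h0
      have hc : c = 0 := (bijective_shift I n hbij).1 (by
        change c • 𝟙 (DRing.toD (I⟦n⟧)) = (0 : A) • 𝟙 (DRing.toD (I⟦n⟧))
        rw [zero_smul, ← cancel_epi (DerivedCategory.Q.map θ), h0, comp_zero])
      rw [hc, zero_smul]
    · haveI := ModuleCat.subsingleton_of_isZero
        (HomologicalComplex.isZero_single_obj_X (ComplexShape.up ℤ) p (ModuleCat.of A A) n hn)
      exact Subsingleton.elim _ _

/-- the dual of `A` in degree `p` -/
noncomputable def dualRk1Iso : DRing.homCx (rk1 p) I ≅ I⟦p⟧ :=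
  haveI := isIso_theta I p
  asIso (theta I p (one p))

end Groth.L29.BidualCx
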