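import Groth.Agent.L10.DRing.RHomCx
import Groth.Agent.L10.DRing.Perfect
import Groth.Agent.L10.DRing.Modules
import Groth.Agent.L02.PC.Trunc
import Mathlib.Algebra.Homology.Embedding.CochainComplex
import Mathlib.Algebra.Homology.HomologySequenceLemmas
import Mathlib.Algebra.Homology.DerivedCategory.Linear

/-!
Biduality for complexes with finite cohomology, on the level of Hom complexes into a bounded complex of
injectives: the evaluation `K ⟶ Hom•(Hom•(K, I), I)` is a quasi-isomorphism.
-/

set_option autoImplicit false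

universe u

open CategoryTheory CategoryTheory.Limits CochainComplex CochainComplex.HomComplex HomologicalComplex

attribute [local instance] HasDerivedCategory.standard

set_option backward.defeqAttrib.useBackward true
set_option backward.isDefEq.respectTransparency false
set_option linter.style.haveILetI false

namespace Groth.L29.BidualCx

variable {A : Type u} [CommRing A] (I : DRing.Cx A)

/-- `Hom•(-, I)` on morphisms -/
noncomputable abbrev Dmap {X Y : DRing.Cx A} (g : X ⟶ Y) : DRing.homCx Y I ⟶ DRing.homCx X I :=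
  Groth.L10.RHomCx.homCxPre g I

theorem Dmap_id (X : DRing.Cx A) : Dmap I (𝟙 X) = 𝟙 _ := by
  refine HomologicalComplex.hom_ext _ _ fun i => ModuleCat.hom_ext (LinearMap.ext fun z : Cochain X I i => ?_)
  exact Cochain.id_comp z

theorem Dmap_comp {X Y Z : DRing.Cx A} (f : X ⟶ Y) (g : Y ⟶ Z) :
    Dmap I (f ≫ g) = Dmap I g ≫ Dmap I f := by
  refine HomologicalComplex.hom_ext _ _ fun i => ModuleCat.hom_ext (LinearMap.ext fun z : Cochain Z I i => ?_)
  change (Cochain.ofHom (f ≫ g)).comp z (zero_add i) =
    (Cochain.ofHom f).comp ((Cochain.ofHom g).comp z (zero_add i)) (zero_add i)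
  ext p q hpq : 1
  simp [Cochain.zero_cochain_comp_v]

theorem Dmap_zero {X Y : DRing.Cx A} : Dmap I (0 : X ⟶ Y) = 0 := by
  refine HomologicalComplex.hom_ext _ _ fun i => ModuleCat.hom_ext (LinearMap.ext fun z : Cochain Y I i => ?_)
  change (Cochain.ofHom (0 : X ⟶ Y)).comp z (zero_add i) = (0 : Cochain X I i)
  ext p q hpq : 1
  simp [Cochain.zero_cochain_comp_v]

/-- the double dual -/
noncomputable abbrev DD (X : DRing.Cx A) : DRing.Cx A := DRing.homCx (DRing.homCx X I) I

/-- the double dual on morphisms -/
noncomputable abbrev DDmap {X Y : DRing.Cx A} (g : X ⟶ Y) : DD I X ⟶ DD I Y := Dmap I (Dmap I g)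

/-- evaluation at an element, as a cochain -/
noncomputable def evC (K : DRing.Cx A) (p : ℤ) (k : K.X p) : Cochain (DRing.homCx K I) I p :=
  Cochain.mk fun q r hqr => ModuleCat.ofHom (X := Cochain K I q) (Y := I.X r)
    { toFun := fun φ => (p * q).negOnePow • (φ.v p r (by omega)).hom k
      map_add' := fun φ ψ => by simp [smul_add]
      map_smul' := fun a φ => by
        rw [Cochain.smul_v, ModuleCat.hom_smul, LinearMap.smul_apply, RingHom.id_apply, smul_comm] }

theorem evC_v (K : DRing.Cx A) (p : ℤ) (k : K.X p) (q r : ℤ) (hqr : q + p = r) (φ : Cochain K I q) :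
    ((evC I K p k).v q r hqr).hom φ = (p * q).negOnePow • (φ.v p r (by omega)).hom k := rfl

theorem δ_evC (K : DRing.Cx A) (p : ℤ) (k : K.X p) :
    δ p (p + 1) (evC I K p k) = evC I K (p + 1) (K.d p (p + 1) k) := by
  ext q r hqr : 1
  refine ModuleCat.hom_ext (LinearMap.ext fun φ : Cochain K I q => ?_)
  rw [δ_v p (p + 1) rfl (evC I K p k) q r hqr (r - 1) (q + 1) rfl rfl]
  change (I.d (r - 1) r).hom (((evC I K p k).v q (r - 1) (by omega)).hom φ) +
    (p + 1).negOnePow • ((evC I K p k).v (q + 1) r (by omega)).hom (δ q (q + 1) φ) = _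
  rw [evC_v, evC_v, evC_v, δ_v q (q + 1) rfl φ p r (by omega) (r - 1) (p + 1) rfl rfl]
  simp only [ModuleCat.hom_add, LinearMap.add_apply, ModuleCat.hom_comp, LinearMap.comp_apply,
    Units.smul_def, ModuleCat.hom_zsmul, LinearMap.smul_apply, map_zsmul, smul_add, smul_smul,
    ← Units.val_mul, ← Int.negOnePow_add, ← add_assoc]
  have e1 : (p + 1 + p * (q + 1)).negOnePow = -(p * q).negOnePow := by
    rw [← Int.negOnePow_succ]
    exact (Int.negOnePow_eq_iff _ _).2 ⟨p, by ring⟩
  have e2 : (p + 1 + p * (q + 1) + q + 1).negOnePow = ((p + 1) * q).negOnePow :=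
    (Int.negOnePow_eq_iff _ _).2 ⟨p + 1, by ring⟩
  rw [e1, e2, Units.val_neg, neg_smul, add_neg_cancel, zero_add]

/-- the evaluation map -/
noncomputable def ev (K : DRing.Cx A) : K ⟶ DD I K where
  f p := ModuleCat.ofHom (X := K.X p) (Y := Cochain (DRing.homCx K I) I p)
    { toFun := evC I K p
      map_add' := fun k k' => by
        ext q r hqr : 1
        refine ModuleCat.hom_ext (LinearMap.ext fun φ : Cochain K I q => ?_)
        simp [evC, smul_add]
      map_smul' := fun a k => by
        ext q r hqr : 1
        refine ModuleCat.hom_ext (LinearMap.ext fun φ : Cochain K I q => ?_)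
        rw [RingHom.id_apply, Cochain.smul_v, ModuleCat.hom_smul, LinearMap.smul_apply, evC_v, evC_v,
          map_smul, smul_comm] }
  comm' p p' h := by
    obtain rfl : p + 1 = p' := h
    exact ModuleCat.hom_ext (LinearMap.ext fun k => δ_evC I K p k)

theorem ev_naturality {X Y : DRing.Cx A} (g : X ⟶ Y) : g ≫ ev I Y = ev I X ≫ DDmap I g := by
  refine HomologicalComplex.hom_ext _ _ fun p => ModuleCat.hom_ext (LinearMap.ext fun k => ?_)
  change evC I Y p (g.f p k) = (Cochain.ofHom (Dmap I g)).comp (evC I X p k) (zero_add p)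
  ext q r hqr : 1
  refine ModuleCat.hom_ext (LinearMap.ext fun φ : Cochain Y I q => ?_)
  rw [Cochain.zero_cochain_comp_v]
  change _ = (p * q).negOnePow • (((Cochain.ofHom g).comp φ (zero_add q)).v p r (by omega)).hom k
  rw [Cochain.zero_cochain_comp_v, Cochain.ofHom_v]
  rfl

section Exact

variable [∀ n, Injective (I.X n)]

/-- `Hom•(-, I)` of a short complex -/
noncomputable def Dsc (S : ShortComplex (DRing.Cx A)) : ShortComplex (DRing.Cx A) :=
  ShortComplex.mk (Dmap I S.g) (Dmap I S.f) (by rw [← Dmap_comp, S.zero, Dmap_zero])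

theorem Dsc_shortExact {S : ShortComplex (DRing.Cx A)} (hS : S.ShortExact) : (Dsc I S).ShortExact := by
  refine HomologicalComplex.shortExact_of_degreewise_shortExact _ fun n => ?_
  have hSi : ∀ p, (S.map (HomologicalComplex.eval _ _ p)).ShortExact := fun p =>
    hS.map_of_exact (HomologicalComplex.eval (ModuleCat.{u} A) (ComplexShape.up ℤ) p)
  exact
    { exact := by
        rw [ShortComplex.moduleCat_exact_iff]
        intro (φ : Cochain S.X₂ I n) (hφ : (Cochain.ofHom S.f).comp φ (zero_add n) = 0)
        have h : ∀ p q (hpq : p + n = q), S.f.f p ≫ φ.v p q hpq = 0 := fun p q hpq => by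
          have := Cochain.congr_v hφ p q hpq
          rwa [Cochain.zero_cochain_comp_v, Cochain.ofHom_v, Cochain.zero_v] at this
        refine ⟨(Cochain.mk fun p q hpq =>
          haveI := (hSi p).epi_g
          (hSi p).exact.desc (φ.v p q hpq) (h p q hpq) : Cochain S.X₃ I n), ?_⟩
        change (Cochain.ofHom S.g).comp _ (zero_add n) = φ
        refine Cochain.ext _ _ fun p q hpq => ?_
        haveI := (hSi p).epi_g
        rw [Cochain.zero_cochain_comp_v, Cochain.ofHom_v, Cochain.mk_v]
        exact (hSi p).exact.g_desc (φ.v p q hpq) (h p q hpq)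
      mono_f := (ModuleCat.mono_iff_injective _).2 fun (φ : Cochain S.X₃ I n) (ψ : Cochain S.X₃ I n) h => by
        refine Cochain.ext _ _ fun p q hpq => ?_
        haveI : Epi (S.g.f p) := (hSi p).epi_g
        have := Cochain.congr_v (show (Cochain.ofHom S.g).comp φ (zero_add n) =
          (Cochain.ofHom S.g).comp ψ (zero_add n) from h) p q hpq
        rw [Cochain.zero_cochain_comp_v, Cochain.zero_cochain_comp_v, Cochain.ofHom_v] at this
        exact (cancel_epi (S.g.f p)).1 this
      epi_g := (ModuleCat.epi_iff_surjective _).2 fun (φ : Cochain S.X₁ I n) => by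
        refine ⟨(Cochain.mk fun p q hpq =>
          haveI : Mono (S.f.f p) := (hSi p).mono_f
          Injective.factorThru (φ.v p q hpq) (S.f.f p) : Cochain S.X₂ I n), ?_⟩
        change (Cochain.ofHom S.f).comp _ (zero_add n) = φ
        refine Cochain.ext _ _ fun p q hpq => ?_
        haveI : Mono (S.f.f p) := (hSi p).mono_f
        rw [Cochain.zero_cochain_comp_v, Cochain.ofHom_v, Cochain.mk_v]
        exact Injective.comp_factorThru _ _ }

/-- the double dual of a short complex -/
noncomputable def DDsc (S : ShortComplex (DRing.Cx A)) : ShortComplex (DRing.Cx A) := Dsc I (Dsc I S)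

/-- evaluation, as a map of short complexes -/
noncomputable def evSc (S : ShortComplex (DRing.Cx A)) : S ⟶ DDsc I S :=
  ShortComplex.homMk (ev I S.X₁) (ev I S.X₂) (ev I S.X₃) (ev_naturality I S.f).symm
    (ev_naturality I S.g).symm

end Exact

end Groth.L29.BidualCx
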