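import Groth.Agent.L29.Dual.FlatExt
import Groth.Agent.L03.CMAffine
import Groth.Agent.L04.RegularPd
import Groth.Agent.L06.RectDepthJacobson
import Mathlib.RingTheory.TensorProduct.MvPolynomial
import Mathlib.RingTheory.TensorProduct.Quotient
import Mathlib.RingTheory.KrullDimension.NonZeroDivisors
import Mathlib.RingTheory.RegularLocalRing.Polynomial

/-!
Cohen–Macaulay quotients of regular affine algebras: projective dimension and grade.
-/

set_option autoImplicit false
set_option maxSynthPendingDepth 3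
set_option linter.style.haveILetI false
universe u

open TensorProduct CategoryTheory Abelian

namespace Groth.L29.FlatExt

theorem ringKrullDim_quotient_eq_coheight {R : Type u} [CommRing R] (p : PrimeSpectrum R) :
    ringKrullDim (R ⧸ p.asIdeal) = (Order.coheight p : WithBot ℕ∞) := by
  rw [ringKrullDim_quotient, Order.coheight_eq_krullDim_Ici]
  exact Order.krullDim_eq_of_orderIso
    { toFun := fun q => ⟨q.1, q.2⟩
      invFun := fun q => ⟨q.1, q.2⟩
      left_inv := fun _ => rfl
      right_inv := fun _ => rfl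
      map_rel_iff' := Iff.rfl }

variable (k : Type u) [Field k] {S R : Type u} [CommRing S] [Algebra k S] [Algebra.FiniteType k S]
  [IsDomain S] [IsRegularRing S] [CommRing R] [Algebra k R] [Algebra S R] [IsScalarTower k S R]

include k in
/-- Height of primes containing an equidimensional CM quotient. -/
theorem height_comap_eq [LocCoh.IsCohenMacaulayRing R] (hs : Function.Surjective (algebraMap S R)) {N n : ℕ}
    (hS : ringKrullDim S = N) (hR : ∀ p ∈ minimalPrimes R, ringKrullDim (R ⧸ p) = n) (hnN : n ≤ N)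
    (q : Ideal R) [q.IsPrime] :
    ∃ h : ℕ, q.height = h ∧ (q.comap (algebraMap S R)).height = (h + (N - n) : ℕ) := by
  haveI : Algebra.FiniteType k R :=
    (inferInstance : Algebra.FiniteType k S).of_surjective (IsScalarTower.toAlgHom k S R) hs
  haveI : IsNoetherianRing S := Algebra.FiniteType.isNoetherianRing k S
  haveI := Groth.L04.isCohenMacaulayRing_of_regularRing (R := S)
  obtain ⟨h, e, hh, he, hhe⟩ := Groth.L03.CMAffine.height_add_dim k n hR q
  obtain ⟨H, e', hH, he', hHe⟩ := Groth.L03.CMAffine.height_add_dim k N (S := S) (fun p hp => by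
    rw [IsDomain.minimalPrimes_eq_singleton_bot, Set.mem_singleton_iff] at hp
    subst hp
    rw [← hS]
    exact ringKrullDim_eq_of_ringEquiv (RingEquiv.quotientBot S)) (q.comap (algebraMap S R))
  refine ⟨h, hh, hH.trans ?_⟩
  have hee : e' = e := by
    let f := (Ideal.Quotient.mk q).comp (algebraMap S R)
    have hker : RingHom.ker f = q.comap (algebraMap S R) := by
      ext x
      rw [RingHom.mem_ker, Ideal.mem_comap]
      exact Ideal.Quotient.eq_zero_iff_mem
    have := (ringKrullDim_eq_of_ringEquiv ((Ideal.quotEquivOfEq hker.symm).trans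
      (RingHom.quotientKerEquivOfSurjective (f := f) (Ideal.Quotient.mk_surjective.comp hs)))).symm.trans he'
    rw [he] at this
    exact_mod_cast this.symm
  exact_mod_cast (show H = h + (N - n) by omega)

include k in
/-- Projective dimension and grade of an equidimensional CM quotient of a regular affine domain. -/
theorem pd_and_grade [LocCoh.IsCohenMacaulayRing R] (hs : Function.Surjective (algebraMap S R)) {N n : ℕ}
    (hS : ringKrullDim S = N) (hR : ∀ p ∈ minimalPrimes R, ringKrullDim (R ⧸ p) = n) (hnN : n ≤ N) :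
    HasProjectiveDimensionLT (ModuleCat.of S R) (N - n + 1) ∧
      ∀ i < N - n, Subsingleton (Ext (ModuleCat.of S R) (ModuleCat.of S S) i) := by
  haveI : IsNoetherianRing S := Algebra.FiniteType.isNoetherianRing k S
  haveI : Module.Finite S R := Module.Finite.of_surjective (Algebra.linearMap S R) hs
  have hprime : ∀ Q : Ideal S, Q.IsPrime → RingHom.ker (algebraMap S R) ≤ Q →
      ∃ q : Ideal R, q.IsPrime ∧ q.comap (algebraMap S R) = Q := fun Q _ hle =>
    ⟨Q.map (algebraMap S R), Ideal.map_isPrime_of_surjective hs hle,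
      by rw [Ideal.comap_map_of_surjective _ hs]; exact sup_eq_left.2 hle⟩
  refine ⟨((ModuleCat.of S R).hasProjectiveDimensionLE_iff_forall_primeSpectrum (N - n)).2 fun Q => ?_,
    fun i hi => ?_⟩
  · let e : ((ModuleCat.of S R).localizedModule Q.asIdeal.primeCompl) ≅
        ModuleCat.of (Localization.AtPrime Q.asIdeal) (LocalizedModule Q.asIdeal.primeCompl R) :=
      (Shrink.linearEquiv (Localization.AtPrime Q.asIdeal) _).toModuleIso
    suffices h : HasProjectiveDimensionLE
        (ModuleCat.of (Localization.AtPrime Q.asIdeal) (LocalizedModule Q.asIdeal.primeCompl R)) (N - n) from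
      (haveI := h; hasProjectiveDimensionLT_of_iso e.symm (N - n + 1))
    by_cases hle : RingHom.ker (algebraMap S R) ≤ Q.asIdeal
    · obtain ⟨q, hq, hqQ⟩ := hprime Q.asIdeal Q.2 hle
      obtain ⟨h, hh, hH⟩ := height_comap_eq k hs hS hR hnN q
      haveI : IsRegularLocalRing (Localization.AtPrime Q.asIdeal) :=
        IsRegularRing.isRegularLocalRing_localization Q.asIdeal
      refine Groth.L04.hasProjectiveDimensionLE_of_dim_le_add_depth (LocalizedModule Q.asIdeal.primeCompl R)
        (d := h + (N - n)) ?_ ?_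
      · rw [IsLocalization.AtPrime.ringKrullDim_eq_height Q.asIdeal, ← hqQ, hH]
        rfl
      · have hd : LocCoh.depth (Localization.AtPrime q) (LocalizedModule q.primeCompl R) = h := by
          have hcm := (LocCoh.IsCohenMacaulayRing.isCohenMacaulayLocalRing_localization q).supportDim_eq_depth
          rw [Module.supportDim_self_eq_ringKrullDim, IsLocalization.AtPrime.ringKrullDim_eq_height q, hh] at hcm
          rw [Groth.L04.depth_localizedModule_self]
          exact_mod_cast hcm.symm
        have hd' := Groth.L06.RectDepthJacobson.depth_localization_surjective hs R q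
        rw [hd] at hd'
        obtain ⟨Qi, _⟩ := Q
        subst hqQ
        rw [← hd']
        push_cast
        rw [add_comm]
    · obtain ⟨s, hs0, hsQ⟩ := SetLike.not_le_iff_exists.1 hle
      haveI : Subsingleton (LocalizedModule Q.asIdeal.primeCompl R) := LocalizedModule.subsingleton_iff.2 fun m =>
        ⟨s, hsQ, by rw [Algebra.smul_def, RingHom.mem_ker.1 hs0, zero_mul]⟩
      exact Groth.L04.hasProjectiveDimensionLE_of_subsingleton _ _
  · let J := RingHom.ker (algebraMap S R)
    have hne : J ≠ ⊤ ∨ Subsingleton R := by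
      by_cases h : J = ⊤
      · right
        exact subsingleton_of_zero_eq_one ((RingHom.mem_ker.1 (h ▸ trivial : (1 : S) ∈ J)).symm.trans (map_one _))
      · exact Or.inl h
    rcases hne with hne | hsub
    · have hgr : ((N - n : ℕ) : ℕ∞) ≤ LocCoh.idealDepth J S := by
        rw [(Groth.L04.isCohenMacaulayRing_iff_height.1 Groth.L04.isCohenMacaulayRing_of_regularRing) J hne,
          Ideal.height_eq_inf_minimalPrimes]
        refine le_iInf₂ fun Q hQ => ?_
        haveI := hQ.isPrime
        obtain ⟨q, hq, hqQ⟩ := hprime Q inferInstance hQ.1.2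
        obtain ⟨h, hh, hH⟩ := height_comap_eq k hs hS hR hnN q
        subst hqQ
        rw [hH]
        exact_mod_cast Nat.le_add_left _ _
      obtain ⟨rs, hlen, hrs, hmem⟩ := Groth.L04.exists_of_le_idealDepth
        (by simpa using hne) hgr
      refine Groth.L04.subsingleton_ext_of_weaklyRegular (I := J) (k := 1) (ModuleCat.of S R) ?_ rs
        (ModuleCat.of S S) hrs hmem i (hlen ▸ hi)
      refine eq_bot_iff.2 (Submodule.smul_le.2 fun r hr m _ => ?_)
      rw [pow_one] at hr
      rw [Submodule.mem_bot]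
      show r • (m : R) = 0
      rw [Algebra.smul_def, RingHom.mem_ker.1 hr]
      exact zero_mul _
    · haveI := (ModuleCat.isZero_of_subsingleton (ModuleCat.of S R)).hasProjectiveDimensionLT_zero
      exact HasProjectiveDimensionLT.subsingleton _ 0 i (Nat.zero_le _) _

/-- The fibre of a quotient of a polynomial ring. -/
theorem fibre_facts {A : Type u} [CommRing A] {N n : ℕ} (hnN : n ≤ N) (I : Ideal (MvPolynomial (Fin N) A))
    (p : Ideal A) [p.IsPrime]
    (hCM : LocCoh.IsCohenMacaulayRing ((MvPolynomial (Fin N) A ⧸ I) ⊗[A] p.ResidueField))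
    (hdim : ∀ Q : PrimeSpectrum ((MvPolynomial (Fin N) A ⧸ I) ⊗[A] p.ResidueField),
      Q.asIdeal ∈ minimalPrimes ((MvPolynomial (Fin N) A ⧸ I) ⊗[A] p.ResidueField) → Order.coheight Q = (n : ℕ∞)) :
    HasProjectiveDimensionLT (ModuleCat.of (MvPolynomial (Fin N) A ⊗[A] p.ResidueField)
        ((MvPolynomial (Fin N) A ⊗[A] p.ResidueField) ⊗[MvPolynomial (Fin N) A] (MvPolynomial (Fin N) A ⧸ I)))
        (N - n + 1) ∧
      ∀ i < N - n, Subsingleton (Ext (ModuleCat.of (MvPolynomial (Fin N) A ⊗[A] p.ResidueField)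
        ((MvPolynomial (Fin N) A ⊗[A] p.ResidueField) ⊗[MvPolynomial (Fin N) A] (MvPolynomial (Fin N) A ⧸ I)))
        (ModuleCat.of (MvPolynomial (Fin N) A ⊗[A] p.ResidueField) (MvPolynomial (Fin N) A ⊗[A] p.ResidueField)) i) := by
  let P := MvPolynomial (Fin N) A
  let κ := p.ResidueField
  let S := P ⊗[A] κ
  let R := (P ⧸ I) ⊗[A] κ
  letI : Algebra κ S := Algebra.TensorProduct.rightAlgebra
  let ε : MvPolynomial (Fin N) κ ≃+* S :=
    ((MvPolynomial.algebraTensorAlgEquiv A κ (σ := Fin N)).symm.toRingEquiv).trans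
      (Algebra.TensorProduct.comm A κ P).toRingEquiv
  have hε : ∀ c, ε (algebraMap κ _ c) = algebraMap κ S c := fun c => by
    show Algebra.TensorProduct.comm A κ P ((MvPolynomial.algebraTensorAlgEquiv A κ).symm (algebraMap κ _ c)) = _
    rw [AlgEquiv.commutes]
    rfl
  haveI : Algebra.FiniteType κ S :=
    (inferInstance : Algebra.FiniteType κ (MvPolynomial (Fin N) κ)).equiv (AlgEquiv.ofRingEquiv (f := ε) hε)
  haveI : IsRegularRing S := IsRegularRing.of_ringEquiv ε
  haveI : IsDomain S := ε.toMulEquiv.isDomain_iff.1 inferInstance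
  let f : S →ₐ[A] R := Algebra.TensorProduct.map (Ideal.Quotient.mkₐ A I) (AlgHom.id A κ)
  have hf : Function.Surjective f := fun z => by
    induction z using TensorProduct.induction_on with
    | zero => exact ⟨0, map_zero f⟩
    | tmul b c =>
      obtain ⟨b, rfl⟩ := Ideal.Quotient.mk_surjective b
      exact ⟨b ⊗ₜ c, rfl⟩
    | add x y hx hy =>
      obtain ⟨x, rfl⟩ := hx
      obtain ⟨y, rfl⟩ := hy
      exact ⟨x + y, map_add f x y⟩
  letI : Algebra S R := f.toRingHom.toAlgebra
  letI : Algebra κ R := (f.toRingHom.comp (algebraMap κ S)).toAlgebra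
  haveI : IsScalarTower κ S R := IsScalarTower.of_algebraMap_eq fun _ => rfl
  haveI := hCM
  have hS : ringKrullDim S = N := by
    rw [← ringKrullDim_eq_of_ringEquiv ε, MvPolynomial.ringKrullDim_of_isNoetherianRing,
      ringKrullDim_eq_zero_of_field, zero_add]
    simp
  obtain ⟨h1, h2⟩ := pd_and_grade κ (S := S) (R := R) hf hS (fun q hq => by
    haveI := hq.1.1
    rw [ringKrullDim_quotient_eq_coheight ⟨q, inferInstance⟩, hdim ⟨q, inferInstance⟩ hq]
    rfl) hnN
  haveI : IsScalarTower P S R := IsScalarTower.of_algebraMap_eq fun x => by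
    show (algebraMap P (P ⧸ I) x) ⊗ₜ[A] (1 : κ) = f (x ⊗ₜ[A] (1 : κ))
    rfl
  let g : S ⊗[P] (P ⧸ I) →ₗ[S] R := LinearMap.liftBaseChange S
    { toFun := fun x => x ⊗ₜ[A] (1 : κ)
      map_add' := fun x y => TensorProduct.add_tmul x y 1
      map_smul' := fun c x => by
        obtain ⟨x, rfl⟩ := Ideal.Quotient.mk_surjective x
        show (c • Ideal.Quotient.mk I x) ⊗ₜ[A] (1 : κ) = c • ((Ideal.Quotient.mk I x) ⊗ₜ[A] (1 : κ))
        rw [TensorProduct.smul_tmul'] }
  have hlin : ∀ (s : S), g (s ⊗ₜ[P] (1 : P ⧸ I)) = f s := fun s => by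
    show s • ((1 : P ⧸ I) ⊗ₜ[A] (1 : κ)) = f s
    rw [Algebra.smul_def]
    show f s * 1 = f s
    rw [mul_one]
  let ψ := Algebra.TensorProduct.quotIdealMapEquivTensorQuot S I
  have hker : RingHom.ker f.toRingHom = I.map (algebraMap P S) := by
    refine le_antisymm (fun s hs => ?_) (Ideal.map_le_iff_le_comap.2 fun x hx => ?_)
    · have hmap : RingHom.ker f.toRingHom =
          (RingHom.ker (Ideal.Quotient.mkₐ A I)).map (Algebra.TensorProduct.includeLeft (S := A)) :=
        Algebra.TensorProduct.rTensor_ker _ (Ideal.Quotient.mkₐ_surjective A I)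
      rw [hmap, show RingHom.ker (Ideal.Quotient.mkₐ A I) = I from Ideal.mk_ker] at hs
      exact hs
    · show (Ideal.Quotient.mk I x) ⊗ₜ[A] (1 : κ) = 0
      rw [Ideal.Quotient.eq_zero_iff_mem.2 hx, TensorProduct.zero_tmul]
  have hbij : Function.Bijective g := by
    constructor
    · rw [injective_iff_map_eq_zero]
      intro z hz
      obtain ⟨w, rfl⟩ := ψ.surjective z
      obtain ⟨s, rfl⟩ := Ideal.Quotient.mk_surjective w
      have e : ψ (Ideal.Quotient.mk _ s) = s ⊗ₜ[P] (1 : P ⧸ I) := rfl
      rw [e, hlin] at hz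
      have : s ∈ I.map (algebraMap P S) := hker ▸ (show f.toRingHom s = 0 from hz)
      rw [Ideal.Quotient.eq_zero_iff_mem.2 this, map_zero]
    · intro r
      obtain ⟨s, rfl⟩ := hf r
      exact ⟨_, hlin s⟩
  let E : ModuleCat.of S (S ⊗[P] (P ⧸ I)) ≅ ModuleCat.of S R := (LinearEquiv.ofBijective g hbij).toModuleIso
  refine ⟨?_, fun i hi => ?_⟩
  · haveI := h1
    exact hasProjectiveDimensionLT_of_iso E.symm _
  · haveI : Subsingleton ↑(((Abelian.extFunctor (C := ModuleCat.{u} S) i).obj
      (Opposite.op (ModuleCat.of S R))).obj (ModuleCat.of S S)) := h2 i hi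
    exact (((Abelian.extFunctor (C := ModuleCat.{u} S) i).mapIso E.op).app
      (ModuleCat.of S S)).addCommGroupIsoToAddEquiv.toEquiv.symm.subsingleton

theorem ext_vanishing_of_cm_fibres (A : Type u) [CommRing A] (N n : ℕ) (hnN : n ≤ N)
    (I : Ideal (MvPolynomial (Fin N) A)) (hI : I.FG) [Module.Flat A (MvPolynomial (Fin N) A ⧸ I)]
    (hCM : ∀ p : PrimeSpectrum A,
      LocCoh.IsCohenMacaulayRing ((MvPolynomial (Fin N) A ⧸ I) ⊗[A] p.asIdeal.ResidueField))
    (hdim : ∀ p : PrimeSpectrum A, ∀ Q : PrimeSpectrum ((MvPolynomial (Fin N) A ⧸ I) ⊗[A] p.asIdeal.ResidueField),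
      Q.asIdeal ∈ minimalPrimes ((MvPolynomial (Fin N) A ⧸ I) ⊗[A] p.asIdeal.ResidueField) →
        Order.coheight Q = (n : ℕ∞)) :
    (∀ j : ℕ, j ≠ N - n → Subsingleton (Ext (ModuleCat.of (MvPolynomial (Fin N) A) (MvPolynomial (Fin N) A ⧸ I))
      (ModuleCat.of (MvPolynomial (Fin N) A) (MvPolynomial (Fin N) A)) j)) ∧
    Module.Flat A (RestrictScalars A (MvPolynomial (Fin N) A) (Ext (ModuleCat.of (MvPolynomial (Fin N) A)
      (MvPolynomial (Fin N) A ⧸ I)) (ModuleCat.of (MvPolynomial (Fin N) A) (MvPolynomial (Fin N) A)) (N - n))) ∧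
    Module.FinitePresentation (MvPolynomial (Fin N) A) (Ext (ModuleCat.of (MvPolynomial (Fin N) A)
      (MvPolynomial (Fin N) A ⧸ I)) (ModuleCat.of (MvPolynomial (Fin N) A) (MvPolynomial (Fin N) A)) (N - n)) := by
  haveI : Module.FinitePresentation (MvPolynomial (Fin N) A) (MvPolynomial (Fin N) A ⧸ I) :=
    Module.finitePresentation_of_surjective I.mkQ (Submodule.mkQ_surjective _) (by rwa [Submodule.ker_mkQ])
  exact ext_vanishing_flat (A := A) (MvPolynomial (Fin N) A ⧸ I) (N - n)
    (fun p => (fibre_facts hnN I p.asIdeal (hCM p) (hdim p)).1)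
    (fun p _ => (fibre_facts hnN I p (hCM ⟨p, inferInstance⟩) (hdim ⟨p, inferInstance⟩)).2)

end Groth.L29.FlatExt
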