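import Groth.Agent.L29.Dual.FlatExt
import Groth.Agent.L06.FibreExactLocus
import Groth.Agent.L01.AusBuch
import Groth.Agent.L07.GrModel

/-!
Converse: a single flat relative Ext forces a single Ext on every fibre.
-/

set_option autoImplicit false
set_option maxSynthPendingDepth 3
set_option linter.style.haveILetI false
universe u

open TensorProduct CategoryTheory Abelian
open Groth.L07.SyzygyRes

noncomputable section

namespace Groth.L29.FlatExt

variable {A B : Type u} [CommRing A] [CommRing B] [Algebra A B] [Algebra.FinitePresentation A B] [Module.Flat A B]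
  {M : Type u} [AddCommGroup M] [Module B M] [Module A M] [IsScalarTower A B M]
  [Module.FinitePresentation B M] [Module.Flat A M]

theorem bc_ext_equiv (p : Ideal A) [p.IsPrime] : ∀ (i t : ℕ),
    Nonempty (Ext (ModuleCat.of (B ⊗[A] p.ResidueField) ((B ⊗[A] p.ResidueField) ⊗[B] M))
      (ModuleCat.of (B ⊗[A] p.ResidueField) (B ⊗[A] p.ResidueField)) (t + i + 1) ≃
    Ext (ModuleCat.of (B ⊗[A] p.ResidueField) ((B ⊗[A] p.ResidueField) ⊗[B] (syz A B M i).K))
      (ModuleCat.of (B ⊗[A] p.ResidueField) (B ⊗[A] p.ResidueField)) (t + 1))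
  | 0, t => ⟨Equiv.refl _⟩
  | i + 1, t => by
    obtain ⟨e0⟩ := bc_ext_equiv p i (t + 1)
    let f := (incl A (B := B) M i).baseChange (B ⊗[A] p.ResidueField)
    let g := (gen (syz A B M i)).baseChange (B ⊗[A] p.ResidueField)
    have hex : Function.Exact f g := by
      simp only [f, g, LinearMap.baseChange_eq_ltensor]
      exact lTensor_exact _ (exact_incl i) (gen_surjective _)
    have hg : Function.Surjective g := by
      simp only [g, LinearMap.baseChange_eq_ltensor]
      exact LinearMap.lTensor_surjective _ (gen_surjective _)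
    obtain ⟨e⟩ := Groth.L04.LC.nonempty_ext_succ_equiv f g
      (baseChange_injective (incl A (B := B) M i) (gen (syz A B M i)) (incl_injective i) (exact_incl i)
        (gen_surjective _)) hg hex (B ⊗[A] p.ResidueField) t
    exact ⟨(Equiv.cast (congrArg (fun n => Ext (ModuleCat.of (B ⊗[A] p.ResidueField) ((B ⊗[A] p.ResidueField) ⊗[B] M))
      (ModuleCat.of (B ⊗[A] p.ResidueField) (B ⊗[A] p.ResidueField)) n)
      (show t + (i + 1) + 1 = t + 1 + i + 1 by omega))).trans (e0.trans e.toEquiv)⟩

/-- Vanishing of the Ext gives exactness of the dual complex. -/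
theorem ker_eq_T_of_subsingleton : ∀ (j : ℕ), Subsingleton (Ext (ModuleCat.of B M) (ModuleCat.of B B) j) →
    LinearMap.ker ((diff A (B := B) M j).lcomp B B) = T A (B := B) M j := fun j hj => by
  refine le_antisymm (fun x hx => ?_) (T_le j)
  obtain ⟨φ, rfl⟩ := exists_factor (gen (syz A B M j)) (gen_surjective _) x fun v hv => by
    obtain ⟨w, rfl⟩ := (exact_diff j v).1 hv
    exact LinearMap.congr_fun hx w
  rcases j with - | i
  · let hom0 : Ext (ModuleCat.of B M) (ModuleCat.of B B) 0 ≃ₗ[B] (M →ₗ[B] B) :=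
      Ext.linearEquiv₀ (R := B) ≪≫ₗ ModuleCat.homLinearEquiv (S := B)
    have : Subsingleton (M →ₗ[B] B) := hom0.symm.toEquiv.subsingleton
    have hφ : φ = 0 := @Subsingleton.elim (M →ₗ[B] B) this φ 0
    rw [hφ, LinearMap.zero_comp]
    exact zero_mem _
  · obtain ⟨e⟩ := ext_shift (A := A) (B := B) (M := M) i 0
    obtain ⟨e'⟩ := Groth.L04.LC.nonempty_ext_one_equiv (incl A (B := B) M i) (gen (syz A B M i))
      (incl_injective i) (gen_surjective _) (exact_incl i) B
    rw [Nat.zero_add] at e
    haveI := (e ≪≫ₗ e').symm.toEquiv.subsingleton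
    obtain ⟨y, hy⟩ : φ ∈ LinearMap.range ((incl A (B := B) M i).lcomp B B) :=
      (Submodule.Quotient.subsingleton_iff.1 this).symm ▸ trivial
    exact ⟨y, by rw [← hy]; rfl⟩

set_option maxHeartbeats 1000000 in
/-- The source modulo the kernel of a map into a flat module with flat cokernel is flat. -/
theorem flat_quot_ker {A B X Y : Type u} [CommRing A] [CommRing B] [Algebra A B] [AddCommGroup X] [Module B X]
    [Module A X] [IsScalarTower A B X] [AddCommGroup Y] [Module B Y] [Module A Y] [IsScalarTower A B Y]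
    [Module.Flat A Y] (f : X →ₗ[B] Y) [Module.Flat A (Y ⧸ LinearMap.range f)] :
    Module.Flat A (X ⧸ LinearMap.ker f) := by
  let g := (LinearMap.range f).mkQ.restrictScalars A
  haveI := Groth.L07.FlatDescent.flat_ker g (Submodule.mkQ_surjective _)
  let e' : LinearMap.ker g ≃ₗ[A] LinearMap.range f :=
    { toFun := fun x => ⟨x.1, (Submodule.Quotient.mk_eq_zero _).1 x.2⟩
      invFun := fun x => ⟨x.1, (Submodule.Quotient.mk_eq_zero _).2 x.2⟩
      map_add' := fun _ _ => rfl
      map_smul' := fun _ _ => rfl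
      left_inv := fun _ => rfl
      right_inv := fun _ => rfl }
  exact Module.Flat.of_linearEquiv ((f.quotKerEquivRange.restrictScalars A).trans e'.symm)

/-- The last cokernel is flat. -/
theorem flat_coker_top (c : ℕ) (hpd : HasProjectiveDimensionLT (ModuleCat.of B M) (c + 1))
    (hflat : Module.Flat A (RestrictScalars A B (Ext (ModuleCat.of B M) (ModuleCat.of B B) c))) :
    Module.Flat A (D A (B := B) M c ⧸ T A (B := B) M c) := by
  haveI : Module.Flat B (syz A B M c).K := (pdLT_iff_flat (A := A) (B := B) (M := M) c).1 hpd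
  haveI : Module.Projective B (syz A B M c).K := Module.Flat.projective_of_finitePresentation
  obtain ⟨σ, hσ⟩ := Module.projective_lifting_property (gen (syz A B M c)) LinearMap.id (gen_surjective _)
  let e₀ : RestrictScalars A B (Ext (ModuleCat.of B M) (ModuleCat.of B B) c) →
      Ext (ModuleCat.of B M) (ModuleCat.of B B) c := id
  have hP : ∀ (P : Type u) [AddCommGroup P] [Module B P] [Module A P] [IsScalarTower A B P],
      (Ext (ModuleCat.of B M) (ModuleCat.of B B) c ≃ₗ[B] P) → Module.Flat A P := fun P _ _ _ _ e => by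
    haveI := hflat
    exact Module.Flat.of_linearEquiv
      ({ toFun := fun x => e.symm x
         invFun := fun x => e x
         map_add' := fun x y => e.symm.map_add x y
         map_smul' := fun a x => by
           show e.symm (a • x) = algebraMap A B a • e.symm x
           rw [← e.symm.map_smul, algebraMap_smul]
         left_inv := e.right_inv
         right_inv := e.left_inv } : P ≃ₗ[A] RestrictScalars A B (Ext (ModuleCat.of B M) (ModuleCat.of B B) c))
  have hc : Module.Flat A (D A (B := B) M c ⧸ T A (B := B) M c) := by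
    rcases c with - | i
    · exact Module.Flat.of_linearEquiv ((Submodule.quotEquivOfEqBot (T A (B := B) M 0) rfl).restrictScalars A)
    · obtain ⟨e⟩ := ext_shift (A := A) (B := B) (M := M) i 0
      obtain ⟨e'⟩ := Groth.L04.LC.nonempty_ext_one_equiv (incl A (B := B) M i) (gen (syz A B M i))
        (incl_injective i) (gen_surjective _) (exact_incl i) B
      rw [Nat.zero_add] at e
      let L := LinearMap.range ((incl A (B := B) M i).lcomp B B)
      haveI : Module.Flat A (((syz A B M (i + 1)).K →ₗ[B] B) ⧸ L) := hP _ (e ≪≫ₗ e')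
      let ι : (((syz A B M (i + 1)).K →ₗ[B] B) ⧸ L) →ₗ[B] D A (B := B) M (i + 1) ⧸ T A (B := B) M (i + 1) :=
        L.mapQ (T A (B := B) M (i + 1)) ((gen (syz A B M (i + 1))).lcomp B B) (by
          rintro _ ⟨y, rfl⟩
          exact ⟨y, rfl⟩)
      let r : D A (B := B) M (i + 1) ⧸ T A (B := B) M (i + 1) →ₗ[B] (((syz A B M (i + 1)).K →ₗ[B] B) ⧸ L) :=
        (T A (B := B) M (i + 1)).mapQ L (σ.lcomp B B) (by
          rintro _ ⟨y, rfl⟩
          refine ⟨y, LinearMap.ext fun m => ?_⟩
          show y (incl A M i m) = y (incl A M i (gen (syz A B M (i + 1)) (σ m)))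
          rw [show gen (syz A B M (i + 1)) (σ m) = m from LinearMap.congr_fun hσ m])
      let pr : D A (B := B) M (i + 1) →ₗ[B] D A (B := B) M (i + 1) :=
        LinearMap.id - ((gen (syz A B M (i + 1))).lcomp B B) ∘ₗ (σ.lcomp B B)
      let w : D A (B := B) M (i + 1) ⧸ T A (B := B) M (i + 1) →ₗ[B] D A (B := B) M (i + 1) :=
        (T A (B := B) M (i + 1)).liftQ pr (by
          rintro _ ⟨y, rfl⟩
          refine LinearMap.mem_ker.2 (LinearMap.ext fun v => ?_)
          show y (diff A M i v) - y (diff A M i (σ (gen (syz A B M (i + 1)) v))) = 0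
          rw [sub_eq_zero]
          show y (incl A M i _) = y (incl A M i _)
          rw [show gen (syz A B M (i + 1)) (σ (gen (syz A B M (i + 1)) v)) = gen (syz A B M (i + 1)) v from
            LinearMap.congr_fun hσ _])
      haveI : Module.Flat A ((((syz A B M (i + 1)).K →ₗ[B] B) ⧸ L) × D A (B := B) M (i + 1)) :=
        Groth.L07.FlatDescent.flat_of_shortExact (LinearMap.inl A _ _) (LinearMap.snd A _ _)
          LinearMap.inl_injective LinearMap.snd_surjective Function.Exact.inl_snd
      refine Module.Flat.of_retract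
        (M := (((syz A B M (i + 1)).K →ₗ[B] B) ⧸ L) × D A (B := B) M (i + 1))
        ((r.prod w).restrictScalars A) ((ι.coprod (T A (B := B) M (i + 1)).mkQ).restrictScalars A) ?_
      refine LinearMap.ext fun z => ?_
      obtain ⟨x, rfl⟩ := Submodule.mkQ_surjective _ z
      show (T A (B := B) M (i + 1)).mkQ ((x ∘ₗ σ) ∘ₗ gen (syz A B M (i + 1))) +
        (T A (B := B) M (i + 1)).mkQ (x - (x ∘ₗ σ) ∘ₗ gen (syz A B M (i + 1))) = _
      rw [← map_add, add_sub_cancel]
      rfl
  exact hc

/-- The cokernels in the dual complex are flat up to the degree of the flat Ext. -/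
theorem flat_coker_of_ext (c : ℕ) (hpd : HasProjectiveDimensionLT (ModuleCat.of B M) (c + 1))
    (hvan : ∀ j < c, Subsingleton (Ext (ModuleCat.of B M) (ModuleCat.of B B) j))
    (hflat : Module.Flat A (RestrictScalars A B (Ext (ModuleCat.of B M) (ModuleCat.of B B) c))) :
    ∀ d j, j + d = c → Module.Flat A (D A (B := B) M j ⧸ T A (B := B) M j) := by
  intro d
  induction d with
  | zero =>
    rintro j rfl
    exact flat_coker_top (A := A) j hpd hflat
  | succ d ih =>
    intro j hj
    haveI : Module.Flat A (D A (B := B) M (j + 1) ⧸ LinearMap.range ((diff A (B := B) M j).lcomp B B)) :=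
      ih (j + 1) (by omega)
    haveI := flat_quot_ker (A := A) ((diff A (B := B) M j).lcomp B B)
    exact Module.Flat.of_linearEquiv ((Submodule.quotEquivOfEq _ _
      (ker_eq_T_of_subsingleton (A := A) j (hvan j (by omega))).symm).restrictScalars A)

/-- A functional on a fibre killing the differential comes from the previous term. -/
theorem fibre_range (p : Ideal A) [p.IsPrime] (j : ℕ)
    [Module.Flat A (D A (B := B) M (j + 1) ⧸ T A (B := B) M (j + 1))]
    (hker : LinearMap.ker ((diff A (B := B) M j).lcomp B B) = T A (B := B) M j)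
    (φ : (B ⊗[A] p.ResidueField) ⊗[B] X A (B := B) M j →ₗ[B ⊗[A] p.ResidueField] B ⊗[A] p.ResidueField)
    (hφ : ∀ w, φ (1 ⊗ₜ[B] diff A M j w) = 0) :
    ∃ a ∉ p, ∃ t ∈ T A (B := B) M j, ∀ v, a • φ (1 ⊗ₜ[B] v) = (t v) ⊗ₜ[A] (1 : p.ResidueField) := by
  classical
  let J := p.map (algebraMap A B)
  have hJ : ∀ b ∈ J, b ⊗ₜ[A] (1 : p.ResidueField) = 0 := fun b hb => by
    refine Submodule.span_induction (p := fun b _ => b ⊗ₜ[A] (1 : p.ResidueField) = 0) ?_ (TensorProduct.zero_tmul _ _)
      (fun a c _ _ ha hc => by rw [TensorProduct.add_tmul, ha, hc, add_zero])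
      (fun r a _ ha => by
        rw [smul_eq_mul, ← mul_one (1 : p.ResidueField), ← Algebra.TensorProduct.tmul_mul_tmul, ha, mul_zero]) hb
    rintro _ ⟨r, hr, rfl⟩
    rw [Algebra.algebraMap_eq_smul_one, TensorProduct.smul_tmul, Algebra.smul_def, mul_one,
      Ideal.algebraMap_residueField_eq_zero.2 hr, TensorProduct.tmul_zero]
  obtain ⟨a, ha, y, hy⟩ := exists_lift p φ
  choose b hb hbm using fun k : Fin (num (syz A B M (j + 1))) =>
    Groth.L29.FlatInj.exists_mul_mem_of_tmul_eq_zero p (y (diff A M j (Pi.single k 1)))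
      (by rw [← hy, hφ, smul_zero])
  let δ := (diff A (B := B) M j).lcomp B B
  let z := algebraMap A B (∏ k, b k) • y
  have hδz : δ z ∈ J • (⊤ : Submodule B (D A (B := B) M (j + 1))) := by
    refine (mem_smul_iff _ _).2 fun w => ?_
    rw [pi_eq_sum_univ' w, map_sum]
    refine Submodule.sum_mem _ fun k _ => ?_
    rw [map_smul]
    refine Submodule.smul_mem _ _ ?_
    show algebraMap A B (∏ k, b k) * y (diff A M j (Pi.single k 1)) ∈ J
    rw [← Finset.prod_erase_mul _ _ (Finset.mem_univ k), map_mul, mul_assoc]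
    exact Ideal.mul_mem_left _ _ (hbm k)
  let R := (T A (B := B) M (j + 1)).restrictScalars A
  haveI : Module.Flat A (D A (B := B) M (j + 1) ⧸ R) :=
    Module.Flat.of_linearEquiv (Submodule.Quotient.restrictScalarsEquiv A (T A (B := B) M (j + 1)))
  have h1 : δ z ∈ p • (⊤ : Submodule A (D A (B := B) M (j + 1))) := by
    have h : δ z ∈ (J • (⊤ : Submodule B (D A (B := B) M (j + 1)))).restrictScalars A := hδz
    rwa [Ideal.smul_restrictScalars, Submodule.restrictScalars_top] at h
  obtain ⟨q, hq, hqz⟩ := Groth.L06.FibreExactLocus.mem_smul_of_flat R p (δ z) ⟨z, rfl⟩ h1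
  obtain ⟨u, hu, huq⟩ : ∃ u ∈ J • (⊤ : Submodule B (D A (B := B) M j)), δ u = (q : D A (B := B) M (j + 1)) := by
    refine Submodule.smul_induction_on hq (fun r hr x _ => ?_) (fun x₁ x₂ h₁ h₂ => ?_)
    · obtain ⟨x', hx'⟩ := x.2
      refine ⟨algebraMap A B r • x', Submodule.smul_mem_smul (Ideal.mem_map_of_mem _ hr) trivial, ?_⟩
      rw [map_smul, algebraMap_smul]
      show r • δ x' = r • (x : D A (B := B) M (j + 1))
      rw [show δ x' = _ from hx']
    · obtain ⟨u₁, hu₁, e₁⟩ := h₁
      obtain ⟨u₂, hu₂, e₂⟩ := h₂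
      exact ⟨u₁ + u₂, add_mem hu₁ hu₂, by rw [map_add, e₁, e₂]; rfl⟩
  refine ⟨(∏ k, b k) * a, fun h => ?_, z - u, ?_, fun v => ?_⟩
  · rcases Ideal.IsPrime.mem_or_mem ‹p.IsPrime› h with h | h
    · obtain ⟨k, -, hk⟩ := (Ideal.IsPrime.prod_mem_iff (p := p)).1 h
      exact hb k hk
    · exact ha h
  · rw [← hker, LinearMap.mem_ker, map_sub, sub_eq_zero]
    exact hqz.symm.trans huq.symm
  · rw [LinearMap.sub_apply, TensorProduct.sub_tmul, hJ _ ((mem_smul_iff _ u).1 hu v), sub_zero, mul_smul, hy,
      TensorProduct.smul_tmul', LinearMap.smul_apply, algebraMap_smul]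

theorem fibre_ext_subsingleton (p : Ideal A) [p.IsPrime] (j : ℕ)
    [Module.Flat A (D A (B := B) M (j + 1) ⧸ T A (B := B) M (j + 1))]
    (hker : LinearMap.ker ((diff A (B := B) M j).lcomp B B) = T A (B := B) M j) :
    Subsingleton (Ext (ModuleCat.of (B ⊗[A] p.ResidueField) ((B ⊗[A] p.ResidueField) ⊗[B] M))
      (ModuleCat.of (B ⊗[A] p.ResidueField) (B ⊗[A] p.ResidueField)) j) := by
  let S := B ⊗[A] p.ResidueField
  have hunit : ∀ a ∉ p, IsUnit (algebraMap A S a) := fun a ha => by
    rw [show algebraMap A S a =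
      Algebra.TensorProduct.includeRight (R := A) (A := B) (algebraMap A p.ResidueField a) from
      (AlgHom.commutes _ a).symm]
    exact IsUnit.map _ (isUnit_iff_ne_zero.2 fun h => ha (Ideal.algebraMap_residueField_eq_zero.1 h))
  let gS := (gen (syz A B M j)).baseChange S
  have hgS : Function.Surjective gS := by
    simp only [gS, LinearMap.baseChange_eq_ltensor]
    exact LinearMap.lTensor_surjective S (gen_surjective _)
  have key : ∀ ψ : S ⊗[B] (syz A B M j).K →ₗ[S] S,
      ∃ a : A, IsUnit (algebraMap A S a) ∧ ∃ t ∈ T A (B := B) M j, ∀ v,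
        algebraMap A S a • ψ (1 ⊗ₜ[B] gen (syz A B M j) v) = (t v) ⊗ₜ[A] (1 : p.ResidueField) := fun ψ => by
    obtain ⟨a, ha, t, ht, h⟩ := fibre_range p j hker (ψ ∘ₗ gS) fun w => by
      show ψ (gS (1 ⊗ₜ[B] diff A M j w)) = 0
      rw [LinearMap.baseChange_tmul, show gen (syz A B M j) (diff A (B := B) M j w) = 0 from
        (exact_diff j _).mpr ⟨w, rfl⟩, TensorProduct.tmul_zero, map_zero]
    exact ⟨a, hunit a ha, t, ht, fun v => by
      rw [algebraMap_smul]
      exact h v⟩
  rcases j with - | i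
  · haveI : Subsingleton (ModuleCat.of S (S ⊗[B] M) ⟶ ModuleCat.of S S) :=
      subsingleton_of_forall_eq 0 fun f => by
        let ψ : S ⊗[B] (syz A B M 0).K →ₗ[S] S := f.hom
        obtain ⟨a, ha, t, ht, h⟩ := key ψ
        rw [T, Submodule.mem_bot] at ht
        subst ht
        refine ModuleCat.hom_ext (AlgebraTensorModule.curry_injective (LinearMap.ext_ring (LinearMap.ext fun m => ?_)))
        obtain ⟨v, rfl⟩ := gen_surjective (syz A B M 0) m
        show ψ (1 ⊗ₜ[B] gen (syz A B M 0) v) = 0
        have h' := h v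
        rw [LinearMap.zero_apply, TensorProduct.zero_tmul, smul_eq_mul] at h'
        exact ha.mul_right_eq_zero.1 h'
    exact Ext.homEquiv₀.subsingleton
  · obtain ⟨e⟩ := bc_ext_equiv (B := B) (M := M) p i 0
    let fS := (incl A (B := B) M i).baseChange S
    let gS' := (gen (syz A B M i)).baseChange S
    have hg' : Function.Surjective gS' := by
      simp only [gS', LinearMap.baseChange_eq_ltensor]
      exact LinearMap.lTensor_surjective S (gen_surjective _)
    have hex' : Function.Exact fS gS' := by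
      simp only [fS, gS', LinearMap.baseChange_eq_ltensor]
      exact lTensor_exact S (exact_incl i) (gen_surjective _)
    obtain ⟨e'⟩ := Groth.L04.LC.nonempty_ext_one_equiv fS gS'
      (baseChange_injective (incl A (B := B) M i) (gen (syz A B M i)) (incl_injective i) (exact_incl i)
        (gen_surjective _)) hg' hex' S
    have htop : LinearMap.range (fS.lcomp S S) = ⊤ := eq_top_iff.2 fun ψ _ => by
      obtain ⟨a, ha, t, ⟨y, rfl⟩, h⟩ := key ψ
      refine ⟨(ha.unit⁻¹ : Sˣ).1 • Module.Dual.baseChange S y, ?_⟩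
      refine AlgebraTensorModule.curry_injective (LinearMap.ext_ring (LinearMap.ext fun m => ?_))
      obtain ⟨v, rfl⟩ := gen_surjective (syz A B M (i + 1)) m
      show (ha.unit⁻¹ : Sˣ).1 • (y (incl A M i (gen (syz A B M (i + 1)) v)) • (1 : S)) =
        ψ (1 ⊗ₜ[B] gen (syz A B M (i + 1)) v)
      have h1 : y (incl A M i (gen (syz A B M (i + 1)) v)) • (1 : S) =
          ((diff A (B := B) M i).lcomp B B y v) ⊗ₜ[A] (1 : p.ResidueField) := by
        rw [Algebra.smul_def, mul_one]
        rfl
      rw [h1, ← h v, smul_smul, IsUnit.val_inv_mul, one_smul]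
    haveI := Submodule.Quotient.subsingleton_iff.2 htop
    haveI := e'.toEquiv.subsingleton
    have h := e.subsingleton
    rwa [Nat.zero_add] at h

/-- A single flat Ext: every fibre has a single Ext. -/
theorem fibre_of_ext [IsNoetherianRing B] (c N : ℕ) (hN : c ≤ N)
    (hpdN : ∀ p : PrimeSpectrum A, HasProjectiveDimensionLT
      (ModuleCat.of (B ⊗[A] p.asIdeal.ResidueField) ((B ⊗[A] p.asIdeal.ResidueField) ⊗[B] M)) (N + 1))
    (hvan : ∀ j, j ≠ c → Subsingleton (Ext (ModuleCat.of B M) (ModuleCat.of B B) j))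
    (hflat : Module.Flat A (RestrictScalars A B (Ext (ModuleCat.of B M) (ModuleCat.of B B) c))) :
    ∀ (p : Ideal A) [p.IsPrime], HasProjectiveDimensionLT
        (ModuleCat.of (B ⊗[A] p.ResidueField) ((B ⊗[A] p.ResidueField) ⊗[B] M)) (c + 1) ∧
      ∀ i < c, Subsingleton (Ext (ModuleCat.of (B ⊗[A] p.ResidueField) ((B ⊗[A] p.ResidueField) ⊗[B] M))
        (ModuleCat.of (B ⊗[A] p.ResidueField) (B ⊗[A] p.ResidueField)) i) := by
  have hpd : HasProjectiveDimensionLT (ModuleCat.of B M) (c + 1) :=
    Groth.L01.AusBuch.hasProjectiveDimensionLT_of_ext_vanish (M := ModuleCat.of B M) (N - c)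
      (by rw [show N - c + (c + 1) = N + 1 by omega]; exact (pdLT_iff_fibres (A := A) (B := B) M (N + 1)).2 hpdN)
      fun i hi => hvan i (by omega)
  intro p _
  refine ⟨(pdLT_iff_fibres (A := A) (B := B) M (c + 1)).1 hpd ⟨p, inferInstance⟩, fun i hi => ?_⟩
  haveI := flat_coker_of_ext (A := A) (B := B) (M := M) c hpd (fun j hj => hvan j (by omega)) hflat (c - (i + 1)) (i + 1) (by omega)
  exact fibre_ext_subsingleton (B := B) (M := M) p i (ker_eq_T_of_subsingleton (A := A) i (hvan i (by omega)))

end Groth.L29.FlatExt
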