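import Groth.Agent.L29.Dual.CMFibres
import Groth.Agent.L29.Dual.FlatExtConv

/-!
A single flat relative Ext gives equidimensional Cohen–Macaulay fibres.
-/

set_option autoImplicit false
set_option maxSynthPendingDepth 3
set_option linter.style.haveILetI false
universe u

open TensorProduct CategoryTheory Abelian IsLocalRing

namespace Groth.L29.FlatExt

/-- A strictly monotone map raises heights by at least the least value. -/
theorem height_add_le {α β : Type*} [Preorder α] [Preorder β] (f : α → β) (hf : StrictMono f) {c : ℕ}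
    (h : ∀ x, (c : ℕ∞) ≤ Order.height (f x)) (hfin : ∀ x : α, Order.height x < ⊤) :
    ∀ (m : ℕ) (x : α), (m : ℕ∞) ≤ Order.height x → ((m + c : ℕ) : ℕ∞) ≤ Order.height (f x) := by
  intro m
  induction m with
  | zero => intro x _; simpa using h x
  | succ m ih =>
    intro x hx
    have hlt : (m : ℕ∞) < Order.height x := lt_of_lt_of_le (by exact_mod_cast Nat.lt_succ_self m) hx
    obtain ⟨y, hy, hym⟩ := (Order.coe_lt_height_iff (hfin x)).1 hlt
    calc (((m + 1) + c : ℕ) : ℕ∞) = ((m + c : ℕ) : ℕ∞) + 1 := by push_cast; ring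
      _ ≤ Order.height (f y) + 1 := by gcongr; exact ih y hym.ge
      _ ≤ Order.height (f x) := Order.height_add_one_le (hf hy)

variable (k : Type u) [Field k] {S R : Type u} [CommRing S] [Algebra k S] [Algebra.FiniteType k S]
  [IsDomain S] [IsRegularRing S] [CommRing R] [Algebra S R]

include k in
/-- Cohen–Macaulayness and equidimensionality from projective dimension and grade. -/
theorem cm_of_pd_and_grade (hs : Function.Surjective (algebraMap S R)) {N c : ℕ} (hS : ringKrullDim S = N)
    (hpd : HasProjectiveDimensionLT (ModuleCat.of S R) (c + 1))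
    (hext : ∀ i < c, Subsingleton (Ext (ModuleCat.of S R) (ModuleCat.of S S) i)) :
    LocCoh.IsCohenMacaulayRing R ∧
      ∀ p ∈ minimalPrimes R, ∃ e : ℕ, ringKrullDim (R ⧸ p) = e ∧ e + c = N := by
  haveI : IsNoetherianRing S := Algebra.FiniteType.isNoetherianRing k S
  haveI : IsNoetherianRing R := isNoetherianRing_of_surjective S R (algebraMap S R) hs
  haveI : Module.Finite S R := Module.Finite.of_surjective (Algebra.linearMap S R) hs
  let J := RingHom.ker (algebraMap S R)
  let e : (S ⧸ J) ≃ₗ[S] R := (Submodule.quotEquivOfEq _ _ (Submodule.ext fun x => Iff.rfl :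
      J = LinearMap.ker (Algebra.linearMap S R))).trans ((Algebra.linearMap S R).quotKerEquivOfSurjective hs)
  have hv : Groth.L04.ExtVanish J S c := fun i hi => by
    haveI : Subsingleton ↑(((Abelian.extFunctor (C := ModuleCat.{u} S) i).obj
      (Opposite.op (ModuleCat.of S R))).obj (ModuleCat.of S S)) := hext i hi
    exact (((Abelian.extFunctor (C := ModuleCat.{u} S) i).mapIso e.toModuleIso.op).app
      (ModuleCat.of S S)).addCommGroupIsoToAddEquiv.toEquiv.symm.subsingleton
  let f : PrimeSpectrum R → PrimeSpectrum S := PrimeSpectrum.comap (algebraMap S R)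
  have hmem : ∀ q : PrimeSpectrum R, J ≤ (f q).asIdeal := fun q x hx => by
    show algebraMap S R x ∈ q.asIdeal
    rw [RingHom.mem_ker.1 hx]
    exact zero_mem _
  have hc : ∀ q : PrimeSpectrum R, (c : ℕ∞) ≤ Order.height (f q) := fun q => by
    rw [← PrimeSpectrum.height_eq_orderHeight]
    refine ((Groth.L04.le_idealDepth_iff_extVanish c).2 hv).trans ?_
    rw [(Groth.L04.isCohenMacaulayRing_iff_height.1 Groth.L04.isCohenMacaulayRing_of_regularRing) J
      fun h => (f q).2.ne_top (top_le_iff.1 (h ▸ hmem q))]
    exact Ideal.height_mono (hmem q)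
  have hf : StrictMono f := fun a b hab => by
    refine lt_of_le_of_ne (Ideal.comap_mono (le_of_lt hab : a ≤ b)) fun h => hab.ne ?_
    exact PrimeSpectrum.comap_injective_of_surjective _ hs h
  have hfin : ∀ q : PrimeSpectrum R, Order.height q < ⊤ := fun q => by
    rw [← PrimeSpectrum.height_eq_orderHeight]
    exact (Ideal.height_ne_top q.2.ne_top).lt_top
  have key : ∀ q : PrimeSpectrum R, ∃ h : ℕ, q.asIdeal.height = h ∧ (f q).asIdeal.height = (h + c : ℕ) ∧
      ((h : ℕ∞) ≤ LocCoh.depth (Localization.AtPrime q.asIdeal) (Localization.AtPrime q.asIdeal)) := by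
    intro q
    obtain ⟨h, hh⟩ := ENat.ne_top_iff_exists.1 (Ideal.height_ne_top q.2.ne_top)
    obtain ⟨H, hH⟩ := ENat.ne_top_iff_exists.1 (Ideal.height_ne_top (f q).2.ne_top)
    have h1 : h + c ≤ H := by
      have := height_add_le f hf hc hfin h q (by rw [← PrimeSpectrum.height_eq_orderHeight, ← hh])
      rw [← PrimeSpectrum.height_eq_orderHeight, ← hH] at this
      exact_mod_cast this
    let Q := (f q).asIdeal
    have hcQ := (Groth.L04.isCohenMacaulayRing_of_regularRing (R := S)).isCohenMacaulayLocalRing_localization Q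
    have hdQ : LocCoh.depth (Localization.AtPrime Q) (Localization.AtPrime Q) = H := by
      have := hcQ.supportDim_eq_depth
      rw [Module.supportDim_self_eq_ringKrullDim, IsLocalization.AtPrime.ringKrullDim_eq_height Q, ← hH] at this
      exact_mod_cast this.symm
    have hpdQ : HasProjectiveDimensionLE
        (ModuleCat.of (Localization.AtPrime Q) (LocalizedModule Q.primeCompl R)) c := by
      have h := ((ModuleCat.of S R).hasProjectiveDimensionLE_iff_forall_primeSpectrum c).1 hpd (f q)
      let e : ((ModuleCat.of S R).localizedModule Q.primeCompl) ≅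
          ModuleCat.of (Localization.AtPrime Q) (LocalizedModule Q.primeCompl R) :=
        (Shrink.linearEquiv (Localization.AtPrime Q) _).toModuleIso
      exact (haveI := h; hasProjectiveDimensionLT_of_iso e (c + 1))
    have hd : ((H - c : ℕ) : ℕ∞) ≤ LocCoh.depth (Localization.AtPrime Q) (LocalizedModule Q.primeCompl R) :=
      Groth.L04.le_idealDepth_of_pd _ c _ hpdQ (H - c) (by
        show _ ≤ LocCoh.depth (Localization.AtPrime Q) (Localization.AtPrime Q)
        rw [hdQ]
        exact_mod_cast (by omega : H - c + c ≤ H))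
    have hd' := Groth.L06.RectDepthJacobson.depth_localization_surjective hs R q.asIdeal
    rw [Groth.L04.depth_localizedModule_self] at hd'
    have hd1 : ((H - c : ℕ) : ℕ∞) ≤ LocCoh.depth (Localization.AtPrime q.asIdeal) (Localization.AtPrime q.asIdeal) :=
      hd'.symm ▸ hd
    have hle : ((LocCoh.depth (Localization.AtPrime q.asIdeal) (Localization.AtPrime q.asIdeal) : ℕ∞) : WithBot ℕ∞) ≤
        Module.supportDim (Localization.AtPrime q.asIdeal) (Localization.AtPrime q.asIdeal) :=
      Groth.L04.depth_le_supportDim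
    rw [Module.supportDim_self_eq_ringKrullDim, IsLocalization.AtPrime.ringKrullDim_eq_height q.asIdeal, ← hh] at hle
    have h2 : H - c ≤ h := by exact_mod_cast hd1.trans (WithBot.coe_le_coe.1 hle)
    refine ⟨h, hh.symm, ?_, le_trans (by exact_mod_cast (by omega : h ≤ H - c)) hd1⟩
    rw [← hH]
    exact_mod_cast (by omega : H = h + c)
  refine ⟨{ isCohenMacaulayLocalRing_localization := fun p _ => ?_ }, fun p hp => ?_⟩
  · obtain ⟨h, hh, -, hd⟩ := key ⟨p, inferInstance⟩
    refine { supportDim_eq_depth := le_antisymm ?_ Groth.L04.depth_le_supportDim }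
    rw [Module.supportDim_self_eq_ringKrullDim, IsLocalization.AtPrime.ringKrullDim_eq_height p, hh]
    exact_mod_cast hd
  · haveI := hp.1.1
    obtain ⟨h, hh, hH, -⟩ := key ⟨p, inferInstance⟩
    have h0 : h = 0 := by
      have : p.height = 0 := Ideal.height_eq_zero_iff.2 hp
      rw [hh] at this
      exact_mod_cast this
    haveI := Groth.L04.isCohenMacaulayRing_of_regularRing (R := S)
    obtain ⟨H, e', hH', he', hHe⟩ := Groth.L03.CMAffine.height_add_dim k N (S := S) (fun P hP => by
      rw [IsDomain.minimalPrimes_eq_singleton_bot, Set.mem_singleton_iff] at hP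
      subst hP
      rw [← hS]
      exact ringKrullDim_eq_of_ringEquiv (RingEquiv.quotientBot S)) (p.comap (algebraMap S R))
    refine ⟨e', ?_, ?_⟩
    · let g := (Ideal.Quotient.mk p).comp (algebraMap S R)
      have hker : RingHom.ker g = p.comap (algebraMap S R) := by
        ext x
        rw [RingHom.mem_ker, Ideal.mem_comap]
        exact Ideal.Quotient.eq_zero_iff_mem
      rw [← he']
      exact (ringKrullDim_eq_of_ringEquiv ((Ideal.quotEquivOfEq hker.symm).trans
        (RingHom.quotientKerEquivOfSurjective (f := g) (Ideal.Quotient.mk_surjective.comp hs)))).symm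
    · have hH2 : (p.comap (algebraMap S R)).height = ((h + c : ℕ) : ℕ∞) := hH
      rw [hH'] at hH2
      have : H = h + c := by exact_mod_cast hH2
      omega

end Groth.L29.FlatExt
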