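import Groth.Agent.L29.Dual.CMFibresConv

/-!
Fibres of a closed subscheme of affine space are equidimensional CM iff the relative Ext is single and flat.
-/

set_option autoImplicit false
set_option maxSynthPendingDepth 3
set_option linter.style.haveILetI false
universe u

open TensorProduct CategoryTheory Abelian

noncomputable section

namespace Groth.L29.FlatExt

variable {A : Type u} [CommRing A] {N : ℕ} (I : Ideal (MvPolynomial (Fin N) A)) (p : Ideal A) [p.IsPrime]

/-- The projection to the fibre of the quotient. -/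
def fibMap : MvPolynomial (Fin N) A ⊗[A] p.ResidueField →ₐ[A] (MvPolynomial (Fin N) A ⧸ I) ⊗[A] p.ResidueField :=
  Algebra.TensorProduct.map (Ideal.Quotient.mkₐ A I) (AlgHom.id A p.ResidueField)

theorem fibMap_surjective : Function.Surjective (fibMap I p) := fun z => by
  induction z using TensorProduct.induction_on with
  | zero => exact ⟨0, map_zero _⟩
  | tmul b c =>
    obtain ⟨b, rfl⟩ := Ideal.Quotient.mk_surjective b
    exact ⟨b ⊗ₜ c, rfl⟩
  | add x y hx hy =>
    obtain ⟨x, rfl⟩ := hx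
    obtain ⟨y, rfl⟩ := hy
    exact ⟨x + y, map_add _ x y⟩

theorem nonempty_fibre_equiv :
    letI := (fibMap I p).toRingHom.toAlgebra
    Nonempty ((MvPolynomial (Fin N) A ⊗[A] p.ResidueField) ⊗[MvPolynomial (Fin N) A] (MvPolynomial (Fin N) A ⧸ I)
      ≃ₗ[MvPolynomial (Fin N) A ⊗[A] p.ResidueField] (MvPolynomial (Fin N) A ⧸ I) ⊗[A] p.ResidueField) := by
  let P := MvPolynomial (Fin N) A
  let κ := p.ResidueField
  let S := P ⊗[A] κ
  let R := (P ⧸ I) ⊗[A] κ
  letI : Algebra S R := (fibMap I p).toRingHom.toAlgebra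
  haveI : IsScalarTower P S R := IsScalarTower.of_algebraMap_eq fun x => by
    show (algebraMap P (P ⧸ I) x) ⊗ₜ[A] (1 : κ) = fibMap I p (x ⊗ₜ[A] (1 : κ))
    rfl
  let g : S ⊗[P] (P ⧸ I) →ₗ[S] R := LinearMap.liftBaseChange S
    { toFun := fun x => x ⊗ₜ[A] (1 : κ)
      map_add' := fun x y => TensorProduct.add_tmul x y 1
      map_smul' := fun c x => by
        obtain ⟨x, rfl⟩ := Ideal.Quotient.mk_surjective x
        show (c • Ideal.Quotient.mk I x) ⊗ₜ[A] (1 : κ) = c • ((Ideal.Quotient.mk I x) ⊗ₜ[A] (1 : κ))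
        rw [TensorProduct.smul_tmul'] }
  have hlin : ∀ (s : S), g (s ⊗ₜ[P] (1 : P ⧸ I)) = fibMap I p s := fun s => by
    show s • ((1 : P ⧸ I) ⊗ₜ[A] (1 : κ)) = fibMap I p s
    rw [Algebra.smul_def]
    show fibMap I p s * 1 = fibMap I p s
    rw [mul_one]
  let ψ := Algebra.TensorProduct.quotIdealMapEquivTensorQuot S I
  have hker : RingHom.ker (fibMap I p).toRingHom ≤ I.map (algebraMap P S) := fun s hs => by
    have hmap : RingHom.ker (fibMap I p).toRingHom =
        (RingHom.ker (Ideal.Quotient.mkₐ A I)).map (Algebra.TensorProduct.includeLeft (S := A)) :=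
      Algebra.TensorProduct.rTensor_ker _ (Ideal.Quotient.mkₐ_surjective A I)
    rw [hmap, show RingHom.ker (Ideal.Quotient.mkₐ A I) = I from Ideal.mk_ker] at hs
    exact hs
  refine ⟨LinearEquiv.ofBijective g ⟨?_, fun r => ?_⟩⟩
  · rw [injective_iff_map_eq_zero]
    intro z hz
    obtain ⟨w, rfl⟩ := ψ.surjective z
    obtain ⟨s, rfl⟩ := Ideal.Quotient.mk_surjective w
    have e : ψ (Ideal.Quotient.mk _ s) = s ⊗ₜ[P] (1 : P ⧸ I) := rfl
    rw [e, hlin] at hz
    rw [Ideal.Quotient.eq_zero_iff_mem.2 (hker (show (fibMap I p).toRingHom s = 0 from hz)), map_zero]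
  · obtain ⟨s, rfl⟩ := fibMap_surjective I p r
    exact ⟨_, hlin s⟩

variable (N) in
theorem fibre_ring_props :
    ∃ (alg : Algebra p.ResidueField (MvPolynomial (Fin N) A ⊗[A] p.ResidueField)),
      @Algebra.FiniteType p.ResidueField (MvPolynomial (Fin N) A ⊗[A] p.ResidueField) _ _ alg ∧
      IsDomain (MvPolynomial (Fin N) A ⊗[A] p.ResidueField) ∧
      IsRegularRing (MvPolynomial (Fin N) A ⊗[A] p.ResidueField) ∧
      ringKrullDim (MvPolynomial (Fin N) A ⊗[A] p.ResidueField) = N := by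
  let P := MvPolynomial (Fin N) A
  let κ := p.ResidueField
  let S := P ⊗[A] κ
  letI : Algebra κ S := Algebra.TensorProduct.rightAlgebra
  let ε : MvPolynomial (Fin N) κ ≃+* S :=
    ((MvPolynomial.algebraTensorAlgEquiv A κ (σ := Fin N)).symm.toRingEquiv).trans
      (Algebra.TensorProduct.comm A κ P).toRingEquiv
  have hε : ∀ c, ε (algebraMap κ _ c) = algebraMap κ S c := fun c => by
    show Algebra.TensorProduct.comm A κ P ((MvPolynomial.algebraTensorAlgEquiv A κ).symm (algebraMap κ _ c)) = _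
    rw [AlgEquiv.commutes]
    rfl
  refine ⟨inferInstance,
    (inferInstance : Algebra.FiniteType κ (MvPolynomial (Fin N) κ)).equiv (AlgEquiv.ofRingEquiv (f := ε) hε),
    ε.toMulEquiv.isDomain_iff.1 inferInstance, IsRegularRing.of_ringEquiv ε, ?_⟩
  rw [← ringKrullDim_eq_of_ringEquiv ε, MvPolynomial.ringKrullDim_of_isNoetherianRing,
    ringKrullDim_eq_zero_of_field, zero_add]
  simp

theorem pdLT_fibre :
    HasProjectiveDimensionLT (ModuleCat.of (MvPolynomial (Fin N) A ⊗[A] p.ResidueField)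
      ((MvPolynomial (Fin N) A ⊗[A] p.ResidueField) ⊗[MvPolynomial (Fin N) A] (MvPolynomial (Fin N) A ⧸ I))) (N + 1) := by
  obtain ⟨alg, hft, hdom, hreg, hdim⟩ := fibre_ring_props N p
  haveI := hft
  haveI := hreg
  haveI : IsNoetherianRing (MvPolynomial (Fin N) A ⊗[A] p.ResidueField) :=
    Algebra.FiniteType.isNoetherianRing p.ResidueField _
  refine ((ModuleCat.of _ _).hasProjectiveDimensionLE_iff_forall_primeSpectrum N).2 fun Q => ?_
  haveI : IsRegularLocalRing (Localization.AtPrime Q.asIdeal) :=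
    IsRegularRing.isRegularLocalRing_localization Q.asIdeal
  obtain ⟨d, hd⟩ := Groth.L01.exists_dim_eq_nat (R := Localization.AtPrime Q.asIdeal)
  have hdN : d ≤ N := by
    have h := hd
    rw [IsLocalization.AtPrime.ringKrullDim_eq_height Q.asIdeal] at h
    have h2 := (Ideal.height_le_ringKrullDim_of_ne_top Q.2.ne_top).trans_eq hdim
    rw [h] at h2
    exact_mod_cast h2
  haveI := Groth.L04.hasProjectiveDimensionLE_of_regularLocal hd
    ((ModuleCat.of (MvPolynomial (Fin N) A ⊗[A] p.ResidueField)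
      ((MvPolynomial (Fin N) A ⊗[A] p.ResidueField) ⊗[MvPolynomial (Fin N) A]
        (MvPolynomial (Fin N) A ⧸ I))).localizedModule Q.asIdeal.primeCompl)
  exact hasProjectiveDimensionLT_of_ge _ (d + 1) _ (by omega)

theorem fibre_cm_of_facts {c : ℕ}
    (hpd : HasProjectiveDimensionLT (ModuleCat.of (MvPolynomial (Fin N) A ⊗[A] p.ResidueField)
      ((MvPolynomial (Fin N) A ⊗[A] p.ResidueField) ⊗[MvPolynomial (Fin N) A] (MvPolynomial (Fin N) A ⧸ I))) (c + 1))
    (hext : ∀ i < c, Subsingleton (Ext (ModuleCat.of (MvPolynomial (Fin N) A ⊗[A] p.ResidueField)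
      ((MvPolynomial (Fin N) A ⊗[A] p.ResidueField) ⊗[MvPolynomial (Fin N) A] (MvPolynomial (Fin N) A ⧸ I)))
      (ModuleCat.of (MvPolynomial (Fin N) A ⊗[A] p.ResidueField) (MvPolynomial (Fin N) A ⊗[A] p.ResidueField)) i)) :
    LocCoh.IsCohenMacaulayRing ((MvPolynomial (Fin N) A ⧸ I) ⊗[A] p.ResidueField) ∧
      ∀ Q : PrimeSpectrum ((MvPolynomial (Fin N) A ⧸ I) ⊗[A] p.ResidueField),
        Q.asIdeal ∈ minimalPrimes ((MvPolynomial (Fin N) A ⧸ I) ⊗[A] p.ResidueField) →
          Order.coheight Q = ((N - c : ℕ) : ℕ∞) := by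
  let S := MvPolynomial (Fin N) A ⊗[A] p.ResidueField
  let R := (MvPolynomial (Fin N) A ⧸ I) ⊗[A] p.ResidueField
  obtain ⟨alg, hft, hdom, hreg, hdim⟩ := fibre_ring_props N p
  letI := alg
  haveI := hft
  haveI := hdom
  haveI := hreg
  letI : Algebra S R := (fibMap I p).toRingHom.toAlgebra
  obtain ⟨E⟩ := nonempty_fibre_equiv I p
  have h1 : HasProjectiveDimensionLT (ModuleCat.of S R) (c + 1) := by
    haveI := hpd
    exact hasProjectiveDimensionLT_of_iso E.toModuleIso _
  have h2 : ∀ i < c, Subsingleton (Ext (ModuleCat.of S R) (ModuleCat.of S S) i) := fun i hi => by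
    haveI : Subsingleton ↑(((Abelian.extFunctor (C := ModuleCat.{u} S) i).obj
      (Opposite.op (ModuleCat.of S (S ⊗[MvPolynomial (Fin N) A] (MvPolynomial (Fin N) A ⧸ I))))).obj
        (ModuleCat.of S S)) := hext i hi
    exact (((Abelian.extFunctor (C := ModuleCat.{u} S) i).mapIso E.toModuleIso.op).app
      (ModuleCat.of S S)).addCommGroupIsoToAddEquiv.toEquiv.subsingleton
  obtain ⟨hcm, hmin⟩ := cm_of_pd_and_grade p.ResidueField (S := S) (R := R) (fibMap_surjective I p) hdim h1 h2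
  refine ⟨hcm, fun Q hQ => ?_⟩
  obtain ⟨e, he, hec⟩ := hmin Q.asIdeal hQ
  rw [ringKrullDim_quotient_eq_coheight Q] at he
  have : (Order.coheight Q : WithBot ℕ∞) = (((N - c : ℕ) : ℕ∞) : WithBot ℕ∞) := by
    rw [he, show N - c = e by omega]
    rfl
  exact WithBot.coe_inj.1 this

theorem cm_fibres_iff (A : Type u) [CommRing A] [IsNoetherianRing A] (N n : ℕ) (hnN : n ≤ N)
    (I : Ideal (MvPolynomial (Fin N) A)) [Module.Flat A (MvPolynomial (Fin N) A ⧸ I)] :
    (∀ p : PrimeSpectrum A, LocCoh.IsCohenMacaulayRing ((MvPolynomial (Fin N) A ⧸ I) ⊗[A] p.asIdeal.ResidueField) ∧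
      ∀ Q : PrimeSpectrum ((MvPolynomial (Fin N) A ⧸ I) ⊗[A] p.asIdeal.ResidueField),
        Q.asIdeal ∈ minimalPrimes ((MvPolynomial (Fin N) A ⧸ I) ⊗[A] p.asIdeal.ResidueField) →
          Order.coheight Q = (n : ℕ∞)) ↔
    ((∀ j : ℕ, j ≠ N - n → Subsingleton (Ext (ModuleCat.of (MvPolynomial (Fin N) A) (MvPolynomial (Fin N) A ⧸ I))
      (ModuleCat.of (MvPolynomial (Fin N) A) (MvPolynomial (Fin N) A)) j)) ∧
      Module.Flat A (RestrictScalars A (MvPolynomial (Fin N) A) (Ext (ModuleCat.of (MvPolynomial (Fin N) A)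
        (MvPolynomial (Fin N) A ⧸ I)) (ModuleCat.of (MvPolynomial (Fin N) A) (MvPolynomial (Fin N) A)) (N - n)))) := by
  have hI : I.FG := IsNoetherian.noetherian I
  constructor
  · intro h
    obtain ⟨h1, h2, -⟩ := ext_vanishing_of_cm_fibres A N n hnN I hI (fun p => (h p).1) fun p => (h p).2
    exact ⟨h1, h2⟩
  · rintro ⟨hvan, hflat⟩ p
    haveI : Module.FinitePresentation (MvPolynomial (Fin N) A) (MvPolynomial (Fin N) A ⧸ I) :=
      Module.finitePresentation_of_surjective I.mkQ (Submodule.mkQ_surjective _) (by rwa [Submodule.ker_mkQ])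
    obtain ⟨hpd, hext⟩ := fibre_of_ext (A := A) (B := MvPolynomial (Fin N) A) (M := MvPolynomial (Fin N) A ⧸ I)
      (N - n) N (Nat.sub_le _ _) (fun p => pdLT_fibre I p.asIdeal) hvan hflat p.asIdeal
    obtain ⟨hcm, hmin⟩ := fibre_cm_of_facts I p.asIdeal hpd hext
    refine ⟨hcm, fun Q hQ => ?_⟩
    rw [hmin Q hQ, show N - (N - n) = n by omega]

end Groth.L29.FlatExt
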