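import Groth.Agent.L29.Dual.CompareDev

/-!
Amplitude of internal Hom for the total complex of a bifunctor.
-/

set_option autoImplicit false
set_option backward.defeqAttrib.useBackward true
set_option backward.isDefEq.respectTransparency false
set_option backward.isDefEq.respectTransparency.types false

universe v' u' u

open CategoryTheory CategoryTheory.Limits CochainComplex HomologicalComplex

namespace Groth.L29.Compare

open Groth.L29.DC

variable {R : Type u} [CommRing R] (I : DRing.Cx R) {C : Type u'} [Category.{v'} C] [Abelian C]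
  (B : C ⥤ C ⥤ C) [B.Additive] [∀ X, (B.obj X).Additive]
  [∀ (P Q : CochainComplex C ℤ), HomologicalComplex.HasMapBifunctor P Q B (ComplexShape.up ℤ)]
  [∀ X, ((B.map₂CochainComplex).flip.obj X).IsLeftAdjoint] (J : CochainComplex C ℤ) {a b : ℤ}

theorem bounds (hI : DRing.VanishesOutside I a b) (hJ : ∀ k, IsZero (I.X k) → IsZero (J.X k))
    (hac : ∀ E : CochainComplex C ℤ, E.Acyclic → ((HomCx.H (B.map₂CochainComplex).flip E).obj J).Acyclic) :
    Bounds I (B.map₂CochainComplex).flip J a b where
  vanishes := hI
  ge E m hE n hn := by
    refine DevGen.isZero_X_of_adj (HomCx.adj (B.map₂CochainComplex).flip E) J n fun D hD k => ?_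
    by_cases hk : b < k
    · exact Or.inr (hJ k (hI k (Or.inr hk)))
    · refine Or.inl (DevGen.isZero_mapBifunctor B D E k fun i j hij => ?_)
      by_cases hi : i = n ∨ i = n + 1
      · exact Or.inr (hE j (by omega))
      · exact Or.inl (hD i (fun h => hi (Or.inl h)) (fun h => hi (Or.inr h)))
  le E m hE n hn := by
    refine DevGen.isZero_X_of_adj (HomCx.adj (B.map₂CochainComplex).flip E) J n fun D hD k => ?_
    by_cases hk : k < a
    · exact Or.inr (hJ k (hI k (Or.inl hk)))
    · refine Or.inl (DevGen.isZero_mapBifunctor B D E k fun i j hij => ?_)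
      by_cases hi : i = n ∨ i = n + 1
      · exact Or.inr (hE j (by omega))
      · exact Or.inl (hD i (fun h => hi (Or.inl h)) (fun h => hi (Or.inr h)))
  acyclic := hac

end Groth.L29.Compare
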