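import Groth.Agent.L29.DCoh.HomCx
import Groth.Agent.L29.Dual.DevGeneric
import Groth.Agent.L29.Dual.BidualDev
import Groth.Agent.L10.DRing.RHomComp
import Groth.Agent.L29.DCoh.EvalLocal

/-!
Dévissage for a comparison `T Hom•(F, I) ⟶ Hom•(T F, J)`, `T` an exact functor out of modules, with values in
internal Hom complexes of an abstract tensor bifunctor.
-/

set_option autoImplicit false
set_option backward.defeqAttrib.useBackward true
set_option backward.isDefEq.respectTransparency false
set_option backward.isDefEq.respectTransparency.types false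
set_option linter.style.haveILetI false

universe v' u' u

open CategoryTheory CategoryTheory.Limits CochainComplex HomologicalComplex

attribute [local instance] HasDerivedCategory.standard

namespace Groth.L29.Compare

open Groth.L29.DC

variable {R : Type u} [CommRing R] (I : DRing.Cx R) {C : Type u'} [Category.{v'} C] [Abelian C]
  (T : ModuleCat.{u} R ⥤ C) [T.Additive]
  (Φ : CochainComplex C ℤ ⥤ CochainComplex C ℤ ⥤ CochainComplex C ℤ) [∀ X, (Φ.obj X).IsLeftAdjoint]
  (J : CochainComplex C ℤ)

/-- `T` on complexes -/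
abbrev Tc : DRing.Cx R ⥤ CochainComplex C ℤ := T.mapHomologicalComplex (ComplexShape.up ℤ)

/-- the data of a comparison -/
structure Map where
  app : ∀ F : DRing.Cx R, (Tc T).obj (DRing.homCx F I) ⟶ (HomCx.H Φ ((Tc T).obj F)).obj J
  natural : ∀ {F G : DRing.Cx R} (g : F ⟶ G),
    (Tc T).map (Groth.L10.RHomCx.homCxPre g I) ≫ app F = app G ≫ HomCx.m Φ ((Tc T).map g) J

/-- amplitude and acyclicity of internal Hom into `J` -/
structure Bounds (a b : ℤ) : Prop where
  vanishes : DRing.VanishesOutside I a b
  ge : ∀ (E : CochainComplex C ℤ) (m : ℤ), (∀ i, i < m → IsZero (E.X i)) →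
    ∀ n, b - m < n → IsZero (((HomCx.H Φ E).obj J).X n)
  le : ∀ (E : CochainComplex C ℤ) (m : ℤ), (∀ i, m < i → IsZero (E.X i)) →
    ∀ n, n + 1 < a - m → IsZero (((HomCx.H Φ E).obj J).X n)
  acyclic : ∀ E : CochainComplex C ℤ, E.Acyclic → ((HomCx.H Φ E).obj J).Acyclic

variable {I T Φ J} (α : Map I T Φ J)

/-- bijectivity in one degree -/
def Good (F : DRing.Cx R) (n : ℤ) : Prop := IsIso (HomologicalComplex.homologyMap (α.app F) n)

theorem isZero_homology_of_X (X : CochainComplex C ℤ) (n : ℤ) (h : IsZero (X.X n)) : IsZero (X.homology n) :=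
  HomologicalComplex.ExactAt.isZero_homology (ShortComplex.exact_of_isZero_X₂ (X.sc n) h)

set_option maxHeartbeats 400000
variable [PreservesFiniteLimits T] [PreservesFiniteColimits T]

omit α in
theorem isZero_Tc_homology (Y : DRing.Cx R) (n : ℤ) (h : IsZero (Y.homology n)) :
    IsZero (((Tc T).obj Y).homology n) :=
  (T.map_isZero h).of_iso ((Y.sc n).mapHomologyIso T)

variable [∀ n, Injective (I.X n)] (d : HomCx.Data Φ) [J.IsKInjective]

/-- dual sequence -/
noncomputable abbrev srcSC (S : ShortComplex (DRing.Cx R)) : ShortComplex (CochainComplex C ℤ) :=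
  (BidualCx.Dsc I S).map (Tc T)

omit α [J.IsKInjective] [∀ X, (Φ.obj X).IsLeftAdjoint] in
theorem srcSC_shortExact {S : ShortComplex (DRing.Cx R)} (hS : S.ShortExact) :
    (srcSC (I := I) (T := T) S).ShortExact :=
  HomologicalComplex.shortExact_of_degreewise_shortExact _ fun n =>
    ((BidualCx.Dsc_shortExact I hS).map_of_exact
      (HomologicalComplex.eval (ModuleCat.{u} R) (ComplexShape.up ℤ) n)).map_of_exact T

omit α [∀ n, Injective (I.X n)] in
include d in
theorem tgtSC_shortExact {S : ShortComplex (DRing.Cx R)}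
    (σ : ∀ n, (S.map (HomologicalComplex.eval (ModuleCat.{u} R) (ComplexShape.up ℤ) n)).Splitting) :
    (HomCx.homSC d (S.map (Tc T)) J).ShortExact :=
  HomologicalComplex.shortExact_of_degreewise_shortExact _ fun n =>
    (HomCx.homSplit d (S.map (Tc T)) (fun k => (σ k).map T) J n).shortExact

/-- the comparison on sequences -/
noncomputable def αSc (S : ShortComplex (DRing.Cx R)) :
    srcSC (I := I) (T := T) S ⟶ HomCx.homSC d (S.map (Tc T)) J :=
  ShortComplex.homMk (α.app S.X₃) (α.app S.X₂) (α.app S.X₁) (α.natural S.g).symm (α.natural S.f).symm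

include d in
theorem good_second {S : ShortComplex (DRing.Cx R)} (hS : S.ShortExact)
    (σ : ∀ n, (S.map (HomologicalComplex.eval (ModuleCat.{u} R) (ComplexShape.up ℤ) n)).Splitting)
    (h₁ : ∀ n, Good α S.X₁ n) (h₃ : ∀ n, Good α S.X₃ n) (n : ℤ) : Good α S.X₂ n := by
  haveI : ∀ i, IsIso (HomologicalComplex.homologyMap (αSc α d S).τ₁ i) := h₃
  haveI : ∀ i, IsIso (HomologicalComplex.homologyMap (αSc α d S).τ₃ i) := h₁
  exact DevGen.isIso_τ₂ (αSc α d S) (srcSC_shortExact hS) (tgtSC_shortExact d σ) n

include d in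
theorem good_iff_first {S : ShortComplex (DRing.Cx R)} (hS : S.ShortExact)
    (σ : ∀ n, (S.map (HomologicalComplex.eval (ModuleCat.{u} R) (ComplexShape.up ℤ) n)).Splitting) (n : ℤ)
    (a₁ : IsZero ((DRing.homCx S.X₃ I).homology n)) (b₁ : IsZero ((DRing.homCx S.X₃ I).homology (n + 1)))
    (a₂ : IsZero (((HomCx.H Φ ((Tc T).obj S.X₃)).obj J).homology n))
    (b₂ : IsZero (((HomCx.H Φ ((Tc T).obj S.X₃)).obj J).homology (n + 1))) :
    Good α S.X₂ n ↔ Good α S.X₁ n :=
  DevGen.isIso_τ₂_iff_τ₃ (αSc α d S) (srcSC_shortExact hS) (tgtSC_shortExact d σ) n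
    (isZero_Tc_homology _ n a₁) (isZero_Tc_homology _ (n + 1) b₁) a₂ b₂

include d in
theorem good_iff_outer {S : ShortComplex (DRing.Cx R)} (hS : S.ShortExact)
    (σ : ∀ n, (S.map (HomologicalComplex.eval (ModuleCat.{u} R) (ComplexShape.up ℤ) n)).Splitting) (n : ℤ)
    (a₁ : IsZero ((DRing.homCx S.X₂ I).homology n)) (b₁ : IsZero ((DRing.homCx S.X₂ I).homology (n + 1)))
    (a₂ : IsZero (((HomCx.H Φ ((Tc T).obj S.X₂)).obj J).homology n))
    (b₂ : IsZero (((HomCx.H Φ ((Tc T).obj S.X₂)).obj J).homology (n + 1))) :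
    Good α S.X₁ n ↔ Good α S.X₃ (n + 1) :=
  DevGen.isIso_outer_iff (αSc α d S) (srcSC_shortExact hS) (tgtSC_shortExact d σ) n
    (isZero_Tc_homology _ n a₁) (isZero_Tc_homology _ (n + 1) b₁) a₂ b₂

variable [I.IsKInjective] {a b : ℤ} (B : Bounds I Φ J a b)

omit α [∀ n, Injective (I.X n)] [J.IsKInjective] [PreservesFiniteLimits T] [PreservesFiniteColimits T] in
theorem isZero_homology_cone {K K' : DRing.Cx R} (g : K ⟶ K') [QuasiIso g] (i : ℤ) :
    IsZero ((mappingCone g).homology i) :=
  (HomologicalComplex.exactAt_iff_isZero_homology _ _).1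
    ((EvalLocal.acyclic_cone_iff g).2 (Groth.L10.RHomCx.isIso_Q_map g) i)

omit α [∀ n, Injective (I.X n)] in
theorem isZero_dual_of_acyclic (X : DRing.Cx R) (hX : ∀ i, IsZero (X.homology i)) (n : ℤ) :
    IsZero ((DRing.homCx X I).homology n) :=
  Groth.L10.RHomComp.isZero_homCx I X hX n

include d B in
theorem good_shift {K K' : DRing.Cx R} (g : K ⟶ K') [QuasiIso g] (n : ℤ) :
    Good α K' n ↔ Good α (K⟦(1 : ℤ)⟧) (n + 1) := by
  let S := mappingCone.triangleRotateShortComplex g
  have σ := mappingCone.triangleRotateShortComplexSplitting g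
  have hS : S.ShortExact := HomologicalComplex.shortExact_of_degreewise_shortExact _ fun i => (σ i).shortExact
  have hC := isZero_homology_cone (R := R) g
  have hT : ((Tc T).obj (mappingCone g)).Acyclic := fun i =>
    (HomologicalComplex.exactAt_iff_isZero_homology _ _).2 (isZero_Tc_homology _ i (hC i))
  have hH : ∀ i, IsZero (((HomCx.H Φ ((Tc T).obj (mappingCone g))).obj J).homology i) := fun i =>
    (HomologicalComplex.exactAt_iff_isZero_homology _ _).1 (B.acyclic _ hT i)
  exact good_iff_outer α d hS σ n (isZero_dual_of_acyclic _ hC n) (isZero_dual_of_acyclic _ hC (n + 1))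
    (hH n) (hH (n + 1))

include d B in
theorem good_qis {K K' : DRing.Cx R} (g : K ⟶ K') [QuasiIso g] (n : ℤ) : Good α K' n ↔ Good α K n :=
  (good_shift α d B g n).trans (good_shift α d B (𝟙 K) n).symm

include d B in
theorem good_shift_iff (K : DRing.Cx R) (n : ℤ) : Good α (K⟦(1 : ℤ)⟧) (n + 1) ↔ Good α K n :=
  (good_shift α d B (𝟙 K) n).symm

include d B in
omit α in
theorem isZero_H_of_qis {K K' : DRing.Cx R} (g : K ⟶ K') [QuasiIso g] (i : ℤ)
    (h : IsZero (((HomCx.H Φ ((Tc T).obj K')).obj J).homology i)) :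
    IsZero (((HomCx.H Φ ((Tc T).obj K)).obj J).homology i) := by
  have key : ∀ {L : DRing.Cx R} (f : K ⟶ L) [QuasiIso f],
      Nonempty (((HomCx.H Φ ((Tc T).obj L)).obj J).homology i ≅
        ((HomCx.H Φ ((Tc T).obj (K⟦(1 : ℤ)⟧))).obj J).homology (i + 1)) := fun {L} f _ => by
    have hS' := tgtSC_shortExact (T := T) (J := J) d (mappingCone.triangleRotateShortComplexSplitting f)
    have hTa : ((Tc T).obj (mappingCone f)).Acyclic := fun j =>
      (HomologicalComplex.exactAt_iff_isZero_homology _ _).2 (isZero_Tc_homology _ j (isZero_homology_cone f j))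
    have hH : ∀ j, IsZero (((HomCx.H Φ ((Tc T).obj (mappingCone f))).obj J).homology j) := fun j =>
      (HomologicalComplex.exactAt_iff_isZero_homology _ _).1 (B.acyclic _ hTa j)
    haveI := DevGen.isIso_δ hS' i (hH i) (hH (i + 1))
    exact ⟨asIso (hS'.δ i (i + 1) rfl)⟩
  obtain ⟨e⟩ := key g
  obtain ⟨e'⟩ := key (𝟙 K)
  exact h.of_iso (e' ≪≫ e.symm)

variable (hbase : ∀ n, Good α (BidualCx.rk1 0) n)

include d B hbase

theorem good_rk1 (p : ℤ) : ∀ n, Good α (BidualCx.rk1 p) n := by
  have e : ∀ q : ℤ, (BidualCx.rk1 (A := R) q)⟦(1 : ℤ)⟧ ≅ BidualCx.rk1 (q - 1) := fun q =>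
    ((CochainComplex.singleFunctors (ModuleCat.{u} R)).shiftIso 1 (q - 1) q (by omega)).app (ModuleCat.of R R)
  induction p using Int.induction_on with
  | zero => exact hbase
  | succ i ih =>
    intro n
    rw [← good_shift_iff α d B, ← good_qis α d B (e _).hom, add_sub_cancel_right]
    exact ih _
  | pred i ih =>
    intro n
    rw [good_qis α d B (e _).hom, show n = n - 1 + 1 by omega, good_shift_iff α d B]
    exact ih _

theorem good_single_free (p : ℤ) : ∀ (k : ℕ) (n : ℤ),
    Good α ((HomologicalComplex.single (ModuleCat.{u} R) (ComplexShape.up ℤ) p).obj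
      (ModuleCat.of R (Fin k → R))) n := by
  intro k
  induction k with
  | zero =>
    intro n
    have hz : IsZero ((HomologicalComplex.single (ModuleCat.{u} R) (ComplexShape.up ℤ) p).obj
        (ModuleCat.of R (Fin 0 → R))) :=
      Functor.map_isZero _ (ModuleCat.isZero_of_subsingleton (ModuleCat.of R (Fin 0 → R)))
    have hX : ∀ i, IsZero (((HomologicalComplex.single (ModuleCat.{u} R) (ComplexShape.up ℤ) p).obj
        (ModuleCat.of R (Fin 0 → R))).homology i) :=
      fun i => (HomologicalComplex.homologyFunctor _ _ i).map_isZero hz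
    exact (isZero_Tc_homology _ n (isZero_dual_of_acyclic _ hX n)).isIso
      ((HomologicalComplex.exactAt_iff_isZero_homology _ _).1 (B.acyclic _ (fun i =>
        (HomologicalComplex.exactAt_iff_isZero_homology _ _).2 (isZero_Tc_homology _ i (hX i))) n)) _
  | succ k ih =>
    let e := (Fin.consLinearEquiv R fun _ : Fin (k + 1) => R)
    let f : R →ₗ[R] (Fin (k + 1) → R) := e.toLinearMap ∘ₗ LinearMap.inl R R (Fin k → R)
    let g : (Fin (k + 1) → R) →ₗ[R] (Fin k → R) := LinearMap.snd R R (Fin k → R) ∘ₗ e.symm.toLinearMap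
    let S : ShortComplex (ModuleCat.{u} R) := ShortComplex.mk (ModuleCat.ofHom f) (ModuleCat.ofHom g)
      (ModuleCat.hom_ext (LinearMap.ext fun x => by simp [f, g]))
    let σ : S.Splitting :=
      { r := ModuleCat.ofHom (LinearMap.fst R R (Fin k → R) ∘ₗ e.symm.toLinearMap)
        s := ModuleCat.ofHom (e.toLinearMap ∘ₗ LinearMap.inr R R (Fin k → R))
        f_r := ModuleCat.hom_ext (LinearMap.ext fun x => by simp [S, f])
        s_g := ModuleCat.hom_ext (LinearMap.ext fun x => by simp [S, g])
        id := ModuleCat.hom_ext (LinearMap.ext fun (x : Fin (k + 1) → R) => by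
          change e ((e.symm x).1, 0) + e (0, (e.symm x).2) = x
          rw [← map_add, Prod.mk_add_mk, add_zero, zero_add]
          exact e.apply_symm_apply x) }
    let G := HomologicalComplex.single (ModuleCat.{u} R) (ComplexShape.up ℤ) p
    have σ' : ∀ n, ((S.map G).map (HomologicalComplex.eval (ModuleCat.{u} R) (ComplexShape.up ℤ) n)).Splitting :=
      fun n => σ.map (G ⋙ HomologicalComplex.eval (ModuleCat.{u} R) (ComplexShape.up ℤ) n)
    exact good_second α d (σ.shortExact.map_of_exact G) σ' (good_rk1 α d B hbase p) ih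

theorem good_of_bounded_free : ∀ (k : ℕ) (c : ℤ) (P : DRing.Cx R),
    DRing.VanishesOutside P c (c + k - 1) → DRing.TermwiseFiniteFree P → ∀ n, Good α P n := by
  intro k
  induction k with
  | zero =>
    intro c P hP _ n
    have hX : ∀ i, IsZero (P.homology i) := fun i => BidualCx.isZero_homology_of_X P i (hP i (by omega))
    exact (isZero_Tc_homology _ n (isZero_dual_of_acyclic _ hX n)).isIso
      ((HomologicalComplex.exactAt_iff_isZero_homology _ _).1 (B.acyclic _ (fun i =>
        (HomologicalComplex.exactAt_iff_isZero_homology _ _).2 (isZero_Tc_homology _ i (hX i))) n)) _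
  | succ k ih =>
    intro c P hP hF n
    let ι := Groth.L02.PC.truncι P (c + 1)
    haveI : ∀ i, Mono (ι.f i) := fun i => ConcreteCategory.mono_of_injective _ Subtype.val_injective
    haveI : Mono ι := HomologicalComplex.mono_of_mono_f ι inferInstance
    let S : ShortComplex (DRing.Cx R) := ShortComplex.mk ι (cokernel.π ι) (cokernel.condition ι)
    have hS : S.ShortExact := { exact := S.exact_of_g_is_cokernel (cokernelIsCokernel ι) }
    have hSi : ∀ i, (S.map (HomologicalComplex.eval _ _ i)).ShortExact := fun i =>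
      hS.map_of_exact (HomologicalComplex.eval (ModuleCat.{u} R) (ComplexShape.up ℤ) i)
    have hι : ∀ i, c + 1 ≤ i → IsIso (ι.f i) := fun i hi =>
      (ConcreteCategory.isIso_iff_bijective _).2 (Groth.L02.PC.truncι_bijective P (c + 1) hi)
    have hout : ∀ i, i ≠ c → IsZero (S.X₃.X i) := fun i hi => by
      haveI := (hSi i).epi_g
      by_cases hic : c + 1 ≤ i
      · haveI := hι i hic
        have hg : (S.map (HomologicalComplex.eval _ _ i)).g = 0 :=
          (cancel_epi (ι.f i)).1 (((S.map (HomologicalComplex.eval _ _ i)).zero).trans comp_zero.symm)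
        exact IsZero.of_epi_eq_zero _ hg
      · exact IsZero.of_epi (S.map (HomologicalComplex.eval _ _ i)).g (hP i (by omega))
    haveI : S.X₃.IsStrictlyGE c := (CochainComplex.isStrictlyGE_iff _ _).2 fun i hi => hout i (by omega)
    haveI : S.X₃.IsStrictlyLE c := (CochainComplex.isStrictlyLE_iff _ _).2 fun i hi => hout i (by omega)
    obtain ⟨M, ⟨e⟩⟩ := CochainComplex.exists_iso_single S.X₃ c
    haveI hXc : IsIso (S.g.f c) := by
      haveI : Mono (S.g.f c) := (hSi c).exact.mono_g
        ((Groth.L02.PC.isZero_trunc_X P (c + 1) (i := c) (by omega)).eq_of_src _ _)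
      haveI : Epi (S.g.f c) := (hSi c).epi_g
      exact isIso_of_mono_of_epi _
    have σ : ∀ i, (S.map (HomologicalComplex.eval (ModuleCat.{u} R) (ComplexShape.up ℤ) i)).Splitting := fun i =>
      if hic : c + 1 ≤ i then
        haveI := hι i hic
        haveI := (hSi i).mono_f
        ShortComplex.Splitting.ofExactOfRetraction _ (hSi i).exact (inv (ι.f i))
          (IsIso.hom_inv_id (ι.f i)) (hSi i).epi_g
      else
        haveI := (hSi i).mono_f
        ShortComplex.Splitting.ofExactOfRetraction _ (hSi i).exact 0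
          ((Groth.L02.PC.isZero_trunc_X P (c + 1) (i := i) (by omega)).eq_of_src _ _) (hSi i).epi_g
    have eM : P.X c ≅ M := asIso (S.g.f c) ≪≫
      (HomologicalComplex.eval (ModuleCat.{u} R) (ComplexShape.up ℤ) c).mapIso e ≪≫
      HomologicalComplex.singleObjXSelf (ComplexShape.up ℤ) c M
    obtain ⟨_, _⟩ := hF c
    have h3 : ∀ i, Good α S.X₃ i := fun i => by
      rcases subsingleton_or_nontrivial R with hR | hR
      · have hX : ∀ j, IsZero (S.X₃.homology j) := fun j =>
          haveI := Module.subsingleton R (S.X₃.homology j)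
          ModuleCat.isZero_of_subsingleton _
        exact (isZero_Tc_homology _ i (isZero_dual_of_acyclic _ hX i)).isIso
          ((HomologicalComplex.exactAt_iff_isZero_homology _ _).1 (B.acyclic _ (fun j =>
            (HomologicalComplex.exactAt_iff_isZero_homology _ _).2 (isZero_Tc_homology _ j (hX j))) i)) _
      let b' := (Module.Free.chooseBasis R (P.X c)).reindex (Fintype.equivFin _)
      let e' : M ≅ ModuleCat.of R (Fin (Fintype.card (Module.Free.ChooseBasisIndex R (P.X c))) → R) :=
        eM.symm ≪≫ b'.equivFun.toModuleIso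
      exact (good_qis α d B (e.hom ≫ (HomologicalComplex.single (ModuleCat.{u} R) (ComplexShape.up ℤ) c).map e'.hom) i).1
        (good_single_free α d B hbase c _ i)
    refine good_second α d hS σ (ih (c + 1) _ (fun i hi => ?_) ?_) h3 n
    · rcases hi with hi | hi
      · exact Groth.L02.PC.isZero_trunc_X P (c + 1) hi
      · by_cases hic : c + 1 ≤ i
        · haveI := hι i hic
          exact (hP i (Or.inr (by omega))).of_iso (asIso (ι.f i))
        · exact Groth.L02.PC.isZero_trunc_X P (c + 1) (by omega)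
    · exact Groth.L02.PC.trunc_finiteFree P (c + 1) fun i _ => hF i

theorem good_of_free (P : DRing.Cx R) (c : ℤ) (hP : DRing.VanishesAbove P c) (hF : DRing.TermwiseFiniteFree P)
    (n : ℤ) : Good α P n := by
  let m : ℤ := min c (a - n - 2)
  let ι := Groth.L02.PC.truncι P m
  haveI : ∀ i, Mono (ι.f i) := fun i => ConcreteCategory.mono_of_injective _ Subtype.val_injective
  haveI : Mono ι := HomologicalComplex.mono_of_mono_f ι inferInstance
  let S : ShortComplex (DRing.Cx R) := ShortComplex.mk ι (cokernel.π ι) (cokernel.condition ι)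
  have hS : S.ShortExact := { exact := S.exact_of_g_is_cokernel (cokernelIsCokernel ι) }
  have hSi := fun i => hS.map_of_exact (HomologicalComplex.eval (ModuleCat.{u} R) (ComplexShape.up ℤ) i)
  have hι : ∀ i, m ≤ i → IsIso (ι.f i) := fun i hi =>
    (ConcreteCategory.isIso_iff_bijective _).2 (Groth.L02.PC.truncι_bijective P m hi)
  have hout : ∀ i, m - 1 < i → IsZero (S.X₃.X i) := fun i hi => by
    haveI := hι i (by omega)
    have hg : (S.map (HomologicalComplex.eval _ _ i)).g = 0 :=
      (cancel_epi (ι.f i)).1 (((S.map (HomologicalComplex.eval _ _ i)).zero).trans comp_zero.symm)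
    haveI := (hSi i).epi_g
    exact IsZero.of_epi_eq_zero _ hg
  have σ : ∀ i, (S.map (HomologicalComplex.eval (ModuleCat.{u} R) (ComplexShape.up ℤ) i)).Splitting := fun i =>
    if hic : m ≤ i then
      haveI := hι i hic
      haveI := (hSi i).mono_f
      ShortComplex.Splitting.ofExactOfRetraction _ (hSi i).exact (inv (ι.f i))
        (IsIso.hom_inv_id (ι.f i)) (hSi i).epi_g
    else
      haveI := (hSi i).mono_f
      ShortComplex.Splitting.ofExactOfRetraction _ (hSi i).exact 0
        ((Groth.L02.PC.isZero_trunc_X P m (i := i) (by omega)).eq_of_src _ _) (hSi i).epi_g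
  have hD := BidualCx.isZero_dual_of_le I B.vanishes S.X₃ (m - 1) hout
  have hH := B.le ((Tc T).obj S.X₃) (m - 1) (fun i hi => T.map_isZero (hout i hi))
  refine (good_iff_first α d hS σ n (BidualCx.isZero_homology_of_X _ _ (hD _ (by omega)))
    (BidualCx.isZero_homology_of_X _ _ (hD _ (by omega))) (isZero_homology_of_X _ _ (hH _ (by omega)))
    (isZero_homology_of_X _ _ (hH _ (by omega)))).2 ?_
  refine good_of_bounded_free α d B hbase (c - m + 1).toNat m _ (fun i hi => ?_) ?_ n
  · exact Groth.L02.PC.trunc_vanishesOutside P m c hP i (by omega)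
  · exact Groth.L02.PC.trunc_finiteFree P m fun i _ => hF i

open Groth.L02.PC in
theorem good_of_boundedAbove [IsNoetherianRing R] (L : DRing.Cx R) (c : ℤ) (hL : LEH (DRing.toD L) c)
    (hL' : ∀ i, Module.Finite R (Dual.HD R (DRing.toD L) i)) (n : ℤ) : Good α L n := by
  have hpc : ∀ m, DRing.IsPseudoCoherent R m (DRing.toD L) := fun m =>
    Groth.L10.DR.pc_of_homology m (DRing.toD L) c hL fun i _ => by
      refine Groth.L10.DR.pc_single (M := (DerivedCategory.homologyFunctor (ModuleCat.{u} R) i).obj (DRing.toD L)) i m ?_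
      haveI := hL' i
      exact pc_mono (show -((-(m - i)).toNat : ℤ) ≤ m - i by omega)
        (Groth.L10.DR.pcModule_noetherian _ ((DerivedCategory.homologyFunctor (ModuleCat.{u} R) i).obj (DRing.toD L)))
  obtain ⟨P, hP, hPF, ⟨e⟩⟩ := Groth.L10.DR.exists_finiteFree_le hpc c hL
  haveI : P.IsKProjective := isKProjective_of_vanishesAbove hP fun i => by
    haveI := (hPF i).2
    infer_instance
  obtain ⟨f, hf⟩ := exists_chainMap e.hom
  haveI : QuasiIso f := (DerivedCategory.isIso_Q_map_iff_quasiIso (C := ModuleCat.{u} R) f).1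
    (by rw [hf]; infer_instance)
  exact (good_qis α d B f n).2 (good_of_free α d B hbase P c hP hPF n)

/-- the comparison is bijective in every degree, for complexes with finite cohomology -/
theorem good [IsNoetherianRing R] (K : DRing.Cx R) (hK : ∀ i, Module.Finite R (Dual.HD R (DRing.toD K) i))
    (n : ℤ) : Good α K n := by
  let m : ℤ := b - n + 1
  let T' := K.truncGE (m + 1)
  let ι := K.ιTruncLE m
  let S := mappingCone.triangleRotateShortComplex ι
  have σ := mappingCone.triangleRotateShortComplexSplitting ι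
  have hS : S.ShortExact := HomologicalComplex.shortExact_of_degreewise_shortExact _ fun i => (σ i).shortExact
  haveI := CochainComplex.mappingCone.quasiIso_descShortComplex (K.shortComplexTruncLE_shortExact m)
  let g : mappingCone ι ⟶ T' := CochainComplex.mappingCone.descShortComplex (K.shortComplexTruncLE m) ≫
    K.shortComplexTruncLEX₃ToTruncGE m (m + 1)
  haveI : QuasiIso g := quasiIso_comp _ _
  have hT : ∀ i, i < m + 1 → IsZero (T'.X i) := fun i hi => CochainComplex.isZero_of_isStrictlyGE T' (m + 1) i hi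
  have hD := BidualCx.isZero_dual_of_ge I B.vanishes T' (m + 1) hT
  haveI : QuasiIso (Groth.L10.RHomCx.homCxPre g I) := Groth.L10.RHomCx.quasiIso_homCxPre g I
  have t2 : ∀ i, b - (m + 1) < i → IsZero ((DRing.homCx S.X₂ I).homology i) := fun i hi =>
    (BidualCx.isZero_homology_of_X _ _ (hD i hi)).of_iso
      (asIso (HomologicalComplex.homologyMap (Groth.L10.RHomCx.homCxPre g I) i)).symm
  have t3 : ∀ i, b - (m + 1) < i → IsZero (((HomCx.H Φ ((Tc T).obj S.X₂)).obj J).homology i) := fun i hi =>
    isZero_H_of_qis (T := T) d B g i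
      (isZero_homology_of_X _ _ (B.ge _ (m + 1) (fun l hl => T.map_isZero (hT l hl)) i hi))
  refine (good_iff_outer α d hS σ n (t2 _ (by omega)) (t2 _ (by omega)) (t3 _ (by omega)) (t3 _ (by omega))).2 ?_
  change Good α ((K.truncLE m)⟦(1 : ℤ)⟧) (n + 1)
  rw [good_shift_iff α d B]
  have hLEH : Groth.L02.PC.LEH (DRing.toD (K.truncLE m)) m := fun i hi =>
    (Groth.L02.PC.isZero_HH_Q_iff _ i).2
      (BidualCx.isZero_homology_of_X _ _ (CochainComplex.isZero_of_isStrictlyLE (K.truncLE m) m i hi))
  refine good_of_boundedAbove α d B hbase _ m hLEH (fun i => ?_) n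
  by_cases hi : i ≤ m
  · haveI : QuasiIsoAt (K.ιTruncLE m) i := K.quasiIsoAt_ιTruncLE m i hi
    haveI : Module.Finite R ((DerivedCategory.Q ⋙ DerivedCategory.homologyFunctor (ModuleCat.{u} R) i).obj K) := hK i
    haveI : Module.Finite R (K.homology i) :=
      Module.Finite.equiv ((DerivedCategory.homologyFunctorFactors (ModuleCat.{u} R) i).app K).toLinearEquiv
    exact Module.Finite.equiv
      ((DerivedCategory.homologyFunctorFactors (ModuleCat.{u} R) i).app (K.truncLE m) ≪≫
        asIso (HomologicalComplex.homologyMap (K.ιTruncLE m) i)).toLinearEquiv.symm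
  · haveI := ModuleCat.subsingleton_of_isZero (hLEH i (by omega))
    exact inferInstanceAs (Module.Finite R ((Groth.L02.PC.HH i).obj (DRing.toD (K.truncLE m))))

end Groth.L29.Compare
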