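import Groth.Agent.L29.Dual.Descent
import Groth.Agent.L29.Dual.RegularDual
import Groth.Agent.L04.LC.DerivedSupports
import Mathlib.RingTheory.Ideal.AssociatedPrime.Finiteness
import Mathlib.RingTheory.Ideal.AssociatedPrime.Localization
import Mathlib.RingTheory.Support
import Mathlib.Order.Interval.Finset.Basic
import Mathlib.Data.Int.Interval

/-!
Over a Noetherian ring, pointwise finite injective dimension bounds `Ext` out of a finite module.
-/

set_option autoImplicit false
set_option backward.defeqAttrib.useBackward true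
set_option backward.isDefEq.respectTransparency false
set_option backward.isDefEq.respectTransparency.types false
set_option linter.style.haveILetI false

universe u

open CategoryTheory CategoryTheory.Limits CategoryTheory.Pretriangulated
open scoped TensorProduct

attribute [local instance] HasDerivedCategory.standard

local notation "tt" => DerivedCategory.TStructure.t

noncomputable section

namespace Groth.L29.ExtVanish

open Groth.L29.HomD

variable {A : Type u} [CommRing A] (R : Dual.D A)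

/-- every map into the shifted object is killed outside `q` -/
def Z (q : Ideal A) (X : Dual.D A) (m : ℤ) : Prop := ∀ x : X ⟶ R⟦m⟧, ∃ s ∉ q, s • x = 0

variable {R} {q : Ideal A}

theorem Z_of_iso {X Y : Dual.D A} {m : ℤ} (e : X ≅ Y) (h : Z R q X m) : Z R q Y m := fun x => by
  obtain ⟨s, hs, hx⟩ := h (e.hom ≫ x)
  refine ⟨s, hs, ?_⟩
  rw [← cancel_epi e.hom, Linear.comp_smul, hx, comp_zero]

theorem Z_of_subsingleton (hq : q.IsPrime) {X : Dual.D A} {m : ℤ} (h : Subsingleton (X ⟶ R⟦m⟧)) : Z R q X m :=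
  fun x => ⟨1, fun h1 => hq.ne_top ((Ideal.eq_top_iff_one q).2 h1), Subsingleton.elim _ _⟩

theorem Z_mid (hq : q.IsPrime) (T : Triangle (Dual.D A)) (hT : T ∈ distTriang _) {m : ℤ}
    (h1 : Z R q T.obj₁ m) (h3 : Z R q T.obj₃ m) : Z R q T.obj₂ m := fun x => by
  obtain ⟨s, hs, hx⟩ := h1 (T.mor₁ ≫ x)
  obtain ⟨y, hy⟩ := Triangle.yoneda_exact₂ _ hT (s • x) (by rw [Linear.comp_smul, hx])
  obtain ⟨t, ht, hy'⟩ := h3 y
  refine ⟨t * s, fun h => (hq.mem_or_mem h).elim ht hs, ?_⟩
  rw [mul_smul, hy, ← Linear.comp_smul, hy', comp_zero]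

theorem Z_shift {X : Dual.D A} {i : ℤ} (n : ℤ) (h : Z R q X i) : Z R q (X⟦n⟧) (i + n) := fun x => by
  obtain ⟨φ, rfl⟩ := (shiftHom_bijective X R i n).2 x
  obtain ⟨s, hs, hφ⟩ := h φ
  exact ⟨s, hs, by rw [← map_smul, hφ, map_zero]⟩

theorem Z_single {M : ModuleCat.{u} A} {n i : ℤ} (h : Z R q (Dual.inD A M) (i + n)) :
    Z R q ((DerivedCategory.singleFunctor (ModuleCat.{u} A) n).obj M) i := fun x => by
  obtain ⟨s, hs, hx⟩ := h (singleHomEquiv R M n i x)
  exact ⟨s, hs, (singleHomEquiv R M n i).injective (by rw [map_smul, hx, map_zero])⟩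

theorem Z_of_single {M : ModuleCat.{u} A} {n i : ℤ}
    (h : Z R q ((DerivedCategory.singleFunctor (ModuleCat.{u} A) n).obj M) i) :
    Z R q (Dual.inD A M) (i + n) := fun x => by
  obtain ⟨s, hs, hx⟩ := h ((singleHomEquiv R M n i).symm x)
  exact ⟨s, hs, (singleHomEquiv R M n i).symm.injective (by rw [map_smul, hx, map_zero])⟩

section Module

variable {M : Type u} [AddCommGroup M] [Module A M]

theorem Z_of_killed {s : A} (hs : s ∉ q) (h : ∀ y : M, s • y = 0) (m : ℤ) : Z R q (Dual.inD A M) m := fun x => by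
  refine ⟨s, hs, ?_⟩
  have h0 : (s • (LinearMap.id : M →ₗ[A] M)) = 0 := LinearMap.ext fun y => h y
  have h1 : pre R (s • (LinearMap.id : M →ₗ[A] M)) m x = s • x := by
    rw [pre_smul, pre_id]
    rfl
  rw [← h1, h0, pre_zero]
  rfl

theorem Z_of_equiv {N : Type u} [AddCommGroup N] [Module A N] (e : M ≃ₗ[A] N) {m : ℤ}
    (h : Z R q (Dual.inD A M) m) : Z R q (Dual.inD A N) m := fun x => by
  obtain ⟨s, hs, hx⟩ := h (preEquiv R e m x)
  exact ⟨s, hs, (preEquiv R e m).injective (by rw [map_smul, hx, map_zero])⟩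

variable {M' M'' : Type u} [AddCommGroup M'] [Module A M'] [AddCommGroup M''] [Module A M'']
  {f : M' →ₗ[A] M} {g : M →ₗ[A] M''}

theorem Z_ses (hq : q.IsPrime) (hf : Function.Injective f) (hg : Function.Surjective g)
    (hfg : Function.Exact f g) {m : ℤ} (h1 : Z R q (Dual.inD A M') m) (h3 : Z R q (Dual.inD A M'') m) :
    Z R q (Dual.inD A M) m := fun x => by
  obtain ⟨s, hs, hx⟩ := h1 (pre R f m x)
  obtain ⟨y, hy⟩ := (exact_mid R f g hf hg hfg m (s • x)).1 (by rw [map_smul, hx])
  obtain ⟨t, ht, hy'⟩ := h3 y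
  refine ⟨t * s, fun h => (hq.mem_or_mem h).elim ht hs, ?_⟩
  rw [mul_smul, ← hy, ← map_smul, hy', map_zero]

theorem Z_sub (hq : q.IsPrime) (hf : Function.Injective f) (hg : Function.Surjective g)
    (hfg : Function.Exact f g) {m : ℤ} (h2 : Z R q (Dual.inD A M) m) (h3 : Z R q (Dual.inD A M'') (m + 1)) :
    Z R q (Dual.inD A M') m := fun x => by
  obtain ⟨s, hs, hx⟩ := h3 (delta R f g hf hg hfg m x)
  obtain ⟨y, hy⟩ := (exact_left R f g hf hg hfg m (s • x)).1 (by rw [map_smul, hx])
  obtain ⟨t, ht, hy'⟩ := h2 y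
  refine ⟨t * s, fun h => (hq.mem_or_mem h).elim ht hs, ?_⟩
  rw [mul_smul, ← hy, ← map_smul, hy', map_zero]

end Module

variable [IsNoetherianRing A]

/-- near `p`, a finite module with nothing strictly generizing `p` in its support is built from `A ⧸ p` -/
theorem exists_class (R : Dual.D A) (p : Ideal A) (hp : p.IsPrime) (M : Type u) [AddCommGroup M] [Module A M] [Module.Finite A M]
    (hM : ∀ P ∈ Module.support A M, P.asIdeal ≤ p → P.asIdeal = p) :
    ∃ f ∉ p, ∀ q : Ideal A, q.IsPrime → f ∉ q → ∀ m : ℤ,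
      (∀ i, m < i → Z R q (Dual.inD A (A ⧸ p)) i) → ∀ i, m < i → Z R q (Dual.inD A M) i := by
  revert hM
  refine IsNoetherianRing.induction_on_isQuotientEquivQuotientPrime A ‹Module.Finite A M›
    (motive := fun N _ _ _ => (∀ P ∈ Module.support A N, P.asIdeal ≤ p → P.asIdeal = p) →
      ∃ f ∉ p, ∀ q : Ideal A, q.IsPrime → f ∉ q → ∀ m : ℤ,
        (∀ i, m < i → Z R q (Dual.inD A (A ⧸ p)) i) → ∀ i, m < i → Z R q (Dual.inD A N) i) ?_ ?_ ?_
  · intro N _ _ _ _ _
    exact ⟨1, fun h => hp.ne_top ((Ideal.eq_top_iff_one p).2 h), fun q hq _ m _ i _ =>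
      Z_of_subsingleton hq (subsingleton_of_module R (M := N) i)⟩
  · intro N _ _ _ P e hN
    by_cases hle : P.asIdeal ≤ p
    · have hmem : P ∈ Module.support A N := by
        rw [LinearEquiv.support_eq e, Module.support_eq_zeroLocus, Ideal.annihilator_quotient]
        exact fun x hx => hx
      have hPp := hN P hmem hle
      exact ⟨1, fun h => hp.ne_top ((Ideal.eq_top_iff_one p).2 h), fun q hq _ m h i hi =>
        Z_of_equiv (e.trans (Submodule.quotEquivOfEq _ _ hPp)).symm (h i hi)⟩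
    · obtain ⟨f, hfP, hfp⟩ := SetLike.not_le_iff_exists.1 hle
      refine ⟨f, hfp, fun q hq hfq m _ i _ => Z_of_killed hfq (fun y => e.injective ?_) i⟩
      rw [map_smul, map_zero]
      obtain ⟨a, ha⟩ := Ideal.Quotient.mk_surjective (e y)
      rw [← ha]
      exact Ideal.Quotient.eq_zero_iff_mem.2 (Ideal.mul_mem_right a _ hfP)
  · intro N₁ _ _ _ N₂ _ _ _ N₃ _ _ _ f g hf hg hfg h₁ h₃ hN
    have hs := Module.support_of_exact hfg hf hg
    obtain ⟨s, hs1, h1⟩ := h₁ fun P hP => hN P (hs ▸ Or.inl hP)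
    obtain ⟨t, ht1, h3⟩ := h₃ fun P hP => hN P (hs ▸ Or.inr hP)
    refine ⟨s * t, fun h => (hp.mem_or_mem h).elim hs1 ht1, fun q hq hst m h i hi => ?_⟩
    exact Z_ses hq hf hg hfg (h1 q hq (fun hh => hst (Ideal.mul_mem_right _ _ hh)) m h i hi)
      (h3 q hq (fun hh => hst (Ideal.mul_mem_left _ _ hh)) m h i hi)

/-- iterated cones of multiplication maps -/
theorem exists_cone (R : Dual.D A) (c₀ : ℤ) (hR : ∀ i, c₀ < i → Subsingleton (Dual.HD A R i)) (p : Ideal A) (l : List A) :
    ∃ (K : Dual.D A) (n : ℕ) (c : ℤ), (K.IsGE (-(n : ℤ)) ∧ K.IsLE 0) ∧ (∀ j, Module.Finite A (Dual.HD A K j)) ∧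
      (∀ g ∈ l, ∀ j, ∃ N : ℕ, ∀ y : Dual.HD A K j, g ^ N • y = 0) ∧ (∀ m, c < m → Subsingleton (K ⟶ R⟦m⟧)) ∧
      ((∀ g ∈ l, g ∈ p) → ∃ φ : Dual.HD A K 0 →ₗ[A] A ⧸ p, Function.Surjective φ) := by
  induction l with
  | nil =>
    refine ⟨Dual.inD A A, 0, c₀, ⟨(show DerivedCategory.IsGE (Dual.inD A A) (-((0 : ℕ) : ℤ)) by
        simp only [Nat.cast_zero, neg_zero]; infer_instance), inferInstance⟩,
      HomD.finite_HD_single A, fun g hg => absurd hg List.not_mem_nil, fun m hm => ?_, fun _ => ?_⟩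
    · haveI := hR m hm
      exact (evalShiftEquiv R m).toEquiv.subsingleton
    · exact ⟨(Ideal.Quotient.mkₐ A p).toLinearMap ∘ₗ
        ((DerivedCategory.singleFunctorCompHomologyFunctorIso (ModuleCat.{u} A) 0).app
          (ModuleCat.of A A)).toLinearEquiv.toLinearMap,
        Ideal.Quotient.mk_surjective.comp (LinearEquiv.surjective _)⟩
  | cons g l ih =>
    obtain ⟨K, n, c, ⟨hge, hle⟩, hfin, hkill, hvan, hsurj⟩ := ih
    obtain ⟨C, v, w, hT⟩ := distinguished_cocone_triangle (g • 𝟙 K)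
    let H := fun j => DerivedCategory.homologyFunctor (ModuleCat.{u} A) j
    let δ := fun j => (DerivedCategory.HomologySequence.δ (Triangle.mk (g • 𝟙 K) v w) j (j + 1) rfl).hom
    let β := fun j => ((H j).map v).hom
    have hex : ∀ j, ∀ y, δ j y = 0 → ∃ z, β j z = y := fun j y hy =>
      (ShortComplex.moduleCat_exact_iff _).1 (DerivedCategory.HomologySequence.exact₃ _ hT j (j + 1) rfl) y hy
    have hδ : ∀ j y, g • δ j y = 0 := fun j y => by
      have h := LinearMap.congr_fun (congrArg ModuleCat.Hom.hom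
        (DerivedCategory.HomologySequence.δ_comp (Triangle.mk (g • 𝟙 K) v w) hT j (j + 1) rfl)) y
      exact (LinearMap.congr_fun (congrArg ModuleCat.Hom.hom
        (Groth.L04.DerHT.homology_smul_id g K (j + 1))) (δ j y)).symm.trans h
    have hβ : ∀ j z, β j (g • z) = 0 := fun j z => by
      have h := LinearMap.congr_fun (congrArg ModuleCat.Hom.hom ((H j).map_comp (g • 𝟙 K) v)) z
      rw [show (g • 𝟙 K) ≫ v = 0 from comp_distTriang_mor_zero₁₂ _ hT] at h
      simp only [Functor.map_zero, H, Groth.L04.DerHT.homology_smul_id] at h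
      exact h.symm
    have hzero : ∀ j, IsZero ((H j).obj K) → IsZero ((H (j + 1)).obj K) → IsZero ((H j).obj C) := fun j h0 h1 => by
      haveI : Subsingleton ((H j).obj C) := subsingleton_of_forall_eq 0 fun y => by
        obtain ⟨z, rfl⟩ := hex j y (@Subsingleton.elim _ (ModuleCat.subsingleton_of_isZero h1) _ _)
        haveI := ModuleCat.subsingleton_of_isZero h0
        rw [Subsingleton.elim z 0, map_zero]
      exact ModuleCat.isZero_of_subsingleton _
    have hge' : C.IsGE (-((n + 1 : ℕ) : ℤ)) := (DerivedCategory.isGE_iff C _).2 fun i hi =>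
      hzero i (DerivedCategory.isZero_of_isGE K (-(n : ℤ)) i (by omega))
        (DerivedCategory.isZero_of_isGE K (-(n : ℤ)) (i + 1) (by omega))
    have hle' : C.IsLE 0 := (DerivedCategory.isLE_iff C _).2 fun i hi =>
      hzero i (DerivedCategory.isZero_of_isLE K 0 i hi) (DerivedCategory.isZero_of_isLE K 0 (i + 1) (by omega))
    refine ⟨C, n + 1, c + 1, ⟨hge', hle'⟩, fun j => ?_, fun g' hg' j => ?_, fun m hm => ?_, fun hl => ?_⟩
    · haveI := hfin j
      haveI := hfin (j + 1)
      haveI : IsNoetherian A ((H j).obj C) := by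
        haveI : IsNoetherian A ((H j).obj K) := inferInstanceAs (IsNoetherian A (Dual.HD A K j))
        haveI : IsNoetherian A ((DerivedCategory.homologyFunctor (ModuleCat.{u} A) (j + 1)).obj
          (Triangle.mk (g • 𝟙 K) v w).obj₁) := inferInstanceAs (IsNoetherian A (Dual.HD A K (j + 1)))
        refine isNoetherian_of_range_eq_ker (β j) (δ j) ?_
        refine le_antisymm ?_ fun y hy => hex j y hy
        rintro _ ⟨z, rfl⟩
        exact LinearMap.congr_fun (congrArg ModuleCat.Hom.hom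
          (DerivedCategory.HomologySequence.comp_δ (Triangle.mk (g • 𝟙 K) v w) hT j (j + 1) rfl)) z
      exact inferInstanceAs (Module.Finite A ((H j).obj C))
    · rcases List.mem_cons.1 hg' with rfl | hg'
      · refine ⟨2, fun y => ?_⟩
        obtain ⟨z, hz⟩ := hex j (g' • y) (by rw [map_smul]; exact hδ j y)
        rw [pow_two, mul_smul, ← hz, ← map_smul]
        exact hβ j z
      · obtain ⟨N₁, h₁⟩ := hkill g' hg' (j + 1)
        obtain ⟨N₂, h₂⟩ := hkill g' hg' j
        refine ⟨N₂ + N₁, fun y => ?_⟩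
        obtain ⟨z, hz⟩ := hex j (g' ^ N₁ • y) (by rw [map_smul]; exact h₁ _)
        rw [pow_add, mul_smul, ← hz, ← map_smul]
        exact (congrArg (β j) (h₂ z)).trans (map_zero _)
    · refine subsingleton_of_triangle _ (rot_of_distTriang _ hT) _ (hvan m (by omega)) ?_
      have := hvan (m - 1) (by omega)
      have h := (Equiv.ofBijective _ (shiftHom_bijective K R (m - 1) 1)).symm
      rw [show m - 1 + 1 = m by omega] at h
      exact h.subsingleton
    · obtain ⟨φ, hφ⟩ := hsurj fun g' hg' => hl g' (List.mem_cons_of_mem _ hg')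
      have hgp : g ∈ p := hl g List.mem_cons_self
      have hs : Function.Surjective (β 0) := fun y => by
        exact hex 0 y (@Subsingleton.elim _
          (ModuleCat.subsingleton_of_isZero (DerivedCategory.isZero_of_isLE K 0 (0 + 1) (by omega))) _ _)
      have hker : LinearMap.ker (β 0) ≤ LinearMap.ker φ := fun y hy => by
        obtain ⟨z, hz⟩ := (ShortComplex.moduleCat_exact_iff _).1
          (DerivedCategory.HomologySequence.exact₂ _ hT 0) y hy
        have hz' : g • z = y := by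
          exact (LinearMap.congr_fun (congrArg ModuleCat.Hom.hom
            (Groth.L04.DerHT.homology_smul_id g K 0)) z).symm.trans hz
        rw [LinearMap.mem_ker, ← hz']
        refine (φ.map_smul g z).trans ?_
        obtain ⟨a, ha⟩ := Ideal.Quotient.mk_surjective (φ z)
        rw [← ha]
        exact Ideal.Quotient.eq_zero_iff_mem.2 (Ideal.mul_mem_right a _ hgp)
      refine ⟨(LinearMap.ker (β 0)).liftQ φ hker ∘ₗ (LinearMap.quotKerEquivOfSurjective _ hs).symm.toLinearMap,
        fun t => ?_⟩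
      obtain ⟨y, rfl⟩ := hφ t
      refine ⟨β 0 y, ?_⟩
      have h : (LinearMap.quotKerEquivOfSurjective _ hs).symm (β 0 y) = Submodule.Quotient.mk y :=
        (LinearEquiv.symm_apply_eq _).2 rfl
      rw [LinearMap.comp_apply, LinearEquiv.coe_coe, h]
      rfl

/-- maps out of objects with locally vanishing cohomology vanish locally -/
theorem Z_bounded (hq : q.IsPrime) (X : Dual.D A) (a b : ℤ) [X.IsGE a] [X.IsLE b] (m : ℤ)
    (h : ∀ n, a ≤ n → n ≤ b → Z R q (Dual.inD A (Dual.HD A X n)) (m + n)) : Z R q X m :=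
  bounded_induction (fun Y => Z R q Y m) Z_of_iso (fun T hT h1 h3 => Z_mid hq T hT h1 h3)
    (fun _ hY => Z_of_subsingleton hq ⟨fun x y => hY.eq_of_src x y⟩) X a b fun n h1 h2 => Z_single (h n h1 h2)

/-- the local bound propagates from high degrees down to a fixed degree -/
theorem exists_step (R : Dual.D A) (c₀ : ℤ) (hR : ∀ i, c₀ < i → Subsingleton (Dual.HD A R i)) (p : Ideal A) (hp : p.IsPrime) :
    ∃ (f : A) (c : ℤ), f ∉ p ∧ ∀ q : Ideal A, q.IsPrime → f ∉ q → ∀ m, c < m →
      (∀ i, m < i → Z R q (Dual.inD A (A ⧸ p)) i) → Z R q (Dual.inD A (A ⧸ p)) m := by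
  classical
  obtain ⟨s, hs⟩ := (inferInstance : IsNoetherian A A).noetherian p
  obtain ⟨K, n, c, ⟨hge, hle⟩, hfin, hkill, hvan, hsurj⟩ := exists_cone R c₀ hR p s.toList
  obtain ⟨φ, hφ⟩ := hsurj fun g hg => hs ▸ Submodule.subset_span (Finset.mem_toList.1 hg)
  let P₀ : PrimeSpectrum A := ⟨p, hp⟩
  have hclass : ∀ j, ∀ P ∈ Module.support A (Dual.HD A K j), P.asIdeal ≤ p → P.asIdeal = p := fun j P hP hle' => by
    refine le_antisymm hle' ?_
    haveI := hfin j
    rw [Module.support_eq_zeroLocus] at hP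
    rw [← hs]
    refine Submodule.span_le.2 fun g hg => ?_
    obtain ⟨N, hN⟩ := hkill g (Finset.mem_toList.2 hg) j
    exact P.isPrime.mem_of_pow_mem N (hP (Module.mem_annihilator.2 hN))
  have hzero : P₀ ∈ Module.support A (Dual.HD A K 0) := by
    refine Module.support_subset_of_surjective φ hφ ?_
    rw [Module.support_eq_zeroLocus, Ideal.annihilator_quotient]
    exact fun x hx => hx
  let S : Finset ℤ := (Finset.Icc (-(n : ℤ)) 0).filter fun j => P₀ ∈ Module.support A (Dual.HD A K j)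
  have hS : S.Nonempty := ⟨0, Finset.mem_filter.2 ⟨Finset.mem_Icc.2 ⟨by omega, le_rfl⟩, hzero⟩⟩
  let k := S.min' hS
  obtain ⟨hk, hkp⟩ := Finset.mem_filter.1 (S.min'_mem hS)
  rw [Finset.mem_Icc] at hk
  have hlow : ∀ j, -(n : ℤ) ≤ j → j < k → P₀ ∉ Module.support A (Dual.HD A K j) := fun j h1 h2 h3 => by
    have hj : k ≤ j := Finset.min'_le S j (Finset.mem_filter.2 ⟨Finset.mem_Icc.2 ⟨h1, by omega⟩, h3⟩)
    omega
  choose F hF hcl using fun j => haveI := hfin j; exists_class R p hp (Dual.HD A K j) (hclass j)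
  have hann : ∀ j, ∃ g ∉ p, P₀ ∉ Module.support A (Dual.HD A K j) → ∀ y : Dual.HD A K j, g • y = 0 := fun j => by
    by_cases hj : P₀ ∈ Module.support A (Dual.HD A K j)
    · exact ⟨1, fun h => hp.ne_top ((Ideal.eq_top_iff_one p).2 h), fun h => absurd hj h⟩
    · haveI := hfin j
      rw [Module.support_eq_zeroLocus] at hj
      obtain ⟨g, hg, hgp⟩ := Set.not_subset.1 hj
      exact ⟨g, hgp, fun _ y => Module.mem_annihilator.1 hg y⟩
  choose G hG hGk using hann
  haveI := hfin k
  have hass : p ∈ associatedPrimes A (Dual.HD A K k) := by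
    refine Module.associatedPrimes.minimalPrimes_annihilator_subset_associatedPrimes A (Dual.HD A K k) ⟨⟨hp, ?_⟩, ?_⟩
    · rw [Module.support_eq_zeroLocus] at hkp
      exact hkp
    · intro P hP hPp
      exact (hclass k ⟨P, hP.1⟩ (by rw [Module.support_eq_zeroLocus]; exact hP.2) hPp).ge
  obtain ⟨ι, hι⟩ := ((isAssociatedPrime_iff_exists_injective_linearMap p _).1 hass).2
  obtain ⟨FQ, hFQ, hclQ⟩ := exists_class R p hp (Dual.HD A K k ⧸ LinearMap.range ι) fun P hP =>
    hclass k P (Module.support_subset_of_surjective _ (Submodule.mkQ_surjective _) hP)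
  let f := FQ * ∏ j ∈ Finset.Icc (-(n : ℤ)) 0, F j * G j
  have hf : f ∉ p := by
    intro h
    rcases hp.mem_or_mem h with h | h
    · exact hFQ h
    · obtain ⟨j, -, hj⟩ := (Ideal.IsPrime.prod_mem_iff).1 h
      exact (hp.mem_or_mem hj).elim (hF j) (hG j)
  refine ⟨f, c, hf, fun q hq hfq m hm h => ?_⟩
  have hFQq : FQ ∉ q := fun hh => hfq (Ideal.mul_mem_right _ _ hh)
  have hFq : ∀ j, -(n : ℤ) ≤ j → j ≤ 0 → F j ∉ q ∧ G j ∉ q := fun j h1 h2 => by
    have hmem : ∀ {x}, x ∈ q → x ∣ F j * G j → f ∈ q := fun hx hd => by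
      obtain ⟨y, hy⟩ := hd.trans (Finset.dvd_prod_of_mem (fun j => F j * G j) (Finset.mem_Icc.2 ⟨h1, h2⟩))
      exact Ideal.mul_mem_left _ _ (hy ▸ Ideal.mul_mem_right _ _ hx)
    exact ⟨fun hh => hfq (hmem hh (dvd_mul_right _ _)), fun hh => hfq (hmem hh (dvd_mul_left _ _))⟩
  have hge_all : ∀ j, k ≤ j → ∀ i, m < i → Z R q (Dual.inD A (Dual.HD A K j)) i := fun j hj i hi => by
    by_cases hj0 : j ≤ 0
    · exact hcl j q hq (hFq j (by omega) hj0).1 m h i hi
    · haveI := ModuleCat.subsingleton_of_isZero (DerivedCategory.isZero_of_isLE K 0 j (by omega))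
      exact Z_of_subsingleton hq (subsingleton_of_module R (M := Dual.HD A K j) i)
  -- cut off the cohomology below `k`
  let LT := ((tt).truncLT k).obj K
  let Y := ((tt).truncGE k).obj K
  haveI : DerivedCategory.IsLE LT 0 := (DerivedCategory.isLE_iff LT 0).2 fun i hi =>
    Groth.L10.isZero_H_LT k i (by omega) K
  haveI : DerivedCategory.IsGE LT (-(n : ℤ)) := (DerivedCategory.isGE_iff LT _).2 fun i hi => by
    haveI := Groth.L10.isIso_H_ι (A := ModuleCat.{u} A) k i (by omega) K
    exact (DerivedCategory.isZero_of_isGE K (-(n : ℤ)) i hi).of_iso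
      (asIso ((DerivedCategory.homologyFunctor _ i).map (((tt).truncLTι k).app K)))
  have hLT : ∀ i, Z R q LT i := fun i => Z_bounded hq LT (-(n : ℤ)) 0 i fun j h1 h2 => by
    by_cases hjk : j < k
    · haveI := Groth.L10.isIso_H_ι (A := ModuleCat.{u} A) k j hjk K
      exact Z_of_equiv (asIso ((DerivedCategory.homologyFunctor _ j).map (((tt).truncLTι k).app K))).toLinearEquiv.symm
        (Z_of_killed (hFq j h1 h2).2 (hGk j (hlow j h1 hjk)) _)
    · haveI : Subsingleton (Dual.HD A LT j) :=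
        ModuleCat.subsingleton_of_isZero (Groth.L10.isZero_H_LT k j (by omega) K)
      exact Z_of_subsingleton hq (subsingleton_of_module R (M := Dual.HD A LT j) _)
  have hY : Z R q Y (m - k) := by
    have h1 := Z_shift 1 (hLT (m - k - 1))
    rw [show m - k - 1 + 1 = m - k by omega] at h1
    exact Z_mid hq _ (rot_of_distTriang _ ((tt).triangleLTGE_distinguished k K))
      (Z_of_subsingleton hq (hvan (m - k) (by omega))) h1
  haveI : DerivedCategory.IsLE Y 0 := inferInstanceAs ((tt).IsLE (((tt).truncGE k).obj K) 0)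
  haveI : DerivedCategory.IsGE Y k := inferInstance
  have hYH : ∀ j, k ≤ j → Nonempty (Dual.HD A K j ≃ₗ[A] Dual.HD A Y j) := fun j hj => by
    haveI := Groth.L10.isIso_H_π (A := ModuleCat.{u} A) k j hj K
    exact ⟨(asIso ((DerivedCategory.homologyFunctor _ j).map (((tt).truncGEπ k).app K))).toLinearEquiv⟩
  -- isolate the lowest cohomology
  let LY := ((tt).truncLT (k + 1)).obj Y
  let GY := ((tt).truncGE (k + 1)).obj Y
  haveI : DerivedCategory.IsLE GY 0 := inferInstanceAs ((tt).IsLE (((tt).truncGE (k + 1)).obj Y) 0)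
  haveI : DerivedCategory.IsGE GY (k + 1) := inferInstance
  have hGY : Z R q GY (m - k + 1) := Z_bounded hq GY (k + 1) 0 _ fun j h1 h2 => by
    obtain ⟨e⟩ := hYH j (by omega)
    haveI := Groth.L10.isIso_H_π (A := ModuleCat.{u} A) (k + 1) j h1 Y
    exact Z_of_equiv (e.trans (asIso ((DerivedCategory.homologyFunctor _ j).map
      (((tt).truncGEπ (k + 1)).app Y))).toLinearEquiv) (hge_all j (by omega) _ (by omega))
  have hLY : Z R q LY (m - k) := by
    have h1 := Z_shift (-1) hGY
    rw [show m - k + 1 + -1 = m - k by omega] at h1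
    exact Z_mid hq _ (inv_rot_of_distTriang _ ((tt).triangleLTGE_distinguished (k + 1) Y)) h1 hY
  haveI : DerivedCategory.IsLE LY k := inferInstanceAs ((tt).IsLE (((tt).truncLT (k + 1)).obj Y) k)
  haveI : DerivedCategory.IsGE LY k := (DerivedCategory.isGE_iff LY k).2 fun i hi => by
    haveI := Groth.L10.isIso_H_ι (A := ModuleCat.{u} A) (k + 1) i (by omega) Y
    exact (DerivedCategory.isZero_of_isGE Y k i hi).of_iso
      (asIso ((DerivedCategory.homologyFunctor _ i).map (((tt).truncLTι (k + 1)).app Y)))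
  obtain ⟨eL⟩ := Groth.L10.exists_iso_single_H (A := ModuleCat.{u} A) LY k
  obtain ⟨ek⟩ := hYH k le_rfl
  haveI := Groth.L10.isIso_H_ι (A := ModuleCat.{u} A) (k + 1) k (by omega) Y
  have hHk : Z R q (Dual.inD A (Dual.HD A K k)) m := by
    have := Z_of_equiv ((asIso ((DerivedCategory.homologyFunctor _ k).map
      (((tt).truncLTι (k + 1)).app Y))).toLinearEquiv.trans ek.symm) (Z_of_single (Z_of_iso eL hLY))
    rwa [show m - k + k = m by omega] at this
  exact Z_sub hq hι (Submodule.mkQ_surjective _) (LinearMap.exact_map_mkQ_range ι) hHk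
    (hclQ q hq hFQq m h (m + 1) (by omega))

/-- a bound at each prime -/
theorem exists_local_bound (R : Dual.D A) (a : ℤ) [R.IsGE a] (q : Ideal A) [q.IsPrime]
    [Module.Flat A (Localization.AtPrime q)]
    (hpw : DRing.HasFiniteInjDim (Localization.AtPrime q) ((FlatBC.L A (Localization.AtPrime q)).obj R))
    (M : Type u) [AddCommGroup M] [Module A M] [Module.Finite A M] :
    ∃ N : ℤ, ∀ i, N < i → Z R q (Dual.inD A M) i := by
  obtain ⟨a', b', I, hI, hinj, ⟨eI⟩⟩ := hpw
  refine ⟨b', fun i hi x => ?_⟩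
  let B := Localization.AtPrime q
  haveI : DerivedCategory.IsGE (R⟦i⟧) (a - i) := (tt).isGE_shift R a i (a - i) (by omega)
  have hiso : FlatBC.Iso' B (Dual.inD A M) (R⟦i⟧) :=
    FlatBC.iso'_of_iso ((shiftFunctorZero (Dual.D A) ℤ).app (Dual.inD A M)) (FlatBC.allShift_inD (R⟦i⟧) (a - i) M 0)
  haveI := FlatBC.isGE_L (B := B) (Dual.inD A M) 0
  haveI hsub := subsingleton_of_separated I a' b' hI hinj ((FlatBC.L A B).obj (Dual.inD A M)) i
    (Or.inr ⟨0, inferInstance, by omega⟩)
  haveI : Subsingleton ((FlatBC.L A B).obj (Dual.inD A M) ⟶ (FlatBC.L A B).obj (R⟦i⟧)) :=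
    (Iso.homCongr (Iso.refl _) (((FlatBC.L A B).commShiftIso i).app R ≪≫
      (shiftFunctor (Dual.D B) i).mapIso eI.symm)).subsingleton
  haveI : Subsingleton (B ⊗[A] (Dual.inD A M ⟶ R⟦i⟧)) := hiso.1.subsingleton
  have hx : LocalizedModule.mk x (1 : q.primeCompl) = 0 :=
    (LocalizedModule.equivTensorProduct q.primeCompl _).toEquiv.subsingleton.elim _ _
  rw [← LocalizedModule.zero_mk (1 : q.primeCompl), LocalizedModule.mk_eq] at hx
  obtain ⟨s, hs⟩ := hx
  exact ⟨s, s.2, by simpa [Submonoid.smul_def] using hs⟩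

theorem exists_bound (R : Dual.D A) (a b : ℤ) [R.IsGE a] (hR : ∀ i, b < i → Subsingleton (Dual.HD A R i))
    [∀ q : PrimeSpectrum A, Module.Flat A (Localization.AtPrime q.asIdeal)]
    (hpw : ∀ q : PrimeSpectrum A, DRing.HasFiniteInjDim (Localization.AtPrime q.asIdeal)
      ((FlatBC.L A (Localization.AtPrime q.asIdeal)).obj R))
    (M : Type u) [AddCommGroup M] [Module A M] [Module.Finite A M] :
    ∃ N : ℤ, ∀ i, N < i → Subsingleton (Dual.inD A M ⟶ R⟦i⟧) := by
  suffices h : ∀ (I : Ideal A) (M : Type u) [AddCommGroup M] [Module A M] [Module.Finite A M],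
      (∀ a ∈ I, ∀ y : M, a • y = 0) → ∃ N : ℤ, ∀ i, N < i → Subsingleton (Dual.inD A M ⟶ R⟦i⟧) from
    h ⊥ M fun a ha y => by rw [Submodule.mem_bot] at ha; rw [ha, zero_smul]
  intro I
  refine IsNoetherian.induction (P := fun I : Ideal A => ∀ (M : Type u) [AddCommGroup M] [Module A M]
    [Module.Finite A M], (∀ a ∈ I, ∀ y : M, a • y = 0) →
      ∃ N : ℤ, ∀ i, N < i → Subsingleton (Dual.inD A M ⟶ R⟦i⟧)) (fun I ih M _ _ _ => ?_) I
  refine IsNoetherianRing.induction_on_isQuotientEquivQuotientPrime A ‹Module.Finite A M›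
    (motive := fun N _ _ _ => (∀ a ∈ I, ∀ y : N, a • y = 0) →
      ∃ B : ℤ, ∀ i, B < i → Subsingleton (Dual.inD A N ⟶ R⟦i⟧)) ?_ ?_ ?_
  · intro N _ _ _ _ _
    exact ⟨0, fun i _ => subsingleton_of_module R (M := N) i⟩
  · intro N _ _ _ P e hN
    suffices h : ∃ B : ℤ, ∀ i, B < i → Subsingleton (Dual.inD A (A ⧸ P.asIdeal) ⟶ R⟦i⟧) by
      obtain ⟨B, hB⟩ := h
      exact ⟨B, fun i hi => haveI := hB i hi; (preEquiv R e i).symm.toEquiv.subsingleton⟩
    have hle : I ≤ P.asIdeal := fun x hx => by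
      have h := hN x hx (e.symm 1)
      have h' := congrArg e h
      rw [map_smul, LinearEquiv.apply_symm_apply, map_zero] at h'
      refine Ideal.Quotient.eq_zero_iff_mem.1 ?_
      rw [← h', Algebra.smul_def, mul_one]
      rfl
    have hkill : ∀ J : Ideal A, ∀ x ∈ J, ∀ y : A ⧸ J, x • y = 0 := fun J x hx y => by
      obtain ⟨z, rfl⟩ := Ideal.Quotient.mk_surjective y
      exact Ideal.Quotient.eq_zero_iff_mem.2 (Ideal.mul_mem_right z _ hx)
    rcases lt_or_eq_of_le hle with hlt | heq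
    · exact ih P.asIdeal hlt (A ⧸ P.asIdeal) (hkill _)
    let p := P.asIdeal
    have hp : p.IsPrime := P.isPrime
    obtain ⟨f, c, hf, hstep⟩ := exists_step R b hR p hp
    let J := p ⊔ Ideal.span {f}
    have hlt : I < J := by
      rw [heq]
      exact lt_of_le_of_ne le_sup_left fun h => hf (h.ge (Ideal.mem_sup_right (Ideal.mem_span_singleton_self f)))
    obtain ⟨N', hN'⟩ := ih J hlt (A ⧸ J) (hkill J)
    refine ⟨max c N', fun i hi => subsingleton_of_forall_eq 0 fun x => ?_⟩
    have hci : c < i := lt_of_le_of_lt (le_max_left _ _) hi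
    have hNi : N' < i := lt_of_le_of_lt (le_max_right _ _) hi
    -- local vanishing away from `f`
    have hloc : ∀ q : Ideal A, q.IsPrime → f ∉ q → Z R q (Dual.inD A (A ⧸ p)) i := fun q hq hfq => by
      haveI := hq
      haveI : Module.Flat A (Localization.AtPrime q) := IsLocalization.flat _ q.primeCompl
      obtain ⟨B, hB⟩ := exists_local_bound R a q (hpw ⟨q, hq⟩) (A ⧸ p)
      have hd : ∀ (k : ℕ) (m : ℤ), B < m + k → c < m → Z R q (Dual.inD A (A ⧸ p)) m := by
        intro k
        induction k using Nat.strong_induction_on with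
        | _ k ihk =>
          intro m hm hcm
          by_cases hBm : B < m
          · exact hB m hBm
          · refine hstep q hq hfq m hcm fun j hj => ?_
            by_cases hBj : B < j
            · exact hB j hBj
            · exact ihk (B + 1 - j).toNat (by omega) j (by omega) (by omega)
      exact hd (B + 1 - i).toNat i (by omega) hci
    let An : Ideal A := (⊥ : Submodule A (Dual.inD A (A ⧸ p) ⟶ R⟦i⟧)).colon {x}
    have hAn : f ∈ An.radical := by
      rw [Ideal.radical_eq_sInf, Ideal.mem_sInf]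
      rintro q ⟨hle', hq⟩
      by_contra hfq
      obtain ⟨s, hs, hsx⟩ := hloc q hq hfq x
      exact hs (hle' (Submodule.mem_colon_singleton.2 (by rw [hsx]; exact Submodule.zero_mem _)))
    obtain ⟨k, hk⟩ := hAn
    rw [Submodule.mem_colon_singleton, Submodule.mem_bot] at hk
    let φ : (A ⧸ p) →ₗ[A] A ⧸ p := f • LinearMap.id
    have hpre : ∀ y, pre R φ i y = f • y := fun y => by
      simp only [φ, pre_smul, pre_id]
      rfl
    let g : (A ⧸ p) →ₗ[A] A ⧸ J := Submodule.factor le_sup_left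
    have hφ : Function.Injective φ := (injective_iff_map_eq_zero φ).2 fun y hy => by
      obtain ⟨z, rfl⟩ := Ideal.Quotient.mk_surjective y
      refine Ideal.Quotient.eq_zero_iff_mem.2 ((hp.mem_or_mem ?_).resolve_left hf)
      exact Ideal.Quotient.eq_zero_iff_mem.1 hy
    have hφg : Function.Exact φ g := fun y => by
      obtain ⟨z, rfl⟩ := Ideal.Quotient.mk_surjective y
      constructor
      · intro hy
        have hz : z ∈ p ⊔ Ideal.span {f} := Ideal.Quotient.eq_zero_iff_mem.1 hy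
        obtain ⟨u, hu, v, hv, rfl⟩ := Submodule.mem_sup.1 hz
        obtain ⟨w, rfl⟩ := Ideal.mem_span_singleton'.1 hv
        refine ⟨Ideal.Quotient.mk p w, ?_⟩
        refine Ideal.Quotient.eq.2 ?_
        show f * w - (u + w * f) ∈ p
        have : f * w - (u + w * f) = -u := by ring
        rw [this]
        exact Ideal.neg_mem_iff _ |>.2 hu
      · rintro ⟨w, hw⟩
        obtain ⟨w, rfl⟩ := Ideal.Quotient.mk_surjective w
        rw [← hw]
        exact Ideal.Quotient.eq_zero_iff_mem.2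
          (Ideal.mem_sup_right (Ideal.mul_mem_right w _ (Ideal.mem_span_singleton_self f)))
    have hinj : ∀ y : Dual.inD A (A ⧸ p) ⟶ R⟦i⟧, f • y = 0 → y = 0 := fun y hy => by
      obtain ⟨z, hz⟩ := (exact_mid R φ g hφ (Submodule.factor_surjective _) hφg i y).1 (by rw [hpre, hy])
      haveI := hN' i hNi
      rw [← hz, Subsingleton.elim z 0, map_zero]
    clear hloc
    induction k with
    | zero => simpa using hk
    | succ k ihk => exact ihk (hinj _ (by rw [← mul_smul, ← pow_succ']; exact hk))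
  · intro N₁ _ _ _ N₂ _ _ _ N₃ _ _ _ f g hf hg hfg h₁ h₃ hN
    obtain ⟨B₁, hB₁⟩ := h₁ fun x hx y => hf (by rw [map_smul, hN x hx, map_zero])
    obtain ⟨B₃, hB₃⟩ := h₃ fun x hx y => by
      obtain ⟨z, rfl⟩ := hg y
      rw [← map_smul, hN x hx, map_zero]
    refine ⟨max B₁ B₃, fun i hi => subsingleton_of_forall_eq 0 fun x => ?_⟩
    haveI := hB₁ i (lt_of_le_of_lt (le_max_left _ _) hi)
    haveI := hB₃ i (lt_of_le_of_lt (le_max_right _ _) hi)
    obtain ⟨y, rfl⟩ := (exact_mid R f g hf hg hfg i x).1 (Subsingleton.elim _ _)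
    rw [Subsingleton.elim y 0, map_zero]

end Groth.L29.ExtVanish
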