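import Groth.Agent.L29.Dual.GorensteinFlatBC
import Groth.Agent.L29.Dual.RegularDual

/-!
Dualizing complexes and field extensions.
-/

set_option autoImplicit false
set_option backward.defeqAttrib.useBackward true

universe u

open CategoryTheory CategoryTheory.Limits IsLocalRing
open scoped TensorProduct

attribute [local instance] HasDerivedCategory.standard

set_option backward.isDefEq.respectTransparency false

namespace Groth.L29.GorBC

open Groth.L29.HomD

variable {A B : Type u} [CommRing A] [CommRing B] [Algebra A B]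

/-- flat, Gorenstein fibres, the target has some dualizing complex -/
theorem isDualizing_L_of_gorenstein_fibres' [IsNoetherianRing A] [IsNoetherianRing B] [Module.Flat A B]
    (hex : ∃ ω : Dual.D B, Dual.IsDualizing B ω)
    (hG : ∀ (p : Ideal A) [p.IsPrime], Groth.L21.GorensteinFieldExt.LocGor (p.Fiber B))
    {K : Dual.D A} (hK : Dual.IsDualizing A K) : Dual.IsDualizing B ((FlatBC.L A B).obj K) := by
  obtain ⟨ω', hω'⟩ := hex
  obtain ⟨a, b, hab⟩ := hK.finite_injective_dimension
  haveI := isGE_of_lower a fun M _ _ i hi => hab M i (Or.inl hi)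
  haveI := FlatBC.isGE_L (B := B) K a
  haveI : ∀ p : PrimeSpectrum B, Module.Flat B (Localization.AtPrime p.asIdeal) :=
    fun p => IsLocalization.flat _ p.asIdeal.primeCompl
  refine FlatBC.isDualizing_of_pointwise (Groth.Agent.S0371.result B ω' hω')
    (FlatBC.finite_HD_L hK.finite_cohomology) a
    (fun i hi => ModuleCat.subsingleton_of_isZero
      (DerivedCategory.isZero_of_isGE ((FlatBC.L A B).obj K) a i hi)) (fun Q => ?_)
  let q : Ideal A := Q.asIdeal.comap (algebraMap A B)
  haveI : Q.asIdeal.LiesOver q := ⟨rfl⟩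
  obtain ⟨i, hl, hcomm, hf, P, hP, ⟨e⟩⟩ := Groth.L07.CIFibre.exists_local_map q Q.asIdeal
  letI := i
  haveI := hl
  haveI := hf
  haveI : Module.Flat A (Localization.AtPrime q) := IsLocalization.flat _ q.primeCompl
  haveI : IsNoetherianRing (Localization.AtPrime q) := IsLocalization.isNoetherianRing q.primeCompl _ inferInstance
  haveI : IsNoetherianRing (Localization.AtPrime Q.asIdeal) :=
    IsLocalization.isNoetherianRing Q.asIdeal.primeCompl _ inferInstance
  haveI : IsScalarTower A (Localization.AtPrime q) (Localization.AtPrime Q.asIdeal) :=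
    IsScalarTower.of_algebraMap_eq fun r => by
      rw [hcomm r, ← IsScalarTower.algebraMap_apply]
  haveI : Module.Flat A (Localization.AtPrime Q.asIdeal) := Module.Flat.trans A (Localization.AtPrime q) _
  have h1 := isDualizing_L_of_gorenstein (A := Localization.AtPrime q) (B := Localization.AtPrime Q.asIdeal)
    (FlatBC.isDualizing_L_localization (B := Localization.AtPrime q) q.primeCompl hK)
    (Groth.L21.GorensteinAscend.isGorensteinLocalRing_of_ringEquiv e (hG q P))
  exact isDualizing_of_iso ((lComp A (Localization.AtPrime q) (Localization.AtPrime Q.asIdeal)).app K ≪≫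
    ((lComp A B (Localization.AtPrime Q.asIdeal)).app K).symm) h1

/-- extension of the ground field -/
theorem isDualizing_fieldExt (k K : Type u) [Field k] [Field K] [Algebra k K] (A : Type u) [CommRing A] [Algebra k A]
    [Algebra.FiniteType k A] [DRing.HasLBaseChange (Algebra.TensorProduct.includeRight : A →ₐ[k] K ⊗[k] A).toRingHom]
    (ω : Dual.D A) (hω : Dual.IsDualizing A ω) :
    Dual.IsDualizing (K ⊗[k] A)
      ((DRing.LBaseChange (Algebra.TensorProduct.includeRight : A →ₐ[k] K ⊗[k] A).toRingHom).obj ω) := by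
  haveI := hω.isNoetherianRing
  letI : Algebra A (K ⊗[k] A) := Algebra.TensorProduct.rightAlgebra
  haveI : DRing.HasLBaseChange (algebraMap A (K ⊗[k] A)) := ‹_›
  haveI : IsNoetherianRing (K ⊗[k] A) := Algebra.FiniteType.isNoetherianRing K (K ⊗[k] A)
  let e : A ⊗[k] K ≃ₐ[A] K ⊗[k] A :=
    { (Algebra.TensorProduct.comm k A K).toRingEquiv with
      commutes' := fun a => by
        show (Algebra.TensorProduct.comm k A K) (a ⊗ₜ[k] (1 : K)) = (1 : K) ⊗ₜ[k] a
        rw [Algebra.TensorProduct.comm_tmul] }
  haveI : Module.Flat A (K ⊗[k] A) := Module.Flat.of_linearEquiv e.toLinearEquiv.symm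
  refine isDualizing_of_iso ((FlatBC.lbcIso A (K ⊗[k] A)).app ω).symm
    (isDualizing_L_of_gorenstein_fibres' ?_ (fun p _ => ?_) hω)
  · exact FlatBC.exists_dualizing_finiteType (A := K) ⟨_, isDualizing_inD_of_regularLocal K⟩
  · obtain ⟨hN, hG⟩ := Groth.L21.GorensteinFieldExt.locGor_tensor_field k K p.ResidueField
      (Groth.L21.GorensteinFieldExt.exists_adjoin_residueField k A p)
    haveI := hN
    obtain ⟨e'⟩ := Groth.L21.GorensteinFieldExt.nonempty_fibre_equiv (k := k) A K p
    exact Groth.L21.GorensteinFieldExt.locGor_of_ringEquiv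
      (((Algebra.TensorProduct.comm k K p.ResidueField).toRingEquiv.trans e'.symm).trans
        (Algebra.TensorProduct.congr (AlgEquiv.refl (R := A) (A₁ := p.ResidueField)) e).toRingEquiv) hG

end Groth.L29.GorBC
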