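import Groth.Agent.L29.Dual.Normalized
import Groth.Agent.L29.Dual.Coind
import Mathlib.Algebra.Homology.DerivedCategory.SingleTriangle
import Mathlib.Algebra.Homology.DerivedCategory.TStructure

/-!
The triangle of a normalized dualizing complex and a quotient by an ideal of finite length.
-/

set_option autoImplicit false

universe u

open CategoryTheory CategoryTheory.Limits CategoryTheory.Pretriangulated IsLocalRing

attribute [local instance] HasDerivedCategory.standard

set_option backward.defeqAttrib.useBackward true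
set_option backward.isDefEq.respectTransparency false
set_option linter.style.haveILetI false

namespace Groth.L29.FLTriangle

variable {A : Type u} [CommRing A] [IsLocalRing A] [IsNoetherianRing A]

omit [IsNoetherianRing A] in
/-- a finite length module is killed by a power of the maximal ideal -/
theorem exists_kills (M : Type u) [AddCommGroup M] [Module A M] (h : IsFiniteLength A M) :
    ∃ k : ℕ, ∀ a ∈ maximalIdeal A ^ k, ∀ x : M, a • x = 0 := by
  obtain ⟨_, _⟩ := isFiniteLength_iff_isNoetherian_isArtinian.1 h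
  let f : ℕ →o (Submodule A M)ᵒᵈ :=
    ⟨fun n => OrderDual.toDual (maximalIdeal A ^ n • (⊤ : Submodule A M)),
      fun m n hmn => Submodule.smul_mono_left (Ideal.pow_le_pow_right hmn)⟩
  obtain ⟨k, hk⟩ := IsArtinian.monotone_stabilizes f
  have h1 : maximalIdeal A ^ k • (⊤ : Submodule A M) = maximalIdeal A ^ (k + 1) • (⊤ : Submodule A M) :=
    hk (k + 1) (Nat.le_succ k)
  have h2 : maximalIdeal A ^ k • (⊤ : Submodule A M) = ⊥ := by
    refine Submodule.eq_bot_of_le_smul_of_le_jacobson_bot (maximalIdeal A) _ (IsNoetherian.noetherian _) ?_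
      (IsLocalRing.maximalIdeal_le_jacobson _)
    conv_lhs => rw [h1, pow_succ', ← smul_eq_mul, Submodule.smul_assoc]
  exact ⟨k, fun a ha x => (Submodule.mem_bot A).1 (h2 ▸ Submodule.smul_mem_smul ha Submodule.mem_top)⟩

open Groth.L29.HomD in
theorem exists_triangle {ω : Dual.D A} (hω : Dual.IsDualizing A ω) (hn : Dual.IsNormalized A ω) (I : Ideal A)
    (hIl : IsFiniteLength A I) {E : Type u} [AddCommGroup E] [Module A E] (e : ResidueField A →ₗ[A] E)
    (he : InjHull.IsInjectiveHull e) {R : Dual.D A ⥤ Dual.D (A ⧸ I)}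
    (adj : DRing.restrictD (Ideal.Quotient.mk I) ⊣ R) :
    ∃ (u : (DRing.restrictD (Ideal.Quotient.mk I)).obj (R.obj ω) ⟶ ω) (v : ω ⟶ Dual.inD A (I →ₗ[A] E))
      (w : Dual.inD A (I →ₗ[A] E) ⟶ ((DRing.restrictD (Ideal.Quotient.mk I)).obj (R.obj ω))⟦(1 : ℤ)⟧),
        Triangle.mk u v w ∈ distinguishedTriangles := by
  obtain ⟨J, a, hGE, hinj, hK, hc, ⟨eJ⟩, ⟨eE⟩⟩ := exists_gamma_hull hω hn e he
  haveI : ∀ n, Injective (J.X n) := fun n => by
    haveI := hinj n
    exact Module.injective_object_of_injective_module A (J.X n)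
  haveI := hK
  let φ := Ideal.Quotient.mk I
  let S : ShortComplex (ModuleCat.{u} A) := ShortComplex.mk
    (ModuleCat.ofHom (X := I) (Y := A) I.subtype)
    (ModuleCat.ofHom (X := A) (Y := RestrictAdj.ringRes φ)
      { toFun := fun x => φ x
        map_add' := fun x y => φ.map_add x y
        map_smul' := fun r x => φ.map_mul r x })
    (ModuleCat.hom_ext (LinearMap.ext fun x => (Ideal.Quotient.eq_zero_iff_mem).2 x.2))
  have hS : S.ShortExact :=
    { exact := (ShortComplex.moduleCat_exact_iff S).2 fun (x : A) (hx : φ x = 0) =>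
        ⟨⟨x, Ideal.Quotient.eq_zero_iff_mem.1 hx⟩, rfl⟩
      mono_f := (ModuleCat.mono_iff_injective _).2 Subtype.val_injective
      epi_g := (ModuleCat.epi_iff_surjective _).2 Ideal.Quotient.mk_surjective }
  have hT := DerivedCategory.triangleOfSES_distinguished (HMsc_shortExact J S hS)
  obtain ⟨c⟩ := RestrictAdj.nonempty_coind_iso φ adj J
  let i₁ : DRing.toD (HM J S.X₃) ≅ (DRing.restrictD φ).obj (R.obj ω) :=
    DerivedCategory.Q.mapIso (RestrictAdj.resCoindIso φ J).symm ≪≫
      ((ModuleCat.restrictScalars.{u} φ).mapDerivedCategoryFactors.app (RestrictAdj.coindCx φ J)).symm ≪≫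
      (DRing.restrictD φ).mapIso (c ≪≫ R.mapIso eJ)
  let i₂ : DRing.toD (HM J S.X₂) ≅ ω := DerivedCategory.Q.mapIso (ringIso J) ≪≫ eJ
  obtain ⟨k, hk⟩ := exists_kills I hIl
  let M := ModuleCat.of A I
  have hz : ∀ i : ℤ, i ≠ 0 → IsZero ((DerivedCategory.homologyFunctor (ModuleCat.{u} A) i).obj (DRing.toD (HM J M))) := by
    intro i hi
    haveI := subsingleton_hom_of_kills hω hn I k hk i hi
    haveI : Subsingleton (Dual.inD A M ⟶ (DRing.toD J)⟦i⟧) :=
      (Linear.homCongr A (Iso.refl _) ((shiftFunctor (Dual.D A) i).mapIso eJ)).toEquiv.subsingleton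
    haveI := (homologyEquiv M J i).toEquiv.subsingleton
    exact @ModuleCat.isZero_of_subsingleton _ _ _ ‹_›
  haveI : (DRing.toD (HM J M)).IsGE 0 := (DerivedCategory.isGE_iff _ 0).2 fun i hi => hz i (by omega)
  haveI : (DRing.toD (HM J M)).IsLE 0 := (DerivedCategory.isLE_iff _ 0).2 fun i hi => hz i (by omega)
  obtain ⟨Y, ⟨iY⟩⟩ := DerivedCategory.exists_iso_singleFunctor_obj_of_isGE_of_isLE (DRing.toD (HM J M)) 0
  obtain ⟨g⟩ := nonempty_hom_GH hinj a hc M k hk
  let eY : Y ≅ ModuleCat.of A (I →ₗ[A] E) :=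
    ((DerivedCategory.singleFunctorCompHomologyFunctorIso (ModuleCat.{u} A) 0).app Y).symm ≪≫
      (DerivedCategory.homologyFunctor (ModuleCat.{u} A) 0).mapIso iY.symm ≪≫
      ((homologyEquiv M J 0).trans ((Linear.homCongr A (Iso.refl _)
        ((shiftFunctorZero (Dual.D A) ℤ).app (DRing.toD J))).trans
          (g.trans (LinearEquiv.congrRight eE)))).toModuleIso
  let i₃ : DRing.toD (HM J M) ≅ Dual.inD A (I →ₗ[A] E) :=
    iY ≪≫ (DerivedCategory.singleFunctor (ModuleCat.{u} A) 0).mapIso eY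
  let T := DerivedCategory.triangleOfSES (HMsc_shortExact J S hS)
  refine ⟨i₁.inv ≫ T.mor₁ ≫ i₂.hom, i₂.inv ≫ T.mor₂ ≫ i₃.hom, i₃.inv ≫ T.mor₃ ≫ i₁.hom⟦(1 : ℤ)⟧',
    isomorphic_distinguished _ hT _ (Triangle.isoMk _ _ i₁.symm i₂.symm i₃.symm (by simp [T]) (by simp [T]) (by simp [T]))⟩

end Groth.L29.FLTriangle
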