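import Groth.Agent.L29.Dual.FlatInj
import Groth.Agent.L07.FibrePd
import Groth.Agent.L04.LC.ExtLoc
import Mathlib.LinearAlgebra.Dual.BaseChange

/-!
Ext into the ring of a flat module whose fibres have a single Ext: vanishing and flatness.
-/

set_option autoImplicit false
set_option maxSynthPendingDepth 3
set_option linter.style.haveILetI false
universe u

open TensorProduct CategoryTheory Abelian
open Groth.L07.SyzygyRes

noncomputable section

namespace Groth.L29.FlatExt

theorem exists_factor {R X Q Y : Type u} [CommRing R] [AddCommGroup X] [Module R X] [AddCommGroup Q] [Module R Q]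
    [AddCommGroup Y] [Module R Y] (g : X →ₗ[R] Q) (hg : Function.Surjective g) (φ : X →ₗ[R] Y)
    (h : LinearMap.ker g ≤ LinearMap.ker φ) : ∃ ψ : Q →ₗ[R] Y, ψ ∘ₗ g = φ := by
  refine ⟨(LinearMap.ker g).liftQ φ h ∘ₗ (g.quotKerEquivOfSurjective hg).symm.toLinearMap, LinearMap.ext fun x => ?_⟩
  rw [LinearMap.comp_apply, LinearMap.comp_apply, LinearEquiv.coe_coe,
    show (g.quotKerEquivOfSurjective hg).symm (g x) = Submodule.Quotient.mk x from
      (g.quotKerEquivOfSurjective hg).symm_apply_eq.2 rfl, Submodule.liftQ_apply]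

section Fibre

variable {A B : Type u} [CommRing A] [CommRing B] [Algebra A B] [Algebra.FinitePresentation A B] [Module.Flat A B]
  {M : Type u} [AddCommGroup M] [Module B M] [Module A M] [IsScalarTower A B M]
  [Module.FinitePresentation B M] [Module.Flat A M]

theorem bc_shift (p : Ideal A) [p.IsPrime] : ∀ (i t : ℕ),
    Subsingleton (Ext (ModuleCat.of (B ⊗[A] p.ResidueField) ((B ⊗[A] p.ResidueField) ⊗[B] M))
      (ModuleCat.of (B ⊗[A] p.ResidueField) (B ⊗[A] p.ResidueField)) (t + i + 1)) →
    Subsingleton (Ext (ModuleCat.of (B ⊗[A] p.ResidueField) ((B ⊗[A] p.ResidueField) ⊗[B] (syz A B M i).K))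
      (ModuleCat.of (B ⊗[A] p.ResidueField) (B ⊗[A] p.ResidueField)) (t + 1))
  | 0, t, h => h
  | i + 1, t, h => by
    have h' := bc_shift p i (t + 1) (by rwa [show t + 1 + i + 1 = t + (i + 1) + 1 by omega])
    let f := (incl A (B := B) M i).baseChange (B ⊗[A] p.ResidueField)
    let g := (gen (syz A B M i)).baseChange (B ⊗[A] p.ResidueField)
    have hex : Function.Exact f g := by
      simp only [f, g, LinearMap.baseChange_eq_ltensor]
      exact lTensor_exact _ (exact_incl i) (gen_surjective _)
    have hg : Function.Surjective g := by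
      simp only [g, LinearMap.baseChange_eq_ltensor]
      exact LinearMap.lTensor_surjective _ (gen_surjective _)
    obtain ⟨e⟩ := Groth.L04.LC.nonempty_ext_succ_equiv f g
      (baseChange_injective (incl A (B := B) M i) (gen (syz A B M i)) (incl_injective i) (exact_incl i)
        (gen_surjective _)) hg hex (B ⊗[A] p.ResidueField) t
    exact e.symm.toEquiv.subsingleton

theorem ext_shift : ∀ (i t : ℕ), Nonempty (Ext (ModuleCat.of B M) (ModuleCat.of B B) (t + i + 1) ≃ₗ[B]
    Ext (ModuleCat.of B (syz A B M i).K) (ModuleCat.of B B) (t + 1))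
  | 0, t => ⟨LinearEquiv.refl _ _⟩
  | i + 1, t => by
    obtain ⟨e⟩ := ext_shift i (t + 1)
    obtain ⟨e'⟩ := Groth.L04.LC.nonempty_ext_succ_equiv (incl A (B := B) M i) (gen (syz A B M i))
      (incl_injective i) (gen_surjective _) (exact_incl i) B t
    exact ⟨LinearEquiv.cast (R := B) (M := fun n => Ext (ModuleCat.of B M) (ModuleCat.of B B) n)
      (show t + (i + 1) + 1 = t + 1 + i + 1 by omega) ≪≫ₗ e ≪≫ₗ e'⟩

variable (A M) in
/-- The dual free terms. -/
abbrev D (j : ℕ) : Type u := X A (B := B) M j →ₗ[B] B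

variable (A M) in
/-- The image of the previous dual differential. -/
def T : ∀ j : ℕ, Submodule B (D A (B := B) M j)
  | 0 => ⊥
  | j + 1 => LinearMap.range ((diff A (B := B) M j).lcomp B B)

instance flat_D (j : ℕ) : Module.Flat A (D A (B := B) M j) :=
  haveI : Module.Flat A (Fin (num (syz A B M j)) → B) := Module.Flat.trans A B _
  Module.Flat.of_linearEquiv (((Pi.basisFun B (Fin (num (syz A B M j)))).constr B).symm.restrictScalars A)

theorem fg_T : ∀ j : ℕ, (T A (B := B) M j).FG
  | 0 => Submodule.fg_bot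
  | j + 1 => by
    haveI : Module.Finite B (D A (B := B) M j) :=
      Module.Finite.equiv ((Pi.basisFun B (Fin (num (syz A B M j)))).constr B)
    rw [T, LinearMap.range_eq_map]
    exact Submodule.FG.map _ Module.Finite.fg_top

theorem fp_quot (j : ℕ) : Module.FinitePresentation B (D A (B := B) M j ⧸ T A (B := B) M j) := by
  haveI : Module.FinitePresentation B (D A (B := B) M j) :=
    Module.FinitePresentation.of_equiv ((Pi.basisFun B (Fin (num (syz A B M j)))).constr B)
  exact Module.finitePresentation_of_surjective (T A (B := B) M j).mkQ (Submodule.mkQ_surjective _)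
    (by rw [Submodule.ker_mkQ]; exact fg_T j)

theorem mem_smul_iff (J : Ideal B) {j : ℕ} (x : D A (B := B) M j) :
    x ∈ J • (⊤ : Submodule B (D A (B := B) M j)) ↔ ∀ v, x v ∈ J := by
  constructor
  · intro h v
    refine Submodule.smul_induction_on h (fun r hr y _ => ?_) (fun a b ha hb => J.add_mem ha hb)
    exact J.mul_mem_right _ hr
  · intro h
    have hx : x = ∑ i, x (Pi.single i 1) • (LinearMap.proj i : D A (B := B) M j) := by
      refine (Pi.basisFun B _).ext fun k => ?_
      simp [Pi.basisFun_apply, Pi.single_apply]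
    rw [hx]
    exact Submodule.sum_mem _ fun i _ => Submodule.smul_mem_smul (h _) trivial

theorem T_le : ∀ j : ℕ, T A (B := B) M j ≤ LinearMap.ker ((diff A (B := B) M j).lcomp B B)
  | 0 => bot_le
  | j + 1 => by
    rintro _ ⟨y, rfl⟩
    refine LinearMap.ext fun v => ?_
    show y (diff A M j (diff A M (j + 1) v)) = 0
    rw [show diff A (B := B) M j (diff A M (j + 1) v) = 0 from (exact_diff_diff j _).mpr ⟨v, rfl⟩, map_zero]

/-- The scaled lift of a functional on a fibre. -/
theorem exists_lift (p : Ideal A) [p.IsPrime] {j : ℕ}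
    (φ : (B ⊗[A] p.ResidueField) ⊗[B] X A (B := B) M j →ₗ[B ⊗[A] p.ResidueField] B ⊗[A] p.ResidueField) :
    ∃ a ∉ p, ∃ y : D A (B := B) M j, ∀ v, a • φ (1 ⊗ₜ[B] v) = (y v) ⊗ₜ[A] (1 : p.ResidueField) := by
  classical
  choose a ha b hb using fun i : Fin (num (syz A B M j)) =>
    Groth.L29.FlatInj.exists_smul_eq_tmul p (φ (1 ⊗ₜ[B] Pi.single i 1))
  refine ⟨∏ i, a i, fun h => ?_, ∑ i, (algebraMap A B (∏ k ∈ Finset.univ.erase i, a k) * b i) •
    (LinearMap.proj i : D A (B := B) M j), fun v => ?_⟩
  · obtain ⟨i, -, hi⟩ := (Ideal.IsPrime.prod_mem_iff (p := p)).1 h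
    exact ha i hi
  · have hv : v = ∑ i, v i • (Pi.single i 1 : X A (B := B) M j) := pi_eq_sum_univ' v
    conv_lhs => rw [hv]
    rw [TensorProduct.tmul_sum, map_sum, Finset.smul_sum, LinearMap.sum_apply, TensorProduct.sum_tmul]
    refine Finset.sum_congr rfl fun i _ => ?_
    rw [TensorProduct.tmul_smul, LinearMap.map_smul_of_tower, smul_comm, ← Finset.prod_erase_mul _ _ (Finset.mem_univ i),
      mul_smul, hb i, TensorProduct.smul_tmul', TensorProduct.smul_tmul']
    congr 1
    simp only [LinearMap.smul_apply, LinearMap.proj_apply, smul_eq_mul, Algebra.smul_def]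
    ring

theorem fibre_step (p : Ideal A) [p.IsPrime] (j : ℕ)
    (hv : Subsingleton (Ext (ModuleCat.of (B ⊗[A] p.ResidueField) ((B ⊗[A] p.ResidueField) ⊗[B] M))
      (ModuleCat.of (B ⊗[A] p.ResidueField) (B ⊗[A] p.ResidueField)) j))
    (x : D A (B := B) M j) (hx : ∀ w, x (diff A M j w) ∈ p.map (algebraMap A B)) :
    ∃ a ∉ p, ∃ t ∈ T A (B := B) M j, ∀ v, algebraMap A B a * x v - t v ∈ p.map (algebraMap A B) := by
  let S := B ⊗[A] p.ResidueField
  have hJ : ∀ b ∈ p.map (algebraMap A B), b ⊗ₜ[A] (1 : p.ResidueField) = 0 := fun b hb => by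
    refine Submodule.span_induction (p := fun b _ => b ⊗ₜ[A] (1 : p.ResidueField) = 0) ?_ (TensorProduct.zero_tmul _ _)
      (fun a c _ _ ha hc => by rw [TensorProduct.add_tmul, ha, hc, add_zero])
      (fun r a _ ha => by
        rw [smul_eq_mul, ← mul_one (1 : p.ResidueField), ← Algebra.TensorProduct.tmul_mul_tmul, ha, mul_zero]) hb
    rintro _ ⟨r, hr, rfl⟩
    rw [Algebra.algebraMap_eq_smul_one, TensorProduct.smul_tmul, Algebra.smul_def, mul_one,
      Ideal.algebraMap_residueField_eq_zero.2 hr, TensorProduct.tmul_zero]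
  let φ : S ⊗[B] X A (B := B) M j →ₗ[S] S := Module.Dual.baseChange S x
  have hφ : ∀ v, φ (1 ⊗ₜ[B] v) = (x v) ⊗ₜ[A] (1 : p.ResidueField) := fun v => by
    show x v • (1 : S) = _
    rw [Algebra.smul_def, mul_one]
    rfl
  let gS := (gen (syz A B M j)).baseChange S
  have hgS : Function.Surjective gS := by
    simp only [gS, LinearMap.baseChange_eq_ltensor]
    exact LinearMap.lTensor_surjective S (gen_surjective _)
  have hker : LinearMap.ker gS ≤ LinearMap.ker φ := fun z hz => by
    have hex : Function.Exact ((diff A (B := B) M j).baseChange S) gS := by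
      simp only [gS, LinearMap.baseChange_eq_ltensor]
      exact lTensor_exact S (exact_diff j) (gen_surjective _)
    obtain ⟨w, rfl⟩ := (hex z).1 hz
    have : φ ∘ₗ (diff A (B := B) M j).baseChange S = 0 := by
      refine AlgebraTensorModule.curry_injective (LinearMap.ext_ring (LinearMap.ext fun v => ?_))
      show φ ((diff A (B := B) M j).baseChange S (1 ⊗ₜ[B] v)) = 0
      rw [LinearMap.baseChange_tmul, hφ]
      exact hJ _ (hx v)
    exact LinearMap.congr_fun this w
  obtain ⟨ψ, hψ⟩ := exists_factor gS hgS φ hker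
  rcases j with - | i
  · have hψ0 : ψ = 0 := by
      haveI : Subsingleton (Ext (ModuleCat.of S (S ⊗[B] (syz A B M 0).K)) (ModuleCat.of S S) 0) := hv
      have : Subsingleton (ModuleCat.of S (S ⊗[B] (syz A B M 0).K) ⟶ ModuleCat.of S S) :=
        Ext.homEquiv₀.symm.subsingleton
      exact congrArg ModuleCat.Hom.hom (Subsingleton.elim (ModuleCat.ofHom (Y := S) ψ) 0)
    choose a ha hab using fun k : Fin (num (syz A B M 0)) =>
      Groth.L29.FlatInj.exists_mul_mem_of_tmul_eq_zero p (x (Pi.single k 1)) (by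
        rw [← hφ, ← hψ, hψ0, LinearMap.zero_comp, LinearMap.zero_apply])
    refine ⟨∏ k, a k, fun h => ?_, 0, zero_mem _, fun v => ?_⟩
    · obtain ⟨k, -, hk⟩ := (Ideal.IsPrime.prod_mem_iff (p := p)).1 h
      exact ha k hk
    · rw [LinearMap.zero_apply, sub_zero, pi_eq_sum_univ' v, map_sum, Finset.mul_sum]
      refine Submodule.sum_mem _ fun k _ => ?_
      rw [map_smul, smul_eq_mul, ← Finset.prod_erase_mul _ _ (Finset.mem_univ k), map_mul, mul_mul_mul_comm]
      exact Ideal.mul_mem_left _ _ (hab k)
  · let fS := (incl A (B := B) M i).baseChange S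
    let gS' := (gen (syz A B M i)).baseChange S
    have hg' : Function.Surjective gS' := by
      simp only [gS', LinearMap.baseChange_eq_ltensor]
      exact LinearMap.lTensor_surjective S (gen_surjective _)
    have hex' : Function.Exact fS gS' := by
      simp only [fS, gS', LinearMap.baseChange_eq_ltensor]
      exact lTensor_exact S (exact_incl i) (gen_surjective _)
    obtain ⟨e⟩ := Groth.L04.LC.nonempty_ext_one_equiv fS gS'
      (baseChange_injective (incl A (B := B) M i) (gen (syz A B M i)) (incl_injective i) (exact_incl i)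
        (gen_surjective _)) hg' hex' S
    haveI := bc_shift (M := M) p i 0 (by rwa [Nat.zero_add])
    haveI := e.symm.toEquiv.subsingleton
    have htop := Submodule.Quotient.subsingleton_iff.1 this
    obtain ⟨y, hy⟩ : ψ ∈ LinearMap.range (fS.lcomp S S) := htop ▸ trivial
    obtain ⟨a, ha, y₀, hy₀⟩ := exists_lift p y
    have hz : ∀ v, (algebraMap A B a * x v - y₀ (diff A M i v)) ⊗ₜ[A] (1 : p.ResidueField) = 0 := fun v => by
      rw [TensorProduct.sub_tmul, ← hy₀, ← Algebra.smul_def, ← TensorProduct.smul_tmul', ← hφ, ← hψ, ← hy,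
        sub_eq_zero]
      congr 1
    choose b hb hbm using fun k : Fin (num (syz A B M (i + 1))) =>
      Groth.L29.FlatInj.exists_mul_mem_of_tmul_eq_zero p _ (hz (Pi.single k 1))
    refine ⟨(∏ k, b k) * a, fun h => ?_, algebraMap A B (∏ k, b k) • (diff A (B := B) M i).lcomp B B y₀,
      Submodule.smul_mem _ _ ⟨_, rfl⟩, fun v => ?_⟩
    · rcases Ideal.IsPrime.mem_or_mem ‹p.IsPrime› h with h | h
      · obtain ⟨k, -, hk⟩ := (Ideal.IsPrime.prod_mem_iff (p := p)).1 h
        exact hb k hk
      · exact ha h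
    · let z : D A (B := B) M (i + 1) := algebraMap A B (∏ k, b k) •
        (algebraMap A B a • x - (diff A (B := B) M i).lcomp B B y₀)
      have hzv : z ∈ p.map (algebraMap A B) • (⊤ : Submodule B (D A (B := B) M (i + 1))) := by
        have hv : ∀ k, z (Pi.single k 1) ∈ p.map (algebraMap A B) := fun k => by
          show algebraMap A B (∏ k, b k) * (algebraMap A B a * _ - y₀ (diff A M i _)) ∈ _
          rw [← Finset.prod_erase_mul _ _ (Finset.mem_univ k), map_mul, mul_assoc]
          exact Ideal.mul_mem_left _ _ (hbm k)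
        refine (mem_smul_iff _ z).2 fun w => ?_
        rw [pi_eq_sum_univ' w, map_sum]
        exact Submodule.sum_mem _ fun k _ => by rw [map_smul]; exact Submodule.smul_mem _ _ (hv k)
      have := (mem_smul_iff _ z).1 hzv v
      convert this using 1
      show _ = algebraMap A B (∏ k, b k) * (algebraMap A B a * x v - y₀ (diff A M i v))
      simp only [LinearMap.smul_apply, smul_eq_mul, map_mul, LinearMap.lcomp_apply]
      ring

theorem main_step (c : ℕ)
    (hv : ∀ (p : Ideal A) [p.IsPrime], ∀ i < c,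
      Subsingleton (Ext (ModuleCat.of (B ⊗[A] p.ResidueField) ((B ⊗[A] p.ResidueField) ⊗[B] M))
        (ModuleCat.of (B ⊗[A] p.ResidueField) (B ⊗[A] p.ResidueField)) i)) :
    ∀ j ≤ c, Module.Flat A (D A (B := B) M j ⧸ T A (B := B) M j) ∧
      ∀ i < j, LinearMap.ker ((diff A (B := B) M i).lcomp B B) = T A (B := B) M i := by
  intro j
  induction j with
  | zero =>
    exact fun _ => ⟨Module.Flat.of_linearEquiv ((Submodule.quotEquivOfEqBot (T A (B := B) M 0) rfl).restrictScalars A),
      fun i hi => absurd hi (by omega)⟩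
  | succ j ih =>
    intro hj
    obtain ⟨hfl, hex⟩ := ih (by omega)
    haveI := fp_quot (A := A) (B := B) (M := M) j
    haveI : Module.FinitePresentation B (D A (B := B) M (j + 1)) :=
      Module.FinitePresentation.of_equiv ((Pi.basisFun B (Fin (num (syz A B M (j + 1))))).constr B)
    let δ := (diff A (B := B) M j).lcomp B B
    let u := (T A (B := B) M j).liftQ δ (T_le j)
    obtain ⟨hinj, hflat⟩ := Groth.L29.FlatInj.inj_flat_of_elements (A := A) u fun p _ z hz => by
      obtain ⟨x, rfl⟩ := Submodule.mkQ_surjective _ z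
      obtain ⟨a, ha, t, ht, hat⟩ := fibre_step p j (hv p j (by omega)) x fun w =>
        (mem_smul_iff _ (δ x)).1 hz w
      refine ⟨a, ha, ?_⟩
      have h1 : algebraMap A B a • x - t ∈ p.map (algebraMap A B) • (⊤ : Submodule B (D A (B := B) M j)) :=
        (mem_smul_iff _ _).2 fun v => hat v
      have h2 := Submodule.mem_map_of_mem (f := (T A (B := B) M j).mkQ) h1
      rw [Submodule.map_smul'', map_sub, map_smul,
        show (T A (B := B) M j).mkQ t = 0 from (Submodule.Quotient.mk_eq_zero _).2 ht, sub_zero] at h2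
      exact Submodule.smul_mono le_rfl le_top h2
    refine ⟨Module.Flat.of_linearEquiv ((Submodule.quotEquivOfEq _ _
      (show T A (B := B) M (j + 1) = LinearMap.range u from (Submodule.range_liftQ _ _ _).symm)).restrictScalars A),
      fun i hi => ?_⟩
    rcases Nat.lt_succ_iff_lt_or_eq.1 hi with hi | rfl
    · exact hex i hi
    · refine le_antisymm (fun x hx => (Submodule.Quotient.mk_eq_zero _).1 (hinj ?_)) (T_le i)
      rw [map_zero]
      exact hx

end Fibre

theorem flat_restrictScalars {A B : Type u} [CommRing A] [CommRing B] [Algebra A B] {E P : Type u}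
    [AddCommGroup E] [Module B E] [AddCommGroup P] [Module B P] [Module A P] [IsScalarTower A B P] [Module.Flat A P]
    (e : E ≃ₗ[B] P) : Module.Flat A (RestrictScalars A B E) :=
  Module.Flat.of_linearEquiv
    ({ toFun := fun x => e x
       invFun := fun x => e.symm x
       map_add' := fun x y => e.map_add x y
       map_smul' := fun a x => (e.map_smul (algebraMap A B a) x).trans (algebraMap_smul B a (e x))
       left_inv := e.left_inv
       right_inv := e.right_inv } : RestrictScalars A B E ≃ₗ[A] P)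

theorem retract_facts {A B : Type u} [CommRing A] [CommRing B] [Algebra A B] {C P : Type u}
    [AddCommGroup C] [Module B C] [Module A C] [IsScalarTower A B C] [Module.Flat A C] [Module.FinitePresentation B C]
    [AddCommGroup P] [Module B P] [Module A P] [IsScalarTower A B P]
    (i : P →ₗ[B] C) (r : C →ₗ[B] P) (h : ∀ x, r (i x) = x) : Module.Flat A P ∧ Module.FinitePresentation B P := by
  refine ⟨Module.Flat.of_retract (i.restrictScalars A) (r.restrictScalars A) (LinearMap.ext h),
    Module.finitePresentation_of_surjective r (fun x => ⟨i x, h x⟩) ?_⟩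
  have : LinearMap.ker r = LinearMap.range (LinearMap.id - i ∘ₗ r) := by
    ext y
    constructor
    · intro hy
      exact ⟨y, by simp [LinearMap.mem_ker.1 hy]⟩
    · rintro ⟨z, rfl⟩
      simp [h]
  rw [this, LinearMap.range_eq_map]
  exact Submodule.FG.map _ Module.Finite.fg_top

/-- Vanishing and flatness of the relative Ext. -/
theorem ext_vanishing_flat {A B : Type u} [CommRing A] [CommRing B] [Algebra A B] [Algebra.FinitePresentation A B]
    [Module.Flat A B] (M : Type u) [AddCommGroup M] [Module B M] [Module A M] [IsScalarTower A B M]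
    [Module.FinitePresentation B M] [Module.Flat A M] (c : ℕ)
    (hpd : ∀ p : PrimeSpectrum A, HasProjectiveDimensionLT
      (ModuleCat.of (B ⊗[A] p.asIdeal.ResidueField) ((B ⊗[A] p.asIdeal.ResidueField) ⊗[B] M)) (c + 1))
    (hv : ∀ (p : Ideal A) [p.IsPrime], ∀ i < c,
      Subsingleton (Ext (ModuleCat.of (B ⊗[A] p.ResidueField) ((B ⊗[A] p.ResidueField) ⊗[B] M))
        (ModuleCat.of (B ⊗[A] p.ResidueField) (B ⊗[A] p.ResidueField)) i)) :
    (∀ j, j ≠ c → Subsingleton (Ext (ModuleCat.of B M) (ModuleCat.of B B) j)) ∧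
      Module.Flat A (RestrictScalars A B (Ext (ModuleCat.of B M) (ModuleCat.of B B) c)) ∧
      Module.FinitePresentation B (Ext (ModuleCat.of B M) (ModuleCat.of B B) c) := by
  have hpdM := (pdLT_iff_fibres (A := A) (B := B) M (c + 1)).2 hpd
  obtain ⟨hflatc, hex⟩ := main_step (A := A) (B := B) (M := M) c hv c le_rfl
  haveI := hflatc
  haveI := fp_quot (A := A) (B := B) (M := M) c
  haveI : Module.Flat B (syz A B M c).K := (pdLT_iff_flat (A := A) (B := B) (M := M) c).1 hpdM
  haveI : Module.Projective B (syz A B M c).K := Module.Flat.projective_of_finitePresentation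
  obtain ⟨σ, hσ⟩ := Module.projective_lifting_property (gen (syz A B M c)) LinearMap.id (gen_surjective _)
  let hom0 : Ext (ModuleCat.of B M) (ModuleCat.of B B) 0 ≃ₗ[B] (M →ₗ[B] B) :=
    Ext.linearEquiv₀ (R := B) ≪≫ₗ ModuleCat.homLinearEquiv (S := B)
  refine ⟨fun j hj => ?_, ?_⟩
  · rcases Nat.lt_or_gt_of_ne hj with hj | hj
    · rcases j with - | i
      · refine @Equiv.subsingleton _ _ hom0.toEquiv (subsingleton_of_forall_eq 0 fun φ => ?_)
        have h0 : φ ∘ₗ gen (syz A B M 0) ∈ T A (B := B) M 0 := by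
          rw [← hex 0 hj]
          refine LinearMap.ext fun w => ?_
          show φ (gen (syz A B M 0) (diff A M 0 w)) = 0
          exact (congrArg φ ((exact_diff 0 _).mpr ⟨w, rfl⟩)).trans (map_zero φ)
        refine LinearMap.ext fun m => ?_
        obtain ⟨v, rfl⟩ := gen_surjective (syz A B M 0) m
        exact LinearMap.congr_fun ((Submodule.mem_bot B).1 h0) v
      · obtain ⟨e⟩ := ext_shift (A := A) (B := B) (M := M) i 0
        obtain ⟨e'⟩ := Groth.L04.LC.nonempty_ext_one_equiv (incl A (B := B) M i) (gen (syz A B M i))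
          (incl_injective i) (gen_surjective _) (exact_incl i) B
        have htop : LinearMap.range ((incl A (B := B) M i).lcomp B B) = ⊤ := eq_top_iff.2 fun φ _ => by
          have h0 : φ ∘ₗ gen (syz A B M (i + 1)) ∈ T A (B := B) M (i + 1) := by
            rw [← hex (i + 1) hj]
            refine LinearMap.ext fun w => ?_
            show φ (gen (syz A B M (i + 1)) (diff A M (i + 1) w)) = 0
            rw [show gen (syz A B M (i + 1)) (diff A (B := B) M (i + 1) w) = 0 from (exact_diff _ _).mpr ⟨w, rfl⟩,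
              map_zero]
          obtain ⟨y, hy⟩ := h0
          refine ⟨y, LinearMap.ext fun m => ?_⟩
          obtain ⟨v, rfl⟩ := gen_surjective (syz A B M (i + 1)) m
          exact LinearMap.congr_fun hy v
        haveI := Submodule.Quotient.subsingleton_iff.2 htop
        have h := (e ≪≫ₗ e').toEquiv.subsingleton
        rwa [Nat.zero_add] at h
    · exact HasProjectiveDimensionLT.subsingleton _ (c + 1) j (by omega) _
  · rcases c with - | i
    · let r : (D A (B := B) M 0 ⧸ T A (B := B) M 0) →ₗ[B] (M →ₗ[B] B) :=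
        (T A (B := B) M 0).liftQ (σ.lcomp B B) bot_le
      let incl0 : (M →ₗ[B] B) →ₗ[B] D A (B := B) M 0 ⧸ T A (B := B) M 0 :=
        (T A (B := B) M 0).mkQ ∘ₗ (gen (syz A B M 0)).lcomp B B
      have hr : ∀ φ, r (incl0 φ) = φ := fun φ => by
        exact LinearMap.ext fun m => congrArg φ (LinearMap.congr_fun hσ m)
      obtain ⟨hf, hp⟩ := retract_facts (A := A) incl0 r hr
      exact ⟨flat_restrictScalars hom0, Module.FinitePresentation.of_equiv hom0.symm⟩
    · obtain ⟨e⟩ := ext_shift (A := A) (B := B) (M := M) i 0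
      obtain ⟨e'⟩ := Groth.L04.LC.nonempty_ext_one_equiv (incl A (B := B) M i) (gen (syz A B M i))
        (incl_injective i) (gen_surjective _) (exact_incl i) B
      let L := LinearMap.range ((incl A (B := B) M i).lcomp B B)
      let ι : (((syz A B M (i + 1)).K →ₗ[B] B) ⧸ L) →ₗ[B] D A (B := B) M (i + 1) ⧸ T A (B := B) M (i + 1) :=
        L.mapQ (T A (B := B) M (i + 1)) ((gen (syz A B M (i + 1))).lcomp B B) (by
          rintro _ ⟨y, rfl⟩
          exact ⟨y, rfl⟩)
      let r : D A (B := B) M (i + 1) ⧸ T A (B := B) M (i + 1) →ₗ[B] (((syz A B M (i + 1)).K →ₗ[B] B) ⧸ L) :=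
        (T A (B := B) M (i + 1)).mapQ L (σ.lcomp B B) (by
          rintro _ ⟨y, rfl⟩
          refine ⟨y, LinearMap.ext fun m => ?_⟩
          show y (incl A M i m) = y (incl A M i (gen (syz A B M (i + 1)) (σ m)))
          rw [show gen (syz A B M (i + 1)) (σ m) = m from LinearMap.congr_fun hσ m])
      have hr : ∀ z, r (ι z) = z := fun z => by
        obtain ⟨φ, rfl⟩ := L.mkQ_surjective z
        show L.mkQ ((φ ∘ₗ gen (syz A B M (i + 1))) ∘ₗ σ) = L.mkQ φ
        rw [LinearMap.comp_assoc, hσ, LinearMap.comp_id]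
      obtain ⟨hf, hp⟩ := retract_facts (A := A) ι r hr
      have e'' := e ≪≫ₗ e'
      rw [Nat.zero_add] at e''
      exact ⟨flat_restrictScalars e'', Module.FinitePresentation.of_equiv e''.symm⟩

end Groth.L29.FlatExt
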