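import Groth.Agent.L10.Shriek.GorFibres
import Groth.Agent.L10.Shriek.CMShriek
import Groth.Agent.L14.OmegaInv.Fibrewise

/-!
The relative dualizing complex of a closed subscheme of affine space with a single relative Ext.
-/

set_option autoImplicit false
set_option maxSynthPendingDepth 3
set_option backward.defeqAttrib.useBackward true
set_option backward.isDefEq.respectTransparency false
set_option linter.style.haveILetI false
universe u

open TensorProduct CategoryTheory Abelian CategoryTheory.Limits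

attribute [local instance] HasDerivedCategory.standard

namespace Groth.L29.GorExt

section Ext

variable {A : Type u} [CommRing A] {N : ℕ} (I : Ideal (MvPolynomial (Fin N) A))
  [DRing.HasLBaseChange (algebraMap A (MvPolynomial (Fin N) A))]
  {Rψ : Dual.D (MvPolynomial (Fin N) A) ⥤ Dual.D (MvPolynomial (Fin N) A ⧸ I)}
  (adj : DRing.restrictD (Ideal.Quotient.mkₐ A I).toRingHom ⊣ Rψ)

include adj in
theorem exists_hom (i : ℤ) :
    ∃ σ : L10.Shriek.CMShriek.Hom' (MvPolynomial (Fin N) A) I (i + N) →ₛₗ[Ideal.Quotient.mk I]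
      Dual.HD (MvPolynomial (Fin N) A ⧸ I) (Dual2.shriekVia N Rψ (Dual.inD A A)) i, Function.Bijective σ := by
  have h := L10.Shriek.CMShriek.exists_hom_semilinear N (Ideal.Quotient.mkₐ A I) (Ideal.Quotient.mkₐ_surjective A I) adj i
  have hk : RingHom.ker (Ideal.Quotient.mkₐ A I).toRingHom = I := Ideal.mk_ker
  rw [hk] at h
  exact h

include adj in
theorem subsingleton_HD {n : ℕ} (hnN : n ≤ N)
    (hvan : ∀ j : ℕ, j ≠ N - n → Subsingleton (Ext (ModuleCat.of (MvPolynomial (Fin N) A) (MvPolynomial (Fin N) A ⧸ I))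
      (ModuleCat.of (MvPolynomial (Fin N) A) (MvPolynomial (Fin N) A)) j))
    (i : ℤ) (hi : i ≠ -(n : ℤ)) :
    Subsingleton (Dual.HD (MvPolynomial (Fin N) A ⧸ I) (Dual2.shriekVia N Rψ (Dual.inD A A)) i) := by
  obtain ⟨σ, hσ⟩ := exists_hom I adj i
  let P := MvPolynomial (Fin N) A
  suffices Subsingleton (L10.Shriek.CMShriek.Hom' P I (i + N)) from hσ.2.subsingleton
  rcases lt_or_ge (i + N) 0 with hneg | hpos
  · haveI : DerivedCategory.IsGE (Dual.inD P P) 0 :=
      inferInstanceAs (DerivedCategory.IsGE ((DerivedCategory.singleFunctor (ModuleCat.{u} P) 0).obj _) 0)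
    haveI : DerivedCategory.IsLE (Dual.inD P (P ⧸ I)) 0 :=
      inferInstanceAs (DerivedCategory.IsLE ((DerivedCategory.singleFunctor (ModuleCat.{u} P) 0).obj _) 0)
    haveI : DerivedCategory.IsGE ((Dual.inD P P)⟦i + N⟧) (-(i + N)) :=
      DerivedCategory.TStructure.t.isGE_shift (Dual.inD P P) 0 (i + N) (-(i + N)) (by lia)
    exact ⟨fun f g => by
      rw [DerivedCategory.TStructure.t.zero f 0 (-(i + N)) (by lia),
        DerivedCategory.TStructure.t.zero g 0 (-(i + N)) (by lia)]⟩
  · obtain ⟨j, hj⟩ := Int.eq_ofNat_of_zero_le hpos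
    rw [hj]
    haveI := hvan j (by omega)
    exact (Ext.homLinearEquiv (R := P) (X := ModuleCat.of P (P ⧸ I)) (Y := ModuleCat.of P P) (n := j)).symm.toEquiv.subsingleton

include adj in
theorem exists_ext_semilinear (n : ℕ) (hnN : n ≤ N) :
    ∃ ε : Ext (ModuleCat.of (MvPolynomial (Fin N) A) (MvPolynomial (Fin N) A ⧸ I))
      (ModuleCat.of (MvPolynomial (Fin N) A) (MvPolynomial (Fin N) A)) (N - n) →ₛₗ[Ideal.Quotient.mk I]
      Dual.HD (MvPolynomial (Fin N) A ⧸ I) (Dual2.shriekVia N Rψ (Dual.inD A A)) (-(n : ℤ)),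
      Function.Bijective ε := by
  have h := exists_hom I adj (-(n : ℤ))
  rw [show -(n : ℤ) + N = ((N - n : ℕ) : ℤ) by omega] at h
  obtain ⟨σ, hσ⟩ := h
  let e := Ext.homLinearEquiv (R := MvPolynomial (Fin N) A)
    (X := ModuleCat.of (MvPolynomial (Fin N) A) (MvPolynomial (Fin N) A ⧸ I))
    (Y := ModuleCat.of (MvPolynomial (Fin N) A) (MvPolynomial (Fin N) A)) (n := N - n)
  exact ⟨{ toFun := fun x => σ (e x)
           map_add' := fun x y => by rw [map_add, map_add]
           map_smul' := fun a x => by rw [map_smul, LinearMap.map_smulₛₗ] }, hσ.comp e.bijective⟩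

include adj in
theorem exists_restrict_iff (n : ℕ) (hnN : n ≤ N) :
    (∃ (L : Type u) (_ : AddCommGroup L) (_ : Module (MvPolynomial (Fin N) A ⧸ I) L),
      Module.Invertible (MvPolynomial (Fin N) A ⧸ I) L ∧
      Nonempty (RestrictScalars (MvPolynomial (Fin N) A) (MvPolynomial (Fin N) A ⧸ I) L ≃ₗ[(MvPolynomial (Fin N) A)]
        Ext (ModuleCat.of (MvPolynomial (Fin N) A) (MvPolynomial (Fin N) A ⧸ I))
          (ModuleCat.of (MvPolynomial (Fin N) A) (MvPolynomial (Fin N) A)) (N - n))) ↔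
    Module.Invertible (MvPolynomial (Fin N) A ⧸ I)
      (Dual.HD (MvPolynomial (Fin N) A ⧸ I) (Dual2.shriekVia N Rψ (Dual.inD A A)) (-(n : ℤ))) := by
  let P := MvPolynomial (Fin N) A
  let B := P ⧸ I
  obtain ⟨ε, hε⟩ := exists_ext_semilinear I adj n hnN
  constructor
  · rintro ⟨L, _, _, hL, ⟨e⟩⟩
    let v := RestrictScalars.addEquiv P B L
    let g : L →ₗ[B] Dual.HD B (Dual2.shriekVia N Rψ (Dual.inD A A)) (-(n : ℤ)) :=
      { toFun := fun x => ε (e (v.symm x))
        map_add' := fun x y => by rw [map_add, map_add, map_add]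
        map_smul' := fun b x => by
          obtain ⟨p, rfl⟩ := Ideal.Quotient.mk_surjective b
          have h1 : v.symm (Ideal.Quotient.mk I p • x) = p • v.symm x := by
            apply v.injective
            rw [v.apply_symm_apply, RestrictScalars.addEquiv_map_smul, v.apply_symm_apply]
            rfl
          rw [h1, map_smul, LinearMap.map_smulₛₗ, RingHom.id_apply] }
    exact Module.Invertible.congr (LinearEquiv.ofBijective g (hε.comp (e.bijective.comp v.symm.bijective)))
  · intro h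
    let H := Dual.HD B (Dual2.shriekVia N Rψ (Dual.inD A A)) (-(n : ℤ))
    let v := RestrictScalars.addEquiv P B H
    let g : Ext (ModuleCat.of P (P ⧸ I)) (ModuleCat.of P P) (N - n) →ₗ[P] RestrictScalars P B H :=
      { toFun := fun x => v.symm (ε x)
        map_add' := fun x y => by rw [map_add, map_add]
        map_smul' := fun p x => by
          apply v.injective
          rw [v.apply_symm_apply, RingHom.id_apply, RestrictScalars.addEquiv_map_smul, v.apply_symm_apply,
            LinearMap.map_smulₛₗ]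
          rfl }
    exact ⟨H, inferInstance, inferInstance, h, ⟨(LinearEquiv.ofBijective g (v.symm.bijective.comp hε)).symm⟩⟩

end Ext

section Local

variable {B : Type u} [CommRing B] [IsNoetherianRing B] (ω : Dual.D B)
  (hfin : ∀ i, Module.Finite B (Dual.HD B ω i)) (n : ℕ)
  (hconc : ∀ i, i ≠ -(n : ℤ) → Subsingleton (Dual.HD B ω i))

include hfin hconc in
theorem exists_away_of_invertible [Module.Invertible B (Dual.HD B ω (-(n : ℤ)))] (q : PrimeSpectrum B) :
    ∃ (f : B) (_ : f ∉ q.asIdeal) (m : ℤ), ∀ [DRing.HasLBaseChange (algebraMap B (Localization.Away f))],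
      Nonempty ((DRing.LBaseChange (algebraMap B (Localization.Away f))).obj ω ≅
        (Dual.inD (Localization.Away f) (Localization.Away f))⟦m⟧) := by
  let L := Localization.AtPrime q.asIdeal
  haveI : Module.Flat B L := IsLocalization.flat L q.asIdeal.primeCompl
  let X := (FlatBC.L B L).obj ω
  have hX : ∀ j, j ≠ -(n : ℤ) → IsZero ((DerivedCategory.homologyFunctor (ModuleCat.{u} L) j).obj X) := fun j hj => by
    haveI := hconc j hj
    haveI : Subsingleton (Dual.HD L X j) := (FlatBC.hEquiv B L ω j).toEquiv.subsingleton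
    exact ModuleCat.isZero_of_subsingleton _
  haveI : DerivedCategory.IsGE X (-(n : ℤ)) := (DerivedCategory.isGE_iff X _).2 fun j hj => hX j (by lia)
  haveI : DerivedCategory.IsLE X (-(n : ℤ)) := (DerivedCategory.isLE_iff X _).2 fun j hj => hX j (by lia)
  obtain ⟨eX⟩ := Groth.L10.exists_iso_single_H (A := ModuleCat.{u} L) X (-(n : ℤ))
  haveI : Module.Free L (L ⊗[B] Dual.HD B ω (-(n : ℤ))) := Module.free_of_flat_of_isLocalRing
  obtain ⟨eL⟩ := (Module.Invertible.free_iff_linearEquiv (R := L) (M := L ⊗[B] Dual.HD B ω (-(n : ℤ)))).1 inferInstance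
  obtain ⟨f, hf, hiso⟩ := L10.Shriek.GorFibres.exists_away ω hfin (-(n : ℤ)) (-(n : ℤ))
    (fun i hi => hconc i (by omega)) q n
    (eX ≪≫ (DerivedCategory.singleFunctor (ModuleCat.{u} L) (-(n : ℤ))).mapIso
        ((FlatBC.hEquiv B L ω (-(n : ℤ))).trans eL).toModuleIso ≪≫
      (Groth.L10.DR.singleShift (-(n : ℤ)) (ModuleCat.of L L)).symm ≪≫
      eqToIso (congrArg (fun k : ℤ => (Dual.inD L L)⟦k⟧) (neg_neg (n : ℤ))))
  exact ⟨f, hf, n, hiso⟩

include hfin hconc in
theorem invertible_of_away (h : ∀ q : PrimeSpectrum B, ∃ (f : B) (_ : f ∉ q.asIdeal) (m : ℤ),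
    ∀ [DRing.HasLBaseChange (algebraMap B (Localization.Away f))],
      Nonempty ((DRing.LBaseChange (algebraMap B (Localization.Away f))).obj ω ≅
        (Dual.inD (Localization.Away f) (Localization.Away f))⟦m⟧)) :
    Module.Invertible B (Dual.HD B ω (-(n : ℤ))) := by
  haveI := hfin (-(n : ℤ))
  refine Groth.L14.OmegaInv.invertible_of_localized fun Q hQ => ?_
  obtain ⟨f, hf, m, hiso⟩ := h ⟨Q, hQ.isPrime⟩
  let Bf := Localization.Away f
  haveI := Groth.L10.KFlatLBC.hasLBaseChange (algebraMap B Bf)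
  haveI : Module.Flat B Bf := IsLocalization.flat Bf (Submonoid.powers f)
  obtain ⟨e0⟩ := hiso
  let e1 : (FlatBC.L B Bf).obj ω ≅ (Dual.inD Bf Bf)⟦m⟧ := ((FlatBC.lbcIso (A := B) (B := Bf)).app ω).symm ≪≫ e0
  let eH : ∀ j : ℤ, Bf ⊗[B] Dual.HD B ω j ≃ₗ[Bf] Dual.HD Bf (Dual.inD Bf Bf) (m + j) := fun j =>
    (FlatBC.hEquiv B Bf ω j).symm.trans
      (((DerivedCategory.homologyFunctor (ModuleCat.{u} Bf) j).mapIso e1 ≪≫
        Groth.L10.hShiftIso (A := ModuleCat.{u} Bf) (Dual.inD Bf Bf) m j (m + j) rfl).toLinearEquiv)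
  haveI : Nontrivial Bf := by
    refine ⟨⟨1, 0, fun h10 => hf ?_⟩⟩
    have h10' : algebraMap B Bf 1 = algebraMap B Bf 0 := by rw [map_one, map_zero]; exact h10
    obtain ⟨⟨_, k, rfl⟩, hk⟩ := IsLocalization.exists_of_eq (M := Submonoid.powers f) h10'
    exact hQ.isPrime.mem_of_pow_mem k (by simp only [mul_one, mul_zero] at hk; rw [hk]; exact Q.zero_mem)
  let e00 : Dual.HD Bf (Dual.inD Bf Bf) 0 ≃ₗ[Bf] Bf :=
    ((DerivedCategory.singleFunctorCompHomologyFunctorIso (ModuleCat.{u} Bf) 0).app (ModuleCat.of Bf Bf)).toLinearEquiv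
  have hm : m = (n : ℤ) := by
    by_contra hne
    have e := eH (-m)
    rw [show m + -m = (0 : ℤ) by omega] at e
    haveI := hconc (-m) (by omega)
    haveI := (e.trans e00).symm.toEquiv.subsingleton
    exact false_of_nontrivial_of_subsingleton Bf
  have eN := eH (-(n : ℤ))
  rw [show m + -(n : ℤ) = (0 : ℤ) by omega] at eN
  let L := Localization.AtPrime Q
  have hu : IsUnit (algebraMap B L f) := IsLocalization.map_units L (⟨f, hf⟩ : Q.primeCompl)
  letI : Algebra Bf L := (IsLocalization.Away.lift f hu).toAlgebra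
  haveI : IsScalarTower B Bf L := IsScalarTower.of_algebraMap_eq fun x => (IsLocalization.Away.lift_eq f hu x).symm
  let E : L ⊗[B] Dual.HD B ω (-(n : ℤ)) ≃ₗ[L] L :=
    (AlgebraTensorModule.cancelBaseChange B Bf L L _).symm.trans
      ((LinearEquiv.baseChange Bf L _ _ (eN.trans e00)).trans (AlgebraTensorModule.rid Bf L L))
  refine ⟨L, L ⊗[B] Dual.HD B ω (-(n : ℤ)), inferInstance, inferInstance, inferInstance, inferInstance,
    inferInstance, inferInstance, TensorProduct.mk B L _ 1, E.symm 1, inferInstance,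
    (isLocalizedModule_iff_isBaseChange Q.primeCompl L _).2 (TensorProduct.isBaseChange B _ L), fun y => ⟨E y, ?_⟩,
    fun x hx => ?_⟩
  · apply E.injective
    rw [map_smul, E.apply_symm_apply, smul_eq_mul, mul_one]
  · have := congrArg E hx
    rwa [map_smul, E.apply_symm_apply, smul_eq_mul, mul_one, map_zero] at this

end Local

end Groth.L29.GorExt
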