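import Groth.Agent.L29.Dual.DualBC
import Groth.Agent.L29.Dual.CoindDual
import Groth.Agent.L29.Dual.GorensteinRing
import Groth.Agent.L29.Dual.Unique

/-!
Dualizing complexes along flat local maps with Gorenstein closed fibre.
-/

set_option autoImplicit false
set_option backward.defeqAttrib.useBackward true

universe u

open CategoryTheory CategoryTheory.Limits IsLocalRing
open scoped TensorProduct

attribute [local instance] HasDerivedCategory.standard

set_option backward.isDefEq.respectTransparency false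

namespace Groth.L29.GorBC

open Groth.L29.HomD Groth.L29.RestrictAdj

section Semilinear

variable {B C : Type u} [CommRing B] [CommRing C] (φ : B →+* C)

/-- maps into the coinduced complex, semilinearly -/
noncomputable def coindHom (I : DRing.Cx B) [I.IsKInjective] (M : ModuleCat.{u} C) (i : ℤ) :
    (Dual.inD C M ⟶ (DRing.toD (coindCx φ I))⟦i⟧) ≃+
      (Dual.inD B ((ModuleCat.restrictScalars.{u} φ).obj M) ⟶ (DRing.toD I)⟦i⟧) :=
  ((shiftLeft _ _ i).toAddEquiv.trans (transposeHom φ I _)).trans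
    (((Linear.homCongr B (((DRing.restrictD φ).commShiftIso (-i)).app _ ≪≫
      (shiftFunctor (Dual.D B) (-i)).mapIso (restrictSingle φ M)) (Iso.refl (DRing.toD I))).toAddEquiv).trans
      (shiftLeft _ _ i).symm.toAddEquiv)

theorem coindHom_smul (I : DRing.Cx B) [I.IsKInjective] (M : ModuleCat.{u} C) (i : ℤ) (b : B)
    (x : Dual.inD C M ⟶ (DRing.toD (coindCx φ I))⟦i⟧) :
    coindHom φ I M i (φ b • x) = b • coindHom φ I M i x := by
  let e1 := shiftLeft (Dual.inD C M) (DRing.toD (coindCx φ I)) i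
  let e2 := Linear.homCongr B (((DRing.restrictD φ).commShiftIso (-i)).app _ ≪≫
      (shiftFunctor (Dual.D B) (-i)).mapIso (restrictSingle φ M)) (Iso.refl (DRing.toD I))
  let e3 := (shiftLeft (Dual.inD B ((ModuleCat.restrictScalars.{u} φ).obj M)) (DRing.toD I) i).symm
  show e3 (e2 (transpose φ I (e1 (φ b • x)))) = b • e3 (e2 (transpose φ I (e1 x)))
  rw [map_smul e1, transpose_smul, map_smul e2, map_smul e3]

/-- a linear map over the quotient from semilinear pieces -/
noncomputable def glue {X Y Z U : Type*} [AddCommGroup X] [Module C X] [AddCommGroup Y] [Module C Y]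
    [AddCommGroup Z] [Module B Z] [AddCommGroup U] [Module B U] [Module C U] (hφ : Function.Surjective φ)
    (hU : ∀ (b : B) (u : U), b • u = φ b • u) (lC : X ≃ₗ[C] Y) (ψ : Y ≃+ Z)
    (hψ : ∀ (b : B) (y : Y), ψ (φ b • y) = b • ψ y) (lB : Z ≃ₗ[B] U) : X ≃ₗ[C] U :=
  { toAddEquiv := lC.toAddEquiv.trans (ψ.trans lB.toAddEquiv)
    map_smul' := fun c x => by
      obtain ⟨b, rfl⟩ := hφ c
      show lB (ψ (lC (φ b • x))) = φ b • lB (ψ (lC x))
      rw [map_smul lC, hψ, map_smul lB, hU] }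

end Semilinear

variable {A B : Type u} [CommRing A] [CommRing B] [Algebra A B] [Module.Flat A B] [IsLocalRing A]
  [IsNoetherianRing A] [IsLocalRing B] [IsNoetherianRing B] [IsLocalHom (algebraMap A B)]

/-- the coinduced complex on the closed fibre ring is the ring in degree zero -/
theorem exists_coind_iso {W : Dual.D A} (hW : Dual.IsDualizing A W) (hn : Dual.IsNormalized A W) :
    ∃ (I : DRing.Cx B) (_ : I.IsKInjective), Nonempty (DRing.toD I ≅ (FlatBC.L A B).obj W) ∧
      Nonempty (DRing.toD (coindCx (Ideal.Quotient.mk ((maximalIdeal A).map (algebraMap A B))) I) ≅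
        Dual.inD (B ⧸ (maximalIdeal A).map (algebraMap A B)) (B ⧸ (maximalIdeal A).map (algebraMap A B))) := by
  let C := B ⧸ (maximalIdeal A).map (algebraMap A B)
  let φ : B →+* C := Ideal.Quotient.mk _
  have hφ : Function.Surjective φ := Ideal.Quotient.mk_surjective
  obtain ⟨a, b, hab⟩ := hW.finite_injective_dimension
  haveI := isGE_of_lower a fun M _ _ i hi => hab M i (Or.inl hi)
  let LW := (FlatBC.L A B).obj W
  haveI : DerivedCategory.IsGE LW a := FlatBC.isGE_L W a
  obtain ⟨I, _, hinj, hK, ⟨eI⟩⟩ := exists_injRep LW a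
  haveI : ∀ n, Injective (I.X n) := fun n =>
    haveI := hinj n
    Module.injective_object_of_injective_module B (I.X n)
  let eA : (Dual.inD A (ResidueField A) ⟶ W⟦(0 : ℤ)⟧) ≃ₗ[A] ResidueField A := by
    refine Nonempty.some ?_
    obtain ⟨n, h1, ⟨e⟩⟩ := residue_degree (maximalIdeal A) hW
    have h0 : n = 0 := by
      by_contra hne
      haveI : Subsingleton (Dual.inD A (A ⧸ maximalIdeal A) ⟶ W⟦n⟧) := hn n hne
      exact not_subsingleton (ResidueField A) e.symm.toEquiv.subsingleton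
    subst h0
    exact ⟨e⟩
  let eC : (B ⊗[A] ResidueField A) ≃ₗ[B] C :=
    (Algebra.TensorProduct.quotIdealMapEquivTensorQuot B (maximalIdeal A)).symm.toLinearEquiv
  let CB : Type u := (ModuleCat.restrictScalars.{u} φ).obj (ModuleCat.of C C)
  let eCB : CB ≃ₗ[B] C :=
    { toFun := fun x => x, invFun := fun x => x, map_add' := fun _ _ => rfl, map_smul' := fun _ _ => rfl }
  let tr : ∀ i : ℤ, (Dual.inD B CB ⟶ (DRing.toD I)⟦i⟧) ≃ₗ[B]
      B ⊗[A] (Dual.inD A (ResidueField A) ⟶ W⟦i⟧) := fun i =>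
    (Linear.homCongr B (Iso.refl (Dual.inD B CB)) ((shiftFunctor (Dual.D B) i).mapIso eI)).trans
      ((preEquiv LW (eC.trans eCB.symm) i).trans (FlatBC.homEquiv (B := B) a (ResidueField A) i).symm)
  let K := DRing.toD (coindCx φ I)
  have hz : ∀ i : ℤ, i ≠ 0 → IsZero ((DerivedCategory.homologyFunctor (ModuleCat.{u} C) i).obj K) := fun i hi => by
    haveI : Subsingleton (Dual.inD A (ResidueField A) ⟶ W⟦i⟧) := hn i hi
    haveI : Subsingleton (Dual.inD C C ⟶ K⟦i⟧) :=
      ((coindHom φ I (ModuleCat.of C C) i).toEquiv.trans (tr i).toEquiv).subsingleton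
    haveI : Subsingleton (Dual.HD C K i) := (evalShiftEquiv K i).symm.toEquiv.subsingleton
    exact ModuleCat.isZero_of_subsingleton _
  let e0 : Dual.HD C K 0 ≃ₗ[C] C :=
    glue φ hφ (fun b u => Algebra.smul_def b u) (evalShiftEquiv K 0).symm
      (coindHom φ I (ModuleCat.of C C) 0) (coindHom_smul φ I (ModuleCat.of C C) 0)
      ((tr 0).trans ((eA.baseChange A B).trans eC))
  haveI : DerivedCategory.IsGE K 0 := (DerivedCategory.isGE_iff K 0).2 fun j hj => hz j (by lia)
  haveI : DerivedCategory.IsLE K 0 := (DerivedCategory.isLE_iff K 0).2 fun j hj => hz j (by lia)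
  obtain ⟨eK0⟩ := Groth.L10.exists_iso_single_H (A := ModuleCat.{u} C) K 0
  let eK : K ≅ Dual.inD C C := eK0 ≪≫ (DerivedCategory.singleFunctor (ModuleCat.{u} C) 0).mapIso e0.toModuleIso
  exact ⟨I, hK, ⟨eI⟩, ⟨eK⟩⟩

/-- normalized case -/
theorem isDualizing_L_of_normalized {W : Dual.D A} (hW : Dual.IsDualizing A W) (hn : Dual.IsNormalized A W)
    (hC : LocCoh.IsGorensteinLocalRing (B ⧸ (maximalIdeal A).map (algebraMap A B))) :
    Dual.IsDualizing B ((FlatBC.L A B).obj W) := by
  let C := B ⧸ (maximalIdeal A).map (algebraMap A B)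
  let φ : B →+* C := Ideal.Quotient.mk _
  have hφ : Function.Surjective φ := Ideal.Quotient.mk_surjective
  haveI : IsLocalRing C := hC.toIsLocalRing
  haveI : IsNoetherianRing C := inferInstance
  obtain ⟨a, b, hab⟩ := hW.finite_injective_dimension
  haveI := isGE_of_lower a fun M _ _ i hi => hab M i (Or.inl hi)
  let LW := (FlatBC.L A B).obj W
  obtain ⟨I, hKI, ⟨eI⟩, ⟨eK⟩⟩ := exists_coind_iso (B := B) hW hn
  haveI := hKI
  obtain ⟨d, hd⟩ := Groth.L01.exists_dim_eq_nat (R := C)
  obtain ⟨hCd, hCn⟩ := Gorenstein.exists_normalized_self (A := C) d hd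
  obtain ⟨n, hn1, ⟨en⟩⟩ := residue_degree (maximalIdeal C) hCd
  have hn0 : n = 0 := by
    by_contra hne
    haveI : Subsingleton (Dual.inD C (C ⧸ maximalIdeal C) ⟶ ((Dual.inD C C)⟦(d : ℤ)⟧)⟦n⟧) := hCn n hne
    exact not_subsingleton (C ⧸ maximalIdeal C) en.symm.toEquiv.subsingleton
  subst hn0
  let kC : ModuleCat.{u} C := ModuleCat.of C (C ⧸ maximalIdeal C)
  let kB : Type u := (ModuleCat.restrictScalars.{u} φ).obj kC
  haveI : IsLocalHom φ := IsLocalHom.of_surjective φ hφ
  let ek : kB ≃ₗ[B] ResidueField B := by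
    let g : B →ₗ[B] kB := LinearMap.toSpanSingleton B kB (Ideal.Quotient.mk (maximalIdeal C) 1)
    have hg : ∀ b : B, g b = Ideal.Quotient.mk (maximalIdeal C) (φ b) := fun b => by
      show φ b • Ideal.Quotient.mk (maximalIdeal C) 1 = _
      exact congrArg (Ideal.Quotient.mk (maximalIdeal C)) (mul_one (φ b))
    have hsurj : Function.Surjective g := fun y => by
      obtain ⟨c, rfl⟩ := Ideal.Quotient.mk_surjective (I := maximalIdeal C) y
      obtain ⟨b, rfl⟩ := hφ c
      exact ⟨b, hg b⟩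
    have hker : LinearMap.ker g = maximalIdeal B := by
      ext b
      refine LinearMap.mem_ker.trans ((iff_of_eq (congrArg (· = 0) (hg b))).trans ?_)
      refine Ideal.Quotient.eq_zero_iff_mem.trans ?_
      rw [mem_maximalIdeal, mem_maximalIdeal, mem_nonunits_iff, mem_nonunits_iff, isUnit_map_iff φ]
    exact ((Submodule.quotEquivOfEq _ _ hker.symm).trans (g.quotKerEquivOfSurjective hsurj)).symm
  let T : ∀ i : ℤ, (Dual.inD B (ResidueField B) ⟶ (LW⟦(d : ℤ)⟧)⟦i⟧) ≃+
      (Dual.inD C (C ⧸ maximalIdeal C) ⟶ ((Dual.inD C C)⟦(d : ℤ)⟧)⟦i⟧) := fun i =>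
    (((homShiftEquiv (Dual.inD B (ResidueField B)) LW d i (d + i) rfl).trans
      ((preEquiv LW ek.symm (d + i)).symm.trans
        (Linear.homCongr B (Iso.refl (Dual.inD B kB)) ((shiftFunctor (Dual.D B) (d + i : ℤ)).mapIso eI)).symm)).toAddEquiv.trans
      (coindHom φ I kC (d + i)).symm).trans
      ((Linear.homCongr C (Iso.refl (Dual.inD C kC)) ((shiftFunctor (Dual.D C) (d + i : ℤ)).mapIso eK)).trans
        (homShiftEquiv (Dual.inD C kC) (Dual.inD C C) d i (d + i) rfl).symm).toAddEquiv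
  have hnorm : Dual.IsNormalized B (LW⟦(d : ℤ)⟧) := fun i hi =>
    haveI : Subsingleton (Dual.inD C (C ⧸ maximalIdeal C) ⟶ ((Dual.inD C C)⟦(d : ℤ)⟧)⟦i⟧) := hCn i hi
    (T i).toEquiv.subsingleton
  have hsymm : ∀ (i : ℤ) (b : B) (y : Dual.inD B kB ⟶ (DRing.toD I)⟦i⟧),
      (coindHom φ I kC i).symm (b • y) = φ b • (coindHom φ I kC i).symm y := fun i b y =>
    (coindHom φ I kC i).injective (by rw [coindHom_smul, AddEquiv.apply_symm_apply, AddEquiv.apply_symm_apply])
  let lB := (homShiftEquiv (Dual.inD B (ResidueField B)) LW d 0 (d + 0) rfl).trans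
      ((preEquiv LW ek.symm (d + 0)).symm.trans
        (Linear.homCongr B (Iso.refl (Dual.inD B kB)) ((shiftFunctor (Dual.D B) (d + 0 : ℤ)).mapIso eI)).symm)
  let lC := ((Linear.homCongr C (Iso.refl (Dual.inD C kC)) ((shiftFunctor (Dual.D C) (d + 0 : ℤ)).mapIso eK)).trans
        (homShiftEquiv (Dual.inD C kC) (Dual.inD C C) d 0 (d + 0) rfl).symm).trans en
  let f' : (Dual.inD B (ResidueField B) ⟶ (LW⟦(d : ℤ)⟧)⟦(0 : ℤ)⟧) ≃ₗ[B] kB :=
    { toAddEquiv := lB.toAddEquiv.trans (((coindHom φ I kC (d + 0)).symm).trans lC.toAddEquiv)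
      map_smul' := fun b x => by
        show lC ((coindHom φ I kC (d + 0)).symm (lB (b • x))) =
          φ b • lC ((coindHom φ I kC (d + 0)).symm (lB x))
        rw [map_smul lB, hsymm, map_smul lC] }
  have hgood : Good (LW⟦(d : ℤ)⟧) := by
    have h : Good LW := FlatBC.good_L a hW.finite_cohomology
    obtain ⟨a', ha'⟩ := h.low
    exact ⟨⟨a' - d, fun M _ _ i hi =>
      haveI := ha' M (d + i) (by lia)
      (homShiftEquiv _ LW d i (d + i) rfl).toEquiv.subsingleton⟩, fun i =>
        haveI := h.fin (i + d)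
        Module.Finite.equiv (Groth.L10.hShiftIso (A := ModuleCat.{u} B) LW d i (i + d) (by lia)).toLinearEquiv.symm⟩
  have hd' := isDualizing_of_normalized hgood hnorm (f'.trans ek)
  exact isDualizing_of_iso ((shiftEquiv (Dual.D B) (d : ℤ)).unitIso.symm.app LW) (isDualizing_shift hd' (-(d : ℤ)))

/-- flat local base change with Gorenstein closed fibre -/
theorem isDualizing_L_of_gorenstein {W : Dual.D A} (hW : Dual.IsDualizing A W)
    (hC : LocCoh.IsGorensteinLocalRing (B ⧸ (maximalIdeal A).map (algebraMap A B))) :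
    Dual.IsDualizing B ((FlatBC.L A B).obj W) := by
  obtain ⟨n, hn, hnn⟩ := Unique.exists_normalized_shift hW
  have h := isDualizing_L_of_normalized hn hnn hC
  refine isDualizing_of_iso ?_ (isDualizing_shift h (-n))
  exact (shiftFunctor (Dual.D B) (-n)).mapIso (((FlatBC.L A B).commShiftIso n).app W) ≪≫
    (shiftEquiv (Dual.D B) n).unitIso.symm.app _

/-- conversely: a dualizing base change forces a Gorenstein closed fibre -/
theorem gorenstein_of_isDualizing_L {W : Dual.D A} (hW : Dual.IsDualizing A W)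
    (hL : Dual.IsDualizing B ((FlatBC.L A B).obj W)) :
    LocCoh.IsGorensteinLocalRing (B ⧸ (maximalIdeal A).map (algebraMap A B)) := by
  obtain ⟨n, hn, hnn⟩ := Unique.exists_normalized_shift hW
  have hLn : Dual.IsDualizing B ((FlatBC.L A B).obj (W⟦n⟧)) :=
    isDualizing_of_iso (((FlatBC.L A B).commShiftIso n).app W).symm (isDualizing_shift hL n)
  obtain ⟨I, hKI, ⟨eI⟩, ⟨eK⟩⟩ := exists_coind_iso (B := B) hn hnn
  haveI := hKI
  let C := B ⧸ (maximalIdeal A).map (algebraMap A B)
  let φ : B →+* C := Ideal.Quotient.mk _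
  haveI : Nontrivial C := Ideal.Quotient.nontrivial_iff.2 fun h =>
    (maximalIdeal.isMaximal B).ne_top (top_le_iff.1 (h.ge.trans (IsLocalRing.map_maximalIdeal_le (algebraMap A B))))
  haveI : IsLocalRing C := IsLocalRing.of_surjective' φ Ideal.Quotient.mk_surjective
  haveI : IsNoetherianRing C := inferInstance
  obtain ⟨a, b, hab⟩ := hLn.finite_injective_dimension
  let k : ModuleCat.{u} C := ModuleCat.of C (ResidueField C)
  obtain ⟨m, hm⟩ := (Gorenstein.finite_injdim_iff (ModuleCat.of C C)).2 ⟨b.toNat + 1, fun i hi => by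
    haveI : Subsingleton (Dual.inD B ((ModuleCat.restrictScalars.{u} φ).obj k) ⟶
        ((FlatBC.L A B).obj (W⟦n⟧))⟦(i : ℤ)⟧) := hab _ (i : ℤ) (Or.inr (by lia))
    haveI : Subsingleton (Dual.inD B ((ModuleCat.restrictScalars.{u} φ).obj k) ⟶ (DRing.toD I)⟦(i : ℤ)⟧) :=
      (Linear.homCongr B (Iso.refl (Dual.inD B ((ModuleCat.restrictScalars.{u} φ).obj k)))
        ((shiftFunctor (Dual.D B) (i : ℤ)).mapIso eI)).toEquiv.subsingleton
    haveI : Subsingleton (Dual.inD C k ⟶ (Dual.inD C C)⟦(i : ℤ)⟧) :=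
      haveI := (coindHom φ I k (i : ℤ)).toEquiv.subsingleton
      (Linear.homCongr C (Iso.refl (Dual.inD C k)) ((shiftFunctor (Dual.D C) (i : ℤ)).mapIso eK)).symm.toEquiv.subsingleton
    exact (Abelian.Ext.homEquiv (X := k) (Y := ModuleCat.of C C) (n := i)).subsingleton⟩
  exact ⟨⟨m, hm⟩⟩

end Groth.L29.GorBC
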