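import Groth.Agent.L29.Dual.FlatBC
import Groth.Agent.L29.Dual.BidualDev
import Mathlib.LinearAlgebra.FreeModule.Finite.Basic
import Mathlib.Data.Int.Interval

/-!
`Hom•(X, I)` commutes with flat base change, for complexes `X` with finite cohomology and bounded complexes of
injectives `I`.
-/

set_option autoImplicit false

universe u

open CategoryTheory CategoryTheory.Limits CochainComplex CochainComplex.HomComplex HomologicalComplex
open scoped TensorProduct

attribute [local instance] HasDerivedCategory.standard

set_option backward.defeqAttrib.useBackward true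
set_option backward.isDefEq.respectTransparency false
set_option linter.style.haveILetI false

namespace Groth.L29.HomExt

variable (A B : Type u) [CommRing A] [CommRing B] [Algebra A B]

local notation "φ" => algebraMap A B
local notation "ext" => Groth.L29.FlatBC.ext A B

/-- base change of complexes -/
noncomputable abbrev extCx : DRing.Cx A ⥤ DRing.Cx B := (ext).mapHomologicalComplex (ComplexShape.up ℤ)

/-- restriction of complexes -/
noncomputable abbrev resCx : DRing.Cx B ⥤ DRing.Cx A :=
  (ModuleCat.restrictScalars.{u} φ).mapHomologicalComplex (ComplexShape.up ℤ)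

theorem map_smul (a : A) {M N : ModuleCat.{u} A} (f : M ⟶ N) : (ext).map (a • f) = φ a • (ext).map f := by
  refine ModuleCat.hom_ext (LinearMap.ext fun z => (Groth.L29.FlatBC.extEquiv A B N).injective ?_)
  rw [Groth.L29.FlatBC.extEquiv_natural]
  change (a • f.hom).baseChange B (Groth.L29.FlatBC.extEquiv A B M z) =
    Groth.L29.FlatBC.extEquiv A B N (φ a • (ext).map f z)
  rw [_root_.map_smul, Groth.L29.FlatBC.extEquiv_natural, LinearMap.baseChange_smul, LinearMap.smul_apply,
    algebraMap_smul]

/-- cochains map to cochains, semilinearly -/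
noncomputable def preθ (X I : DRing.Cx A) :
    DRing.homCx X I ⟶ (resCx A B).obj (DRing.homCx ((extCx A B).obj X) ((extCx A B).obj I)) where
  f n := ModuleCat.ofHom (X := Cochain X I n)
    (Y := (ModuleCat.restrictScalars.{u} φ).obj (ModuleCat.of B (Cochain ((extCx A B).obj X) ((extCx A B).obj I) n)))
    { toFun := fun z => z.map ext
      map_add' := fun z z' => Cochain.map_add z z' ext
      map_smul' := fun a z => Cochain.ext _ _ fun p q hpq => by
        change (ext).map ((a • z).v p q hpq) = φ a • (ext).map (z.v p q hpq)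
        rw [Cochain.smul_v, map_smul] }
  comm' i j _ := by
    ext (z : Cochain X I i)
    exact δ_map (Φ := ext) (z := z) (m := j)

/-- base change of `Hom•(X, I)` into `Hom•` of the base changes -/
noncomputable def θ (X I : DRing.Cx A) :
    (extCx A B).obj (DRing.homCx X I) ⟶ DRing.homCx ((extCx A B).obj X) ((extCx A B).obj I) where
  f n := ((ModuleCat.extendRestrictScalarsAdj.{u, u, u} φ).homEquiv _ _).symm ((preθ A B X I).f n)
  comm' i j hij := by
    refine ((ModuleCat.extendRestrictScalarsAdj.{u, u, u} φ).homEquiv_naturality_right_symm _ _).symm.trans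
      (Eq.trans ?_ ((ModuleCat.extendRestrictScalarsAdj.{u, u, u} φ).homEquiv_naturality_left_symm _ _))
    exact congrArg _ ((preθ A B X I).comm' i j hij)

variable {A B}

theorem θ_unit (X I : DRing.Cx A) (n : ℤ) (z : Cochain X I n) :
    (θ A B X I).f n ((ModuleCat.extendRestrictScalarsAdj.{u, u, u} φ).unit.app ((DRing.homCx X I).X n) z) =
      z.map ext := by
  have h := ((ModuleCat.extendRestrictScalarsAdj.{u, u, u} φ).homEquiv _ _).apply_symm_apply ((preθ A B X I).f n)
  rw [Adjunction.homEquiv_unit] at h
  exact congrArg (fun k => k z) h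

/-- naturality in the source -/
theorem θ_natural {X Y : DRing.Cx A} (g : X ⟶ Y) (I : DRing.Cx A) :
    (extCx A B).map (BidualCx.Dmap I g) ≫ θ A B X I =
      θ A B Y I ≫ BidualCx.Dmap ((extCx A B).obj I) ((extCx A B).map g) := by
  refine HomologicalComplex.hom_ext _ _ fun n => ?_
  refine ((ModuleCat.extendRestrictScalarsAdj.{u, u, u} φ).homEquiv_naturality_left_symm _ _).symm.trans
    (Eq.trans ?_ ((ModuleCat.extendRestrictScalarsAdj.{u, u, u} φ).homEquiv_naturality_right_symm _ _))
  refine congrArg _ (ModuleCat.hom_ext (LinearMap.ext fun z : Cochain Y I n => ?_))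
  change ((Cochain.ofHom g).comp z (zero_add n)).map ext =
    (Cochain.ofHom ((extCx A B).map g)).comp (z.map ext) (zero_add n)
  rw [Cochain.map_comp, Cochain.map_ofHom]

theorem extEquiv_unit (M : ModuleCat.{u} A) (x : M) :
    Groth.L29.FlatBC.extEquiv A B M ((ModuleCat.extendRestrictScalarsAdj.{u, u, u} φ).unit.app M x) =
      (1 : B) ⊗ₜ[A] x := rfl

/-- base change is bijective on cochains out of finite free terms -/
theorem θ_bijective (X I : DRing.Cx A) {a b : ℤ} (hI : DRing.VanishesOutside I a b)
    (hX : DRing.TermwiseFiniteFree X) (n : ℤ) : Function.Bijective ((θ A B X I).f n) := by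
  classical
  have hF : ∀ p, Module.Free A (X.X p) ∧ Module.Finite A (X.X p) := fun p => by
    obtain ⟨h1, h2⟩ := hX p
    exact ⟨inferInstance, inferInstance⟩
  haveI hF1 : ∀ p, Module.Free A (X.X p) := fun p => (hF p).1
  let bs : ∀ p, Module.Basis (Module.Free.ChooseBasisIndex A (X.X p)) A (X.X p) :=
    fun p => haveI := (hF p).1; Module.Free.chooseBasis A (X.X p)
  haveI : ∀ p, Fintype (Module.Free.ChooseBasisIndex A (X.X p)) := fun p =>
    haveI := (hF p).1; haveI := (hF p).2; Module.Free.ChooseBasisIndex.fintype A (X.X p)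
  let s : Finset ℤ := Finset.Icc (a - n) (b - n)
  let e := Groth.L29.FlatBC.extEquiv A B ((DRing.homCx X I).X n)
  let one : ∀ (M : ModuleCat.{u} A), M → (ext).obj M := fun M x =>
    (ModuleCat.extendRestrictScalarsAdj.{u, u, u} φ).unit.app M x
  -- one basis vector
  let L : ∀ (p : ℤ) (i : Module.Free.ChooseBasisIndex A (X.X p)), I.X (p + n) →ₗ[A] Cochain X I n := fun p i =>
    { toFun := fun y => Cochain.single (ModuleCat.ofHom (((bs p).coord i).smulRight y)) n
      map_add' := fun y y' => by
        refine Cochain.ext _ _ fun p' q' hpq' => ?_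
        rw [Cochain.add_v]
        by_cases hp : p' = p
        · subst hp; obtain rfl : q' = p' + n := hpq'.symm
          simp only [Cochain.single_v]
          ext x; simp
        · simp only [Cochain.single_v_eq_zero _ _ _ _ hpq' hp, add_zero]
      map_smul' := fun c y => by
        refine Cochain.ext _ _ fun p' q' hpq' => ?_
        rw [Cochain.smul_v, RingHom.id_apply]
        by_cases hp : p' = p
        · subst hp; obtain rfl : q' = p' + n := hpq'.symm
          simp only [Cochain.single_v]
          ext x; simp [mul_comm, mul_smul, smul_comm c]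
        · simp only [Cochain.single_v_eq_zero _ _ _ _ hpq' hp, smul_zero] }
  let G : Cochain ((extCx A B).obj X) ((extCx A B).obj I) n → B ⊗[A] (DRing.homCx X I).X n := fun w =>
    ∑ p ∈ s, ∑ i, ((L p i).lTensor B)
      (Groth.L29.FlatBC.extEquiv A B (I.X (p + n)) (w.v p (p + n) rfl (one (X.X p) (bs p i))))
  have hG : ∀ (c : B) (w : Cochain ((extCx A B).obj X) ((extCx A B).obj I) n), G (c • w) = c • G w := by
    intro c w
    simp only [G, Finset.smul_sum]
    refine Finset.sum_congr rfl fun p _ => Finset.sum_congr rfl fun i _ => ?_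
    rw [Cochain.smul_v]
    change ((L p i).lTensor B) (Groth.L29.FlatBC.extEquiv A B (I.X (p + n)) (c • _)) = _
    rw [_root_.map_smul]
    exact ((L p i).baseChange B).map_smul c _
  have hG' : ∀ w w', G (w + w') = G w + G w' := by
    intro w w'
    simp only [G, Cochain.add_v]
    rw [← Finset.sum_add_distrib]
    refine Finset.sum_congr rfl fun p _ => ?_
    rw [← Finset.sum_add_distrib]
    exact Finset.sum_congr rfl fun i _ => ((congrArg ((L p i).lTensor B) (map_add _ _ _)).trans (map_add _ _ _))
  -- on constant cochains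
  have hz : ∀ z : Cochain X I n, G (z.map ext) = (1 : B) ⊗ₜ[A] z := by
    intro z
    have h1 : ∀ (p : ℤ) (i : Module.Free.ChooseBasisIndex A (X.X p)),
        Groth.L29.FlatBC.extEquiv A B (I.X (p + n)) ((z.map ext).v p (p + n) rfl (one (X.X p) (bs p i))) =
          (1 : B) ⊗ₜ[A] z.v p (p + n) rfl (bs p i) := fun p i => by
      rw [Cochain.map_v]
      refine (Groth.L29.FlatBC.extEquiv_natural A B _ _).trans ?_
      rw [extEquiv_unit, LinearMap.baseChange_tmul]
    simp only [G, h1, LinearMap.lTensor_tmul, ← TensorProduct.tmul_sum]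
    refine congrArg _ (Cochain.ext _ _ fun p' q' hpq' => ?_)
    obtain rfl : q' = p' + n := hpq'.symm
    have hadd : ∀ {ι : Type u} (t : Finset ι) (F : ι → Cochain X I n),
        (∑ i ∈ t, F i).v p' (p' + n) rfl = ∑ i ∈ t, (F i).v p' (p' + n) rfl := fun t F =>
      map_sum (AddMonoidHom.mk' (fun w : Cochain X I n => w.v p' (p' + n) rfl) fun w w' => Cochain.add_v w w' _ _ _) F t
    have hadd' : ∀ (t : Finset ℤ) (F : ℤ → Cochain X I n),
        (∑ i ∈ t, F i).v p' (p' + n) rfl = ∑ i ∈ t, (F i).v p' (p' + n) rfl := fun t F =>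
      map_sum (AddMonoidHom.mk' (fun w : Cochain X I n => w.v p' (p' + n) rfl) fun w w' => Cochain.add_v w w' _ _ _) F t
    rw [hadd']
    by_cases hp : p' ∈ s
    · rw [Finset.sum_eq_single_of_mem p' hp fun p _ hne => by
        rw [hadd]
        exact Finset.sum_eq_zero fun i _ => Cochain.single_v_eq_zero _ _ _ _ _ (Ne.symm hne), hadd]
      refine ModuleCat.hom_ext ((bs p').ext fun k => ?_)
      rw [ModuleCat.hom_sum]
      simp [L, Finsupp.single_apply]
    · have : IsZero (I.X (p' + n)) := hI _ (by simp only [s, Finset.mem_Icc, not_and_or, not_le] at hp; rcases hp with hp | hp <;> [left; right] <;> omega)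
      exact this.eq_of_tgt _ _
  -- left inverse
  have hleft : ∀ t : B ⊗[A] (DRing.homCx X I).X n, G ((θ A B X I).f n (e.symm t)) = t := by
    intro t
    induction t using TensorProduct.induction_on with
    | zero =>
      have h0 : G ((0 : B) • (0 : Cochain ((extCx A B).obj X) ((extCx A B).obj I) n)) = 0 := by rw [hG, zero_smul]
      rw [zero_smul] at h0
      rw [map_zero]
      exact (congrArg G (map_zero _)).trans h0
    | tmul c z =>
      have hc : e.symm (c ⊗ₜ[A] z) = c • one _ z := by
        rw [LinearEquiv.symm_apply_eq, _root_.map_smul, extEquiv_unit, TensorProduct.smul_tmul', smul_eq_mul, mul_one]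
      rw [hc]
      refine (congrArg G (((θ A B X I).f n).hom.map_smul c _)).trans ?_
      refine (hG c _).trans ?_
      refine (congrArg (c • ·) ((congrArg G (θ_unit X I n z)).trans (hz z))).trans ?_
      rw [TensorProduct.smul_tmul', smul_eq_mul, mul_one]
    | add x y hx hy =>
      rw [map_add]
      exact ((congrArg G (map_add _ _ _)).trans (hG' _ _)).trans (congrArg₂ (· + ·) hx hy)
  refine ⟨fun x y hxy => ?_, fun w => ?_⟩
  · have := congrArg G hxy
    rw [← e.symm_apply_apply x, ← e.symm_apply_apply y, hleft, hleft] at this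
    rw [← e.symm_apply_apply x, this, e.symm_apply_apply]
  · refine ⟨e.symm (G w), Cochain.ext _ _ fun p q hpq => ?_⟩
    obtain rfl : q = p + n := hpq.symm
    by_cases hp : p ∈ s
    swap
    · exact IsZero.eq_of_tgt ((ext).map_isZero (hI _ (by simp only [s, Finset.mem_Icc, not_and_or, not_le] at hp; rcases hp with hp | hp <;> [left; right] <;> omega))) _ _
    let Φ : B ⊗[A] (DRing.homCx X I).X n →+ ((ext).obj (X.X p) ⟶ (ext).obj (I.X (p + n))) :=
      AddMonoidHom.mk' (fun t => ((θ A B X I).f n (e.symm t)).v p (p + n) rfl) fun t t' => by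
        rw [map_add]
        exact (congrArg (fun v : Cochain ((extCx A B).obj X) ((extCx A B).obj I) n => v.v p (p + n) rfl)
          (map_add _ _ _)).trans (Cochain.add_v _ _ _ _ _)
    change Φ (G w) = _
    refine ((ModuleCat.extendRestrictScalarsAdj.{u, u, u} φ).homEquiv _ _).injective ?_
    rw [Adjunction.homEquiv_unit, Adjunction.homEquiv_unit]
    refine ModuleCat.hom_ext ((bs p).ext fun k => ?_)
    change (Φ (G w)) (one _ (bs p k)) = (w.v p (p + n) rfl) (one _ (bs p k))
    have hΦ : ∀ (c : B) (z : Cochain X I n), Φ (c ⊗ₜ[A] z) = c • (ext).map (z.v p (p + n) rfl) := by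
      intro c z
      have hc : e.symm (c ⊗ₜ[A] z) = c • one _ z := by
        rw [LinearEquiv.symm_apply_eq, _root_.map_smul, extEquiv_unit, TensorProduct.smul_tmul', smul_eq_mul, mul_one]
      show ((θ A B X I).f n (e.symm (c ⊗ₜ[A] z))).v p (p + n) rfl = _
      rw [hc]
      refine (congrArg (fun v : Cochain ((extCx A B).obj X) ((extCx A B).obj I) n => v.v p (p + n) rfl)
        ((((θ A B X I).f n).hom.map_smul c _).trans (congrArg (c • ·) (θ_unit X I n z)))).trans ?_
      exact Cochain.smul_v _ _ _ _ _
    have key : ∀ (p' : ℤ) (i : Module.Free.ChooseBasisIndex A (X.X p')) (y : B ⊗[A] I.X (p' + n)),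
        p' ≠ p → Φ (((L p' i).lTensor B) y) = 0 := by
      intro p' i y hne
      induction y using TensorProduct.induction_on with
      | zero => rw [map_zero, map_zero]
      | tmul c m =>
        rw [LinearMap.lTensor_tmul, hΦ]
        simp [L, Cochain.single_v_eq_zero _ _ _ _ _ (Ne.symm hne)]
      | add y y' hy hy' => rw [map_add, map_add, hy, hy', add_zero]
    let ev : ((ext).obj (X.X p) ⟶ (ext).obj (I.X (p + n))) →+ (ext).obj (I.X (p + n)) :=
      AddMonoidHom.mk' (fun h => h (one _ (bs p k))) fun _ _ => rfl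
    have key2 : ∀ (i : Module.Free.ChooseBasisIndex A (X.X p)) (y : B ⊗[A] I.X (p + n)),
        (Φ (((L p i).lTensor B) y)) (one _ (bs p k)) =
          if i = k then (Groth.L29.FlatBC.extEquiv A B (I.X (p + n))).symm y else 0 := by
      intro i y
      induction y using TensorProduct.induction_on with
      | zero => simp
      | tmul c m =>
        rw [LinearMap.lTensor_tmul, hΦ]
        apply (Groth.L29.FlatBC.extEquiv A B (I.X (p + n))).injective
        change Groth.L29.FlatBC.extEquiv A B _ (c • (ext).map ((L p i m).v p (p + n) rfl) (one _ (bs p k))) = _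
        rw [_root_.map_smul, Groth.L29.FlatBC.extEquiv_natural, extEquiv_unit, LinearMap.baseChange_tmul]
        split_ifs with h
        · subst h; simp [L, TensorProduct.smul_tmul']
        · simp [L, Finsupp.single_apply, Ne.symm h]
      | add y y' hy hy' =>
        rw [map_add, map_add]
        refine (map_add ev _ _).trans ((congrArg₂ (· + ·) hy hy').trans ?_)
        split_ifs <;> simp
    simp only [G, map_sum]
    rw [Finset.sum_eq_single_of_mem p hp fun p' _ hne => Finset.sum_eq_zero fun i _ => key p' i _ hne,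
      ]
    refine (map_sum ev _ _).trans ((Finset.sum_congr rfl fun i _ => key2 i _).trans ?_)
    simp

section Flat

variable [Module.Flat A B] {I : DRing.Cx A} {J : DRing.Cx B} (γ : (extCx A B).obj I ⟶ J)

/-- base change of `Hom•(X, I)` into `Hom•` into a resolution of the base change -/
noncomputable def θJ (X : DRing.Cx A) :
    (extCx A B).obj (DRing.homCx X I) ⟶ DRing.homCx ((extCx A B).obj X) J :=
  θ A B X I ≫ DRing.homCxMap ((extCx A B).obj X) γ

omit [Module.Flat A B] in
theorem θJ_natural {X Y : DRing.Cx A} (g : X ⟶ Y) :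
    (extCx A B).map (BidualCx.Dmap I g) ≫ θJ γ X = θJ γ Y ≫ BidualCx.Dmap J ((extCx A B).map g) := by
  rw [θJ, θJ, ← Category.assoc, θ_natural, Category.assoc, Category.assoc]
  congr 1
  refine HomologicalComplex.hom_ext _ _ fun n => ModuleCat.hom_ext (LinearMap.ext fun z : Cochain _ _ n => ?_)
  exact Cochain.comp_assoc_of_third_is_zero_cochain _ z _ (zero_add n)

instance quasiIso_extCx {K L : DRing.Cx A} (f : K ⟶ L) [QuasiIso f] : QuasiIso ((extCx A B).map f) :=
  quasiIso_map_of_preservesHomology f (ext)

omit [Module.Flat A B] in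
instance isKProjective_extCx (X : DRing.Cx A) [X.IsKProjective] :
    CochainComplex.IsKProjective ((extCx A B).obj X) where
  nonempty_homotopy_zero {Y} g hY := by
    let adj := (ModuleCat.extendRestrictScalarsAdj.{u, u, u} φ)
    let u : X ⟶ (resCx A B).obj Y :=
      { f := fun i => adj.homEquiv _ _ (g.f i)
        comm' := fun i j h => by
          refine ((adj.homEquiv_naturality_right _ _).symm.trans ?_).trans (adj.homEquiv_naturality_left _ _)
          exact congrArg _ (g.comm' i j h) }
    let hu := CochainComplex.IsKProjective.homotopyZero u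
      (fun i => ShortComplex.Exact.map (hY i) (ModuleCat.restrictScalars.{u} φ))
    refine ⟨(Homotopy.ofEq ?_).trans (((((ext).mapHomotopy hu).compRight
      ({ f := fun i => adj.counit.app (Y.X i), comm' := fun i j _ => (adj.counit.naturality _).symm } :
        (extCx A B).obj ((resCx A B).obj Y) ⟶ Y))).trans (Homotopy.ofEq (by simp)))⟩
    refine HomologicalComplex.hom_ext _ _ fun i => ?_
    exact ((adj.homEquiv _ _).symm_apply_apply (g.f i)).symm.trans (adj.homEquiv_counit _ _ _)

variable [J.IsKInjective] [QuasiIso γ] [I.IsKInjective]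

omit [QuasiIso γ] in
theorem isIso_iff_of_quasiIso {X Y : DRing.Cx A} (g : X ⟶ Y) [QuasiIso g] (n : ℤ) :
    IsIso (HomologicalComplex.homologyMap (θJ γ X) n) ↔ IsIso (HomologicalComplex.homologyMap (θJ γ Y) n) := by
  haveI : QuasiIso (BidualCx.Dmap I g) := Groth.L10.RHomCx.quasiIso_homCxPre g I
  haveI : QuasiIso (BidualCx.Dmap J ((extCx A B).map g)) :=
    Groth.L10.RHomCx.quasiIso_homCxPre ((extCx A B).map g) J
  have h := congrArg (HomologicalComplex.homologyMap · n) (θJ_natural γ g)
  simp only [HomologicalComplex.homologyMap_comp] at h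
  refine ⟨fun _ => ?_, fun _ => ?_⟩
  · haveI : IsIso (HomologicalComplex.homologyMap (θJ γ Y) n ≫
        HomologicalComplex.homologyMap (BidualCx.Dmap J ((extCx A B).map g)) n) := by rw [← h]; infer_instance
    exact IsIso.of_isIso_comp_right _ (HomologicalComplex.homologyMap (BidualCx.Dmap J ((extCx A B).map g)) n)
  · haveI : IsIso (HomologicalComplex.homologyMap ((extCx A B).map (BidualCx.Dmap I g)) n ≫
        HomologicalComplex.homologyMap (θJ γ X) n) := by rw [h]; infer_instance
    exact IsIso.of_isIso_comp_left (HomologicalComplex.homologyMap ((extCx A B).map (BidualCx.Dmap I g)) n) _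

variable {a b a' b' : ℤ} (hI : DRing.VanishesOutside I a b) (hJ : DRing.VanishesOutside J a' b')
  [IsNoetherianRing A]

include hI in
omit [J.IsKInjective] [I.IsKInjective] [IsNoetherianRing A] in
theorem quasiIso_θJ_free (P : DRing.Cx A) [P.IsKProjective] (hP : DRing.TermwiseFiniteFree P) :
    QuasiIso (θJ γ P) := by
  haveI : ∀ n, IsIso ((θ A B P I).f n) := fun n =>
    (ConcreteCategory.isIso_iff_bijective _).2 (θ_bijective P I hI hP n)
  haveI : IsIso (θ A B P I) := HomologicalComplex.Hom.isIso_of_components _
  haveI : QuasiIso (DRing.homCxMap ((extCx A B).obj P) γ) := Groth.L10.RHomCx.quasiIso_homCxMap _ γ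
  rw [θJ]
  infer_instance

open Groth.L02.PC in
include hI in
theorem isIso_boundedAbove (L : DRing.Cx A) (c : ℤ) (hL : LEH (DRing.toD L) c)
    (hL' : ∀ i, Module.Finite A (Dual.HD A (DRing.toD L) i)) (n : ℤ) :
    IsIso (HomologicalComplex.homologyMap (θJ γ L) n) := by
  have hpc : ∀ m, DRing.IsPseudoCoherent A m (DRing.toD L) := fun m =>
    Groth.L10.DR.pc_of_homology m (DRing.toD L) c hL fun i _ => by
      refine Groth.L10.DR.pc_single (M := (HH i).obj (DRing.toD L)) i m ?_
      haveI := hL' i
      exact pc_mono (show -((-(m - i)).toNat : ℤ) ≤ m - i by omega)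
        (Groth.L10.DR.pcModule_noetherian _ ((HH i).obj (DRing.toD L)))
  obtain ⟨P, hP, hPF, ⟨e⟩⟩ := Groth.L10.DR.exists_finiteFree_le hpc c hL
  haveI : P.IsKProjective := isKProjective_of_vanishesAbove hP fun i => by
    obtain ⟨_, _⟩ := hPF i
    infer_instance
  obtain ⟨f, hf⟩ := exists_chainMap e.hom
  haveI : QuasiIso f := (DerivedCategory.isIso_Q_map_iff_quasiIso (C := ModuleCat.{u} A) f).1
    (by rw [hf]; infer_instance)
  haveI := quasiIso_θJ_free γ hI P hPF
  exact (isIso_iff_of_quasiIso γ f n).1 inferInstance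

variable [∀ n, Injective (I.X n)] [∀ n, Injective (J.X n)]

include hI hJ in
/-- `Hom•(-, I)` commutes with flat base change on complexes with finite cohomology -/
theorem quasiIso_θJ (K : DRing.Cx A) (hK : ∀ i, Module.Finite A (Dual.HD A (DRing.toD K) i)) :
    QuasiIso (θJ γ K) := by
  refine (quasiIso_iff _).2 fun n => (quasiIsoAt_iff_isIso_homologyMap _ n).2 ?_
  let m : ℤ := max (b - n) (b' - n)
  let T := K.truncGE (m + 1)
  let g := K.shortComplexTruncLEX₃ToTruncGE m (m + 1)
  haveI : QuasiIso g := inferInstance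
  let S := K.shortComplexTruncLE m
  have hS : S.ShortExact := K.shortComplexTruncLE_shortExact m
  have hT : ∀ i, i < m + 1 → IsZero (T.X i) := fun i hi => CochainComplex.isZero_of_isStrictlyGE T (m + 1) i hi
  have hTB : ∀ i, i < m + 1 → IsZero (((extCx A B).obj T).X i) := fun i hi => (ext).map_isZero (hT i hi)
  haveI : QuasiIso (BidualCx.Dmap I g) := Groth.L10.RHomCx.quasiIso_homCxPre g I
  haveI : QuasiIso (BidualCx.Dmap J ((extCx A B).map g)) :=
    Groth.L10.RHomCx.quasiIso_homCxPre ((extCx A B).map g) J
  have t₁ : ∀ i, n ≤ i → IsZero (((extCx A B).obj (DRing.homCx S.X₃ I)).homology i) := fun i hi =>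
    (BidualCx.isZero_homology_of_X ((extCx A B).obj (DRing.homCx T I)) i
      ((ext).map_isZero (BidualCx.isZero_dual_of_ge I hI T (m + 1) hT i (by omega)))).of_iso
      (asIso (HomologicalComplex.homologyMap ((extCx A B).map (BidualCx.Dmap I g)) i)).symm
  have t₂ : ∀ i, n ≤ i → IsZero ((DRing.homCx ((extCx A B).obj S.X₃) J).homology i) := fun i hi =>
    (BidualCx.isZero_homology_of_X _ i
      (BidualCx.isZero_dual_of_ge J hJ ((extCx A B).obj T) (m + 1) hTB i (by omega))).of_iso
      (asIso (HomologicalComplex.homologyMap (BidualCx.Dmap J ((extCx A B).map g)) i)).symm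
  have hS₁ : ((BidualCx.Dsc I S).map (extCx A B)).ShortExact :=
    (BidualCx.Dsc_shortExact I hS).map_of_exact (extCx A B)
  have hS₂ : (BidualCx.Dsc J (S.map (extCx A B))).ShortExact :=
    BidualCx.Dsc_shortExact J (hS.map_of_exact (extCx A B))
  haveI : IsIso (HomologicalComplex.homologyMap ((extCx A B).map (BidualCx.Dmap I S.f)) n) :=
    BidualCx.isIso_g_of_isZero hS₁ n (t₁ n le_rfl) (t₁ _ (by omega))
  haveI : IsIso (HomologicalComplex.homologyMap (BidualCx.Dmap J ((extCx A B).map S.f)) n) :=
    BidualCx.isIso_g_of_isZero hS₂ n (t₂ n le_rfl) (t₂ _ (by omega))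
  have hLEH : Groth.L02.PC.LEH (DRing.toD (K.truncLE m)) m := fun i hi =>
    (Groth.L02.PC.isZero_HH_Q_iff _ i).2
      (BidualCx.isZero_homology_of_X _ _ (CochainComplex.isZero_of_isStrictlyLE (K.truncLE m) m i hi))
  haveI : IsIso (HomologicalComplex.homologyMap (θJ γ S.X₁) n) := by
    refine isIso_boundedAbove γ hI (K.truncLE m) m hLEH (fun i => ?_) n
    by_cases hi : i ≤ m
    · haveI : QuasiIsoAt (K.ιTruncLE m) i := K.quasiIsoAt_ιTruncLE m i hi
      haveI : Module.Finite A ((DerivedCategory.Q ⋙ DerivedCategory.homologyFunctor (ModuleCat.{u} A) i).obj K) := hK i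
      haveI : Module.Finite A (K.homology i) :=
        Module.Finite.equiv ((DerivedCategory.homologyFunctorFactors (ModuleCat.{u} A) i).app K).toLinearEquiv
      exact Module.Finite.equiv
        ((DerivedCategory.homologyFunctorFactors (ModuleCat.{u} A) i).app (K.truncLE m) ≪≫
          asIso (HomologicalComplex.homologyMap (K.ιTruncLE m) i)).toLinearEquiv.symm
    · haveI := ModuleCat.subsingleton_of_isZero (hLEH i (by omega))
      exact inferInstanceAs (Module.Finite A ((Groth.L02.PC.HH i).obj (DRing.toD (K.truncLE m))))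
  have h := congrArg (HomologicalComplex.homologyMap · n) (θJ_natural γ S.f)
  simp only [HomologicalComplex.homologyMap_comp] at h
  haveI : IsIso (HomologicalComplex.homologyMap (θJ γ S.X₂) n ≫
      HomologicalComplex.homologyMap (BidualCx.Dmap J ((extCx A B).map S.f)) n) := by rw [← h]; infer_instance
  exact @IsIso.of_isIso_comp_right _ _ _ _ _ (HomologicalComplex.homologyMap (θJ γ S.X₂) n)
    (HomologicalComplex.homologyMap (BidualCx.Dmap J ((extCx A B).map S.f)) n) _ ‹_›

end Flat

end Groth.L29.HomExt
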