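import Groth.Agent.L29.Dual.Retract
import Groth.Agent.L29.Dual.Unique
import Groth.Agent.L29.Dual.DualFlat
import Groth.Agent.L10.DRing.LTensorKFlat
import Mathlib.CategoryTheory.Monoidal.Linear

/-!
Twists of dualizing complexes by invertible modules.
-/

set_option autoImplicit false
set_option backward.defeqAttrib.useBackward true

universe u

open CategoryTheory CategoryTheory.Limits MonoidalCategory
open scoped TensorProduct

attribute [local instance] HasDerivedCategory.standard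

set_option backward.isDefEq.respectTransparency false
set_option linter.style.haveILetI false

namespace Groth.L29.DualTwist

open Groth.L29.HomD

variable {A : Type u} [CommRing A]

/-- `M ↦ Q(W ⊗ M)` -/
noncomputable def twist (W : DRing.Cx A) : ModuleCat.{u} A ⥤ Dual.D A where
  obj M := DRing.toD (DRing.tensorCx W M)
  map {M N} f := DerivedCategory.Q.map
    (show DRing.tensorCx W M ⟶ DRing.tensorCx W N from
    { f := fun i => W.X i ◁ f
      comm' := fun i j _ => whisker_exchange (W.d i j) f })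
  map_id M := by
    rw [← DerivedCategory.Q.map_id]
    exact congrArg DerivedCategory.Q.map (HomologicalComplex.hom_ext _ _ fun i => whiskerLeft_id (W.X i) M)
  map_comp f g := by
    rw [← DerivedCategory.Q.map_comp]
    exact congrArg DerivedCategory.Q.map (HomologicalComplex.hom_ext _ _ fun i => whiskerLeft_comp (W.X i) f g)

instance (W : DRing.Cx A) : (twist W).Additive where
  map_add {M N f g} := (congrArg DerivedCategory.Q.map
    (HomologicalComplex.hom_ext _ _ fun i => MonoidalPreadditive.whiskerLeft_add (X := W.X i) _ _)).trans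
      DerivedCategory.Q.map_add

instance (W : DRing.Cx A) : (twist W).Linear A where
  map_smul {M N} f a := (congrArg DerivedCategory.Q.map
    (HomologicalComplex.hom_ext _ _ fun i => MonoidalLinear.whiskerLeft_smul (W.X i) a f)).trans
      (DerivedCategory.Q.map_smul _ _)

/-- `W ⊗ A ≅ W` -/
noncomputable def twistUnit (W : DRing.Cx A) : (twist W).obj (ModuleCat.of A A) ≅ DRing.toD W :=
  DerivedCategory.Q.mapIso (HomologicalComplex.Hom.isoOfComponents (fun i => ρ_ (W.X i))
    (fun i j _ => (rightUnitor_naturality (W.d i j)).symm))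

/-- a K-flat model -/
noncomputable def model (ω : Dual.D A) : DRing.Cx A :=
  (Groth.L10.KFlat.R A).obj (DerivedCategory.Q.objPreimage ω)

/-- the model represents `ω` -/
noncomputable def modelIso (ω : Dual.D A) : DRing.toD (model ω) ≅ ω :=
  haveI : QuasiIso ((Groth.L10.KFlat.r A).app (DerivedCategory.Q.objPreimage ω)) := inferInstance
  asIso (DerivedCategory.Q.map ((Groth.L10.KFlat.r A).app (DerivedCategory.Q.objPreimage ω))) ≪≫
    DerivedCategory.Q.objObjPreimageIso ω

/-- the unit of the twist -/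
noncomputable def τ (ω : Dual.D A) : (twist (model ω)).obj (ModuleCat.of A A) ≅ ω :=
  twistUnit (model ω) ≪≫ modelIso ω

/-- `ω ⊗^L P` is the twist -/
noncomputable def lTensorIso (ω : Dual.D A) (P : ModuleCat.{u} A) [DRing.HasLTensor A P] :
    (DRing.LTensor A P).obj ω ≅ (twist (model ω)).obj P :=
  (DRing.LTensor A P).mapIso (modelIso ω).symm ≪≫
    Groth.L10.LTensorKFlat.compute P (model ω) (Groth.L10.KFlat.isKFlat_R _)

variable {ω : Dual.D A}

/-- twists of dualizing complexes are dualizing -/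
theorem isDualizing_twist (hω : Dual.IsDualizing A ω) (P : Type u) [AddCommGroup P] [Module A P]
    [Module.Invertible A P] : Dual.IsDualizing A ((twist (model ω)).obj (ModuleCat.of A P)) := by
  obtain ⟨n, φ, x, hφx⟩ := Retract.exists_dualBasis P (A := A)
  refine ⟨hω.isNoetherianRing, ?_, fun i => ?_, ?_, fun i hi => ?_⟩
  · obtain ⟨a, b, hab⟩ := hω.finite_injective_dimension
    refine ⟨a, b, fun M _ _ i hi => subsingleton_of_forall_eq 0 fun f => ?_⟩
    rw [← Category.comp_id f, ← (shiftFunctor (Dual.D A) i).map_id,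
      ← Retract.resolution_id (twist (model ω)) (τ ω) hφx, Functor.map_sum, Preadditive.comp_sum]
    refine Finset.sum_eq_zero fun j _ => ?_
    rw [Functor.map_comp, ← Category.assoc, (hab M i hi).elim (f ≫ _) 0, zero_comp]
  · haveI := hω.finite_cohomology i
    let H := DerivedCategory.homologyFunctor (ModuleCat.{u} A) i
    let S : (Fin n → Dual.HD A ω i) →ₗ[A] Dual.HD A ((twist (model ω)).obj (ModuleCat.of A P)) i :=
      ∑ j, (H.map (Retract.g (twist (model ω)) (τ ω) (x j))).hom ∘ₗ LinearMap.proj j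
    refine Module.Finite.of_surjective S fun z => ?_
    refine ⟨fun j => (H.map (Retract.q (twist (model ω)) (τ ω) (φ j))).hom z, ?_⟩
    have h := congrArg (fun f => (H.map f).hom z) (Retract.resolution_id (twist (model ω)) (τ ω) hφx)
    simp only [Functor.map_sum, ModuleCat.hom_sum, LinearMap.sum_apply, Functor.map_comp, ModuleCat.hom_comp,
      LinearMap.comp_apply, CategoryTheory.Functor.map_id, ModuleCat.hom_id, LinearMap.id_apply] at h
    simpa [S, H, LinearMap.sum_apply] using h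
  · have hend := (Module.Invertible.toModuleEnd_bijective (R := A) (M := P))
    have e1 : ∀ a : A, (twist (model ω)).map (ModuleCat.ofHom (Module.toModuleEnd A P a)) =
        a • 𝟙 ((twist (model ω)).obj (ModuleCat.of A P)) := fun a => by
      rw [show ModuleCat.ofHom (Module.toModuleEnd A P a) = a • 𝟙 (ModuleCat.of A P) from rfl,
        Functor.map_smul, CategoryTheory.Functor.map_id]
    refine ⟨fun a b hab => hend.1 (Retract.map_injective (twist (model ω)) (τ ω) hφx hω.toEnd_bijective.1 hφx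
      ((e1 a).trans (hab.trans (e1 b).symm))), fun f => ?_⟩
    obtain ⟨L, hL⟩ := Retract.map_surjective (twist (model ω)) (τ ω) hφx hω.toEnd_bijective.2 hφx f
    obtain ⟨a, rfl⟩ := hend.2 L
    exact ⟨a, (e1 a).symm.trans hL⟩
  · exact Retract.hom_shift_eq_zero (twist (model ω)) (τ ω) hφx (shiftFunctor (Dual.D A) i) hφx
      (hω.ext_self_subsingleton i hi)

/-- the twist determines the module and the shift -/
theorem eq_of_iso (hω : Dual.IsDualizing A ω) [Nontrivial A] (P P' : Type u) [AddCommGroup P] [Module A P]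
    [Module.Invertible A P] [AddCommGroup P'] [Module A P'] [Module.Invertible A P'] (m : ℤ)
    (f : (twist (model ω)).obj (ModuleCat.of A P) ≅ ((twist (model ω)).obj (ModuleCat.of A P'))⟦m⟧) :
    m = 0 ∧ Nonempty (P ≃ₗ[A] P') := by
  obtain ⟨n, φ, x, hφx⟩ := Retract.exists_dualBasis P (A := A)
  obtain ⟨n', φ', x', hφx'⟩ := Retract.exists_dualBasis P' (A := A)
  have hP : Nontrivial P := by
    by_contra h
    rw [not_nontrivial_iff_subsingleton] at h
    exact zero_ne_one ((Module.Invertible.toModuleEnd_bijective (R := A) (M := P)).1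
      (LinearMap.ext fun p => Subsingleton.elim _ _))
  have hm : m = 0 := by
    by_contra hm
    haveI := Retract.hom_shift_eq_zero (twist (model ω)) (τ ω) hφx (shiftFunctor (Dual.D A) m) hφx'
      (hω.ext_self_subsingleton m hm)
    have hz : 𝟙 ((twist (model ω)).obj (ModuleCat.of A P)) = 0 := by
      rw [← f.hom_inv_id, Subsingleton.elim f.hom 0, zero_comp]
    have h0 := Retract.map_injective (twist (model ω)) (τ ω) hφx hω.toEnd_bijective.1 hφx
      (L := LinearMap.id) (L' := 0) (((twist (model ω)).map_id _).trans (hz.trans ((twist (model ω)).map_zero _ _).symm))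
    obtain ⟨p, hp⟩ := exists_ne (0 : P)
    exact hp (LinearMap.congr_fun h0 p)
  subst hm
  let f' := f ≪≫ (shiftFunctorZero (Dual.D A) ℤ).app _
  obtain ⟨L, hL⟩ := Retract.map_surjective (twist (model ω)) (τ ω) hφx hω.toEnd_bijective.2 hφx' f'.hom
  obtain ⟨L', hL'⟩ := Retract.map_surjective (twist (model ω)) (τ ω) hφx' hω.toEnd_bijective.2 hφx f'.inv
  refine ⟨rfl, ⟨LinearEquiv.ofLinear L L' ?_ ?_⟩⟩
  · refine Retract.map_injective (twist (model ω)) (τ ω) hφx' hω.toEnd_bijective.1 hφx' ?_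
    rw [ModuleCat.ofHom_comp, Functor.map_comp, hL, hL', f'.inv_hom_id, ModuleCat.ofHom_id, CategoryTheory.Functor.map_id]
    rfl
  · refine Retract.map_injective (twist (model ω)) (τ ω) hφx hω.toEnd_bijective.1 hφx ?_
    rw [ModuleCat.ofHom_comp, Functor.map_comp, hL, hL', f'.hom_inv_id, ModuleCat.ofHom_id, CategoryTheory.Functor.map_id]

section Global

variable {ω' : Dual.D A}

/-- the scalars of composites `ω ⟶ ω'⟦i⟧ ⟶ ω` -/
def S (ω ω' : Dual.D A) (i : ℤ) : Set A :=
  {a | ∃ (x : ω ⟶ ω'⟦i⟧) (u : ω'⟦i⟧ ⟶ ω), a • 𝟙 ω = x ≫ u}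

theorem exists_mem_S [IsNoetherianRing A] (hω : Dual.IsDualizing A ω) (hω' : Dual.IsDualizing A ω')
    (p : Ideal A) [p.IsPrime] : ∃ i : ℤ, ∃ a ∈ S ω ω' i, a ∉ p := by
  haveI : Module.Flat A (Localization.AtPrime p) := IsLocalization.flat _ p.primeCompl
  haveI : IsNoetherianRing (Localization.AtPrime p) := IsLocalization.isNoetherianRing p.primeCompl _ inferInstance
  have h := FlatBC.isDualizing_L_localization (B := Localization.AtPrime p) p.primeCompl hω
  have h' := FlatBC.isDualizing_L_localization (B := Localization.AtPrime p) p.primeCompl hω'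
  obtain ⟨n, ⟨e₀⟩⟩ := Unique.exists_shift_iso h h'
  let L := FlatBC.L A (Localization.AtPrime p)
  let e : L.obj ω ≅ L.obj (ω'⟦-n⟧) :=
    (shiftFunctorCompIsoId _ n (-n) (add_neg_cancel n)).symm.app _ ≪≫
      (shiftFunctor _ (-n)).mapIso e₀.symm ≪≫ ((L.commShiftIso (-n)).app ω').symm
  have hgen : ∀ (X W : Dual.D A), Dual.IsDualizing A X → Dual.IsDualizing A W → ∀ g : L.obj X ⟶ L.obj W,
      ∃ (b : Localization.AtPrime p) (ψ : X ⟶ W), IsUnit b ∧ b • g = L.map ψ := by
    intro X W hX hW g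
    obtain ⟨a₁, b₁, hX1⟩ := hX.finite_injective_dimension
    obtain ⟨a₂, b₂, hW1⟩ := hW.finite_injective_dimension
    haveI := isGE_of_lower a₁ fun M _ _ i hi => hX1 M i (Or.inl hi)
    haveI := isGE_of_lower a₂ fun M _ _ i hi => hW1 M i (Or.inl hi)
    haveI : X.IsLE b₁ := (DerivedCategory.isLE_iff X b₁).2 fun i hi => by
      haveI := hX1 A i (Or.inr hi)
      haveI : Subsingleton (Dual.HD A X i) := (evalShiftEquiv (W := X) i).toEquiv.symm.subsingleton
      exact ModuleCat.isZero_of_subsingleton _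
    have hiso : FlatBC.Iso' (Localization.AtPrime p) X W :=
      FlatBC.iso'_of_iso ((shiftFunctorZero (Dual.D A) ℤ).app X)
        (FlatBC.allShift_bounded W a₂ X a₁ b₁ hX.finite_cohomology 0)
    obtain ⟨t, rfl⟩ := hiso.2 g
    obtain ⟨⟨ψ, s⟩, hs⟩ := IsLocalizedModule.surj p.primeCompl
      (TensorProduct.mk A (Localization.AtPrime p) (X ⟶ W) 1) t
    refine ⟨algebraMap A (Localization.AtPrime p) s, ψ, IsLocalization.map_units _ s, ?_⟩
    rw [← map_smul, show algebraMap A (Localization.AtPrime p) (s : A) • t =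
      (1 : Localization.AtPrime p) ⊗ₜ[A] ψ from (algebraMap_smul _ _ t).trans hs, FlatBC.theta_tmul, one_smul]
  obtain ⟨b₁, x, hb₁, hx⟩ := hgen ω (ω'⟦-n⟧) hω (isDualizing_shift hω' (-n)) e.hom
  obtain ⟨b₂, u, hb₂, hu⟩ := hgen (ω'⟦-n⟧) ω (isDualizing_shift hω' (-n)) hω e.inv
  obtain ⟨a, ha⟩ := hω.toEnd_bijective.2 (x ≫ u)
  refine ⟨-n, a, ⟨x, u, ha⟩, fun hap => ?_⟩
  have h1 := congrArg L.map ha
  dsimp only at h1
  rw [FlatBC.map_smul_id, Functor.map_comp, ← hx, ← hu, Linear.smul_comp, Linear.comp_smul, smul_smul,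
    e.hom_inv_id] at h1
  have h2 : algebraMap A (Localization.AtPrime p) a = b₁ * b₂ := h.toEnd_bijective.1 h1
  exact (IsLocalization.AtPrime.isUnit_to_map_iff (Localization.AtPrime p) p a).1 (h2 ▸ hb₁.mul hb₂) hap

theorem disjoint_S (hω : Dual.IsDualizing A ω) (hω' : Dual.IsDualizing A ω') {i j : ℤ} (hij : i ≠ j)
    {a a' : A} (ha : a ∈ S ω ω' i) (ha' : a' ∈ S ω ω' j) : a * a' = 0 := by
  obtain ⟨x, u, hxu⟩ := ha
  obtain ⟨x', u', hxu'⟩ := ha'
  haveI : Subsingleton (ω'⟦i⟧ ⟶ ω'⟦j⟧) := by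
    haveI := (isDualizing_shift hω' i).ext_self_subsingleton (j - i) (by lia)
    exact (homShiftEquiv (ω'⟦i⟧) ω' i (j - i) j (by lia)).symm.toEquiv.subsingleton
  refine hω.toEnd_bijective.1 ?_
  change (a * a') • 𝟙 ω = (0 : A) • 𝟙 ω
  have : (a • 𝟙 ω) ≫ (a' • 𝟙 ω) = (a * a') • 𝟙 ω := by
    rw [Linear.smul_comp, Category.id_comp, smul_smul]
  rw [← this, hxu, hxu', zero_smul, Category.assoc, ← Category.assoc u, Subsingleton.elim (u ≫ x') 0,
    zero_comp, comp_zero]

/-- dualizing complexes on a connected spectrum differ by an invertible module and a shift -/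
theorem exists_twist_iso [IsNoetherianRing A] [ConnectedSpace (PrimeSpectrum A)]
    (hω : Dual.IsDualizing A ω) (hω' : Dual.IsDualizing A ω') :
    ∃ (P : Type u) (_ : AddCommGroup P) (_ : Module A P) (_ : Module.Invertible A P) (n : ℤ),
      Nonempty (ω' ≅ ((twist (model ω)).obj (ModuleCat.of A P))⟦n⟧) := by
  classical
  let U : ℤ → Set (PrimeSpectrum A) := fun i => (PrimeSpectrum.zeroLocus (S ω ω' i))ᶜ
  have hU : ∀ i, IsOpen (U i) := fun i => (PrimeSpectrum.isClosed_zeroLocus _).isOpen_compl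
  have hmem : ∀ {i} {p : PrimeSpectrum A}, p ∈ U i ↔ ∃ a ∈ S ω ω' i, a ∉ p.asIdeal := fun {i p} => by
    simp [U, PrimeSpectrum.mem_zeroLocus, Set.not_subset]
  have hdisj : ∀ {i j} {p : PrimeSpectrum A}, p ∈ U i → p ∈ U j → i = j := by
    intro i j p hi hj
    obtain ⟨a, ha, hap⟩ := hmem.1 hi
    obtain ⟨a', ha', hap'⟩ := hmem.1 hj
    by_contra hij
    have : a * a' ∈ p.asIdeal := disjoint_S hω hω' hij ha ha' ▸ p.asIdeal.zero_mem
    exact (p.isPrime.mem_or_mem this).elim hap hap'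
  obtain ⟨p₀⟩ := ‹ConnectedSpace (PrimeSpectrum A)›.toNonempty
  obtain ⟨i, hi⟩ : ∃ i, p₀ ∈ U i := by
    obtain ⟨i, h⟩ := exists_mem_S hω hω' p₀.asIdeal
    exact ⟨i, hmem.2 h⟩
  have hclopen : IsClopen (U i) := by
    refine ⟨⟨?_⟩, hU i⟩
    rw [show (U i)ᶜ = ⋃ j ∈ {j | j ≠ i}, U j from Set.ext fun p => by
      refine ⟨fun hp => ?_, fun hp => ?_⟩
      · obtain ⟨j, h⟩ := exists_mem_S hω hω' p.asIdeal
        exact Set.mem_biUnion (x := j) (fun hji => hp (hji ▸ hmem.2 h)) (hmem.2 h)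
      · obtain ⟨j, hj, hpj⟩ := Set.mem_iUnion₂.1 hp
        exact fun hpi => hj (hdisj hpj hpi)]
    exact isOpen_biUnion fun j _ => hU j
  have hall : U i = Set.univ := hclopen.eq_univ ⟨p₀, hi⟩
  let X := ω
  let Y := ω'⟦i⟧
  have hY := (isDualizing_shift hω' i).toEnd_bijective
  have hS : Ideal.span (S ω ω' i) = ⊤ := by
    rw [← PrimeSpectrum.zeroLocus_empty_iff_eq_top, PrimeSpectrum.zeroLocus_span]
    exact Set.compl_univ_iff.1 (show (PrimeSpectrum.zeroLocus (S ω ω' i))ᶜ = Set.univ from hall)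
  have hsum : ∀ {X Y : Dual.D A}, (Ideal.span {a : A | ∃ (x : X ⟶ Y) (u : Y ⟶ X), a • 𝟙 X = x ≫ u} = ⊤) →
      ∃ (k : ℕ) (x : Fin k → (X ⟶ Y)) (u : Fin k → (Y ⟶ X)), ∑ l, x l ≫ u l = 𝟙 X := by
    intro X Y h
    obtain ⟨k, c, s, hcs⟩ := Submodule.mem_span_set'.1 ((Ideal.eq_top_iff_one _).1 h)
    choose x u hxu using fun l => (s l).2
    refine ⟨k, fun l => c l • x l, u, ?_⟩
    conv_rhs => rw [← one_smul A (𝟙 X), ← hcs, Finset.sum_smul]
    exact Finset.sum_congr rfl fun l _ => by rw [Linear.smul_comp, smul_eq_mul, mul_smul, hxu]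
  obtain ⟨k, x, u, hxu⟩ := hsum (X := X) (Y := Y) hS
  have hS' : Ideal.span {a : A | ∃ (u : Y ⟶ X) (x : X ⟶ Y), a • 𝟙 Y = u ≫ x} = ⊤ := by
    by_contra h
    obtain ⟨m, hm, hle⟩ := Ideal.exists_le_maximal _ h
    obtain ⟨a, ⟨x, u, hxu⟩, ham⟩ : ∃ a ∈ S ω ω' i, a ∉ m :=
      hmem.1 (show (⟨m, hm.isPrime⟩ : PrimeSpectrum A) ∈ U i by rw [hall]; trivial)
    obtain ⟨c, hc⟩ := hY.2 (u ≫ x)
    have hcm : c ∈ m := hle (Ideal.subset_span ⟨u, x, hc⟩)
    have hac : a * a = c * a := hω.toEnd_bijective.1 (by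
      change (a * a) • 𝟙 ω = (c * a) • 𝟙 ω
      have h1 : (a • 𝟙 ω) ≫ (a • 𝟙 ω) = (a * a) • 𝟙 ω := by rw [Linear.smul_comp, Category.id_comp, smul_smul]
      rw [← h1, hxu, Category.assoc, ← Category.assoc u x, ← hc, Linear.smul_comp, Category.id_comp,
        Linear.comp_smul, ← hxu, smul_smul])
    exact ham ((hm.isPrime.mem_or_mem (hac ▸ m.mul_mem_right a hcm)).elim id id)
  obtain ⟨k', u', x', hux⟩ := hsum (X := Y) (Y := X) hS'
  haveI := Retract.invertible_hom hω.toEnd_bijective hY x u hxu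
  obtain ⟨P₀, _, _, _, ⟨e₀⟩⟩ := LocDual.exists_small (A := A) (X ⟶ Y)
  haveI : Module.Invertible A P₀ := Module.Invertible.congr e₀.symm
  obtain ⟨n, φ, b, hφb⟩ := Retract.exists_dualBasis P₀ (A := A)
  obtain ⟨e⟩ := Retract.nonempty_iso (twist (model ω)) (τ ω) hφb hω.toEnd_bijective e₀ u' x' hux
  exact ⟨P₀, inferInstance, inferInstance, inferInstance, -i, ⟨((shiftFunctorCompIsoId (Dual.D A) i (-i)
    (add_neg_cancel i)).app ω').symm ≪≫ (shiftFunctor (Dual.D A) (-i)).mapIso e⟩⟩

end Global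

end Groth.L29.DualTwist
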