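import Groth.Agent.L29.Dual.ResidueDegree
import Mathlib.RingTheory.Ideal.KrullsHeightTheorem
import Mathlib.LinearAlgebra.Matrix.Charpoly.LinearMap

/-!
The degree of a dualizing complex at a prime, and the dimension function it defines.
-/

universe u

open CategoryTheory CategoryTheory.Limits CategoryTheory.Pretriangulated
open scoped Pointwise

attribute [local instance] HasDerivedCategory.standard

set_option backward.isDefEq.respectTransparency false

namespace Groth.L29.HomD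

variable {A : Type u} [CommRing A]

/-- vanishing after localising at `p` -/
def LZ (p : Ideal A) (M : Type*) [AddCommGroup M] [Module A M] : Prop :=
  ∀ x : M, ∃ s ∉ p, s • x = 0

section LZ

variable {p : Ideal A} {M N P : Type*} [AddCommGroup M] [Module A M] [AddCommGroup N] [Module A N]
  [AddCommGroup P] [Module A P]

lemma LZ.of_subsingleton [hp : p.IsPrime] [Subsingleton M] : LZ p M :=
  fun _ => ⟨1, fun h => hp.ne_top ((p.eq_top_iff_one).2 h), Subsingleton.elim _ _⟩

lemma LZ.of_surjective (f : M →ₗ[A] N) (hf : Function.Surjective f) (h : LZ p M) : LZ p N := by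
  intro y
  obtain ⟨x, rfl⟩ := hf y
  obtain ⟨s, hs, hx⟩ := h x
  exact ⟨s, hs, by rw [← map_smul, hx, map_zero]⟩

lemma LZ.of_injective (f : M →ₗ[A] N) (hf : Function.Injective f) (h : LZ p N) : LZ p M := by
  intro x
  obtain ⟨s, hs, hx⟩ := h (f x)
  exact ⟨s, hs, hf (by rw [map_smul, hx, map_zero])⟩

lemma LZ.of_exact [hp : p.IsPrime] (f : M →ₗ[A] N) (g : N →ₗ[A] P) (hex : Function.Exact f g)
    (hM : LZ p M) (hP : LZ p P) : LZ p N := by
  intro y
  obtain ⟨s, hs, hy⟩ := hP (g y)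
  obtain ⟨x, hx⟩ := (hex (s • y)).1 (by rw [map_smul, hy])
  obtain ⟨t, ht, hx'⟩ := hM x
  exact ⟨t * s, fun h => (hp.mem_or_mem h).elim ht hs,
    by rw [mul_smul, ← hx, ← map_smul, hx', map_zero]⟩

lemma LZ.of_smul_eq_zero {s : A} (hs : s ∉ p) (h : ∀ x : M, s • x = 0) : LZ p M :=
  fun x => ⟨s, hs, h x⟩

lemma LZ.mono {q : Ideal A} (hqp : q ≤ p) (h : LZ p M) : LZ q M :=
  fun x => (h x).imp fun _ hs => ⟨fun hq => hs.1 (hqp hq), hs.2⟩

lemma LZ.exists_smul [hp : p.IsPrime] [Module.Finite A M] (h : LZ p M) :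
    ∃ s ∉ p, ∀ x : M, s • x = 0 := by
  classical
  obtain ⟨S, hS⟩ := (Module.Finite.fg_top : (⊤ : Submodule A M).FG)
  choose s hs hsx using h
  refine ⟨∏ x ∈ S, s x, fun h' => ?_, fun x => ?_⟩
  · obtain ⟨x, -, hx⟩ := hp.prod_mem_iff.1 h'
    exact hs x hx
  have hle : (⊤ : Submodule A M) ≤ LinearMap.ker ((∏ x ∈ S, s x) • (LinearMap.id : M →ₗ[A] M)) := by
    rw [← hS, Submodule.span_le]
    intro y hy
    simp only [SetLike.mem_coe, LinearMap.mem_ker, LinearMap.smul_apply, LinearMap.id_apply]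
    rw [← Finset.prod_erase_mul _ _ hy, mul_smul, hsx, smul_zero]
  exact hle (Submodule.mem_top : x ∈ ⊤)

lemma lz_iff [p.IsPrime] : LZ p M ↔ Subsingleton (LocalizedModule p.primeCompl M) :=
  (LocalizedModule.subsingleton_iff (S := p.primeCompl)).symm

end LZ

lemma pre_smul_eq_zero (W : Dual.D A) (N : Type u) [AddCommGroup N] [Module A N] (s : A)
    (h : ∀ y : N, s • y = 0) (i : ℤ) (φ : Dual.inD A N ⟶ W⟦i⟧) : s • φ = 0 := by
  have h0 : s • (LinearMap.id : N →ₗ[A] N) = 0 := LinearMap.ext fun y => h y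
  have := pre_smul W s (LinearMap.id : N →ₗ[A] N) i
  rw [h0, pre_zero, pre_id] at this
  exact (LinearMap.congr_fun this φ).symm

lemma lz_hom (W : Dual.D A) (p : Ideal A) [p.IsPrime] (N : Type u) [AddCommGroup N] [Module A N]
    [Module.Finite A N] (h : LZ p N) (i : ℤ) : LZ p (Dual.inD A N ⟶ W⟦i⟧) := by
  obtain ⟨s, hs, hN⟩ := h.exists_smul
  exact LZ.of_smul_eq_zero hs (pre_smul_eq_zero W N s hN i)

variable [IsNoetherianRing A]

/-- dévissage through the primes containing the annihilator and contained in `p` -/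
lemma lz_hom_of_primes (W : Dual.D A) (p : Ideal A) [p.IsPrime] (i : ℤ) (N : Type u) [AddCommGroup N]
    [Module A N] [Module.Finite A N]
    (h : ∀ r : PrimeSpectrum A, Module.annihilator A N ≤ r.asIdeal → r.asIdeal ≤ p →
      LZ p (Dual.inD A (A ⧸ r.asIdeal) ⟶ W⟦i⟧)) :
    LZ p (Dual.inD A N ⟶ W⟦i⟧) := by
  revert h
  refine IsNoetherianRing.induction_on_isQuotientEquivQuotientPrime A ‹Module.Finite A N›
    (motive := fun N _ _ _ => (∀ r : PrimeSpectrum A, Module.annihilator A N ≤ r.asIdeal →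
      r.asIdeal ≤ p → LZ p (Dual.inD A (A ⧸ r.asIdeal) ⟶ W⟦i⟧)) → LZ p (Dual.inD A N ⟶ W⟦i⟧))
    ?_ ?_ ?_
  · intro N _ _ _ _ _
    haveI := subsingleton_of_module W (M := N) i
    exact LZ.of_subsingleton
  · intro N _ _ _ r e h
    have hann : Module.annihilator A N = r.asIdeal :=
      e.annihilator_eq.trans Ideal.annihilator_quotient
    by_cases hr : r.asIdeal ≤ p
    · exact (h r hann.le hr).of_injective (preEquiv W e i).symm.toLinearMap (LinearEquiv.injective _)
    · obtain ⟨s, hsr, hsp⟩ := Set.not_subset.1 hr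
      refine LZ.of_smul_eq_zero hsp (pre_smul_eq_zero W N s (fun y => ?_) i)
      exact Module.mem_annihilator.1 (by rw [hann]; exact hsr) y
  · intro N₁ _ _ _ N₂ _ _ _ N₃ _ _ _ f g hf hg hfg h₁ h₃ h
    exact LZ.of_exact _ _ (exact_mid W f g hf hg hfg i)
      (h₃ fun r hr => h r ((g.annihilator_le_of_surjective hg).trans hr))
      (h₁ fun r hr => h r ((f.annihilator_le_of_injective hf).trans hr))

omit [IsNoetherianRing A] in
lemma lz_of_triangle (Z : Dual.D A) (p : Ideal A) [p.IsPrime] (T : Triangle (Dual.D A))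
    (hT : T ∈ distTriang _) (h1 : LZ p (T.obj₁ ⟶ Z)) (h3 : LZ p (T.obj₃ ⟶ Z)) :
    LZ p (T.obj₂ ⟶ Z) := by
  refine LZ.of_exact (Linear.leftComp A Z T.mor₂) (Linear.leftComp A Z T.mor₁)
    (fun φ => ⟨fun hφ => ?_, ?_⟩) h3 h1
  · obtain ⟨ψ, hψ⟩ := Triangle.yoneda_exact₂ _ hT φ hφ
    exact ⟨ψ, hψ.symm⟩
  · rintro ⟨ψ, rfl⟩
    exact ((Category.assoc _ _ _).symm.trans
      ((congrArg (· ≫ ψ) (comp_distTriang_mor_zero₁₂ _ hT)).trans zero_comp))

omit [IsNoetherianRing A] in
/-- localised vanishing by truncations -/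
lemma lz_hom_D (W Y : Dual.D A) (p : Ideal A) [p.IsPrime] (lo hi l : ℤ) [Y.IsGE lo] [Y.IsLE hi]
    (h : ∀ n, lo ≤ n → n ≤ hi → LZ p (Dual.inD A (Dual.HD A Y n) ⟶ W⟦l + n⟧)) :
    LZ p (Y ⟶ W⟦l⟧) := by
  refine bounded_induction (fun Z => LZ p (Z ⟶ W⟦l⟧)) ?_ ?_ ?_ Y lo hi ?_
  · intro X Z e hX
    exact hX.of_surjective (Linear.homCongr A e (Iso.refl (W⟦l⟧))).toLinearMap (LinearEquiv.surjective _)
  · intro T hT h1 h3
    exact lz_of_triangle _ p T hT h1 h3
  · intro X hX
    haveI : Subsingleton (X ⟶ W⟦l⟧) := ⟨fun a b => hX.eq_of_src a b⟩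
    exact LZ.of_subsingleton
  · intro n h1 h2
    exact (h n h1 h2).of_injective (singleHomEquiv W _ n l).toLinearMap (LinearEquiv.injective _)

/-- a module killed by `p` and nonzero at `p` keeps the degree of `A ⧸ p` -/
lemma not_lz_hom (W : Dual.D A) (p : Ideal A) [p.IsPrime] (j i : ℤ) (hji : j + 1 = i)
    (hprev : LZ p (Dual.inD A (A ⧸ p) ⟶ W⟦j⟧))
    (hi : ¬ LZ p (Dual.inD A (A ⧸ p) ⟶ W⟦i⟧))
    (N : Type u) [AddCommGroup N] [Module A N] [Module.Finite A N]
    (hN : p ≤ Module.annihilator A N) (hne : ¬ LZ p N) : ¬ LZ p (Dual.inD A N ⟶ W⟦i⟧) := by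
  revert hN hne
  refine IsNoetherianRing.induction_on_isQuotientEquivQuotientPrime A ‹Module.Finite A N›
    (motive := fun N _ _ _ => p ≤ Module.annihilator A N → ¬ LZ p N →
      ¬ LZ p (Dual.inD A N ⟶ W⟦i⟧)) ?_ ?_ ?_
  · intro N _ _ _ _ _ hne
    exact absurd LZ.of_subsingleton hne
  · intro N _ _ _ r e hN hne
    have hann : Module.annihilator A N = r.asIdeal :=
      e.annihilator_eq.trans Ideal.annihilator_quotient
    have hrp : r.asIdeal ≤ p := by
      by_contra hr
      obtain ⟨s, hsr, hsp⟩ := Set.not_subset.1 hr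
      exact hne (LZ.of_smul_eq_zero hsp fun y => Module.mem_annihilator.1 (by rw [hann]; exact hsr) y)
    obtain rfl : r.asIdeal = p := le_antisymm hrp (hann ▸ hN)
    exact fun h => hi (h.of_injective (preEquiv W e i).toLinearMap (LinearEquiv.injective _))
  · intro N₁ _ _ _ N₂ _ _ _ N₃ _ _ _ f g hf hg hfg h₁ h₃ hN hne h2
    by_cases h3 : LZ p N₃
    · have hne1 : ¬ LZ p N₁ := fun h => hne (LZ.of_exact f g hfg h h3)
      refine h₁ (hN.trans (f.annihilator_le_of_injective hf)) hne1 ?_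
      exact LZ.of_exact _ _ (exact_left W f g hf hg hfg i) h2 (lz_hom W p N₃ h3 (i + 1))
    · refine h₃ (hN.trans (g.annihilator_le_of_surjective hg)) h3 ?_
      have hN1 : LZ p (Dual.inD A N₁ ⟶ W⟦j⟧) := lz_hom_of_primes W p j N₁ fun r hr hrp => by
        obtain rfl : r.asIdeal = p :=
          le_antisymm hrp ((hN.trans (f.annihilator_le_of_injective hf)).trans hr)
        exact hprev
      subst hji
      have hex := exact_right W f g hf hg hfg j
      intro φ
      obtain ⟨s, hs, hφ⟩ := h2 (pre W g (j + 1) φ)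
      obtain ⟨ψ, hψ⟩ := (hex (s • φ)).1 (by rw [map_smul, hφ])
      obtain ⟨t, ht, hψ'⟩ := hN1 ψ
      refine ⟨t * s, fun hh => ((‹p.IsPrime›).mem_or_mem hh).elim ht hs, ?_⟩
      rw [mul_smul, ← hψ]
      exact (map_smul _ t ψ).symm.trans (by rw [hψ', map_zero])

variable {ω : Dual.D A}

/-- exactly one degree at each prime -/
theorem existsUnique_degree (hω : Dual.IsDualizing A ω) (p : Ideal A) [p.IsPrime] :
    ∃ n : ℤ, ¬ LZ p (Dual.inD A (A ⧸ p) ⟶ ω⟦n⟧) ∧
      ∀ i : ℤ, i ≠ n → LZ p (Dual.inD A (A ⧸ p) ⟶ ω⟦i⟧) := by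
  obtain ⟨a, b, hab0⟩ := hω.finite_injective_dimension
  haveI := isGE_of_lower a fun M _ _ i hi => hab0 M i (Or.inl hi)
  obtain ⟨I, _, hinj, _, ⟨eI⟩⟩ := exists_injRep ω a
  haveI : ∀ n, Injective (I.X n) := fun n =>
    haveI := hinj n
    Module.injective_object_of_injective_module A (I.X n)
  have hI := isDualizing_of_iso eI.symm hω
  let eW := fun (i : ℤ) => Linear.homCongr A (Iso.refl (Dual.inD A (A ⧸ p)))
    ((shiftFunctor (Dual.D A) i).mapIso eI)
  suffices h : ∃ n : ℤ, ¬ LZ p (Dual.inD A (A ⧸ p) ⟶ (DRing.toD I)⟦n⟧) ∧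
      ∀ i : ℤ, i ≠ n → LZ p (Dual.inD A (A ⧸ p) ⟶ (DRing.toD I)⟦i⟧) by
    obtain ⟨n, h1, h2⟩ := h
    exact ⟨n, fun h => h1 (h.of_injective (eW n).toLinearMap (LinearEquiv.injective _)),
      fun i hi => (h2 i hi).of_surjective (eW i).toLinearMap (LinearEquiv.surjective _)⟩
  have hab : ∀ (M : Type u) [AddCommGroup M] [Module A M] (i : ℤ),
      (i < a ∨ b < i) → Subsingleton (Dual.inD A M ⟶ (DRing.toD I)⟦i⟧) := fun M _ _ i hi =>
    haveI := hab0 M i hi
    (Linear.homCongr A (Iso.refl (Dual.inD A M)) ((shiftFunctor (Dual.D A) i).mapIso eI)).toEquiv.subsingleton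
  clear hω eI hab0 eW
  let W := DRing.toD I
  let κ : ModuleCat.{u} A := ModuleCat.of A (A ⧸ p)
  haveI : Module.Finite A κ := inferInstanceAs (Module.Finite A (A ⧸ p))
  have bid := fun l => biduality I a b hab hI.toEnd_bijective hI.ext_self_subsingleton l κ inferInstance
  let X := DRing.toD (HM I κ)
  let K : ℤ → Prop := fun j => ¬ LZ p (Dual.inD A (A ⧸ p) ⟶ W⟦j⟧)
  have hgood := good_of_isDualizing hI
  have hfin : ∀ n, Module.Finite A (Dual.HD A X n) := fun n =>
    haveI := finite_hom W hgood (A ⧸ p) n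
    Module.Finite.equiv (show (Dual.inD A (A ⧸ p) ⟶ W⟦n⟧) ≃ₗ[A] _ from (homologyEquiv κ I n).symm)
  have hkill : ∀ n, p ≤ Module.annihilator A (Dual.HD A X n) := fun n x hx =>
    Module.mem_annihilator.2 fun y => (homologyEquiv κ I n).injective (by
      rw [map_smul, map_zero]
      refine pre_smul_eq_zero W (A ⧸ p) x (fun q => ?_) n _
      obtain ⟨q, rfl⟩ := Ideal.Quotient.mk_surjective q
      exact Ideal.Quotient.eq_zero_iff_mem.2 (Ideal.mul_mem_right _ _ hx))
  have hHn : ∀ (n j : ℤ), ¬ K j → LZ p (Dual.inD A (Dual.HD A X n) ⟶ W⟦j⟧) := fun n j hj => by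
    haveI := hfin n
    refine lz_hom_of_primes W p j _ fun r hr hrp => ?_
    obtain rfl : r.asIdeal = p := le_antisymm hrp ((hkill n).trans hr)
    exact not_not.1 hj
  haveI : X.IsGE a := isGE_HM I a b hab κ
  haveI : X.IsLE b := isLE_HM I a b hab κ
  have hκ : ¬ LZ p κ := fun h => by
    obtain ⟨s, hs, h1⟩ := h (Ideal.Quotient.mk p 1 : A ⧸ p)
    refine hs ?_
    have h2 : Ideal.Quotient.mk p (s * 1) = 0 := h1
    rwa [mul_one, Ideal.Quotient.eq_zero_iff_mem] at h2
  have hG : ∀ (l : ℤ), LZ p (G I κ l) → l ≠ 0 ∨ False := fun l h => Or.inl fun hl => by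
    subst hl
    exact hκ (h.of_injective (theta I κ) ((bid 0).2 rfl).1)
  have hKne : ∃ j, K j := by
    by_contra h
    push Not at h
    exact ((hG 0 (lz_hom_D W X p a b 0 fun n _ _ => hHn n _ (fun hh => hh (not_not.1 (h _))))).resolve_right id) rfl
  have hKb : ∀ j, K j → a ≤ j ∧ j ≤ b := fun j hj => by
    by_contra h
    haveI := hab (A ⧸ p) j (by lia)
    exact hj LZ.of_subsingleton
  classical
  obtain ⟨lo, hlo, hlomin⟩ := Int.exists_least_of_bdd ⟨a, fun j hj => (hKb j hj).1⟩ hKne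
  obtain ⟨q, hq, hqmax⟩ := Int.exists_greatest_of_bdd ⟨b, fun j hj => (hKb j hj).2⟩ hKne
  refine ⟨lo, hlo, fun i hi => ?_⟩
  by_contra hiK
  have hlq : lo < q := by have := hlomin i hiK; have := hqmax i hiK; lia
  haveI := (bid (lo - q)).1 (by lia)
  -- compare with the part of cohomological degree at least `q`
  let R := ((DerivedCategory.TStructure.t.truncGE q).obj X)
  let L := ((DerivedCategory.TStructure.t.truncLT q).obj X)
  haveI : DerivedCategory.IsGE L a := inferInstanceAs (DerivedCategory.TStructure.t.IsGE L a)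
  haveI hLLE : DerivedCategory.IsLE L (q - 1) := inferInstanceAs (DerivedCategory.TStructure.t.IsLE L (q - 1))
  haveI : DerivedCategory.IsGE (L⟦(1 : ℤ)⟧) (a - 1) :=
    DerivedCategory.TStructure.t.isGE_shift L a 1 (a - 1) (by lia)
  haveI : DerivedCategory.IsLE (L⟦(1 : ℤ)⟧) (q - 2) :=
    DerivedCategory.TStructure.t.isLE_shift L (q - 1) 1 (q - 2) (by lia)
  have hR : LZ p (R ⟶ W⟦lo - q⟧) := by
    have hL1 : LZ p ((L⟦(1 : ℤ)⟧) ⟶ W⟦lo - q⟧) := by
      refine lz_hom_D W _ p (a - 1) (q - 2) (lo - q) fun n _ hn => ?_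
      haveI := Groth.L10.isIso_H_ι (A := ModuleCat.{u} A) q (n + 1) (by lia) X
      let e : Dual.HD A (L⟦(1 : ℤ)⟧) n ≃ₗ[A] Dual.HD A X (n + 1) :=
        (Groth.L10.hShiftIso (A := ModuleCat.{u} A) L 1 n (n + 1) (by lia) ≪≫
          asIso ((DerivedCategory.homologyFunctor _ (n + 1)).map
            ((DerivedCategory.TStructure.t.truncLTι q).app X))).toLinearEquiv
      refine (hHn (n + 1) (lo - q + n) fun h => ?_).of_surjective (preEquiv W e _).toLinearMap
        (LinearEquiv.surjective _)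
      have := hlomin _ h; lia
    haveI : Subsingleton (X ⟶ W⟦lo - q⟧) := (bid (lo - q)).1 (by lia)
    exact lz_of_triangle _ p _
      (rot_of_distTriang _ (DerivedCategory.TStructure.t.triangleLTGE_distinguished q X))
      (LZ.of_subsingleton (M := X ⟶ W⟦lo - q⟧)) hL1
  -- the top cohomology of that part
  haveI : DerivedCategory.IsGE R q := inferInstance
  haveI : DerivedCategory.IsLE R b := inferInstanceAs (DerivedCategory.TStructure.t.IsLE R b)
  let R₁ := ((DerivedCategory.TStructure.t.truncLT (q + 1)).obj R)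
  let R₂ := ((DerivedCategory.TStructure.t.truncGE (q + 1)).obj R)
  haveI : DerivedCategory.IsGE R₂ (q + 1) := inferInstance
  haveI : DerivedCategory.IsLE R₂ b := inferInstanceAs (DerivedCategory.TStructure.t.IsLE R₂ b)
  have hHR : ∀ n, q < n → LZ p (Dual.HD A R n) := fun n hn => by
    haveI := Groth.L10.isIso_H_π (A := ModuleCat.{u} A) q n hn.le X
    have h : LZ p (Dual.HD A X n) :=
      (not_not.1 fun hh : K n => absurd (hqmax n hh) (by lia)).of_injective
        (homologyEquiv κ I n).toLinearMap (LinearEquiv.injective _)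
    exact h.of_surjective ((DerivedCategory.homologyFunctor _ n).map
      ((DerivedCategory.TStructure.t.truncGEπ q).app X)).hom
      ((ModuleCat.epi_iff_surjective _).1 inferInstance)
  haveI : DerivedCategory.IsGE (R₂⟦(-1 : ℤ)⟧) (q + 2) :=
    DerivedCategory.TStructure.t.isGE_shift R₂ (q + 1) (-1) (q + 2) (by lia)
  haveI : DerivedCategory.IsLE (R₂⟦(-1 : ℤ)⟧) (b + 1) :=
    DerivedCategory.TStructure.t.isLE_shift R₂ b (-1) (b + 1) (by lia)
  have hR2 : LZ p ((R₂⟦(-1 : ℤ)⟧) ⟶ W⟦lo - q⟧) := by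
    refine lz_hom_D W _ p (q + 2) (b + 1) (lo - q) fun n hn _ => ?_
    haveI := Groth.L10.isIso_H_π (A := ModuleCat.{u} A) (q + 1) (n - 1) (by lia) R
    let e : Dual.HD A (R₂⟦(-1 : ℤ)⟧) n ≃ₗ[A] Dual.HD A R (n - 1) :=
      (Groth.L10.hShiftIso (A := ModuleCat.{u} A) R₂ (-1) n (n - 1) (by lia) ≪≫
        (asIso ((DerivedCategory.homologyFunctor _ (n - 1)).map
          ((DerivedCategory.TStructure.t.truncGEπ (q + 1)).app R))).symm).toLinearEquiv
    haveI := Groth.L10.isIso_H_π (A := ModuleCat.{u} A) q (n - 1) (by lia) X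
    haveI : Module.Finite A ((DerivedCategory.homologyFunctor (ModuleCat.{u} A) (n - 1)).obj
        ((CategoryTheory.Functor.id _).obj X)) := hfin (n - 1)
    haveI : Module.Finite A (Dual.HD A R (n - 1)) := Module.Finite.equiv (asIso
      ((DerivedCategory.homologyFunctor (ModuleCat.{u} A) (n - 1)).map
        ((DerivedCategory.TStructure.t.truncGEπ q).app X))).toLinearEquiv
    exact (lz_hom W p _ (hHR (n - 1) (by lia)) (lo - q + n)).of_surjective
      (preEquiv W e _).toLinearMap (LinearEquiv.surjective _)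
  have hR1 : LZ p (R₁ ⟶ W⟦lo - q⟧) :=
    lz_of_triangle _ p _
      (inv_rot_of_distTriang _ (DerivedCategory.TStructure.t.triangleLTGE_distinguished (q + 1) R))
      hR2 hR
  haveI : DerivedCategory.IsLE R₁ q := inferInstanceAs (DerivedCategory.TStructure.t.IsLE R₁ q)
  haveI : DerivedCategory.IsGE R₁ q := inferInstanceAs (DerivedCategory.TStructure.t.IsGE R₁ q)
  obtain ⟨eR⟩ := Groth.L10.exists_iso_single_H (A := ModuleCat.{u} A) R₁ q
  haveI := Groth.L10.isIso_H_π (A := ModuleCat.{u} A) q q le_rfl X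
  haveI := Groth.L10.isIso_H_ι (A := ModuleCat.{u} A) (q + 1) q (by lia) R
  let eR' : R₁ ≅ (DerivedCategory.singleFunctor (ModuleCat.{u} A) q).obj
      ((DerivedCategory.homologyFunctor (ModuleCat.{u} A) q).obj X) :=
    eR ≪≫ (DerivedCategory.singleFunctor _ q).mapIso
      (asIso ((DerivedCategory.homologyFunctor _ q).map ((DerivedCategory.TStructure.t.truncLTι (q + 1)).app R)) ≪≫
        (asIso ((DerivedCategory.homologyFunctor _ q).map ((DerivedCategory.TStructure.t.truncGEπ q).app X))).symm)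
  have hsingle : LZ p (Dual.inD A (Dual.HD A X q) ⟶ W⟦lo - q + q⟧) :=
    hR1.of_surjective ((Linear.homCongr A eR' (Iso.refl (W⟦lo - q⟧))).trans
      (singleHomEquiv W _ q (lo - q))).toLinearMap (LinearEquiv.surjective _)
  haveI := hfin q
  refine not_lz_hom W p (lo - 1) (lo - q + q) (by lia) (not_not.1 fun h : K (lo - 1) => ?_) ?_
    (Dual.HD A X q) (hkill q) ?_ hsingle
  · have := hlomin _ h; lia
  · rw [show lo - q + q = lo by lia]; exact hlo
  · exact fun h => hq (h.of_surjective (homologyEquiv κ I q).toLinearMap (LinearEquiv.surjective _))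

end Groth.L29.HomD
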