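import Groth.Agent.L29.Dual.Normalized
import Groth.Agent.L04.Matlis
import Mathlib.Algebra.Category.ModuleCat.Ext.Basic
import Mathlib.Algebra.Category.ModuleCat.EnoughInjectives
import Mathlib.Algebra.Homology.DerivedCategory.Ext.EnoughInjectives

/-!
Local duality over a Noetherian local ring, in the following form: for `X` bounded with finite cohomology the
pairing `colim_k Hom(A/m^k, X) → Hom_A(Hom(X, W), E)` is bijective.
-/

universe u

open CategoryTheory CategoryTheory.Limits CategoryTheory.Pretriangulated IsLocalRing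

attribute [local instance] HasDerivedCategory.standard

set_option backward.isDefEq.respectTransparency false

namespace Groth.L29.LocDual

variable {A : Type u} [CommRing A] [IsLocalRing A] [IsNoetherianRing A]

/-- `A/m^k` -/
abbrev Q (k : ℕ) : ModuleCat.{u} A := ModuleCat.of A (A ⧸ maximalIdeal A ^ k)

/-- `A/m^k` in the derived category -/
noncomputable abbrev P (A : Type u) [CommRing A] [IsLocalRing A] [IsNoetherianRing A] (k : ℕ) : Dual.D A :=
  (DerivedCategory.singleFunctor (ModuleCat.{u} A) 0).obj (Q k)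

/-- the projection `A/m^l → A/m^k` -/
def proj {k l : ℕ} (h : k ≤ l) : Q (A := A) l ⟶ Q k :=
  ModuleCat.ofHom (Submodule.factor (Ideal.pow_le_pow_right h))

/-- the projection in the derived category -/
noncomputable def res {k l : ℕ} (h : k ≤ l) : P A l ⟶ P A k :=
  (DerivedCategory.singleFunctor (ModuleCat.{u} A) 0).map (proj h)

lemma res_comp {k l n : ℕ} (h : k ≤ l) (h' : l ≤ n) :
    res (A := A) h' ≫ res h = res (h.trans h') := by
  rw [res, res, res, ← Functor.map_comp]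
  congr 1
  exact ModuleCat.hom_ext (Submodule.linearMap_qext _ rfl)

lemma res_refl (k : ℕ) : res (A := A) (le_refl k) = 𝟙 (P A k) := by
  rw [res, ← CategoryTheory.Functor.map_id]
  congr 1
  exact ModuleCat.hom_ext (Submodule.linearMap_qext _ rfl)

lemma smul_eq_zero_of_mem_pow {k : ℕ} {X : Dual.D A} {r : A} (hr : r ∈ maximalIdeal A ^ k)
    (x : P A k ⟶ X) : r • x = 0 := by
  have h : r • 𝟙 (Q (A := A) k) = 0 := by
    refine ModuleCat.hom_ext (Submodule.linearMap_qext _ (LinearMap.ext_ring ?_))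
    exact (Submodule.Quotient.mk_eq_zero _).2 (Ideal.mul_mem_right _ _ hr)
  calc r • x = (r • 𝟙 (P A k)) ≫ x := by rw [Linear.smul_comp, Category.id_comp]
    _ = 0 := by
      have := congrArg ((DerivedCategory.singleFunctor (ModuleCat.{u} A) 0).map) h
      rw [Functor.map_smul, Functor.map_zero, CategoryTheory.Functor.map_id] at this
      rw [this, zero_comp]

/-- the data of the pairing -/
structure Pairing (W : Dual.D A) (E : Type u) [AddCommGroup E] [Module A E] where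
  hull : ∃ f : ResidueField A →ₗ[A] E, InjHull.IsInjectiveHull f
  ev : ∀ k, (P A k ⟶ W) →ₗ[A] E
  ev_injective : ∀ k, Function.Injective (ev k)
  ev_surjective : ∀ (k : ℕ) (e : E), (∀ a ∈ maximalIdeal A ^ k, a • e = 0) → ∃ t, ev k t = e
  ev_res : ∀ {k l : ℕ} (h : k ≤ l) (t : P A k ⟶ W), ev l (res h ≫ t) = ev k t
  concentrated : ∀ (n : ℤ), n ≠ 0 → Subsingleton ((P A 1)⟦n⟧ ⟶ W)
  finite : ∀ (N : Type u) [AddCommGroup N] [Module A N] [Module.Finite A N] (n : ℤ),
    Module.Finite A ((Dual.inD A N)⟦n⟧ ⟶ W)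

variable {W : Dual.D A} {E : Type u} [AddCommGroup E] [Module A E] (S : Pairing W E)

/-- the pairing with an element of `Hom(A/m^k, X)` -/
noncomputable def pair (k : ℕ) (X : Dual.D A) : (P A k ⟶ X) →ₗ[A] ((X ⟶ W) →ₗ[A] E) where
  toFun x := (S.ev k).comp (Linear.leftComp A W x)
  map_add' x y := LinearMap.ext fun t => by simp
  map_smul' r x := LinearMap.ext fun t => by simp

lemma pair_apply {k : ℕ} {X : Dual.D A} (x : P A k ⟶ X) (t : X ⟶ W) :
    pair S k X x t = S.ev k (x ≫ t) := rfl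

lemma pair_res {k l : ℕ} (h : k ≤ l) {X : Dual.D A} (x : P A k ⟶ X) :
    pair S l X (res h ≫ x) = pair S k X x :=
  LinearMap.ext fun t => by rw [pair_apply, pair_apply, Category.assoc, S.ev_res]

lemma pair_comp {k : ℕ} {X Y : Dual.D A} (x : P A k ⟶ X) (f : X ⟶ Y) (t : Y ⟶ W) :
    pair S k Y (x ≫ f) t = pair S k X x (f ≫ t) := by
  rw [pair_apply, pair_apply, Category.assoc]

/-- injectivity in the colimit -/
def LInj (X : Dual.D A) : Prop :=
  ∀ (k : ℕ) (x : P A k ⟶ X), pair S k X x = 0 → ∃ (l : ℕ) (h : k ≤ l), res h ≫ x = 0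

/-- surjectivity from the colimit -/
def LSurj (X : Dual.D A) : Prop :=
  ∀ φ : (X ⟶ W) →ₗ[A] E, ∃ (k : ℕ) (x : P A k ⟶ X), pair S k X x = φ

/-- local duality for `X` -/
def LD (X : Dual.D A) : Prop := LInj S X ∧ LSurj S X

lemma LD.of_iso {X Y : Dual.D A} (e : X ≅ Y) (h : LD S X) : LD S Y := by
  refine ⟨fun k y hy => ?_, fun φ => ?_⟩
  · obtain ⟨l, hl, hl'⟩ := h.1 k (y ≫ e.inv) (LinearMap.ext fun t => by
      rw [pair_comp]; exact LinearMap.congr_fun hy _)
    exact ⟨l, hl, by rw [← cancel_mono e.inv, Category.assoc, hl', zero_comp]⟩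
  · obtain ⟨k, x, hx⟩ := h.2 (φ.comp (Linear.leftComp A W e.inv))
    refine ⟨k, x ≫ e.hom, LinearMap.ext fun t => ?_⟩
    rw [pair_comp, hx]
    exact congrArg φ (e.inv_hom_id_assoc t)

lemma LD.of_isZero {X : Dual.D A} (h : IsZero X) : LD S X :=
  ⟨fun k x _ => ⟨k, le_rfl, h.eq_of_tgt _ _⟩,
    fun φ => ⟨0, 0, LinearMap.ext fun t => by rw [h.eq_of_src t 0, map_zero, map_zero]⟩⟩

include S in
lemma isTorsion : LocCoh.IsPowerTorsion (maximalIdeal A) E :=
  have ⟨_, hf⟩ := S.hull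
  Groth.L04.hull_isPowerTorsion hf

include S in
lemma baer : Module.Baer A E :=
  have ⟨_, hf⟩ := S.hull
  Module.Baer.of_injective hf.isInjective

include S in
/-- a linear form vanishing on the kernel of `f^*` extends along it -/
lemma exists_extend {X Y : Dual.D A} (f : X ⟶ Y) (φ : (Y ⟶ W) →ₗ[A] E)
    (hφ : ∀ t : Y ⟶ W, f ≫ t = 0 → φ t = 0) :
    ∃ ψ : (X ⟶ W) →ₗ[A] E, ∀ t, ψ (f ≫ t) = φ t := by
  let L := Linear.leftComp A W f
  have hker : LinearMap.ker L ≤ LinearMap.ker φ := fun t ht => hφ t ht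
  obtain ⟨ψ, hψ⟩ := (baer S).extension_property (LinearMap.range L).subtype
    (Submodule.injective_subtype _)
    (((LinearMap.ker L).liftQ φ hker).comp L.quotKerEquivRange.symm.toLinearMap)
  refine ⟨ψ, fun t => ?_⟩
  refine (LinearMap.congr_fun hψ ⟨L t, LinearMap.mem_range_self L t⟩).trans ?_
  rw [LinearMap.comp_apply, LinearEquiv.coe_coe, L.quotKerEquivRange_symm_apply_image]
  rfl

section Triangle

variable (T : Triangle (Dual.D A)) (hT : T ∈ distTriang _)
include hT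

lemma surj_mid (h4 : LInj S (T.obj₁⟦(1 : ℤ)⟧)) (h3 : LSurj S T.obj₃) (h1 : LSurj S T.obj₁) :
    LSurj S T.obj₂ := by
  intro φ
  obtain ⟨k, z, hz⟩ := h3 (φ.comp (Linear.leftComp A W T.mor₂))
  obtain ⟨l, hl, hl0⟩ := h4 k (z ≫ T.mor₃) (LinearMap.ext fun t => by
    rw [pair_comp, hz]
    change φ (T.mor₂ ≫ T.mor₃ ≫ t) = 0
    rw [← Category.assoc, comp_distTriang_mor_zero₂₃ _ hT, zero_comp, map_zero])
  obtain ⟨x₀, hx⟩ := Triangle.coyoneda_exact₂ _ (rot_of_distTriang _ hT) (res hl ≫ z)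
    ((Category.assoc _ _ _).trans hl0)
  let x : P A l ⟶ T.obj₂ := x₀
  have hx' : res hl ≫ z = x ≫ T.mor₂ := hx
  obtain ⟨ψ, hψ⟩ := exists_extend S T.mor₁ (φ - pair S l _ x) fun t ht => by
    obtain ⟨s, rfl⟩ := Triangle.yoneda_exact₂ T hT t ht
    rw [LinearMap.sub_apply, ← pair_comp, ← hx', pair_res, hz, sub_eq_zero]
    rfl
  obtain ⟨m, y, hy⟩ := h1 ψ
  refine ⟨max l m, res (le_max_left l m) ≫ x + (res (le_max_right l m) ≫ y) ≫ T.mor₁,
    LinearMap.ext fun t => ?_⟩
  rw [map_add, LinearMap.add_apply, pair_res, pair_comp, pair_res, hy, hψ, LinearMap.sub_apply]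
  abel

lemma inj_mid (h0 : LSurj S T.invRotate.obj₁) (h1 : LInj S T.obj₁) (h3 : LInj S T.obj₃) :
    LInj S T.obj₂ := by
  intro k x hx
  obtain ⟨l, hl, hl0⟩ := h3 k (x ≫ T.mor₂) (LinearMap.ext fun t => by
    rw [pair_comp]; exact LinearMap.congr_fun hx _)
  obtain ⟨y, hy⟩ := Triangle.coyoneda_exact₂ T hT (res hl ≫ x) ((Category.assoc _ _ _).trans hl0)
  obtain ⟨ψ, hψ⟩ := exists_extend S T.invRotate.mor₁ (pair S l _ y) fun t ht => by
    obtain ⟨s, rfl⟩ := Triangle.yoneda_exact₂ _ (inv_rot_of_distTriang _ hT) t ht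
    change pair S l _ y (T.mor₁ ≫ s) = 0
    rw [← pair_comp, ← hy, pair_res]
    exact LinearMap.congr_fun hx s
  obtain ⟨m, z, hz⟩ := h0 ψ
  obtain ⟨n, hn, hn0⟩ := h1 (max l m)
    (res (le_max_left l m) ≫ y -
      ((res (le_max_right l m) ≫ z) ≫ T.invRotate.mor₁ : P A (max l m) ⟶ T.obj₁))
    (LinearMap.ext fun t => by
      rw [map_sub, LinearMap.sub_apply, pair_res, LinearMap.zero_apply, sub_eq_zero]
      exact (hψ t).symm.trans (by rw [← hz, pair_comp, pair_res]))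
  refine ⟨n, (hl.trans (le_max_left l m)).trans hn, ?_⟩
  rw [Preadditive.comp_sub, sub_eq_zero] at hn0
  rw [← res_comp (hl.trans (le_max_left l m)) hn, ← res_comp hl (le_max_left l m)]
  simp only [Category.assoc]
  rw [hy]
  have := congrArg (· ≫ T.mor₁) hn0
  simp only [Category.assoc] at this
  rw [this]
  have h0' : T.invRotate.mor₁ ≫ T.mor₁ = 0 :=
    comp_distTriang_mor_zero₁₂ _ (inv_rot_of_distTriang _ hT)
  simp only [h0', comp_zero]

lemma LD.second (h₁ : ∀ n : ℤ, LD S (T.obj₁⟦n⟧)) (h₃ : ∀ n : ℤ, LD S (T.obj₃⟦n⟧)) :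
    ∀ n : ℤ, LD S (T.obj₂⟦n⟧) := fun n => by
  have hTn := Triangle.shift_distinguished _ hT n
  refine ⟨inj_mid S _ hTn ?_ (h₁ n).1 (h₃ n).1, surj_mid S _ hTn ?_ (h₃ n).2 (h₁ n).2⟩
  · exact (LD.of_iso S ((shiftFunctorAdd' (Dual.D A) n (-1) (n - 1) rfl).app T.obj₃) (h₃ (n - 1))).2
  · exact (LD.of_iso S ((shiftFunctorAdd' (Dual.D A) n 1 (n + 1) rfl).app T.obj₁) (h₁ (n + 1))).1

end Triangle

/-- a finitely generated module of forms is killed by a power of the maximal ideal -/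
lemma exists_pow_kills {X : Dual.D A} [Module.Finite A (X ⟶ W)] (φ : (X ⟶ W) →ₗ[A] E)
    (S : Pairing W E) : ∃ k, ∀ a ∈ maximalIdeal A ^ k, a • φ = 0 := by
  obtain ⟨k, hk⟩ := Groth.L04.exists_pow_kills_of_fg (isTorsion S) (N := LinearMap.range φ)
    (Module.Finite.iff_fg.1 (Module.Finite.range φ))
  exact ⟨k, fun a ha => LinearMap.ext fun t => hk _ (LinearMap.mem_range_self φ t) a ha⟩

/-- multiplication by an element of the maximal ideal whose cone satisfies local duality -/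
lemma LD.of_smul_cone {Y Q' : ℤ → Dual.D A} (hfin : ∀ n, Module.Finite A (Y n ⟶ W))
    (c : ℤ → A) (hc : ∀ n, c n ∈ maximalIdeal A)
    (g : ∀ n, Y n ⟶ Q' n) (h : ∀ n, Q' n ⟶ (Y n)⟦(1 : ℤ)⟧)
    (hT : ∀ n, Triangle.mk (c n • 𝟙 (Y n)) (g n) (h n) ∈ distTriang _)
    (eY : ∀ n, (Y n)⟦(-1 : ℤ)⟧ ≅ Y (n - 1))
    (hQ : ∀ n, LD S (Q' n)) (hQ' : ∀ n, LD S ((Q' n)⟦(-1 : ℤ)⟧)) :
    ∀ n, LD S (Y n) := by
  have hsurj : ∀ n, LSurj S (Y n) := by
    intro n φ
    -- a form `ψ` with `c • ψ` realised is itself realised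
    have step : ∀ (ψ : (Y n ⟶ W) →ₗ[A] E) (k : ℕ) (y : P A k ⟶ Y n),
        pair S k _ y = c n • ψ → ∃ (l : ℕ) (y' : P A l ⟶ Y n), pair S l _ y' = ψ := by
      intro ψ k y hy
      let T := Triangle.mk (c n • 𝟙 (Y n)) (g n) (h n)
      have h12 : c n • g n = 0 := by
        have h' : (c n • 𝟙 (Y n)) ≫ g n = 0 := comp_distTriang_mor_zero₁₂ T (hT n)
        rwa [Linear.smul_comp, Category.id_comp] at h'
      obtain ⟨l, hl, hl0⟩ := (hQ n).1 k (y ≫ g n) (LinearMap.ext fun t => by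
        rw [pair_comp, hy]
        change c n • ψ (g n ≫ t) = 0
        rw [← map_smul, ← Linear.smul_comp, h12, zero_comp, map_zero])
      obtain ⟨y₀, hy₁⟩ := Triangle.coyoneda_exact₂ T (hT n) (res hl ≫ y)
        ((Category.assoc _ _ _).trans hl0)
      let y₁ : P A l ⟶ Y n := y₀
      have hy₁' : res hl ≫ y = c n • y₁ :=
        hy₁.trans ((Linear.comp_smul _ _ _ _ _ _).trans (congrArg _ (Category.comp_id y₁)))
      obtain ⟨ψ', hψ'⟩ := exists_extend S T.invRotate.mor₁ (ψ - pair S l _ y₁) fun t ht => by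
        obtain ⟨s, hs⟩ := Triangle.yoneda_exact₂ _ (inv_rot_of_distTriang _ (hT n)) t ht
        have hs' : t = c n • s := hs.trans ((Linear.smul_comp _ _ _ _ _ _).trans
          (congrArg _ (Category.id_comp s)))
        have h2 : c n • (ψ - pair S l _ y₁) = 0 := by
          rw [smul_sub, ← hy, ← map_smul, ← hy₁', pair_res, sub_self]
        rw [hs', map_smul]
        exact LinearMap.congr_fun h2 _
      obtain ⟨m, z, hz⟩ := (hQ' n).2 ψ'
      have hz' : pair S m T.invRotate.obj₁ z = ψ' := hz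
      refine ⟨max l m, res (le_max_left l m) ≫ y₁ +
          ((res (le_max_right l m) ≫ z) ≫ T.invRotate.mor₁ : P A (max l m) ⟶ Y n),
        LinearMap.ext fun t => ?_⟩
      rw [map_add, LinearMap.add_apply, pair_res, pair_comp, pair_res]
      erw [hz', hψ']
      exact add_sub_cancel _ _
    haveI := hfin n
    obtain ⟨k, hk⟩ := exists_pow_kills φ S
    suffices h : ∀ (j : ℕ) (ψ : (Y n ⟶ W) →ₗ[A] E), (c n) ^ j • ψ = 0 →
        ∃ (l : ℕ) (y : P A l ⟶ Y n), pair S l _ y = ψ from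
      h k φ (hk _ (Ideal.pow_mem_pow (hc n) k))
    intro j
    induction j with
    | zero => exact fun ψ h => ⟨0, 0, by rw [map_zero]; simpa using h.symm⟩
    | succ j ih =>
      intro ψ h
      obtain ⟨l, y, hy⟩ := ih (c n • ψ) (by rw [smul_smul, ← pow_succ, h])
      exact step ψ l y hy
  intro n
  refine ⟨?_, hsurj n⟩
  -- an element killed by `c` that pairs to zero dies
  have step' : ∀ (k : ℕ) (y : P A k ⟶ Y n), pair S k _ y = 0 → c n • y = 0 →
      ∃ (l : ℕ) (h : k ≤ l), res h ≫ y = 0 := by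
    intro k y hy hcy
    let T := Triangle.mk (c n • 𝟙 (Y n)) (g n) (h n)
    have hT' := inv_rot_of_distTriang _ (hT n)
    let δ : T.invRotate.obj₁ ⟶ Y n := T.invRotate.mor₁
    let γ : (Y n)⟦(-1 : ℤ)⟧ ⟶ T.invRotate.obj₁ := T.invRotate.invRotate.mor₁
    obtain ⟨z, hz⟩ := Triangle.coyoneda_exact₂ _ hT' y
      ((Linear.comp_smul _ _ _ _ _ _).trans ((congrArg _ (Category.comp_id y)).trans hcy))
    have hz' : y = z ≫ δ := hz
    obtain ⟨ψ, hψ⟩ := exists_extend S γ (pair S k _ z) fun t ht => by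
      obtain ⟨s, hs⟩ := Triangle.yoneda_exact₂ _ (inv_rot_of_distTriang _ hT') t ht
      have hs' : t = δ ≫ s := hs
      rw [hs', ← pair_comp, ← hz']
      exact LinearMap.congr_fun hy s
    obtain ⟨m, w, hw⟩ := hsurj (n - 1) (ψ.comp (Linear.leftComp A W (eY n).hom))
    let w' := w ≫ (eY n).inv
    have hw' : pair S m _ w' = ψ := LinearMap.ext fun t => by
      rw [pair_comp, hw]
      exact congrArg ψ (Iso.hom_inv_id_assoc _ t)
    obtain ⟨l, hl, hl0⟩ := (show LInj S T.invRotate.obj₁ from (hQ' n).1)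
      (max k m) (res (le_max_left k m) ≫ z - (res (le_max_right k m) ≫ w') ≫ γ)
      (LinearMap.ext fun t => by
        rw [map_sub, LinearMap.sub_apply, pair_res, LinearMap.zero_apply, sub_eq_zero, pair_comp,
          pair_res, hw', hψ])
    refine ⟨l, (le_max_left k m).trans hl, ?_⟩
    rw [Preadditive.comp_sub, sub_eq_zero] at hl0
    rw [← res_comp (le_max_left k m) hl, hz', Category.assoc, ← Category.assoc (res (le_max_left k m)),
      ← Category.assoc, hl0]
    have hg : γ ≫ δ = 0 := comp_distTriang_mor_zero₁₂ _ (inv_rot_of_distTriang _ hT')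
    simp only [Category.assoc, hg, comp_zero]
  intro k y hy
  suffices h : ∀ (j k : ℕ) (y : P A k ⟶ Y n), pair S k _ y = 0 → (c n) ^ j • y = 0 →
      ∃ (l : ℕ) (h : k ≤ l), res h ≫ y = 0 from
    h k k y hy (smul_eq_zero_of_mem_pow (Ideal.pow_mem_pow (hc n) k) y)
  intro j
  induction j with
  | zero => exact fun k y _ h => ⟨k, le_rfl, by rw [res_refl, Category.id_comp]; simpa using h⟩
  | succ j ih =>
    intro k y hy h
    obtain ⟨l, hl, hl0⟩ := ih k (c n • y) (by rw [map_smul, hy, smul_zero])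
      (by rw [smul_smul, ← pow_succ, h])
    obtain ⟨m, hm, hm0⟩ := step' l (res hl ≫ y) (by rw [pair_res, hy]) (by
      rw [← Linear.comp_smul, hl0])
    exact ⟨m, hl.trans hm, by rw [← res_comp hl hm, Category.assoc, hm0]⟩

end Groth.L29.LocDual
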