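import Groth.Agent.L29.Dual.LocalDuality

/-!
Local duality for finite modules, and the pairing attached to a normalized dualizing complex.
-/

universe u

open CategoryTheory CategoryTheory.Limits CategoryTheory.Pretriangulated IsLocalRing CategoryTheory.Abelian
open scoped Pointwise

attribute [local instance] HasDerivedCategory.standard

set_option backward.isDefEq.respectTransparency false

namespace Groth.L29.LocDual

variable {A : Type u} [CommRing A] [IsLocalRing A] [IsNoetherianRing A]

open Groth.L04 in
/-- higher `Ext` of `A/m^k` into torsion modules dies in the colimit -/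
lemma exists_proj_comp_eq_zero : ∀ (i : ℕ) (N : ModuleCat.{u} A),
    LocCoh.IsPowerTorsion (maximalIdeal A) N → ∀ (k : ℕ) (x : Ext (Q k) N (i + 1)),
    ∃ (l : ℕ) (h : k ≤ l), (Ext.mk₀ (proj h)).comp x (zero_add (i + 1)) = 0 := by
  intro i
  induction i with
  | zero =>
    intro N hN k x
    obtain ⟨⟨J, hJinj, emb, hemb⟩⟩ := EnoughInjectives.presentation N
    have hJ := Module.injective_module_of_injective_object A J
    let T := powTorsion (maximalIdeal A) J
    let f : N →ₗ[A] T := emb.hom.codRestrict T fun x => by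
      obtain ⟨n, hn⟩ := hN x
      exact mem_powTorsion.2 ⟨n, fun a ha => by rw [← map_smul, hn a ha, map_zero]⟩
    have hf : Function.Injective f := fun a b h =>
      (ModuleCat.mono_iff_injective emb).1 inferInstance (congrArg Subtype.val h)
    haveI : Module.Injective A T := injective_powTorsion hJ _
    haveI : Injective (ModuleCat.of A T) := Module.injective_object_of_injective_module A T
    let S := HomD.sc f (Submodule.mkQ (LinearMap.range f)) (LinearMap.exact_map_mkQ_range f)
    have hS : S.ShortExact := HomD.sc_shortExact _ _ hf (Submodule.mkQ_surjective _) _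
    haveI : Injective S.X₂ := ‹Injective (ModuleCat.of A T)›
    obtain ⟨x₃, hx₃⟩ := Ext.covariant_sequence_exact₁ (Q k) hS x (Ext.eq_zero_of_injective _) (zero_add 1)
    obtain ⟨c, rfl⟩ := (Ext.mk₀_bijective _ _).2 x₃
    obtain ⟨t, ht⟩ := Submodule.mkQ_surjective (LinearMap.range f) (c.hom (Submodule.Quotient.mk 1))
    obtain ⟨n, hn⟩ := isPowerTorsion_powTorsion (maximalIdeal A) J t
    refine ⟨max k n, le_max_left k n, ?_⟩
    let b : Q (max k n) ⟶ S.X₂ := ModuleCat.ofHom (Submodule.liftQ _ (LinearMap.toSpanSingleton A T t)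
      fun a ha => hn a (Ideal.pow_le_pow_right (le_max_right k n) ha))
    have hb : proj (le_max_left k n) ≫ c = b ≫ S.g := by
      refine ModuleCat.hom_ext (Submodule.linearMap_qext _ (LinearMap.ext_ring ?_))
      change c.hom (Submodule.Quotient.mk 1) = Submodule.mkQ (LinearMap.range f) ((1 : A) • t)
      rw [one_smul, ht]
    rw [← hx₃, ← Ext.comp_assoc_of_second_deg_zero, Ext.mk₀_comp_mk₀, hb, ← Ext.mk₀_comp_mk₀,
      Ext.comp_assoc_of_second_deg_zero, hS.comp_extClass, Ext.comp_zero]
  | succ i ih =>
    intro N hN k x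
    obtain ⟨⟨J, hJinj, emb, hemb⟩⟩ := EnoughInjectives.presentation N
    have hJ := Module.injective_module_of_injective_object A J
    let T := powTorsion (maximalIdeal A) J
    let f : N →ₗ[A] T := emb.hom.codRestrict T fun x => by
      obtain ⟨n, hn⟩ := hN x
      exact mem_powTorsion.2 ⟨n, fun a ha => by rw [← map_smul, hn a ha, map_zero]⟩
    have hf : Function.Injective f := fun a b h =>
      (ModuleCat.mono_iff_injective emb).1 inferInstance (congrArg Subtype.val h)
    haveI : Module.Injective A T := injective_powTorsion hJ _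
    haveI : Injective (ModuleCat.of A T) := Module.injective_object_of_injective_module A T
    let S := HomD.sc f (Submodule.mkQ (LinearMap.range f)) (LinearMap.exact_map_mkQ_range f)
    have hS : S.ShortExact := HomD.sc_shortExact _ _ hf (Submodule.mkQ_surjective _) _
    haveI : Injective S.X₂ := ‹Injective (ModuleCat.of A T)›
    obtain ⟨x₃, hx₃⟩ := Ext.covariant_sequence_exact₁ (Q k) hS x (Ext.eq_zero_of_injective _) rfl
    have hC : LocCoh.IsPowerTorsion (maximalIdeal A) S.X₃ := fun m => by
      obtain ⟨t, rfl⟩ := Submodule.mkQ_surjective (LinearMap.range f) m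
      obtain ⟨n, hn⟩ := isPowerTorsion_powTorsion (maximalIdeal A) J t
      exact ⟨n, fun a ha => (map_smul (LinearMap.range f).mkQ a t).symm.trans
        ((congrArg _ (hn a ha)).trans (map_zero _))⟩
    obtain ⟨l, hl, hl0⟩ := ih S.X₃ hC k x₃
    refine ⟨l, hl, ?_⟩
    rw [← hx₃, ← Ext.comp_assoc _ _ _ (zero_add (i + 1)) rfl (by omega), hl0, Ext.zero_comp]

variable {W : Dual.D A} {E : Type u} [AddCommGroup E] [Module A E] (S : Pairing W E)

omit [IsLocalRing A] [IsNoetherianRing A] in
lemma subsingleton_single_neg (M N : ModuleCat.{u} A) (j : ℤ) (hj : j < 0) :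
    Subsingleton ((DerivedCategory.singleFunctor (ModuleCat.{u} A) 0).obj M ⟶
      ((DerivedCategory.singleFunctor (ModuleCat.{u} A) 0).obj N)⟦j⟧) := by
  haveI : (((DerivedCategory.singleFunctor (ModuleCat.{u} A) 0).obj N)⟦j⟧ : Dual.D A).IsGE (0 - j) :=
    DerivedCategory.TStructure.t.isGE_shift _ 0 j (0 - j) (by lia)
  exact subsingleton_of_forall_eq 0 fun f =>
    DerivedCategory.TStructure.t.zero_of_isLE_of_isGE f 0 (0 - j) (by lia) inferInstance inferInstance

lemma killed_ev {k : ℕ} (t : P A k ⟶ W) {a : A} (ha : a ∈ maximalIdeal A ^ k) :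
    a • S.ev k t = 0 := by rw [← map_smul, smul_eq_zero_of_mem_pow ha, map_zero]

/-- local duality for the residue field and its shifts -/
lemma LD.residue (n : ℤ) : LD S ((P A 1)⟦n⟧) := by
  rcases eq_or_ne n 0 with rfl | hn
  · refine LD.of_iso S ((shiftFunctorZero (Dual.D A) ℤ).app (P A 1)).symm ?_
    obtain ⟨f, hf⟩ := S.hull
    obtain ⟨t₀, ht₀⟩ := S.ev_surjective 1 (f 1) fun a ha => by
      rw [← map_smul, Groth.L04.smul_residueField_eq_zero (by simpa using ha), map_zero]
    constructor
    · intro k x hx
      refine ⟨max k 1, le_max_left k 1, ?_⟩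
      obtain ⟨g, hg⟩ := (DerivedCategory.singleFunctor (ModuleCat.{u} A) 0).map_surjective
        (res (le_max_left k 1) ≫ x)
      obtain ⟨r, hr⟩ := Submodule.Quotient.mk_surjective _ (g.hom (Submodule.Quotient.mk 1))
      have hgr : g = r • proj (le_max_right k 1) := by
        refine ModuleCat.hom_ext (Submodule.linearMap_qext _ (LinearMap.ext_ring ?_))
        change g.hom (Submodule.Quotient.mk 1) = r • (Submodule.Quotient.mk 1 : A ⧸ maximalIdeal A ^ 1)
        rw [← hr, ← Submodule.Quotient.mk_smul, smul_eq_mul, mul_one]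
      have hx' : res (le_max_left k 1) ≫ x = r • res (le_max_right k 1) := by
        rw [← hg, hgr, Functor.map_smul]
        rfl
      have h0 : r • f 1 = 0 := by
        have := LinearMap.congr_fun (pair_res S (le_max_left k 1) x) t₀
        rw [hx, hx', pair_apply, Linear.smul_comp, map_smul, S.ev_res, ht₀] at this
        exact this
      have hrm : r ∈ maximalIdeal A := by
        by_contra h
        obtain ⟨u, rfl⟩ := not_not.1 (fun h' => h ((mem_maximalIdeal r).2 h'))
        exact Groth.L04.hull_one_ne_zero hf ((smul_eq_zero_iff_eq u).1 h0)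
      rw [hx']
      have h1 : r • 𝟙 (P A 1) = 0 := smul_eq_zero_of_mem_pow (by simpa using hrm) _
      calc r • res (A := A) (le_max_right k 1) = res (le_max_right k 1) ≫ (r • 𝟙 (P A 1)) := by
            rw [Linear.comp_smul, Category.comp_id]
        _ = 0 := by rw [h1, comp_zero]
    · intro φ
      obtain ⟨r₀, hr₀⟩ := Groth.L04.exists_smul_of_killed hf (x := φ t₀) fun a ha => by
        rw [← map_smul, smul_eq_zero_of_mem_pow (k := 1) (by simpa using ha), map_zero]
      refine ⟨1, r₀ • 𝟙 (P A 1), LinearMap.ext fun t => ?_⟩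
      obtain ⟨r, hr⟩ := Groth.L04.exists_smul_of_killed hf (x := S.ev 1 t) fun a ha =>
        killed_ev S t (by simpa using ha)
      have ht : t = r • t₀ := S.ev_injective 1 (by rw [map_smul, ht₀, hr])
      rw [pair_apply, Linear.smul_comp, Category.id_comp, ht, map_smul, map_smul, map_smul, ht₀, hr₀,
        smul_comm]
  · haveI := S.concentrated n hn
    refine ⟨fun k x _ => ?_, fun φ => ⟨0, 0, LinearMap.ext fun t => by
      rw [Subsingleton.elim t 0, map_zero, map_zero]⟩⟩
    rcases lt_or_gt_of_ne hn with h | h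
    · exact ⟨k, le_rfl, (subsingleton_single_neg _ _ n h).elim _ _⟩
    · obtain ⟨i, rfl⟩ : ∃ i : ℕ, n = ((i + 1 : ℕ) : ℤ) := ⟨(n - 1).toNat, by lia⟩
      obtain ⟨l, hl, hl0⟩ := exists_proj_comp_eq_zero i (Q (A := A) 1)
        (fun m => ⟨1, fun a ha => by
          obtain ⟨m, rfl⟩ := Submodule.Quotient.mk_surjective _ m
          exact (Submodule.Quotient.mk_eq_zero _).2 (Ideal.mul_mem_right _ _ ha)⟩)
        k (Ext.homEquiv.symm x)
      refine ⟨l, hl, ?_⟩
      rw [← Ext.homEquiv.apply_symm_apply x]
      exact (Ext.singleFunctor_map_comp_hom (proj hl) (Ext.homEquiv.symm x)).trans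
        ((congrArg Ext.hom hl0).trans (Ext.zero_hom _ _ _))

/-- local duality for finite modules and their shifts -/
theorem LD.finite : ∀ (d : ℕ) (M : Type u) [AddCommGroup M] [Module A M] [Module.Finite A M],
    Module.supportDim A M ≤ (d : WithBot ℕ∞) → ∀ n : ℤ, LD S ((Dual.inD A M)⟦n⟧) := by
  intro d
  induction d using Nat.strong_induction_on with
  | _ d ih =>
    intro M _ _ _ hM
    refine IsNoetherianRing.induction_on_isQuotientEquivQuotientPrime A ‹Module.Finite A M›
      (motive := fun N _ _ _ => Module.supportDim A N ≤ (d : WithBot ℕ∞) →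
        ∀ n : ℤ, LD S ((Dual.inD A N)⟦n⟧)) ?_ ?_ ?_ hM
    · intro N _ _ _ _ _ n
      exact LD.of_isZero S ((shiftFunctor (Dual.D A) n).map_isZero
        ((DerivedCategory.singleFunctor (ModuleCat.{u} A) 0).map_isZero (ModuleCat.isZero_of_subsingleton _)))
    · intro N _ _ _ p e hN n
      by_cases hp : p.1 = maximalIdeal A
      · refine LD.of_iso S ((shiftFunctor (Dual.D A) n).mapIso
          ((DerivedCategory.singleFunctor (ModuleCat.{u} A) 0).mapIso
            (e ≪≫ₗ Submodule.quotEquivOfEq _ _ (by rw [hp, pow_one])).symm.toModuleIso)) (LD.residue S n)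
      obtain ⟨x, hxm, hxp⟩ : ∃ x ∈ maximalIdeal A, x ∉ p.1 := by
        by_contra! h
        exact hp (le_antisymm (le_maximalIdeal p.2.ne_top) h)
      have hreg : IsSMulRegular N x := by
        intro y z hyz
        refine e.injective ?_
        obtain ⟨c, hc⟩ := Ideal.Quotient.mk_surjective (e y)
        obtain ⟨c', hc'⟩ := Ideal.Quotient.mk_surjective (e z)
        have h2 := congrArg e hyz
        simp only [map_smul, ← hc, ← hc'] at h2
        rw [← hc, ← hc', Ideal.Quotient.eq]
        have h3 : x * c - x * c' ∈ p.1 := Ideal.Quotient.eq.1 h2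
        rw [← mul_sub] at h3
        exact (p.2.mem_or_mem h3).resolve_left hxp
      haveI : Nontrivial N :=
        haveI := Ideal.Quotient.nontrivial_iff.2 p.2.ne_top
        e.toEquiv.nontrivial
      have hdim := Module.supportDim_quotSMulTop_succ_eq_supportDim hreg hxm
      obtain ⟨d', hd, hd'⟩ : ∃ d', d' < d ∧
          Module.supportDim A (QuotSMulTop x N) ≤ (d' : WithBot ℕ∞) := by
        have hle := hN
        rw [← hdim] at hle
        have hne : Module.supportDim A (QuotSMulTop x N) ≠ ⊥ := by
          intro h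
          rw [h, WithBot.bot_add] at hdim
          exact Module.supportDim_ne_bot_of_nontrivial A N hdim.symm
        revert hle hne
        generalize Module.supportDim A (QuotSMulTop x N) = s
        intro hle hne
        obtain ⟨s, rfl⟩ := WithBot.ne_bot_iff_exists.1 hne
        have hle' : s + 1 ≤ (d : ℕ∞) := WithBot.coe_le_coe.1 hle
        obtain ⟨k, rfl⟩ := ENat.ne_top_iff_exists.1 (show s ≠ ⊤ by
          rintro rfl; simp at hle')
        have : k + 1 ≤ d := by exact_mod_cast hle'
        exact ⟨d - 1, by lia, WithBot.coe_le_coe.2 (Nat.cast_le.2 (show k ≤ d - 1 by lia))⟩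
      have hQ := ih d' hd (QuotSMulTop x N) hd'
      let Sq := HomD.sc (x • (LinearMap.id : N →ₗ[A] N)) (Submodule.mkQ (x • ⊤ : Submodule A N))
        (HomD.exact_smul x)
      have hS : Sq.ShortExact :=
        HomD.sc_shortExact _ _ (fun a b h => hreg h) (Submodule.mkQ_surjective _) _
      let c : ℤ → A := fun m => ((m.negOnePow : ℤ) : A) * x
      have hmor : ∀ m : ℤ,
          ((Triangle.shiftFunctor (Dual.D A) m).obj hS.singleTriangle).mor₁ =
            c m • 𝟙 ((Dual.inD A N)⟦m⟧) := by
        intro m
        change m.negOnePow • ((DerivedCategory.singleFunctor (ModuleCat.{u} A) 0).map Sq.f)⟦m⟧' = _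
        have hf' : ((DerivedCategory.singleFunctor (ModuleCat.{u} A) 0).map Sq.f :
            Dual.inD A N ⟶ Dual.inD A N) = x • 𝟙 (Dual.inD A N) := by
          change (DerivedCategory.singleFunctor (ModuleCat.{u} A) 0).map (x • 𝟙 (ModuleCat.of A N)) = _
          rw [Functor.map_smul, CategoryTheory.Functor.map_id]
        have h2 : ∀ φ : Dual.inD A N ⟶ Dual.inD A N, φ = x • 𝟙 (Dual.inD A N) →
            m.negOnePow • (shiftFunctor (Dual.D A) m).map φ = c m • 𝟙 ((Dual.inD A N)⟦m⟧) := by
          rintro φ rfl
          rw [Functor.map_smul, CategoryTheory.Functor.map_id, Units.smul_def, ← Int.cast_smul_eq_zsmul A,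
            smul_smul]
        exact h2 _ hf'
      have hfin : ∀ m, Module.Finite A ((Dual.inD A N)⟦m⟧ ⟶ W) := fun m => S.finite N m
      refine LD.of_smul_cone S (Y := fun m => (Dual.inD A N)⟦m⟧)
        (Q' := fun m => (Dual.inD A (QuotSMulTop x N))⟦m⟧) hfin c
        (fun m => Ideal.mul_mem_left _ _ hxm)
        (fun m => ((Triangle.shiftFunctor (Dual.D A) m).obj hS.singleTriangle).mor₂)
        (fun m => ((Triangle.shiftFunctor (Dual.D A) m).obj hS.singleTriangle).mor₃)
        (fun m => ?_) (fun m => ((shiftFunctorAdd' (Dual.D A) m (-1) (m - 1) rfl).app _).symm)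
        (fun m => hQ m)
        (fun m => LD.of_iso S ((shiftFunctorAdd' (Dual.D A) m (-1) (m - 1) rfl).app _) (hQ (m - 1))) n
      rw [← hmor m]
      exact Triangle.shift_distinguished _ hS.singleTriangle_distinguished m
    · intro N₁ _ _ _ N₂ _ _ _ N₃ _ _ _ f g hf hg hfg h₁ h₃ hN
      exact LD.second S _ (HomD.sc_shortExact f g hf hg hfg).singleTriangle_distinguished
        (h₁ ((Module.supportDim_le_of_injective f hf).trans hN))
        (h₃ ((Module.supportDim_le_of_surjective g hg).trans hN))

end Groth.L29.LocDual
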