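import Groth.Agent.S7879
import Groth.Agent.S7877
import Groth.Agent.S1561
import Groth.Agent.L07.RefExtend.Coh
import Groth.Agent.L06.NormalAscent
import Groth.Agent.L16.SmoothSection.Dim
import Groth.Agent.L03.BlowPt.DetCongr
import Groth.Agent.L22.Adjunction.DetLine
import Groth.Agent.L22.PDual.ExtSheafHom
import Groth.Agent.L21.Weil.Dual
import Groth.Agent.L21.Curve.NormalConnected
import Groth.Agent.L10.ShriekLoc.Field
import Groth.Agent.L10.ShriekLoc.Dualizing
import Groth.Agent.L10.ShriekLoc.FieldDual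
import Groth.Agent.L10.ShriekLoc.OmegaAmp
import Groth.Agent.L29.Dual.SchUnique
import Groth.Agent.L29.DCoh.Amplitude
import Groth.Agent.L15.Ref.ExtPow
import Groth.Agent.L20.ExtPull
import Groth.Agent.L03.ShStab.Rank2Kernel
import Groth.Agent.L12.FinCov.Frame
import Groth.Agent.L15.OmegaCoh
import Groth.Agent.L15.Ref.Reflexive
import Groth.Agent.L22.SchemeDim
import Groth.Agent.L17.BC.Effaced
import Groth.Agent.S1811
import Groth.Agent.S3611

/-!
The dualizing sheaf of a normal variety is the reflexive hull of the top differential forms.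
-/

set_option autoImplicit false
set_option backward.defeqAttrib.useBackward true
set_option backward.isDefEq.respectTransparency false
set_option backward.isDefEq.respectTransparency.types false
set_option linter.style.haveILetI false

universe u

attribute [local instance] HasDerivedCategory.standard

open CategoryTheory CategoryTheory.Limits AlgebraicGeometry

noncomputable section

namespace Groth.L29.NormalDual

open Groth.L29.DC

variable {X : Scheme.{u}}

/-- the double dual through internal Hom -/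
theorem nonempty_bidual_iso (W : X.Modules) [DCoh.HasSheafHom W]
    [DCoh.HasSheafHom ((DCoh.sheafHom W).obj (Coh.structureModule X))] :
    Nonempty ((DCoh.sheafHom ((DCoh.sheafHom W).obj (Coh.structureModule X))).obj (Coh.structureModule X) ≅
      RefHull.ddual W) := by
  have h : ∀ (M : X.Modules) [DCoh.HasSheafHom M],
      Nonempty ((DCoh.sheafHom M).obj (Coh.structureModule X) ≅ RefHull.dual M) := fun M _ => by
    haveI := Groth.L17.Duality.hasSheafHom M
    exact ⟨(Groth.L22.PDual.homIso M).app _ ≪≫ (Groth.L21.Weil.DIso M).symm ≪≫ (Groth.L21.Weil.refDualIso M).symm⟩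
  obtain ⟨e⟩ := h W
  haveI := Groth.L00.Tensor.dcoh_hasSheafHom (RefHull.dual W)
  obtain ⟨e'⟩ := h (RefHull.dual W)
  exact ⟨((DCoh.sheafHomAdj ((DCoh.sheafHom W).obj (Coh.structureModule X))).rightAdjointUniq
    ((DCoh.sheafHomAdj (RefHull.dual W)).ofNatIsoLeft ((DCoh.tensorBi (X := X)).mapIso e).symm)).app _ ≪≫ e'⟩

open Groth.L21.Extend (SupportedOn) in
/-- modules supported on an open are determined by their restriction -/
theorem nonempty_iso_of_restrict {U : X.Opens} {M N : X.Modules} (hM : SupportedOn M U) (hN : SupportedOn N U)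
    (e : M.restrict U.ι ≅ N.restrict U.ι) : Nonempty (M ≅ N) := by
  haveI := Groth.L14.ParaF.isIso_unit U.ι (M := M) (by rwa [Scheme.Opens.opensRange_ι])
  haveI := Groth.L14.ParaF.isIso_unit U.ι (M := N) (by rwa [Scheme.Opens.opensRange_ι])
  exact ⟨asIso ((Scheme.Modules.restrictAdjunction U.ι).unit.app M) ≪≫
    (Scheme.Modules.pushforward U.ι).mapIso e ≪≫
    (asIso ((Scheme.Modules.restrictAdjunction U.ι).unit.app N)).symm⟩

variable {k : Type u} [Field k]

theorem isDualizingSch_field (k : Type u) [Field k]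
    [∀ (U : Scheme.{u}) (j : U ⟶ Spec (CommRingCat.of k)) [IsOpenImmersion j],
      PreservesFiniteLimits (Scheme.Modules.restrictFunctor j)]
    [∀ (R : CommRingCat.{u}), PreservesFiniteLimits (tilde.functor R)]
    (O : DCoh.DQCoh (Spec (CommRingCat.of k)))
    (hO : Nonempty (O.obj ≅ DCoh.inD (Spec (CommRingCat.of k)) (Coh.structureModule (Spec (CommRingCat.of k))))) :
    Dual2.IsDualizingSch (Spec (CommRingCat.of k)) O.obj := by
  obtain ⟨o⟩ := hO
  refine Groth.L29.SchCharts.isDualizingSch_of_cover fun x => ?_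
  haveI : (tilde.functor (CommRingCat.of k)).IsLeftAdjoint := tilde.adjunction.isLeftAdjoint
  haveI := Groth.L00.KFlat.hasLpull (𝟙 (Spec (CommRingCat.of k)))
  obtain ⟨l⟩ := Groth.L10.FMDiag.nonempty_Lpull_id (X := Spec (CommRingCat.of k))
  obtain ⟨r⟩ := Groth.L29.DC.nonempty_Lpull_iso_restrictD (𝟙 (Spec (CommRingCat.of k))) O.obj
  exact ⟨CommRingCat.of k, 𝟙 _, inferInstance, Dual.inD k k, by simp, (Groth.L10.ShriekLoc.isDualizing_field k).1,
    ⟨r.symm ≪≫ l.app _ ≪≫ o ≪≫ ((((tilde.functor (CommRingCat.of k)).mapDerivedCategorySingleFunctor 0).app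
      (ModuleCat.of k k)) ≪≫
      (DerivedCategory.singleFunctor (Spec (CommRingCat.of k)).Modules 0).mapIso tildeSelf).symm⟩⟩

theorem localFibreDim_le {S : Scheme.{u}} (p : X ⟶ S) (x : X) {n : WithBot ℕ∞} (h : topologicalKrullDim X ≤ n) :
    Dual3.localFibreDim p x ≤ n := by
  refine (iInf₂_le (⊤ : (p.fiber (p x)).Opens) trivial).trans (le_trans ?_ h)
  exact ((p.fiberι (p x)).isEmbedding.comp Topology.IsEmbedding.subtypeVal).isInducing.topologicalKrullDim_le

theorem not_isZero_structureModule (V : Scheme.{u}) [Nonempty V] : ¬ IsZero (Coh.structureModule V) := fun h => by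
  haveI : Subsingleton Γ(Coh.structureModule V, ⊤) := Groth.L17.BC.Effaced.subsingleton_of_isZero h ⊤
  haveI : Subsingleton Γ(V, ⊤) := (inferInstance : Subsingleton Γ(Coh.structureModule V, ⊤))
  haveI : Nonempty ↥(⊤ : V.Opens) := ⟨⟨Classical.arbitrary V, trivial⟩⟩
  exact one_ne_zero (α := Γ(V, ⊤)) (Subsingleton.elim _ _)

theorem isReflexiveAt_of_invertible [IsIntegral X] [IsLocallyNoetherian X] {U : X.Opens} [IsIntegral (U : Scheme.{u})]
    {M : X.Modules} {L : (U : Scheme.{u}).Modules} (e : M.restrict U.ι ≅ L) (hL : PicF.IsInvertible L) (y : X)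
    (hy : y ∈ U) : RefHull.IsReflexiveAt M y := by
  have h1 : RefHull.IsReflexiveAt L ⟨y, hy⟩ := by
    obtain ⟨b⟩ := Groth.L03.ShStab.RankOneEndo.exists_basis
      (Groth.L12.FinCov.isFinLocFreeOfRank_one_of_isInvertible hL) ⟨y, hy⟩
    haveI := Module.Free.of_basis b
    haveI := Module.Finite.of_basis b
    exact (inferInstance : Module.IsReflexive ((U : Scheme.{u}).presheaf.stalk ⟨y, hy⟩) (L.presheaf.stalk ⟨y, hy⟩))
  exact (Groth.L07.RefExtend.isReflexiveAt_restrict_iff U.ι M ⟨y, hy⟩).1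
    ((Groth.L07.RefExtend.isReflexiveAt_congr e.hom _
      (Groth.L07.RefExtend.stalkMapₗ_bijective_of_isIso e.hom _)).2 h1)

theorem nonempty_restrict_HD [IsIntegral X] (p : X ⟶ Spec (CommRingCat.of k)) [Dual3.IsSepFT p] (U : X.Opens)
    [Smooth (U.ι ≫ p)] (hne : (U : Set X).Nonempty) (n : ℕ) (hdim : topologicalKrullDim X = (n : WithBot ℕ∞))
    (c : DEt.Compactification p) [DCoh.HasRpush c.fbar] (hc : DCoh.RpushPreservesQCoh c.fbar)
    (a : DCoh.DQCoh (Spec (CommRingCat.of k)) ⥤ DCoh.DQCoh c.Xbar) (adj : DCoh.RpushQ c.fbar hc ⊣ a)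
    [∀ (U V : Scheme.{u}) (j : U ⟶ V) [IsOpenImmersion j], PreservesFiniteLimits (Scheme.Modules.restrictFunctor j)]
    (O : DCoh.DQCoh (Spec (CommRingCat.of k)))
    (hO : Nonempty (O.obj ≅ DCoh.inD (Spec (CommRingCat.of k)) (Coh.structureModule (Spec (CommRingCat.of k)))))
    (L : (U : Scheme.{u}).Modules) (hL : ExtPow.IsExtPow n (Omega.sheaf (U.ι ≫ p)) L) :
    Nonempty ((DCoh.HD ((Dual3.shriekC c a).obj O) (-(n : ℤ))).restrict U.ι ≅ L) := by
  haveI : IsSeparated p := Dual3.IsSepFT.isSeparated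
  haveI : QuasiCompact p := Dual3.IsSepFT.quasiCompact
  haveI : LocallyOfFiniteType p := Dual3.IsSepFT.locallyOfFiniteType
  haveI : IsLocallyNoetherian X := LocallyOfFiniteType.isLocallyNoetherian p
  haveI : CompactSpace X := QuasiCompact.compactSpace_of_compactSpace p
  haveI : IsNoetherian X := {}
  letI : X.Over (Spec (CommRingCat.of k)) := ⟨p⟩
  haveI : LocallyOfFiniteType (X ↘ Spec (CommRingCat.of k)) := ‹LocallyOfFiniteType p›
  haveI : Nonempty ↥(U : Scheme.{u}) := hne.to_subtype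
  haveI : IsIntegral (U : Scheme.{u}) := isIntegral_of_isOpenImmersion U.ι
  haveI : IsLocallyNoetherian (U : Scheme.{u}) := isLocallyNoetherian_of_isOpenImmersion U.ι
  haveI : CompactSpace ↥(U : Scheme.{u}) :=
    isCompact_iff_compactSpace.1 (TopologicalSpace.NoetherianSpace.isCompact (U : Set X))
  haveI : IsNoetherian (U : Scheme.{u}) := {}
  obtain ⟨m, hm, -, hmU⟩ := Groth.L22.SchemeDim.exists_dim_eq_trdeg k X
  have hUdim : topologicalKrullDim (U : Scheme.{u}) = n := by
    rw [hdim] at hm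
    exact (hmU U hne).trans hm.symm
  haveI : SmoothOfRelativeDimension n (U.ι ≫ p) :=
    Groth.L16.SmoothSection.smoothOfRelativeDimension_dim (U.ι ≫ p) n hUdim
  haveI : IsNoetherian (Spec (CommRingCat.of k)) := inferInstance
  haveI : IsProper c.fbar := c.isProper
  haveI : IsOpenImmersion c.j := c.isOpenImmersion
  let c' : DEt.Compactification (U.ι ≫ p) :=
    ⟨c.Xbar, U.ι ≫ c.j, c.fbar, inferInstance, c.isProper, by rw [Category.assoc, c.fac]⟩
  haveI : Dual3.IsSepFT (U.ι ≫ p) := ⟨inferInstance, inferInstance, inferInstance⟩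
  obtain ⟨e⟩ := Groth.Agent.S7879.result (Spec (CommRingCat.of k)) (U : Scheme.{u}) n (U.ι ≫ p) c' hc a adj O hO L hL
  let eK : (DCoh.restrictD U.ι).obj ((Dual3.shriekC c a).obj O) ≅ (DCoh.inD (U : Scheme.{u}) L)⟦(n : ℤ)⟧ :=
    (resTransD c.j U.ι (U.ι ≫ c.j) rfl).app _ ≪≫ e
  exact ⟨(HDResIso U.ι _ (-(n : ℤ))).symm ≪≫ (DerivedCategory.homologyFunctor _ (-(n : ℤ))).mapIso eK ≪≫
    ((DerivedCategory.homologyFunctor (U : Scheme.{u}).Modules 0).shiftIso (n : ℤ) (-(n : ℤ)) 0 (by omega)).app _ ≪≫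
    (DerivedCategory.singleFunctorCompHomologyFunctorIso (U : Scheme.{u}).Modules 0).app L⟩

theorem main [PerfectField k] (p : X ⟶ Spec (CommRingCat.of k)) [Dual3.IsSepFT p] [ConnectedSpace X]
    (hX : Pi1.IsNormalScheme X) (n : ℕ) (hdim : topologicalKrullDim X = (n : WithBot ℕ∞))
    (c : DEt.Compactification p) [DCoh.HasRpush c.fbar] (hc : DCoh.RpushPreservesQCoh c.fbar)
    (a : DCoh.DQCoh (Spec (CommRingCat.of k)) ⥤ DCoh.DQCoh c.Xbar) (adj : DCoh.RpushQ c.fbar hc ⊣ a)
    [∀ (U V : Scheme.{u}) (j : U ⟶ V) [IsOpenImmersion j], PreservesFiniteLimits (Scheme.Modules.restrictFunctor j)]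
    (O : DCoh.DQCoh (Spec (CommRingCat.of k)))
    (hO : Nonempty (O.obj ≅ DCoh.inD (Spec (CommRingCat.of k)) (Coh.structureModule (Spec (CommRingCat.of k)))))
    (W : X.Modules) (hW : ExtPow.IsExtPow n (Omega.sheaf p) W) :
    Nonempty (DCoh.HD ((Dual3.shriekC c a).obj O) (-(n : ℤ)) ≅ RefHull.ddual W) := by
  haveI : IsSeparated p := Dual3.IsSepFT.isSeparated
  haveI : QuasiCompact p := Dual3.IsSepFT.quasiCompact
  haveI : LocallyOfFiniteType p := Dual3.IsSepFT.locallyOfFiniteType
  haveI : IsLocallyNoetherian X := LocallyOfFiniteType.isLocallyNoetherian p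
  haveI : CompactSpace X := QuasiCompact.compactSpace_of_compactSpace p
  haveI : IsNoetherian X := {}
  haveI : IsIntegral X := Groth.L21.NormalTotal.isIntegral_of_connected fun x => (hX x).1
  haveI : LocallyOfFinitePresentation p := LocallyOfFinitePresentation.iff_locallyOfFiniteType.mpr inferInstance
  letI : X.Over (Spec (CommRingCat.of k)) := ⟨p⟩
  haveI : LocallyOfFinitePresentation (X ↘ Spec (CommRingCat.of k)) := ‹LocallyOfFinitePresentation p›
  haveI : LocallyOfFiniteType (X ↘ Spec (CommRingCat.of k)) := ‹LocallyOfFiniteType p›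
  -- the smooth locus
  let U : X.Opens := p.smoothLocus
  obtain ⟨hreg, hdense⟩ := Groth.Agent.S1561.result k X
  haveI : Smooth (U.ι ≫ p) := by
    rw [← Scheme.Hom.smoothLocus_eq_top_iff, ← Scheme.Hom.preimage_smoothLocus_eq]
    ext z
    exact iff_of_true z.2 trivial
  have hne : (U : Set X).Nonempty := hdense.nonempty
  haveI : Nonempty ↥(U : Scheme.{u}) := hne.to_subtype
  haveI : IsIntegral (U : Scheme.{u}) := isIntegral_of_isOpenImmersion U.ι
  haveI : IsLocallyNoetherian (U : Scheme.{u}) := isLocallyNoetherian_of_isOpenImmersion U.ι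
  haveI : CompactSpace ↥(U : Scheme.{u}) :=
    isCompact_iff_compactSpace.1 (TopologicalSpace.NoetherianSpace.isCompact (U : Set X))
  haveI : IsNoetherian (U : Scheme.{u}) := {}
  obtain ⟨m, hm, -, hmU⟩ := Groth.L22.SchemeDim.exists_dim_eq_trdeg k X
  have hUdim : topologicalKrullDim (U : Scheme.{u}) = n := by
    rw [hdim] at hm
    exact (hmU U hne).trans hm.symm
  haveI : SmoothOfRelativeDimension n (U.ι ≫ p) :=
    Groth.L16.SmoothSection.smoothOfRelativeDimension_dim (U.ι ≫ p) n hUdim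
  have hdepth : ∀ x : X, x ∉ U → (2 : ℕ∞) ≤ LocCoh.depth (X.presheaf.stalk x) (X.presheaf.stalk x) := fun x hx => by
    haveI := (hX x).1
    haveI := (hX x).2
    exact Groth.L06.NormalAscent.two_le_depth_of_normal fun h =>
      hx ((hreg x).2 (Groth.L06.NormalAscent.regular_of_normal_dim_le_one h))
  have hOsupp := Groth.L07.RefExtend.supportedOn_structureModule hdepth
  -- the dualizing sheaf on the smooth locus
  let K := (Dual3.shriekC c a).obj O
  let ω := DCoh.HD K (-(n : ℤ))
  haveI : IsNoetherian (Spec (CommRingCat.of k)) := inferInstance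
  haveI : IsProper c.fbar := c.isProper
  haveI : IsOpenImmersion c.j := c.isOpenImmersion
  haveI : Dual3.IsSepFT (U.ι ≫ p) := ⟨inferInstance, inferInstance, inferInstance⟩
  have hΩU := Groth.L02.Canon.isFinLocFreeOfRank_omega (f := U.ι ≫ p) n
  obtain ⟨L, hL, hLi⟩ := Groth.L22.Adjunction.exists_isExtPow hΩU
  obtain ⟨eω⟩ : Nonempty (ω.restrict U.ι ≅ L) := nonempty_restrict_HD p U hne n hdim c hc a adj O hO L hL
  -- its reflexivity
  have hwcoh : Coh.IsCoh ω := Groth.L10.ShriekLoc.isCoh_omega c adj O hO _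
  haveI := fun R : CommRingCat.{u} => Groth.L18.TildeF.tilde_preservesFiniteLimits (R := R)
  have hdual : Dual2.IsDualizingSch X K := by
    have hk : Dual2.IsDualizingSch (Spec (CommRingCat.of k)) O.obj := isDualizingSch_field k O hO
    exact Groth.L29.SchUnique.isDualizingSch_restrict c.j
      (Groth.L10.ShriekLoc.isDualizingSch_shriek (hf := hc) adj O hk)
  have hne0 : ¬ IsZero ω := fun h0 => by
    have h1 : IsZero L := ((Scheme.Modules.restrictFunctor U.ι).map_isZero h0).of_iso eω.symm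
    obtain ⟨V, hzV, ⟨i⟩⟩ := hLi (Classical.arbitrary _)
    have h2 : IsZero (Coh.structureModule (V : Scheme.{u})) :=
      ((Scheme.Modules.restrictFunctor V.ι).map_isZero h1).of_iso i.symm
    haveI : Nonempty ↥(V : Scheme.{u}) := ⟨⟨_, hzV⟩⟩
    exact not_isZero_structureModule _ h2
  have hlow : ∀ i : ℤ, i < -(n : ℤ) → IsZero (DCoh.HD K i) := fun i hi => by
    refine (Groth.L29.DC.PCStalk.isZero_HD_iff_stk K i).2 fun x => ?_
    by_contra hz
    haveI : LocallyOfFiniteType (𝟙 (Spec (CommRingCat.of k))) := inferInstance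
    haveI : Dual3.IsSepFT (𝟙 (Spec (CommRingCat.of k))) := ⟨inferInstance, inferInstance, inferInstance⟩
    have h := Groth.Agent.S3611.result (Spec (CommRingCat.of k)) X (Spec (CommRingCat.of k)) p (𝟙 _) p
      (Category.comp_id p) c hc a adj O hO x n (localFibreDim_le p x hdim.le) i
      (not_subsingleton_iff_nontrivial.1 fun h => hz (ModuleCat.isZero_iff_subsingleton.2 h))
    omega
  have hrefl := Groth.Agent.S7877.result X hX K hdual (-(n : ℤ)) hlow hne0
  -- comparison
  have hsω : Groth.L21.Extend.SupportedOn ω U := by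
    haveI : IsIso (RefHull.bidualMap ω) := (Groth.L15.Ref.isReflexive_iff_stalks hwcoh).2 hrefl
    exact Groth.L14.ParaF.supportedOn_of_iso (asIso (RefHull.bidualMap ω)).symm
      (Groth.L07.RefExtend.supportedOn_ddual hOsupp ω)
  have hWcoh : Coh.IsCoh W := Groth.L15.Ref.isCoh_extPow (Groth.L15.OmegaCoh.isCoh_omega p) hW
  obtain ⟨eW⟩ : Nonempty (W.restrict U.ι ≅ L) := by
    obtain ⟨w⟩ := Groth.L03.BlowPt.nonempty_omega_restrict p U.ι (U.ι ≫ p) (𝟙 _) (Category.id_comp _).symm
    haveI := (Groth.L15.OmegaCoh.isCoh_omega p).1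
    obtain ⟨d⟩ := Groth.L20.ExtPull.nonempty_pullback_extPow_iso_qcoh U.ι hW
      (Groth.L20.ExtPull.isExtPow_congr (((Scheme.Modules.pullbackId (U : Scheme.{u})).app _).symm ≪≫ w.symm) hL)
    exact ⟨(Scheme.Modules.restrictFunctorIsoPullback U.ι).app W ≪≫ d⟩
  haveI : IsIso ((Scheme.Modules.restrictFunctor U.ι).map (RefHull.bidualMap W)) :=
    Groth.L07.RefExtend.isIso_map_bidualMap U hWcoh fun y hy =>
      isReflexiveAt_of_invertible eW hLi y hy
  exact nonempty_iso_of_restrict hsω (Groth.L07.RefExtend.supportedOn_ddual hOsupp W)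
    (eω ≪≫ eW.symm ≪≫ asIso ((Scheme.Modules.restrictFunctor U.ι).map (RefHull.bidualMap W)))

end Groth.L29.NormalDual
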