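import Groth.Agent.L29.Dual.DualBC
import Groth.Agent.L29.Dual.DimFun
import Mathlib.RingTheory.TensorProduct.Quotient
import Mathlib.RingTheory.Polynomial.Basic
import Mathlib.RingTheory.TensorProduct.Free

/-!
Dualizing complexes on polynomial rings in one variable.
-/

universe u

open CategoryTheory CategoryTheory.Limits
open scoped TensorProduct Polynomial Pointwise

attribute [local instance] HasDerivedCategory.standard

set_option backward.isDefEq.respectTransparency false

namespace Groth.L29.HomD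

variable {B : Type u} [CommRing B] [IsNoetherianRing B]

/-- vanishing at each prime in its own local ring gives vanishing -/
theorem subsingleton_hom_of_lz_self {V : Dual.D B} (hV : Good V) (c : ℤ)
    (h : ∀ q : Ideal B, q.IsPrime → ∀ i : ℤ, c < i → LZ q (Dual.inD B (B ⧸ q) ⟶ V⟦i⟧))
    (N : Type u) [AddCommGroup N] [Module B N] [Module.Finite B N] (i : ℤ) (hi : c < i) :
    Subsingleton (Dual.inD B N ⟶ V⟦i⟧) := by
  have key : ∀ n : Ideal B, n.IsPrime → ∀ q : Ideal B, q.IsPrime → q ≤ n → ∀ i : ℤ, c < i →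
      LZ n (Dual.inD B (B ⧸ q) ⟶ V⟦i⟧) := by
    intro n hn q
    induction q using WellFoundedGT.induction with
    | _ q ih =>
      intro hq hqn i hi
      rcases hqn.eq_or_lt with rfl | hlt
      · exact h q hq i hi
      obtain ⟨x, hxn, hxq⟩ := SetLike.exists_of_lt hlt
      let f := x • (LinearMap.id : (B ⧸ q) →ₗ[B] B ⧸ q)
      have hf : Function.Injective f := by
        intro y z hyz
        obtain ⟨y, rfl⟩ := Ideal.Quotient.mk_surjective y
        obtain ⟨z, rfl⟩ := Ideal.Quotient.mk_surjective z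
        rw [Ideal.Quotient.eq]
        have h3 : x * y - x * z ∈ q := Ideal.Quotient.eq.1 hyz
        rw [← mul_sub] at h3
        exact (hq.mem_or_mem h3).resolve_left hxq
      haveI := hn
      have hQ : LZ n (Dual.inD B (QuotSMulTop x (B ⧸ q)) ⟶ V⟦i + 1⟧) := by
        refine lz_hom_of_primes V n _ _ fun r hr hrn => ?_
        have hxr : x ∈ r.asIdeal := hr (Module.mem_annihilator.2 fun y => by
          obtain ⟨y, rfl⟩ := Submodule.mkQ_surjective _ y
          rw [← map_smul, Submodule.mkQ_apply, Submodule.Quotient.mk_eq_zero]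
          exact Submodule.smul_mem_pointwise_smul _ _ _ Submodule.mem_top)
        have hqr : q ≤ r.asIdeal := le_trans (fun a ha => Module.mem_annihilator.2 fun y => by
          obtain ⟨y, rfl⟩ := Submodule.mkQ_surjective _ y
          obtain ⟨b, rfl⟩ := Ideal.Quotient.mk_surjective y
          rw [← map_smul, show a • Ideal.Quotient.mk q b = 0 from
            Ideal.Quotient.eq_zero_iff_mem.2 (Ideal.mul_mem_right _ _ ha), map_zero]) hr
        exact ih r.asIdeal (lt_of_le_of_ne hqr fun e => hxq (e ▸ hxr)) r.2 hrn (i + 1) (by lia)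
      haveI := finite_hom V hV (B ⧸ q) i
      have hex := exact_left V f (Submodule.mkQ (x • ⊤ : Submodule B (B ⧸ q))) hf
        (Submodule.mkQ_surjective _) (exact_smul x) i
      refine lz_of_smul_surjective hxn fun φ => ?_
      obtain ⟨s, hs, hsφ⟩ := hQ (delta V f (Submodule.mkQ (x • ⊤ : Submodule B (B ⧸ q))) hf
        (Submodule.mkQ_surjective _) (exact_smul x) i φ)
      obtain ⟨ψ, hψ⟩ := (hex (s • φ)).1 ((map_smul _ s φ).trans hsφ)
      refine ⟨s, hs, ψ, ?_⟩
      rw [pre_smul, pre_id] at hψ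
      exact hψ.symm
  refine subsingleton_of_forall_eq 0 fun φ => ?_
  let ann := (⊥ : Submodule B (Dual.inD B N ⟶ V⟦i⟧)).comap (LinearMap.toSpanSingleton B _ φ)
  suffices htop : ann = ⊤ by
    have : (1 : B) ∈ ann := htop ▸ Submodule.mem_top
    simpa [ann] using this
  by_contra hne
  obtain ⟨n, hn, hle⟩ := Ideal.exists_le_maximal ann hne
  haveI := hn.isPrime
  have hN : LZ n (Dual.inD B N ⟶ V⟦i⟧) :=
    lz_hom_of_primes V n i N fun r _ hrn => key n hn.isPrime r.asIdeal r.2 hrn i hi
  obtain ⟨s, hs, hsφ⟩ := hN φ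
  exact hs (hle (by simpa [ann] using hsφ))

end Groth.L29.HomD

namespace Groth.L29.FlatBC

open Groth.L29.HomD Polynomial

/-- pseudo-division by an element of least degree -/
lemma exists_pow_mul_mem {R : Type u} [CommRing R] [IsDomain R] (J : Ideal R[X]) (f : R[X])
    (hf : f ∈ J) (hf0 : f ≠ 0) (hmin : ∀ g ∈ J, g ≠ 0 → f.natDegree ≤ g.natDegree) :
    ∀ g ∈ J, ∃ k : ℕ, C (f.leadingCoeff ^ k) * g ∈ Ideal.span {f} := by
  intro g
  induction hd : g.natDegree using Nat.strong_induction_on generalizing g with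
  | _ d ih =>
    intro hg
    subst hd
    by_cases hg0 : g = 0
    · exact ⟨0, by simp [hg0]⟩
    have hfg := hmin g hg hg0
    let t := C g.leadingCoeff * X ^ (g.natDegree - f.natDegree)
    let g' := C f.leadingCoeff * g - t * f
    have hg' : g' ∈ J := J.sub_mem (J.mul_mem_left _ hg) (J.mul_mem_left _ hf)
    have step : (∃ k : ℕ, C (f.leadingCoeff ^ k) * g' ∈ Ideal.span {f}) →
        ∃ k : ℕ, C (f.leadingCoeff ^ k) * g ∈ Ideal.span {f} := fun ⟨k, hk⟩ => ⟨k + 1, by
      have : C (f.leadingCoeff ^ (k + 1)) * g =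
          C (f.leadingCoeff ^ k) * g' + (C (f.leadingCoeff ^ k) * t) * f := by
        simp only [g', pow_succ, C_mul]
        ring
      rw [this]
      exact Ideal.add_mem _ hk (Ideal.mul_mem_left _ _ (Ideal.mem_span_singleton_self f))⟩
    refine step ?_
    by_cases hz : g' = 0
    · exact ⟨0, by simp [hz]⟩
    refine ih g'.natDegree ?_ g' rfl hg'
    have hlf : f.leadingCoeff ≠ 0 := leadingCoeff_ne_zero.2 hf0
    have hlg : g.leadingCoeff ≠ 0 := leadingCoeff_ne_zero.2 hg0
    have hdeg : (C f.leadingCoeff * g).degree = (t * f).degree := by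
      rw [degree_C_mul hlf, degree_mul, degree_C_mul_X_pow _ hlg, degree_eq_natDegree hg0,
        degree_eq_natDegree hf0, ← Nat.cast_add, Nat.sub_add_cancel hfg]
    have hlt := degree_sub_lt hdeg (mul_ne_zero (C_ne_zero.2 hlf) hg0) (by
      simp only [t, leadingCoeff_mul, leadingCoeff_C, leadingCoeff_X_pow]
      ring)
    exact natDegree_lt_natDegree hz (hlt.trans_eq (degree_C_mul hlf))

variable {A : Type u} [CommRing A] [IsNoetherianRing A] {W : Dual.D A}

/-- the polynomial ring preserves dualizing complexes -/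
theorem isDualizing_L_polynomial (hW : Dual.IsDualizing A W) :
    Dual.IsDualizing A[X] ((L A A[X]).obj W) := by
  obtain ⟨a, b, hab⟩ := hW.finite_injective_dimension
  haveI := isGE_of_lower a fun M _ _ i hi => hab M i (Or.inl hi)
  refine isDualizing_L hW (b + 1) fun N _ _ _ i hi => ?_
  refine subsingleton_hom_of_lz_self (good_L a hW.finite_cohomology) (b + 1) (fun q hq i hi => ?_) N i hi
  let V := (L A A[X]).obj W
  let p : Ideal A := q.comap (algebraMap A A[X])
  haveI hp : p.IsPrime := Ideal.IsPrime.comap _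
  let P : Ideal A[X] := p.map (algebraMap A A[X])
  have hPq : P ≤ q := Ideal.map_comap_le
  have hbase : ∀ j : ℤ, b < j → Subsingleton (Dual.inD A[X] (A[X] ⧸ P) ⟶ V⟦j⟧) := fun j hj =>
    haveI := hab (A ⧸ p) j (Or.inr hj)
    subsingleton_hom_baseChange a (A ⧸ p) j _
      (Algebra.TensorProduct.quotIdealMapEquivTensorQuot A[X] p).symm.toLinearEquiv
  by_cases hne : q ≤ P
  · haveI : Subsingleton (Dual.inD A[X] (A[X] ⧸ q) ⟶ V⟦i⟧) := by
      rw [le_antisymm hne hPq]
      exact hbase i (by lia)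
    exact LZ.of_subsingleton
  let φ : A[X] →+* (A ⧸ p)[X] := mapRingHom (Ideal.Quotient.mk p)
  have hsurj : Function.Surjective φ := map_surjective _ Ideal.Quotient.mk_surjective
  have hker : RingHom.ker φ = P := by
    rw [ker_mapRingHom, Ideal.mk_ker]
    rfl
  classical
  obtain ⟨g₀, hg₀, hg₀P⟩ := SetLike.not_le_iff_exists.1 hne
  have hex : ∃ d, ∃ g ∈ q, φ g ≠ 0 ∧ (φ g).natDegree = d :=
    ⟨_, g₀, hg₀, fun h => hg₀P (hker ▸ RingHom.mem_ker.2 h), rfl⟩
  obtain ⟨f, hfq, hf0, hfd⟩ := Nat.find_spec hex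
  have hmin : ∀ g ∈ q.map φ, g ≠ 0 → (φ f).natDegree ≤ g.natDegree := by
    intro g hg hg0
    obtain ⟨g, hgq, rfl⟩ := (Ideal.mem_map_iff_of_surjective φ hsurj).1 hg
    rw [hfd]
    exact Nat.find_min' hex ⟨g, hgq, hg0, rfl⟩
  obtain ⟨s, hs⟩ := Ideal.Quotient.mk_surjective (φ f).leadingCoeff
  have hsq : C s ∉ q := fun h => leadingCoeff_ne_zero.2 hf0 (hs ▸ Ideal.Quotient.eq_zero_iff_mem.2 h)
  let J : Ideal A[X] := P ⊔ Ideal.span {f}
  have hJq : J ≤ q := sup_le hPq ((Ideal.span_singleton_le_iff_mem q).2 hfq)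
  have hpow : ∀ g ∈ q, ∃ k : ℕ, C s ^ k * g ∈ J := by
    intro g hg
    obtain ⟨k, hk⟩ := exists_pow_mul_mem (q.map φ) (φ f) (Ideal.mem_map_of_mem φ hfq) hf0 hmin (φ g)
      (Ideal.mem_map_of_mem φ hg)
    obtain ⟨h, hh⟩ := Ideal.mem_span_singleton'.1 hk
    obtain ⟨h, rfl⟩ := hsurj h
    refine ⟨k, ?_⟩
    have hdiff : C s ^ k * g - h * f ∈ P := by
      rw [← hker, RingHom.mem_ker, map_sub, map_mul, map_mul, map_pow,
        show φ (C s) = C (φ f).leadingCoeff by simp [φ, hs], ← C_pow, ← hh, sub_self]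
    have := J.add_mem (le_sup_left (a := P) hdiff)
      (le_sup_right (a := P) (Ideal.mul_mem_left _ h (Ideal.mem_span_singleton_self f)))
    rwa [sub_add_cancel] at this
  -- `0 → B/P → B/P → B/J → 0`
  haveI hQ : Subsingleton (Dual.inD A[X] (A[X] ⧸ J) ⟶ V⟦i⟧) := by
    let m : (A[X] ⧸ P) →ₗ[A[X]] A[X] ⧸ P := f • LinearMap.id
    let π : (A[X] ⧸ P) →ₗ[A[X]] A[X] ⧸ J := Submodule.factor le_sup_left
    have hm : Function.Injective m := by
      intro y z hyz
      obtain ⟨y, rfl⟩ := Ideal.Quotient.mk_surjective y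
      obtain ⟨z, rfl⟩ := Ideal.Quotient.mk_surjective z
      have h3 : f * y - f * z ∈ P := Ideal.Quotient.eq.1 hyz
      rw [← mul_sub, ← hker, RingHom.mem_ker, map_mul, mul_eq_zero] at h3
      rw [Ideal.Quotient.eq, ← hker, RingHom.mem_ker]
      exact h3.resolve_left hf0
    have hπ : Function.Surjective π := fun y => by
      obtain ⟨y, rfl⟩ := Ideal.Quotient.mk_surjective y
      exact ⟨Ideal.Quotient.mk P y, rfl⟩
    have hexQ : Function.Exact m π := by
      intro y
      obtain ⟨y, rfl⟩ := Ideal.Quotient.mk_surjective y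
      refine ⟨fun h => ?_, ?_⟩
      · obtain ⟨u, hu, v, hv, huv⟩ := Submodule.mem_sup.1 (Ideal.Quotient.eq_zero_iff_mem.1 h)
        obtain ⟨c, rfl⟩ := Ideal.mem_span_singleton'.1 hv
        refine ⟨Ideal.Quotient.mk P c, Ideal.Quotient.eq.2 ?_⟩
        have huv' : u + c * f = y := huv
        change f * c - y ∈ P
        have : f * c - y = -u := by rw [← huv']; ring
        rw [this]
        exact P.neg_mem hu
      · rintro ⟨c, hc⟩
        obtain ⟨c, rfl⟩ := Ideal.Quotient.mk_surjective c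
        refine Ideal.Quotient.eq_zero_iff_mem.2 ?_
        have hc' : f * c - y ∈ P := Ideal.Quotient.eq.1 hc
        have := J.sub_mem (le_sup_right (a := P) (Ideal.mul_mem_right c _ (Ideal.mem_span_singleton_self f)))
          (le_sup_left (b := Ideal.span {f}) hc')
        rwa [sub_sub_cancel] at this
    obtain ⟨j, rfl⟩ : ∃ j, i = j + 1 := ⟨i - 1, by ring⟩
    haveI := hbase (j + 1) (by lia)
    haveI := hbase j (by lia)
    have h := exact_right V m π hm hπ hexQ j
    refine subsingleton_of_forall_eq 0 fun x => ?_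
    obtain ⟨y, hy⟩ := (h x).1 (Subsingleton.elim _ _)
    rw [← hy, Subsingleton.elim y 0, map_zero]
  -- the kernel of `B/J → B/q` vanishes at `q`
  let π : (A[X] ⧸ J) →ₗ[A[X]] A[X] ⧸ q := Submodule.factor hJq
  have hπ : Function.Surjective π := fun y => by
    obtain ⟨y, rfl⟩ := Ideal.Quotient.mk_surjective y
    exact ⟨Ideal.Quotient.mk J y, rfl⟩
  haveI : Module.Finite A[X] (LinearMap.ker π) := Module.Finite.iff_fg.2 (IsNoetherian.noetherian _)
  have hK : LZ q (LinearMap.ker π) := by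
    rintro ⟨y, hy⟩
    obtain ⟨y, rfl⟩ := Ideal.Quotient.mk_surjective y
    obtain ⟨k, hk⟩ := hpow y (Ideal.Quotient.eq_zero_iff_mem.1 hy)
    exact ⟨C s ^ k, fun h => hsq (hq.mem_of_pow_mem k h),
      Subtype.ext (Ideal.Quotient.eq_zero_iff_mem.2 hk)⟩
  obtain ⟨j, rfl⟩ : ∃ j, i = j + 1 := ⟨i - 1, by ring⟩
  exact LZ.of_exact _ _ (exact_right V (LinearMap.ker π).subtype π Subtype.val_injective hπ
    π.exact_subtype_ker_map j) (lz_hom V q _ hK j) LZ.of_subsingleton

end Groth.L29.FlatBC
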