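import Groth.Agent.L10.FMAdj.Basic
import Groth.Agent.L10.FMBC.ProjNat
import Groth.Agent.L29.BCAdj.AdjGen
import Groth.Agent.L29.DCoh.Restrict
import Groth.Agent.Lead.FlatPerfectCx

/-!
Duals of pullbacks and of proper flat pushforwards of perfect complexes.
-/

set_option autoImplicit false
set_option linter.style.haveILetI false
set_option backward.defeqAttrib.useBackward true
set_option backward.isDefEq.respectTransparency false
set_option backward.isDefEq.respectTransparency.types false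

universe u

open CategoryTheory CategoryTheory.Limits AlgebraicGeometry

attribute [local instance] HasDerivedCategory.standard

noncomputable section

namespace Groth.L29.PushDual

open Groth.L00 Groth.L29.DC Groth.L29.BCAdj

variable {X Y : Scheme.{u}}

/-- `O ⊗^L W = W` -/
theorem nonempty_LT_unit (W : CochainComplex X.Modules ℤ) (hW : DCoh.IsKFlat W) [DCoh.HasLTensorCx W] :
    Nonempty ((DCoh.LTensorCx W).obj (OD X) ≅ DCoh.toD X W) :=
  ⟨(DCoh.LTensorCx W).mapIso (EvalMain.nonempty_O0_iso (X := X)).some.symm ≪≫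
    (Assoc.allIso W hW).app (RHom.O0 X) ≪≫ DerivedCategory.Q.mapIso (BC.PFNat.unitL W)⟩

/-- the dual of a perfect complex commutes with pullback -/
theorem nonempty_dual_pull (f : X ⟶ Y) [QuasiCompact f] [QuasiSeparated f]
    (E D : CochainComplex Y.Modules ℤ) (hE : DCoh.IsKFlat E) (hEp : DCoh.IsPerfect (DCoh.toD Y E))
    (hD : DCoh.IsKFlat D) [DCoh.HasLTensorCx E] [DCoh.HasRSheafHom E]
    (d : DCoh.toD Y D ≅ (DCoh.RSheafHom E).obj (OD Y))
    [DCoh.HasLTensorCx ((Proj.pullCx f).obj E)] [DCoh.HasRSheafHom ((Proj.pullCx f).obj E)] :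
    Nonempty (DCoh.toD X ((Proj.pullCx f).obj D) ≅
      (DCoh.RSheafHom ((Proj.pullCx f).obj E)).obj (OD X)) := by
  haveI := fun {V : Scheme.{u}} (F : CochainComplex V.Modules ℤ) => KFlat.hasLTensorCx F
  haveI := fun {V : Scheme.{u}} (F : CochainComplex V.Modules ℤ) => RHom.hasRSheafHom F
  haveI := fun {A B : Scheme.{u}} (h : A ⟶ B) => KFlat.hasLpull h
  haveI := fun {A B : Scheme.{u}} (h : A ⟶ B) => RpushQC.hasRpush h
  obtain ⟨hDp, -⟩ := Groth.L10.DualNat.nonempty_RSheafHom_iso_LT E hEp D ⟨d⟩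
  have hE' : DCoh.IsKFlat ((Proj.pullCx f).obj E) := KFlat.pullback_kflat f E hE
  have hEp' : DCoh.IsPerfect (DCoh.toD X ((Proj.pullCx f).obj E)) :=
    isPerfect_of_iso (DerivedApi.objIso (DerivedApi.acyclicKFlat_pullback f) E hE) (isPerfect_Lpull f hEp)
  obtain ⟨D', hD', ⟨d'⟩⟩ := Groth.L07.BvdB.DualHom.exists_kflat_rep
    ((DCoh.RSheafHom ((Proj.pullCx f).obj E)).obj (OD X))
  obtain ⟨hDp', -⟩ := Groth.L10.DualNat.nonempty_RSheafHom_iso_LT _ hEp' D' ⟨d'⟩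
  have hqE := PCQCoh.isQCohD_of_perfect hEp
  have hqD := PCQCoh.isQCohD_of_perfect hDp
  have hqE' := PCQCoh.isQCohD_of_perfect hEp'
  have hqD' := PCQCoh.isQCohD_of_perfect hDp'
  obtain ⟨o⟩ := EvalMain.nonempty_O0_iso (X := Y)
  obtain ⟨o'⟩ := EvalMain.nonempty_O0_iso (X := X)
  obtain ⟨σ⟩ := Groth.L10.DualNat.nonempty_LT_iso_RHom E D hE hEp
    ⟨d ≪≫ (DCoh.RSheafHom E).mapIso o.symm⟩
  obtain ⟨σ'⟩ := Groth.L10.DualNat.nonempty_LT_iso_RHom ((Proj.pullCx f).obj E) D' hE' hEp'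
    ⟨d' ≪≫ (DCoh.RSheafHom _).mapIso o'.symm⟩
  let adj₁ : DCoh.LTensorCx D ⋙ DCoh.Lpull f ⊣ DCoh.Rpush f ⋙ DCoh.LTensorCx E :=
    ((DCoh.RSheafHomAdj D).ofNatIsoRight σ.symm).comp (BC.adj f)
  let adj₂ : DCoh.Lpull f ⋙ DCoh.LTensorCx D' ⊣ DCoh.LTensorCx ((Proj.pullCx f).obj E) ⋙ DCoh.Rpush f :=
    (BC.adj f).comp ((DCoh.RSheafHomAdj D').ofNatIsoRight σ'.symm)
  obtain ⟨a₁⟩ := Groth.L10.FMAdj.nonempty_restrict adj₁ (DCoh.IsQCohD (X := Y)) (DCoh.IsQCohD (X := X))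
    (fun M hM => isQCohD_Lpull f (isQCohD_LTensorCx D hqD hM))
    (fun N hN => isQCohD_LTensorCx E hqE (RpushQC.isQCohD_Rpush f N hN))
  obtain ⟨a₂⟩ := Groth.L10.FMAdj.nonempty_restrict adj₂ (DCoh.IsQCohD (X := Y)) (DCoh.IsQCohD (X := X))
    (fun M hM => isQCohD_LTensorCx D' hqD' (isQCohD_Lpull f hM))
    (fun N hN => RpushQC.isQCohD_Rpush f _ (isQCohD_LTensorCx _ hqE' hN))
  obtain ⟨τ, hτ⟩ := Groth.L10.FMBC.exists_projection f E hE hqE
  let a₁' := a₁.ofNatIsoRight (G := ObjectProperty.lift (DCoh.IsQCohD (X := Y))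
      ((DCoh.IsQCohD (X := X)).ι ⋙ DCoh.LTensorCx ((Proj.pullCx f).obj E) ⋙ DCoh.Rpush f)
      (fun N => RpushQC.isQCohD_Rpush f _ (isQCohD_LTensorCx _ hqE' N.property)))
    (NatIso.ofComponents (fun N => ObjectProperty.isoMk _ (@asIso _ _ _ _ _ (hτ N.obj N.property)))
      (fun v => by apply ObjectProperty.hom_ext; exact τ.naturality v.hom))
  let e := a₁'.leftAdjointUniq a₂
  let O₁ : DCoh.DQCoh Y := ⟨OD Y, Groth.Lead.LTMod.isQCohD_inD_of (Groth.L19.Conormal.isQCoh_structureModule Y)⟩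
  obtain ⟨u₁⟩ := nonempty_LT_unit D hD
  obtain ⟨u₂⟩ := nonempty_LT_unit D' hD'
  obtain ⟨l⟩ := nonempty_Lpull_OD f
  exact ⟨(DerivedApi.objIso (DerivedApi.acyclicKFlat_pullback f) D hD).symm ≪≫ (DCoh.Lpull f).mapIso u₁.symm ≪≫
    (DCoh.IsQCohD (X := X)).ι.mapIso (e.app O₁) ≪≫ (DCoh.LTensorCx D').mapIso l ≪≫ u₂ ≪≫ d'⟩

/-- duality for the pushforward of a perfect complex along a proper flat morphism -/
theorem nonempty_dual_push (q : X ⟶ Y) [IsProper q] [Flat q] [LocallyOfFinitePresentation q] [CompactSpace Y]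
    [QuasiSeparatedSpace Y] [DCoh.HasRpush q] (hR : DCoh.RpushPreservesQCoh q) [DCoh.HasShriek q hR]
    (G : CochainComplex X.Modules ℤ) (hG : DCoh.IsPerfect (DCoh.toD X G))
    [DCoh.HasLTensorCx G] [DCoh.HasRSheafHom G]
    (K : CochainComplex Y.Modules ℤ) [DCoh.HasLTensorCx K] [DCoh.HasRSheafHom K]
    (eK : DCoh.toD Y K ≅ (DCoh.Rpush q).obj (DCoh.toD X G))
    (OY : DCoh.DQCoh Y) (hOY : OY.obj ≅ OD Y) :
    Nonempty ((DCoh.RSheafHom K).obj (OD Y) ≅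
      (DCoh.Rpush q).obj ((DCoh.RSheafHom G).obj (DCoh.dualizingCx q hR OY))) := by
  haveI := fun {V : Scheme.{u}} (F : CochainComplex V.Modules ℤ) => KFlat.hasLTensorCx F
  haveI := fun {V : Scheme.{u}} (F : CochainComplex V.Modules ℤ) => RHom.hasRSheafHom F
  haveI := fun {A B : Scheme.{u}} (h : A ⟶ B) => KFlat.hasLpull h
  haveI : CompactSpace X := QuasiCompact.compactSpace_of_compactSpace q
  haveI : QuasiSeparatedSpace X := quasiSeparatedSpace_of_quasiSeparated q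
  have hqG := PCQCoh.isQCohD_of_perfect hG
  -- the dual of `G`
  obtain ⟨DG, hDG, ⟨dG⟩⟩ := Groth.L07.BvdB.DualHom.exists_kflat_rep ((DCoh.RSheafHom G).obj (OD X))
  obtain ⟨hDGp, ⟨ρG⟩⟩ := Groth.L10.DualNat.nonempty_RSheafHom_iso_LT G hG DG ⟨dG⟩
  obtain ⟨W, hW, ⟨w⟩⟩ := Groth.L07.BvdB.DualHom.exists_kflat_rep
    ((DCoh.RSheafHom G).obj (DCoh.dualizingCx q hR OY))
  have hqW : DCoh.IsQCohD (DCoh.toD X W) := isQCohD_of_iso (w ≪≫ ρG.app _).symm
    (isQCohD_LTensorCx DG (PCQCoh.isQCohD_of_perfect hDGp) ((DCoh.shriek q hR).obj OY).property)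
  obtain ⟨a⟩ := Groth.L10.FMAdj.nonempty_adj q q G hG hR OY hOY W ⟨w⟩
    (fun M hM => RpushQC.isQCohD_Rpush q _ (isQCohD_LTensorCx G hqG (isQCohD_Lpull q hM)))
    (fun N hN => RpushQC.isQCohD_Rpush q _ (isQCohD_LTensorCx W hqW (isQCohD_Lpull q hN)))
  -- the projection formula
  obtain ⟨I, r, hI, hr⟩ := ProjFormulaD.exists_kinj G
  haveI : I.IsKInjective := hI
  haveI : QuasiIso r := hr
  let eI : DCoh.toD X G ≅ DCoh.toD X I :=
    @asIso _ _ _ _ (DerivedCategory.Q.map r) ((DerivedCategory.isIso_Q_map_iff_quasiIso _ r).2 hr)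
  haveI := Groth.L17.PushQCoh.additive_push q
  let A := (Proj.pushCx q).obj I
  haveI : QuasiIso ((KFlat.rF Y).app A) := KFlat.quasiIso_rF A
  obtain ⟨τ, -, hτ⟩ := BC.PFNat.exists_pf q I ((KFlat.rF Y).app A) (isQCohD_of_iso eI hqG)
  obtain ⟨p⟩ := ProjFormulaD.nonempty_Rpush_kinj q I
  let eA : DCoh.toD Y ((KFlat.RF Y).obj A) ≅ DCoh.toD Y A :=
    @asIso _ _ _ _ (DerivedCategory.Q.map ((KFlat.rF Y).app A))
      ((DerivedCategory.isIso_Q_map_iff_quasiIso _ _).2 (KFlat.quasiIso_rF A))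
  obtain ⟨cK⟩ := RHom.nonempty_lt_iso (eK ≪≫ (DCoh.Rpush q).mapIso eI ≪≫ p ≪≫ eA.symm)
  obtain ⟨cG⟩ := RHom.nonempty_lt_iso eI
  -- the dual of `K`
  have hKp : DCoh.IsPerfect (DCoh.toD Y K) := isPerfect_of_iso eK.symm (BC.isPerfect_Rpush q hG)
  obtain ⟨DK, hDK, ⟨dK⟩⟩ := Groth.L07.BvdB.DualHom.exists_kflat_rep ((DCoh.RSheafHom K).obj (OD Y))
  obtain ⟨hDKp, ⟨ρK⟩⟩ := Groth.L10.DualNat.nonempty_RSheafHom_iso_LT K hKp DK ⟨dK⟩
  obtain ⟨b⟩ := Groth.L10.FMAdj.nonempty_restrict (DCoh.RSheafHomAdj K) (DCoh.IsQCohD (X := Y))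
    (DCoh.IsQCohD (X := Y)) (fun M hM => isQCohD_LTensorCx K (PCQCoh.isQCohD_of_perfect hKp) hM)
    (fun N hN => isQCohD_of_iso (ρK.app N).symm (isQCohD_LTensorCx DK (PCQCoh.isQCohD_of_perfect hDKp) hN))
  let b' := b.ofNatIsoLeft (G := ObjectProperty.lift (DCoh.IsQCohD (X := Y))
      ((DCoh.IsQCohD (X := Y)).ι ⋙ DCoh.Lpull q ⋙ DCoh.LTensorCx G ⋙ DCoh.Rpush q)
      (fun M => RpushQC.isQCohD_Rpush q _ (isQCohD_LTensorCx G hqG (isQCohD_Lpull q M.property))))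
    (NatIso.ofComponents (fun M => ObjectProperty.isoMk _
      (cK.app M.obj ≪≫ @asIso _ _ _ _ _ (hτ M.obj M.property) ≪≫
        (DCoh.Rpush q).mapIso (cG.symm.app ((DCoh.Lpull q).obj M.obj))))
      (fun {M M'} v => by
        apply ObjectProperty.hom_ext
        change (DCoh.LTensorCx K).map v.hom ≫ cK.hom.app M'.obj ≫ τ.app M'.obj ≫
            (DCoh.Rpush q).map (cG.inv.app ((DCoh.Lpull q).obj M'.obj)) =
          (cK.hom.app M.obj ≫ τ.app M.obj ≫ (DCoh.Rpush q).map (cG.inv.app ((DCoh.Lpull q).obj M.obj))) ≫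
            (DCoh.Rpush q).map ((DCoh.LTensorCx G).map ((DCoh.Lpull q).map v.hom))
        simp only [Category.assoc]
        rw [reassoc_of% (cK.hom.naturality v.hom), reassoc_of% (τ.naturality v.hom), ← Functor.map_comp]
        refine congrArg (fun t => cK.hom.app M.obj ≫ τ.app M.obj ≫ t) ?_
        rw [← Functor.map_comp]
        exact congrArg (DCoh.Rpush q).map (cG.inv.naturality ((DCoh.Lpull q).map v.hom))))
  let e := b'.rightAdjointUniq a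
  obtain ⟨l⟩ := nonempty_Lpull_OD q
  obtain ⟨u⟩ := nonempty_LT_unit W hW
  exact ⟨(DCoh.RSheafHom K).mapIso hOY.symm ≪≫ (DCoh.IsQCohD (X := Y)).ι.mapIso (e.app OY) ≪≫
    (DCoh.Rpush q).mapIso ((DCoh.LTensorCx W).mapIso ((DCoh.Lpull q).mapIso hOY ≪≫ l) ≪≫ u ≪≫ w)⟩

end Groth.L29.PushDual
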