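import Groth.Agent.L22.FLI.Iso
import Groth.Agent.L29.DCoh.ExtRegImm
import Groth.Agent.L29.DCoh.ExtDivisorD
import Groth.Agent.L29.Dual.SchStalk
import Groth.Agent.S11905
import Groth.Agent.S3634
import Groth.Agent.L12.Kvb.Ring

/-!
The right adjoint of a regular closed immersion at the structure sheaf.
-/

set_option autoImplicit false
set_option backward.defeqAttrib.useBackward true
set_option backward.isDefEq.respectTransparency false
set_option backward.isDefEq.respectTransparency.types false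
set_option linter.style.haveILetI false

universe u

attribute [local instance] HasDerivedCategory.standard

open CategoryTheory CategoryTheory.Limits AlgebraicGeometry TopologicalSpace Opposite
open Groth.L18.Frame (rs rs_rs rs_self pull)
open Groth.L22.FLI Groth.L22.ExtSh
open Groth.L16.HomSh (homModF)

noncomputable section

namespace Groth.L29.RegImmDual

variable {X P : Scheme.{u}} {ι : X ⟶ P} [IsClosedImmersion ι] {r : ℕ} {F : P.Modules} [Coh.IsQCoh F]
  (I : InjectiveResolution F)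

/-- the complex computing the Ext sheaves is exact above the codimension -/
theorem exactAt_cx (hι : RegImm.IsRegularImmersionOfCodim RegImm.Kind.regular r ι) (j : ℕ) (hj : r ≤ j) :
    (cx ι I).ExactAt (j + 1) := by
  rw [(cx ι I).exactAt_iff' j (j + 1) (j + 2) (by simp) (by simp)]
  refine Groth.L29.DC.ExtRegImm.exact_of_local _ fun x U hx s hs => ?_
  by_cases hxr : x ∈ Set.range ι
  · obtain ⟨z, rfl⟩ := hxr
    obtain ⟨c, hcz, hcU⟩ := exists_small_chart hι z U hx
    let s' : Γ((cx ι I).X (j + 1), c.U.1) := rs ((cx ι I).X (j + 1)) hcU s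
    have hs' : ((cx ι I).d (j + 1) (j + 2)).app c.U.1 s' = 0 :=
      (Groth.L16.SectCmp.app_rs' ((cx ι I).d (j + 1) (j + 2)) hcU s).trans
        ((congrArg (rs ((cx ι I).X (j + 2)) hcU) hs).trans (map_zero _))
    let w : (resOn I c.U).X (j + 1) := evOne (ι := ι) (I.cocomplex.X (j + 1)) c.U.1 s'
    have hw : Killed c.f r w := fun i hi =>
      killed_evOne _ _ _ _ (show c.f i ∈ RingHom.ker (ι.app c.U.1).hom from c.span ▸ f_mem c.f hi)
    have hdw : (resOn I c.U).d (j + 1) w = 0 :=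
      (evOne_post (ι := ι) (I.cocomplex.d (j + 1) (j + 2)) c.U.1 s').symm.trans
        ((congrArg (evOne (ι := ι) _ c.U.1) hs').trans (map_zero _))
    obtain ⟨y, hy, hdy⟩ := exists_pre c.f (resOn I c.U) c.reg (injective_resOn I c.U) r le_rfl j hj w hw hdw
    obtain ⟨t, ht⟩ := exists_evOne (ι := ι) (I.cocomplex.X j) c.U.2 y fun a ha =>
      smul_eq_zero_of_killed c.f hy (c.span.symm ▸ (show a ∈ RingHom.ker (ι.app c.U.1).hom from ha))
    refine ⟨c.U.1, hcU, hcz, t, evOne_injective _ c.U.2 ?_⟩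
    exact (evOne_post (ι := ι) (I.cocomplex.d j (j + 1)) c.U.1 t).trans
      ((congrArg ((I.cocomplex.d j (j + 1)).app c.U.1) ht).trans hdy)
  · let O : P.Opens := ⟨(Set.range ι)ᶜ, ι.isClosedEmbedding.isClosed_range.isOpen_compl⟩
    obtain ⟨_, ⟨(V : P.Opens), hV, rfl⟩, hxV, hVU⟩ :=
      P.isBasis_affineOpens.exists_subset_of_mem_open (a := x) (u := ((U ⊓ O : P.Opens) : Set P))
        ⟨hx, hxr⟩ (U ⊓ O).2
    refine ⟨V, fun y hy => (hVU hy).1, hxV, 0, evOne_injective _ hV ?_⟩
    rw [map_zero, map_zero]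
    have h0 : ι ⁻¹ᵁ V = ⊥ := by
      ext y
      exact ⟨fun hy => ((hVU hy).2 ⟨y, rfl⟩).elim, fun h => h.elim⟩
    haveI : Subsingleton Γ(X, ι ⁻¹ᵁ V) := by rw [h0]; infer_instance
    have h1 := killed_evOne (ι := ι) (I.cocomplex.X (j + 1)) V (rs ((cx ι I).X (j + 1)) (fun y hy => (hVU hy).1) s) 1
      (Subsingleton.elim _ _)
    rw [one_smul] at h1
    exact h1.symm

/-- Ext sheaves vanish above the codimension -/
theorem isZero_extSh_above (hι : RegImm.IsRegularImmersionOfCodim RegImm.Kind.regular r ι)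
    [HasInjectiveResolutions P.Modules] (F : P.Modules) [Coh.IsQCoh F] (q : ℕ) (hq : r < q) :
    IsZero (Groth.L22.ExtSh.E (sO ι) F q) := by
  obtain ⟨j, rfl⟩ : ∃ j, q = j + 1 := ⟨q - 1, by omega⟩
  let I := injectiveResolution F
  exact ((HomologicalComplex.exactAt_iff_isZero_homology _ _).1 (exactAt_cx I hι j (by omega))).of_iso
    (I.isoRightDerivedObj (homModF (sO ι)) (j + 1))

omit [Coh.IsQCoh F] in
/-- `a(O) = (det of conormal)^∨[-r]` for a regular closed immersion -/
theorem exists_iso_adjoint [IsNoetherian P] [DCoh.HasRpush ι] (hι : RegImm.IsRegularImmersionOfCodim RegImm.Kind.regular r ι)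
    {hf : DCoh.RpushPreservesQCoh ι} {a : DCoh.DQCoh P ⥤ DCoh.DQCoh X} (adj : DCoh.RpushQ ι hf ⊣ a)
    (O : DCoh.DQCoh P) (hO : Nonempty (O.obj ≅ DCoh.inD P (Coh.structureModule P)))
    (L : X.Modules) (hL : ExtPow.IsExtPow r (Omega.conormal ι) L) [ModSite.HasSheafHom (O := X.sheaf) L] :
    Nonempty ((a.obj O).obj ≅ (DCoh.inD X ((ModSite.sheafHom (O := X.sheaf) L).obj (Coh.structureModule X)))⟦(-(r : ℤ))⟧) := by
  haveI : IsLocallyNoetherian X := LocallyOfFiniteType.isLocallyNoetherian ι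
  haveI : HasInjectiveResolutions P.Modules := Groth.L17.PushQCoh.hasInjectiveResolutions P
  haveI : HasInjectiveResolutions (ModSite.Mod P.sheaf) := ‹HasInjectiveResolutions P.Modules›
  haveI : EnoughInjectives P.Modules := inferInstance
  haveI : Dual3.HasHomO ι := Groth.L17.ClosedPush.isLeftAdjoint_push ι
  obtain ⟨eO⟩ := hO
  haveI := Groth.L17.ClosedPush.isIso_counit ι
  haveI := Groth.L17.Duality.hasSheafHom ((Scheme.Modules.pushforward ι).obj (Coh.structureModule X))
  let W := (ModSite.sheafHom (O := X.sheaf) L).obj (Coh.structureModule X)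
  have hO' : Coh.IsCoh (Coh.structureModule P) := Groth.L16.Rees.RelVanish.isCoh_structureModule P
  haveI := hO'.1
  let O' : DerivedCategory.Plus P.Modules := (DerivedCategory.Plus.singleFunctor P.Modules 0).obj (Coh.structureModule P)
  obtain ⟨eA⟩ := Groth.Agent.S3634.result X P ι hf a adj
  have hbdd : Dual3.IsBddBelowQ P O := ⟨0, (DerivedCategory.TStructure.t.isGE_of_iso eO.symm 0 :)⟩
  let eA' := eA.app ⟨O, hbdd⟩
  let e' : (Dual3.bddToPlus P).obj ⟨O, hbdd⟩ ≅ O' := DerivedCategory.Plus.ι.preimageIso eO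
  let M := ((Dual3.RHomOPlus ι).obj O').obj
  let eM : (a.obj O).obj ≅ M := eA' ≪≫ DerivedCategory.Plus.ι.mapIso ((Dual3.RHomOPlus ι).mapIso e')
  have eH : ∀ j : ℤ, DCoh.HD M j ≅ (Groth.L17.GrothSS.HH (Dual3.homO ι) j).obj O' := fun j =>
    (Groth.L17.GrothSS.homologyRightDerivedPlusIso (Dual3.homO ι) j).app O'
  have hzero : ∀ j : ℤ, j ≠ (r : ℤ) → IsZero (DCoh.HD M j) := fun j hj => by
    refine IsZero.of_iso ?_ (eH j)
    by_cases h : 0 ≤ j
    · lift j to ℕ using h
      refine IsZero.of_iso ?_ (Groth.L17.GrothSS.hhSingleZeroIso (Dual3.homO ι) _ j)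
      obtain ⟨e⟩ := Groth.L29.ExtDivisor.nonempty_push_rightDerived ι j (Coh.structureModule P)
      obtain ⟨e2⟩ := Groth.L22.ExtSh.nonempty_extSh_iso (sO ι) (Coh.structureModule P) j
      refine Groth.L29.ExtDivisor.isZero_of_isZero_push ι (IsZero.of_iso ?_ (e ≪≫ e2))
      rcases lt_or_gt_of_ne (show j ≠ r from fun h => hj (congrArg Nat.cast h)) with h | h
      · exact Groth.L29.DC.ExtRegImm.isZero_extSh_push ι r hι _ (Groth.L12.Kvb.isFinLocFree_O) _ j h
      · exact isZero_extSh_above hι _ j h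
    · exact Groth.L17.GrothSS.isZero_HH_of_isGE (Dual3.homO ι) O' 0 j (by omega)
  haveI : DerivedCategory.IsGE M r := (DerivedCategory.isGE_iff _ _).2 fun j hj => hzero j (by omega)
  haveI : DerivedCategory.IsLE M r := (DerivedCategory.isLE_iff _ _).2 fun j hj => hzero j (by omega)
  obtain ⟨N, ⟨eN⟩⟩ := DerivedCategory.exists_iso_singleFunctor_obj_of_isGE_of_isLE M r
  obtain ⟨e5⟩ := Groth.Agent.S11905.result P X ι r hι (Coh.structureModule P) inferInstance L hL
  obtain ⟨e4⟩ := Groth.L29.ExtDivisor.nonempty_push_rightDerived ι r (Coh.structureModule P)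
  haveI : HasInjectiveResolutions X.Modules := Groth.L17.PushQCoh.hasInjectiveResolutions X
  let p : ((Dual3.homO ι).rightDerived r).obj (Coh.structureModule P) ≅ W :=
    (asIso ((Scheme.Modules.pullbackPushforwardAdjunction ι).counit.app _)).symm ≪≫
      (Scheme.Modules.pullback ι).mapIso (e4 ≪≫ e5) ≪≫
      asIso ((Scheme.Modules.pullbackPushforwardAdjunction ι).counit.app _) ≪≫
      (ModSite.sheafHom (O := X.sheaf) L).mapIso (Groth.L29.LocFree.pullbackUnitIso ι)
  let eNW : N ≅ W := ((DerivedCategory.singleFunctorCompHomologyFunctorIso X.Modules (r : ℤ)).app N).symm ≪≫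
    (DerivedCategory.homologyFunctor X.Modules (r : ℤ)).mapIso eN.symm ≪≫ eH r ≪≫
    Groth.L17.GrothSS.hhSingleZeroIso (Dual3.homO ι) _ r ≪≫ p
  exact ⟨eM ≪≫ eN ≪≫ (DerivedCategory.singleFunctor X.Modules (r : ℤ)).mapIso eNW ≪≫
    (((DerivedCategory.singleFunctors X.Modules).shiftIso (-(r : ℤ)) (r : ℤ) 0 (by omega)).app W).symm⟩

end Groth.L29.RegImmDual
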