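import Groth.Agent.L29.Dual.GorensteinBC

/-!
The residual degree of a dualizing complex along a flat local map with Gorenstein closed fibre.
-/

set_option autoImplicit false
set_option backward.defeqAttrib.useBackward true

universe u

open CategoryTheory CategoryTheory.Limits IsLocalRing
open scoped TensorProduct

attribute [local instance] HasDerivedCategory.standard

set_option backward.isDefEq.respectTransparency false

namespace Groth.L29.GorBC

open Groth.L29.HomD Groth.L29.RestrictAdj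

variable {A B : Type u} [CommRing A] [CommRing B] [Algebra A B] [Module.Flat A B] [IsLocalRing A]
  [IsNoetherianRing A] [IsLocalRing B] [IsNoetherianRing B] [IsLocalHom (algebraMap A B)]

/-- the base change of a normalized complex, shifted by the dimension of the closed fibre, is normalized -/
theorem isNormalized_L_shift {W : Dual.D A} (hW : Dual.IsDualizing A W) (hn : Dual.IsNormalized A W)
    (hC : LocCoh.IsGorensteinLocalRing (B ⧸ (maximalIdeal A).map (algebraMap A B))) (d : ℕ)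
    (hd : ringKrullDim (B ⧸ (maximalIdeal A).map (algebraMap A B)) = d) :
    Dual.IsNormalized B (((FlatBC.L A B).obj W)⟦(d : ℤ)⟧) := by
  let C := B ⧸ (maximalIdeal A).map (algebraMap A B)
  let φ : B →+* C := Ideal.Quotient.mk _
  have hφ : Function.Surjective φ := Ideal.Quotient.mk_surjective
  haveI : IsLocalRing C := hC.toIsLocalRing
  haveI : IsNoetherianRing C := inferInstance
  obtain ⟨a, b, hab⟩ := hW.finite_injective_dimension
  haveI := isGE_of_lower a fun M _ _ i hi => hab M i (Or.inl hi)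
  let LW := (FlatBC.L A B).obj W
  obtain ⟨I, hKI, ⟨eI⟩, ⟨eK⟩⟩ := exists_coind_iso (B := B) hW hn
  haveI := hKI
  obtain ⟨hCd, hCn⟩ := Gorenstein.exists_normalized_self (A := C) d hd
  obtain ⟨n, hn1, ⟨en⟩⟩ := residue_degree (maximalIdeal C) hCd
  have hn0 : n = 0 := by
    by_contra hne
    haveI : Subsingleton (Dual.inD C (C ⧸ maximalIdeal C) ⟶ ((Dual.inD C C)⟦(d : ℤ)⟧)⟦n⟧) := hCn n hne
    exact not_subsingleton (C ⧸ maximalIdeal C) en.symm.toEquiv.subsingleton
  subst hn0
  let kC : ModuleCat.{u} C := ModuleCat.of C (C ⧸ maximalIdeal C)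
  let kB : Type u := (ModuleCat.restrictScalars.{u} φ).obj kC
  haveI : IsLocalHom φ := IsLocalHom.of_surjective φ hφ
  let ek : kB ≃ₗ[B] ResidueField B := by
    let g : B →ₗ[B] kB := LinearMap.toSpanSingleton B kB (Ideal.Quotient.mk (maximalIdeal C) 1)
    have hg : ∀ b : B, g b = Ideal.Quotient.mk (maximalIdeal C) (φ b) := fun b => by
      show φ b • Ideal.Quotient.mk (maximalIdeal C) 1 = _
      exact congrArg (Ideal.Quotient.mk (maximalIdeal C)) (mul_one (φ b))
    have hsurj : Function.Surjective g := fun y => by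
      obtain ⟨c, rfl⟩ := Ideal.Quotient.mk_surjective (I := maximalIdeal C) y
      obtain ⟨b, rfl⟩ := hφ c
      exact ⟨b, hg b⟩
    have hker : LinearMap.ker g = maximalIdeal B := by
      ext b
      refine LinearMap.mem_ker.trans ((iff_of_eq (congrArg (· = 0) (hg b))).trans ?_)
      refine Ideal.Quotient.eq_zero_iff_mem.trans ?_
      rw [mem_maximalIdeal, mem_maximalIdeal, mem_nonunits_iff, mem_nonunits_iff, isUnit_map_iff φ]
    exact ((Submodule.quotEquivOfEq _ _ hker.symm).trans (g.quotKerEquivOfSurjective hsurj)).symm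
  let T : ∀ i : ℤ, (Dual.inD B (ResidueField B) ⟶ (LW⟦(d : ℤ)⟧)⟦i⟧) ≃+
      (Dual.inD C (C ⧸ maximalIdeal C) ⟶ ((Dual.inD C C)⟦(d : ℤ)⟧)⟦i⟧) := fun i =>
    (((homShiftEquiv (Dual.inD B (ResidueField B)) LW d i (d + i) rfl).trans
      ((preEquiv LW ek.symm (d + i)).symm.trans
        (Linear.homCongr B (Iso.refl (Dual.inD B kB)) ((shiftFunctor (Dual.D B) (d + i : ℤ)).mapIso eI)).symm)).toAddEquiv.trans
      (coindHom φ I kC (d + i)).symm).trans
      ((Linear.homCongr C (Iso.refl (Dual.inD C kC)) ((shiftFunctor (Dual.D C) (d + i : ℤ)).mapIso eK)).trans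
        (homShiftEquiv (Dual.inD C kC) (Dual.inD C C) d i (d + i) rfl).symm).toAddEquiv
  have hnorm : Dual.IsNormalized B (LW⟦(d : ℤ)⟧) := fun i hi =>
    haveI : Subsingleton (Dual.inD C (C ⧸ maximalIdeal C) ⟶ ((Dual.inD C C)⟦(d : ℤ)⟧)⟦i⟧) := hCn i hi
    (T i).toEquiv.subsingleton
  exact hnorm

/-- the residual degree rises by the dimension of the closed fibre -/
theorem nontrivial_residue_L {W : Dual.D A} (hW : Dual.IsDualizing A W) (n : ℤ)
    (h : Nontrivial (Dual.inD A (ResidueField A) ⟶ W⟦n⟧))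
    (hC : LocCoh.IsGorensteinLocalRing (B ⧸ (maximalIdeal A).map (algebraMap A B))) (d : ℕ)
    (hd : ringKrullDim (B ⧸ (maximalIdeal A).map (algebraMap A B)) = d) :
    Nontrivial (Dual.inD B (ResidueField B) ⟶ ((FlatBC.L A B).obj W)⟦n + d⟧) := by
  have hn : Dual.IsDualizing A (W⟦n⟧) := isDualizing_shift hW n
  obtain ⟨m, hm, -⟩ := residue_degree (maximalIdeal A) hW
  have hmn : m = n := by
    by_contra hne
    haveI : Subsingleton (Dual.inD A (A ⧸ maximalIdeal A) ⟶ W⟦n⟧) := hm n (Ne.symm hne)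
    haveI : Nontrivial (Dual.inD A (A ⧸ maximalIdeal A) ⟶ W⟦n⟧) := h
    exact not_subsingleton (Dual.inD A (A ⧸ maximalIdeal A) ⟶ W⟦n⟧) inferInstance
  subst hmn
  have hnn : Dual.IsNormalized A (W⟦m⟧) := fun i hi =>
    haveI : Subsingleton (Dual.inD A (A ⧸ maximalIdeal A) ⟶ W⟦m + i⟧) := hm (m + i) (by omega)
    (homShiftEquiv (Dual.inD A (A ⧸ maximalIdeal A)) W m i (m + i) rfl).toEquiv.subsingleton
  let X := ((FlatBC.L A B).obj (W⟦m⟧))⟦(d : ℤ)⟧
  have hX : Dual.IsDualizing B X := isDualizing_shift (isDualizing_L_of_normalized hn hnn hC) d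
  have hXn := isNormalized_L_shift hn hnn hC d hd
  obtain ⟨j, -, ⟨ej⟩⟩ := residue_degree (maximalIdeal B) hX
  have hj : j = 0 := by
    by_contra hne
    haveI : Subsingleton (Dual.inD B (B ⧸ maximalIdeal B) ⟶ X⟦j⟧) := hXn j hne
    exact not_subsingleton (B ⧸ maximalIdeal B) ej.symm.toEquiv.subsingleton
  subst hj
  let e : X⟦(0 : ℤ)⟧ ≅ ((FlatBC.L A B).obj W)⟦m + (d : ℤ)⟧ :=
    (shiftFunctorZero (Dual.D B) ℤ).app X ≪≫
      (shiftFunctor (Dual.D B) (d : ℤ)).mapIso (((FlatBC.L A B).commShiftIso m).app W) ≪≫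
      ((shiftFunctorAdd (Dual.D B) m (d : ℤ)).app _).symm
  exact ((Linear.homCongr B (Iso.refl (Dual.inD B (ResidueField B))) e).symm.trans ej).toEquiv.nontrivial

end Groth.L29.GorBC
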