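import Mathlib.RingTheory.PicardGroup
import Mathlib.RingTheory.Finiteness.Projective
import Mathlib.CategoryTheory.Linear.LinearFunctor
import Mathlib.Algebra.Category.ModuleCat.Basic

/-!
Twisting an object with scalar endomorphisms by an invertible module: linear algebra in a linear category.
-/

set_option autoImplicit false
set_option linter.style.haveILetI false

universe u v w

open CategoryTheory
open scoped TensorProduct

namespace Groth.L29.Retract

variable {A : Type u} [CommRing A] {C : Type w} [Category.{v} C] [Preadditive C] [Linear A C]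

section Pairing

variable {X Y : C} (hX : Function.Bijective fun a : A => a • 𝟙 X)
  (hY : Function.Bijective fun a : A => a • 𝟙 Y)

/-- the scalar of a composite `X ⟶ Y ⟶ X` -/
noncomputable def scal (f : X ⟶ X) : A := (hX.2 f).choose

omit hY in
theorem scal_spec (f : X ⟶ X) : scal hX f • 𝟙 X = f := (hX.2 f).choose_spec

omit hY in
theorem scal_eq {f : X ⟶ X} {a : A} (h : a • 𝟙 X = f) : scal hX f = a :=
  hX.1 ((scal_spec hX f).trans h.symm)

/-- the pairing -/
noncomputable def pairing : (X ⟶ Y) →ₗ[A] (Y ⟶ X) →ₗ[A] A :=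
  LinearMap.mk₂ A (fun x u => scal hX (x ≫ u))
    (fun x x' u => scal_eq hX (by rw [add_smul, scal_spec, scal_spec, Preadditive.add_comp]))
    (fun a x u => scal_eq hX (by rw [smul_eq_mul, mul_smul, scal_spec, Linear.smul_comp]))
    (fun x u u' => scal_eq hX (by rw [add_smul, scal_spec, scal_spec, Preadditive.comp_add]))
    (fun a x u => scal_eq hX (by rw [smul_eq_mul, mul_smul, scal_spec, Linear.comp_smul]))

omit hY in
theorem pairing_spec (x : X ⟶ Y) (u : Y ⟶ X) : pairing hX x u • 𝟙 X = x ≫ u := scal_spec hX _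

include hX hY in
/-- `Hom(X, Y)` is invertible when `𝟙 X` and `𝟙 Y` factor through powers of one another -/
theorem invertible_hom {n : ℕ} (x : Fin n → (X ⟶ Y)) (u : Fin n → (Y ⟶ X))
    (h : ∑ k, x k ≫ u k = 𝟙 X) : Module.Invertible A (X ⟶ Y) := by
  let μ : (X ⟶ Y) ⊗[A] (Y ⟶ X) →ₗ[A] A := TensorProduct.lift (pairing hX)
  let ξ : (X ⟶ Y) ⊗[A] (Y ⟶ X) := ∑ k, x k ⊗ₜ[A] u k
  have h1 : μ ξ = 1 := hX.1 (by
    change μ ξ • 𝟙 X = (1 : A) • 𝟙 X
    refine Eq.trans ?_ (h.trans (one_smul A (𝟙 X)).symm)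
    rw [map_sum, Finset.sum_smul]
    exact Finset.sum_congr rfl fun k _ => by rw [TensorProduct.lift.tmul]; exact pairing_spec hX _ _)
  have hpure : ∀ (y : X ⟶ Y) (v : Y ⟶ X), pairing hX y v • ξ = y ⊗ₜ[A] v := by
    intro y v
    have hk : ∀ k, pairing hX (x k) (u k) • (y ⊗ₜ[A] v) = pairing hX y v • (x k ⊗ₜ[A] u k) := by
      intro k
      let d : A := scal hY (u k ≫ y)
      have hd : d • 𝟙 Y = u k ≫ y := scal_spec hY _
      have ha : pairing hX (x k) (u k) • y = d • x k := by
        calc pairing hX (x k) (u k) • y = (pairing hX (x k) (u k) • 𝟙 X) ≫ y := by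
              rw [Linear.smul_comp, Category.id_comp]
          _ = x k ≫ (d • 𝟙 Y) := by rw [pairing_spec, Category.assoc, hd]
          _ = d • x k := by rw [Linear.comp_smul, Category.comp_id]
      have hb : d • v = pairing hX y v • u k := by
        calc d • v = (d • 𝟙 Y) ≫ v := by rw [Linear.smul_comp, Category.id_comp]
          _ = u k ≫ (pairing hX y v • 𝟙 X) := by rw [hd, pairing_spec, Category.assoc]
          _ = pairing hX y v • u k := by rw [Linear.comp_smul, Category.comp_id]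
      rw [TensorProduct.smul_tmul', ha, TensorProduct.smul_tmul, hb, TensorProduct.tmul_smul]
    calc pairing hX y v • ξ = ∑ k, pairing hX y v • (x k ⊗ₜ[A] u k) := Finset.smul_sum
      _ = ∑ k, pairing hX (x k) (u k) • (y ⊗ₜ[A] v) := Finset.sum_congr rfl fun k _ => (hk k).symm
      _ = μ ξ • (y ⊗ₜ[A] v) := by
          rw [map_sum, Finset.sum_smul]
          exact Finset.sum_congr rfl fun k _ => by rw [TensorProduct.lift.tmul]
      _ = y ⊗ₜ[A] v := by rw [h1, one_smul]
  have hall : ∀ t, μ t • ξ = t := by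
    intro t
    induction t with
    | zero => simp
    | tmul y v => rw [TensorProduct.lift.tmul]; exact hpure y v
    | add s t hs ht => rw [map_add, add_smul, hs, ht]
  exact Module.Invertible.left (LinearEquiv.ofBijective μ
    ⟨fun s t hst => by rw [← hall s, ← hall t, hst], fun a => ⟨a • ξ, by rw [map_smul, h1, smul_eq_mul, mul_one]⟩⟩)

end Pairing

/-- finite projective modules have dual bases -/
theorem exists_dualBasis (P : Type u) [AddCommGroup P] [Module A P] [Module.Finite A P]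
    [Module.Projective A P] : ∃ (n : ℕ) (φ : Fin n → (P →ₗ[A] A)) (x : Fin n → P),
      ∀ p : P, ∑ j, φ j p • x j = p := by
  obtain ⟨n, f, g, -, -, hfg⟩ := Module.Finite.exists_comp_eq_id_of_projective A P
  refine ⟨n, fun j => LinearMap.proj j ∘ₗ g, fun j => f (Pi.single j 1), fun p => ?_⟩
  have h := LinearMap.congr_fun hfg p
  simp only [LinearMap.comp_apply, LinearMap.id_apply] at h
  conv_rhs => rw [← h, pi_eq_sum_univ' (g p)]
  rw [map_sum]
  exact Finset.sum_congr rfl fun j _ => by simp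

section Twist

variable (T : ModuleCat.{u} A ⥤ C) [T.Additive] [T.Linear A] {X : C} (τ : T.obj (ModuleCat.of A A) ≅ X)
  (P : Type u) [AddCommGroup P] [Module A P] {Q : Type u} [AddCommGroup Q] [Module A Q]

variable {P}

/-- the map `X ⟶ T P` of an element -/
noncomputable def g (x : P) : X ⟶ T.obj (ModuleCat.of A P) :=
  τ.inv ≫ T.map (ModuleCat.ofHom (LinearMap.toSpanSingleton A P x))

/-- the map `T P ⟶ X` of a functional -/
noncomputable def q (φ : P →ₗ[A] A) : T.obj (ModuleCat.of A P) ⟶ X :=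
  T.map (ModuleCat.ofHom φ) ≫ τ.hom

theorem g_q (x : P) (φ : P →ₗ[A] A) : g T τ x ≫ q T τ φ = φ x • 𝟙 X := by
  have h : ModuleCat.ofHom (LinearMap.toSpanSingleton A P x) ≫ ModuleCat.ofHom φ =
      φ x • 𝟙 (ModuleCat.of A A) := ModuleCat.hom_ext (LinearMap.ext_ring (by simp))
  rw [g, q, Category.assoc, ← T.map_comp_assoc, h, T.map_smul, CategoryTheory.Functor.map_id,
    Linear.smul_comp, Category.id_comp, Linear.comp_smul, Iso.inv_hom_id]

theorem q_g (φ : P →ₗ[A] A) (y : Q) : q T τ φ ≫ g T τ y =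
    T.map (ModuleCat.ofHom ((LinearMap.toSpanSingleton A Q y) ∘ₗ φ)) := by
  rw [q, g, Category.assoc, Iso.hom_inv_id_assoc, ← T.map_comp]
  rfl

theorem g_map (x : P) (L : P →ₗ[A] Q) : g T τ x ≫ T.map (ModuleCat.ofHom L) = g T τ (L x) := by
  rw [g, g, Category.assoc, ← T.map_comp]
  congr 2
  exact ModuleCat.hom_ext (LinearMap.ext_ring (by simp))

theorem g_add (x y : P) : g T τ (x + y) = g T τ x + g T τ y := by
  have h : ModuleCat.ofHom (LinearMap.toSpanSingleton A P (x + y)) =
      ModuleCat.ofHom (LinearMap.toSpanSingleton A P x) + ModuleCat.ofHom (LinearMap.toSpanSingleton A P y) :=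
    ModuleCat.hom_ext (LinearMap.ext_ring (by simp))
  rw [g, h, T.map_add, Preadditive.comp_add]
  rfl

theorem g_smul (a : A) (x : P) : g T τ (a • x) = a • g T τ x := by
  have h : ModuleCat.ofHom (LinearMap.toSpanSingleton A P (a • x)) =
      a • ModuleCat.ofHom (LinearMap.toSpanSingleton A P x) :=
    ModuleCat.hom_ext (LinearMap.ext_ring (by simp))
  rw [g, h, T.map_smul, Linear.comp_smul]
  rfl

/-- `g` as a linear map -/
noncomputable def gₗ : P →ₗ[A] (X ⟶ T.obj (ModuleCat.of A P)) where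
  toFun := g T τ
  map_add' := g_add T τ
  map_smul' := g_smul T τ

variable {n : ℕ} {φ : Fin n → (P →ₗ[A] A)} {x : Fin n → P} (hφx : ∀ p, ∑ j, φ j p • x j = p)

include hφx in
theorem resolution_id : ∑ j, q T τ (φ j) ≫ g T τ (x j) = 𝟙 (T.obj (ModuleCat.of A P)) := by
  simp only [q_g]
  rw [← T.map_sum, ← T.map_id]
  congr 1
  exact ModuleCat.hom_ext (LinearMap.ext fun p => by simpa [ModuleCat.hom_sum] using hφx p)

include hφx in
theorem ext_g {Z : C} {e e' : T.obj (ModuleCat.of A P) ⟶ Z} (h : ∀ p, g T τ p ≫ e = g T τ p ≫ e') : e = e' := by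
  rw [← Category.id_comp e, ← Category.id_comp e', ← resolution_id T τ hφx, Preadditive.sum_comp,
    Preadditive.sum_comp]
  exact Finset.sum_congr rfl fun j _ => by rw [Category.assoc, Category.assoc, h]

include hφx in
/-- a linear map `P → Hom(X, Z)` comes from a unique map `T P ⟶ Z` -/
theorem exists_desc {Z : C} (e₀ : P →ₗ[A] (X ⟶ Z)) :
    ∃ e : T.obj (ModuleCat.of A P) ⟶ Z, ∀ p, g T τ p ≫ e = e₀ p := by
  refine ⟨∑ j, q T τ (φ j) ≫ e₀ (x j), fun p => ?_⟩
  rw [Preadditive.comp_sum]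
  conv_rhs => rw [← hφx p, map_sum]
  exact Finset.sum_congr rfl fun j _ => by
    rw [← Category.assoc, g_q, Linear.smul_comp, Category.id_comp, map_smul]

include τ hφx in
theorem map_injective (hX : Function.Injective fun a : A => a • 𝟙 X) {m : ℕ} {ψ : Fin m → (Q →ₗ[A] A)}
    {y : Fin m → Q} (hψy : ∀ q, ∑ l, ψ l q • y l = q) {L L' : P →ₗ[A] Q}
    (h : T.map (ModuleCat.ofHom L) = T.map (ModuleCat.ofHom L')) : L = L' := by
  refine LinearMap.ext fun p => ?_
  have hg : g T τ (L p) = g T τ (L' p) := by rw [← g_map, ← g_map, h]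
  rw [← hψy (L p), ← hψy (L' p)]
  refine Finset.sum_congr rfl fun l _ => ?_
  congr 1
  apply hX
  change ψ l (L p) • 𝟙 X = ψ l (L' p) • 𝟙 X
  rw [← g_q T τ, ← g_q T τ, hg]

include τ hφx in
theorem map_surjective (hX : Function.Surjective fun a : A => a • 𝟙 X) {m : ℕ} {ψ : Fin m → (Q →ₗ[A] A)}
    {y : Fin m → Q} (hψy : ∀ q, ∑ l, ψ l q • y l = q)
    (f : T.obj (ModuleCat.of A P) ⟶ T.obj (ModuleCat.of A Q)) :
    ∃ L : P →ₗ[A] Q, T.map (ModuleCat.ofHom L) = f := by
  choose c hc using fun j l => hX ((g T τ (x j) ≫ f) ≫ q T τ (ψ l))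
  refine ⟨∑ j, ∑ l, c j l • (LinearMap.toSpanSingleton A Q (y l) ∘ₗ φ j), ext_g T τ hφx fun p => ?_⟩
  rw [g_map]
  have h1 : g T τ p ≫ f = ∑ j, ∑ l, φ j p • c j l • g T τ (y l) := by
    conv_lhs => rw [← Category.comp_id (g T τ p ≫ f), ← resolution_id T τ hψy, Preadditive.comp_sum]
    rw [Finset.sum_comm]
    refine Finset.sum_congr rfl fun l _ => ?_
    have hp : g T τ p = ∑ j, φ j p • g T τ (x j) := by
      have := congrArg (gₗ T τ) (hφx p)
      rw [map_sum] at this
      exact this.symm.trans (Finset.sum_congr rfl fun j _ => map_smul _ _ _)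
    rw [hp, Preadditive.sum_comp, Preadditive.sum_comp]
    refine Finset.sum_congr rfl fun j _ => ?_
    rw [Linear.smul_comp, Linear.smul_comp, ← Category.assoc, ← hc j l, Linear.smul_comp, Category.id_comp]
  rw [h1]
  change gₗ T τ _ = _
  simp [LinearMap.sum_apply, map_sum, map_smul, gₗ, Finset.smul_sum, smul_comm (φ _ p)]

include τ hφx in
theorem hom_shift_eq_zero (F : C ⥤ C) [F.Additive] {m : ℕ} {ψ : Fin m → (Q →ₗ[A] A)}
    {y : Fin m → Q} (hψy : ∀ q, ∑ l, ψ l q • y l = q) (h0 : Subsingleton (X ⟶ F.obj X)) :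
    Subsingleton (T.obj (ModuleCat.of A P) ⟶ F.obj (T.obj (ModuleCat.of A Q))) := by
  refine subsingleton_of_forall_eq 0 fun f => ext_g T τ hφx fun p => ?_
  rw [Limits.comp_zero, ← Category.comp_id (g T τ p ≫ f), ← F.map_id, ← resolution_id T τ hψy, F.map_sum,
    Preadditive.comp_sum]
  refine Finset.sum_eq_zero fun l _ => ?_
  rw [F.map_comp, ← Category.assoc, h0.elim ((g T τ p ≫ f) ≫ F.map (q T τ (ψ l))) 0, Limits.zero_comp]

include τ hφx in
/-- a twist is recognised by an isomorphism `P ≅ Hom(X, Y)` -/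
theorem nonempty_iso {Y : C} (hX : Function.Bijective fun a : A => a • 𝟙 X) (e₀ : P ≃ₗ[A] (X ⟶ Y))
    {k : ℕ} (u : Fin k → (Y ⟶ X)) (z : Fin k → (X ⟶ Y)) (h : ∑ i, u i ≫ z i = 𝟙 Y) :
    Nonempty (Y ≅ T.obj (ModuleCat.of A P)) := by
  obtain ⟨e, he⟩ := exists_desc T τ hφx e₀.toLinearMap
  refine ⟨{ hom := ∑ i, u i ≫ g T τ (e₀.symm (z i)), inv := e, hom_inv_id := ?_, inv_hom_id := ?_ }⟩
  · rw [Preadditive.sum_comp, ← h]
    exact Finset.sum_congr rfl fun i _ => by
      rw [Category.assoc, he, LinearEquiv.coe_coe, LinearEquiv.apply_symm_apply]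
  · refine ext_g T τ hφx fun p => ?_
    rw [← Category.assoc, he, Category.comp_id, Preadditive.comp_sum]
    have hy : ∀ y : X ⟶ Y, y = ∑ i, pairing hX y (u i) • z i := fun y => by
      conv_lhs => rw [← Category.comp_id y, ← h, Preadditive.comp_sum]
      exact Finset.sum_congr rfl fun i _ => by
        rw [← Category.assoc, ← pairing_spec hX, Linear.smul_comp, Category.id_comp]
    have hp : p = ∑ i, pairing hX (e₀ p) (u i) • e₀.symm (z i) := e₀.injective (by
      rw [map_sum]
      refine (hy (e₀ p)).trans (Finset.sum_congr rfl fun i _ => ?_)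
      rw [map_smul, LinearEquiv.apply_symm_apply])
    conv_rhs => rw [hp]
    change _ = gₗ T τ _
    rw [map_sum]
    refine Finset.sum_congr rfl fun i _ => ?_
    rw [map_smul, ← Category.assoc, LinearEquiv.coe_coe, ← pairing_spec hX, Linear.smul_comp, Category.id_comp]
    rfl

end Twist

end Groth.L29.Retract
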