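import Groth.Agent.L29.Dual.GorensteinFlatBC
import Groth.Agent.L29.Dual.SchCharts
import Groth.Agent.L29.RelPC.BCRel
import Groth.Agent.L05.SmoothCrit.LocalModelScheme
import Groth.Agent.L21.GorensteinScheme
import Groth.Agent.S1830

/-!
Dualizing complexes on schemes and flat Gorenstein morphisms.
-/

set_option autoImplicit false
set_option backward.defeqAttrib.useBackward true
set_option backward.isDefEq.respectTransparency false
set_option backward.isDefEq.respectTransparency.types false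

universe u

open CategoryTheory CategoryTheory.Limits AlgebraicGeometry
open scoped TensorProduct

attribute [local instance] HasDerivedCategory.standard

namespace Groth.L29.SchPull

open Groth.L29.DC Groth.L29.HomD IsLocalRing

variable {A B : Type u} [CommRing A] [CommRing B] [Algebra A B]

/-- the fibre ring of the localisations at a prime -/
def GorAt (A B : Type u) [CommRing A] [CommRing B] [Algebra A B] (Q : Ideal B) [Q.IsPrime] : Prop :=
  LocCoh.IsGorensteinLocalRing (Localization.AtPrime Q ⧸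
    (Q.comap (algebraMap A B)).map (algebraMap A (Localization.AtPrime Q)))

/-- flat, finite type, Gorenstein fibre rings -/
theorem isDualizing_L [IsNoetherianRing A] [Module.Flat A B] [Algebra.FiniteType A B]
    (hG : ∀ (Q : Ideal B) [Q.IsPrime], GorAt A B Q) {K : Dual.D A} (hK : Dual.IsDualizing A K) :
    Dual.IsDualizing B ((FlatBC.L A B).obj K) := by
  haveI : IsNoetherianRing B := Algebra.FiniteType.isNoetherianRing A B
  obtain ⟨ω', hω'⟩ := FlatBC.exists_dualizing_finiteType (A := A) (B := B) ⟨K, hK⟩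
  obtain ⟨a, b, hab⟩ := hK.finite_injective_dimension
  haveI := isGE_of_lower a fun M _ _ i hi => hab M i (Or.inl hi)
  haveI := FlatBC.isGE_L (B := B) K a
  haveI : ∀ p : PrimeSpectrum B, Module.Flat B (Localization.AtPrime p.asIdeal) :=
    fun p => IsLocalization.flat _ p.asIdeal.primeCompl
  refine FlatBC.isDualizing_of_pointwise (Groth.Agent.S0371.result B ω' hω')
    (FlatBC.finite_HD_L hK.finite_cohomology) a
    (fun i hi => ModuleCat.subsingleton_of_isZero
      (DerivedCategory.isZero_of_isGE ((FlatBC.L A B).obj K) a i hi)) (fun Q => ?_)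
  let q : Ideal A := Q.asIdeal.comap (algebraMap A B)
  haveI : Q.asIdeal.LiesOver q := ⟨rfl⟩
  obtain ⟨i, hl, hcomm, hf, -⟩ := Groth.L07.CIFibre.exists_local_map q Q.asIdeal
  letI := i
  haveI := hl
  haveI := hf
  haveI : Module.Flat A (Localization.AtPrime q) := IsLocalization.flat _ q.primeCompl
  haveI : IsNoetherianRing (Localization.AtPrime q) := IsLocalization.isNoetherianRing q.primeCompl _ inferInstance
  haveI : IsNoetherianRing (Localization.AtPrime Q.asIdeal) :=
    IsLocalization.isNoetherianRing Q.asIdeal.primeCompl _ inferInstance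
  haveI : IsScalarTower A (Localization.AtPrime q) (Localization.AtPrime Q.asIdeal) :=
    IsScalarTower.of_algebraMap_eq fun r => by
      rw [hcomm r, ← IsScalarTower.algebraMap_apply]
  haveI : Module.Flat A (Localization.AtPrime Q.asIdeal) := Module.Flat.trans A (Localization.AtPrime q) _
  have hmap : q.map (algebraMap A (Localization.AtPrime Q.asIdeal)) =
      (maximalIdeal (Localization.AtPrime q)).map
        (algebraMap (Localization.AtPrime q) (Localization.AtPrime Q.asIdeal)) := by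
    rw [← Localization.AtPrime.map_eq_maximalIdeal, Ideal.map_map, ← IsScalarTower.algebraMap_eq]
  have h1 := GorBC.isDualizing_L_of_gorenstein (A := Localization.AtPrime q) (B := Localization.AtPrime Q.asIdeal)
    (FlatBC.isDualizing_L_localization (B := Localization.AtPrime q) q.primeCompl hK)
    (Groth.L21.GorensteinAscend.isGorensteinLocalRing_of_ringEquiv (Ideal.quotEquivOfEq hmap) (hG Q.asIdeal))
  exact isDualizing_of_iso ((GorBC.lComp A (Localization.AtPrime q) (Localization.AtPrime Q.asIdeal)).app K ≪≫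
    ((GorBC.lComp A B (Localization.AtPrime Q.asIdeal)).app K).symm) h1

/-- a finite family detecting zero modules detects finiteness -/
theorem finite_of_detects {ι : Type*} [Fintype ι] {C : ι → Type u} [∀ i, CommRing (C i)] [∀ i, Algebra A (C i)]
    (hdet : FlatBC.Detects A C) (N : Type u) [AddCommGroup N] [Module A N]
    (h : ∀ i, Module.Finite (C i) (C i ⊗[A] N)) : Module.Finite A N := by
  classical
  have hi : ∀ i, ∃ S : Finset N, Submodule.span (C i) ((fun n => (1 : C i) ⊗ₜ[A] n) '' (S : Set N)) = ⊤ := fun i => by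
    have htop : Submodule.span (C i) (Set.range fun n : N => (1 : C i) ⊗ₜ[A] n) = ⊤ := by
      refine eq_top_iff.2 fun t _ => ?_
      induction t with
      | zero => exact zero_mem _
      | tmul c n =>
        rw [show c ⊗ₜ[A] n = c • ((1 : C i) ⊗ₜ[A] n) by rw [TensorProduct.smul_tmul', smul_eq_mul, mul_one]]
        exact Submodule.smul_mem _ _ (Submodule.subset_span ⟨n, rfl⟩)
      | add s t hs ht => exact add_mem (hs trivial) (ht trivial)
    obtain ⟨T, hT, hTs⟩ := Submodule.fg_span_iff_fg_span_finset_subset _ |>.1 (htop ▸ (h i).fg_top)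
    choose g hg using fun t : T => hT t.2
    refine ⟨Finset.univ.image g, ?_⟩
    rw [eq_top_iff, ← htop, hTs]
    refine Submodule.span_mono fun t ht => ⟨g ⟨t, ht⟩, by simp, hg ⟨t, ht⟩⟩
  choose S hS using hi
  let N' : Submodule A N := Submodule.span A (((Finset.univ : Finset ι).biUnion S : Finset N) : Set N)
  haveI : Subsingleton (N ⧸ N') := hdet.subsingleton _ fun i => by
    have hq : Function.Surjective (N'.mkQ.lTensor (C i)) := LinearMap.lTensor_surjective _ N'.mkQ_surjective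
    refine subsingleton_of_forall_eq 0 fun y => ?_
    obtain ⟨z, rfl⟩ := hq y
    have hz : z ∈ Submodule.span (C i) ((fun n => (1 : C i) ⊗ₜ[A] n) '' (S i : Set N)) := hS i ▸ trivial
    show TensorProduct.AlgebraTensorModule.lTensor (C i) (C i) N'.mkQ z = 0
    induction hz using Submodule.span_induction with
    | mem x hx =>
      obtain ⟨n, hn, rfl⟩ := hx
      rw [TensorProduct.AlgebraTensorModule.lTensor_tmul, Submodule.mkQ_apply,
        (Submodule.Quotient.mk_eq_zero _).2 (Submodule.subset_span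
          (Finset.mem_coe.2 (Finset.mem_biUnion.2 ⟨i, Finset.mem_univ _, hn⟩))), TensorProduct.tmul_zero]
    | zero => exact map_zero _
    | add x y _ _ hx hy => rw [map_add, hx, hy, add_zero]
    | smul c x _ hx => rw [map_smul, hx, smul_zero]
  exact ⟨by
    rw [← Submodule.Quotient.subsingleton_iff.1 this]
    exact Submodule.fg_span (Finset.finite_toSet _)⟩

variable {X Y : Scheme.{u}}
  [∀ (R : CommRingCat.{u}), PreservesFiniteLimits (tilde.functor R)]

/-- the stalk fibre ring in a chart -/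
theorem gorAt_chart (f : X ⟶ Y) {V : Y.Opens} (hV : IsAffineOpen V) {U : X.Opens} (hU : IsAffineOpen U)
    (e : U ≤ f ⁻¹ᵁ V) (hG : ∀ x, Dual3.IsGorensteinAt f x) :
    letI := (f.appLE V U e).hom.toAlgebra
    ∀ (Q : Ideal Γ(X, U)) [Q.IsPrime], GorAt Γ(Y, V) Γ(X, U) Q := by
  letI := (f.appLE V U e).hom.toAlgebra
  intro Q hQ
  let q : PrimeSpectrum Γ(X, U) := ⟨Q, hQ⟩
  let x := hU.fromSpec q
  have hxU : x ∈ U := by
    have : x ∈ Set.range hU.fromSpec := ⟨q, rfl⟩
    rwa [hU.range_fromSpec] at this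
  have hxV : f x ∈ V := e hxU
  letI aX := X.presheaf.algebra_section_stalk (⟨x, hxU⟩ : U)
  letI aY := Y.presheaf.algebra_section_stalk (⟨f x, hxV⟩ : V)
  have hqx : hU.primeIdealOf ⟨x, hxU⟩ = q :=
    hU.fromSpec.isOpenEmbedding.injective (hU.fromSpec_primeIdealOf ⟨x, hxU⟩)
  haveI : IsLocalization Q.primeCompl (X.presheaf.stalk x) := by
    have h := hU.isLocalization_stalk ⟨x, hxU⟩
    rw [hqx] at h
    exact h
  let η := IsLocalization.algEquiv Q.primeCompl (X.presheaf.stalk x) (Localization.AtPrime Q)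
  letI := (f.stalkMap x).hom.toAlgebra
  have hp : (hV.primeIdealOf ⟨f x, hxV⟩).asIdeal = Q.comap (algebraMap Γ(Y, V) Γ(X, U)) := by
    have h : hV.primeIdealOf ⟨f x, hxV⟩ = Spec.map (f.appLE V U e) q := by
      refine hV.fromSpec.isOpenEmbedding.injective ((hV.fromSpec_primeIdealOf ⟨f x, hxV⟩).trans ?_)
      exact (congrArg (fun g : Spec Γ(X, U) ⟶ Y => g q) (IsAffineOpen.SpecMap_appLE_fromSpec f hV hU e)).symm
    rw [h]
    rfl
  have hgerm : ∀ a : Γ(Y, V), f.stalkMap x (Y.presheaf.germ V (f x) hxV a) =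
      X.presheaf.germ U x hxU (f.appLE V U e a) := fun a => by
    rw [Scheme.Hom.germ_stalkMap_apply, Scheme.Hom.appLE, CommRingCat.comp_apply]
    exact (X.presheaf.germ_res_apply (homOfLE e) x hxU _).symm
  haveI := hV.isLocalization_stalk ⟨f x, hxV⟩
  have hm : (maximalIdeal (Y.presheaf.stalk (f x))).map (algebraMap (Y.presheaf.stalk (f x)) (X.presheaf.stalk x)) =
      (Q.comap (algebraMap Γ(Y, V) Γ(X, U))).map
        ((algebraMap Γ(X, U) (X.presheaf.stalk x)).comp (algebraMap Γ(Y, V) Γ(X, U))) := by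
    rw [← IsLocalization.AtPrime.map_eq_maximalIdeal (hV.primeIdealOf ⟨f x, hxV⟩).asIdeal
      (Y.presheaf.stalk (f x)), hp, Ideal.map_map]
    exact congrArg (Ideal.map · _) (RingHom.ext hgerm)
  refine Groth.L21.GorensteinAscend.isGorensteinLocalRing_of_ringEquiv
    (Ideal.quotientEquiv _ _ η.toRingEquiv ?_) ((Groth.L21.GorensteinScheme.gorenstein_fibre_iff f x).2 (hG x).2)
  rw [show EGA4.mB (Y.presheaf.stalk (f x)) (X.presheaf.stalk x) = _ from hm, Ideal.map_map]
  exact congrArg (Ideal.map · _) (RingHom.ext fun a => (η.commutes (algebraMap Γ(Y, V) Γ(X, U) a)).symm.trans (by rfl))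

/-- pullback in a chart -/
theorem nonempty_chart_iso (f : X ⟶ Y) [Flat f] [DCoh.HasLpull f] {V : Y.Opens} (hV : IsAffineOpen V)
    {U : X.Opens} (hU : IsAffineOpen U) (e : U ≤ f ⁻¹ᵁ V) {K : DCoh.D Y} {ω : Dual.D Γ(Y, V)}
    (eK : (DCoh.restrictD hV.fromSpec).obj K ≅ (DCoh.tildeD Γ(Y, V)).obj ω) :
    letI := (f.appLE V U e).hom.toAlgebra
    haveI : Module.Flat Γ(Y, V) Γ(X, U) := f.flat_appLE hV hU e
    Nonempty ((DCoh.restrictD hU.fromSpec).obj ((DCoh.Lpull f).obj K) ≅
      (DCoh.tildeD Γ(X, U)).obj ((FlatBC.L Γ(Y, V) Γ(X, U)).obj ω)) := by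
  letI := (f.appLE V U e).hom.toAlgebra
  haveI : Module.Flat Γ(Y, V) Γ(X, U) := f.flat_appLE hV hU e
  haveI := Groth.L00.KFlat.hasLpull (Spec.map (f.appLE V U e))
  haveI : DRing.HasLBaseChange (algebraMap Γ(Y, V) Γ(X, U)) := LBC.hasLBaseChange (f.appLE V U e)
  obtain ⟨a⟩ := Groth.L29.RelPC.nonempty_restrict_chart f hV hU e K
  obtain ⟨b⟩ := LBC.nonempty_tildeDIso (f.appLE V U e)
  exact ⟨a.symm ≪≫ (DCoh.Lpull (Spec.map (f.appLE V U e))).mapIso eK ≪≫ (b.app ω).symm ≪≫
    (DCoh.tildeD Γ(X, U)).mapIso ((FlatBC.lbcIso (A := Γ(Y, V)) (B := Γ(X, U))).app ω)⟩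

variable [IsLocallyNoetherian X] [IsLocallyNoetherian Y]
  [∀ (U : Scheme.{u}) (j : U ⟶ X) [IsOpenImmersion j], PreservesFiniteLimits (Scheme.Modules.restrictFunctor j)]
  [∀ (U : Scheme.{u}) (j : U ⟶ Y) [IsOpenImmersion j], PreservesFiniteLimits (Scheme.Modules.restrictFunctor j)]

theorem isDualizingSch_Lpull (f : X ⟶ Y) [Flat f] [LocallyOfFiniteType f]
    (hG : ∀ x, Dual3.IsGorensteinAt f x) [DCoh.HasLpull f] {K : DCoh.D Y} (hK : Dual2.IsDualizingSch Y K) :
    Dual2.IsDualizingSch X ((DCoh.Lpull f).obj K) := by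
  refine SchCharts.isDualizingSch_of_cover fun x => ?_
  obtain ⟨_, ⟨V, hV, rfl⟩, hxV, -⟩ :=
    Y.isBasis_affineOpens.exists_subset_of_mem_open (Set.mem_univ (f x)) isOpen_univ
  obtain ⟨_, ⟨U, hU, rfl⟩, hxU, e⟩ :=
    X.isBasis_affineOpens.exists_subset_of_mem_open (show x ∈ (f ⁻¹ᵁ V : Set X) from hxV) (f ⁻¹ᵁ V).2
  obtain ⟨ω, hω, ⟨eK⟩⟩ := hK Γ(Y, V) hV.fromSpec
  haveI := IsLocallyNoetherian.component_noetherian (X := Y) ⟨V, hV⟩
  letI := (f.appLE V U e).hom.toAlgebra
  haveI : Module.Flat Γ(Y, V) Γ(X, U) := f.flat_appLE hV hU e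
  haveI : Algebra.FiniteType Γ(Y, V) Γ(X, U) := f.finiteType_appLE hV hU e
  exact ⟨_, hU.fromSpec, inferInstance, _, hU.opensRange_fromSpec.ge hxU,
    isDualizing_L (gorAt_chart f hV hU e hG) hω, nonempty_chart_iso f hV hU e eK⟩

theorem isDualizingSch_of_Lpull (f : X ⟶ Y) [Flat f] [LocallyOfFiniteType f] [Surjective f]
    [DCoh.HasLpull f] {K : DCoh.D Y} (hQ : DCoh.IsQCohD K)
    (hK' : Dual2.IsDualizingSch X ((DCoh.Lpull f).obj K)) : Dual2.IsDualizingSch Y K := by
  haveI : LocallyOfFinitePresentation f := Groth.L05.SmoothCrit.lfp_of_noetherian f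
  refine SchCharts.isDualizingSch_of_cover fun y => ?_
  obtain ⟨_, ⟨V, hV, rfl⟩, hyV, -⟩ :=
    Y.isBasis_affineOpens.exists_subset_of_mem_open (Set.mem_univ y) isOpen_univ
  obtain ⟨ω, ⟨eω⟩⟩ := (TildeD.isQCohD_iff _).1 (isQCohD_restrictD hV.fromSpec hQ)
  haveI := IsLocallyNoetherian.component_noetherian (X := Y) ⟨V, hV⟩
  refine ⟨_, hV.fromSpec, inferInstance, ω, hV.opensRange_fromSpec.ge hyV, ?_, ⟨eω.symm⟩⟩
  have hch : ∀ v : V, ∃ (U : X.Opens) (_ : IsAffineOpen U) (_ : U ≤ f ⁻¹ᵁ V), v.1 ∈ f '' (U : Set X) := fun v => by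
    obtain ⟨x, hx⟩ := f.surjective v.1
    obtain ⟨_, ⟨U, hU, rfl⟩, hxU, e⟩ :=
      X.isBasis_affineOpens.exists_subset_of_mem_open (show x ∈ (f ⁻¹ᵁ V : Set X) by
        show f x ∈ V; rw [hx]; exact v.2) (f ⁻¹ᵁ V).2
    exact ⟨U, hU, e, x, hxU, hx⟩
  choose U hU e hmem using hch
  obtain ⟨s, hs⟩ := hV.isCompact.elim_finite_subcover (fun v : V => f '' (U v : Set X))
    (fun v => f.isOpenMap _ (U v).2) (fun v hv => Set.mem_iUnion.2 ⟨⟨v, hv⟩, hmem _⟩)
  let C : s → Type u := fun v => Γ(X, U v.1)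
  letI : ∀ v : s, Algebra Γ(Y, V) (C v) := fun v => (f.appLE V (U v.1) (e v.1)).hom.toAlgebra
  haveI : ∀ v : s, Module.Flat Γ(Y, V) (C v) := fun v => f.flat_appLE hV (hU v.1) (e v.1)
  have hd : ∀ v : s, Dual.IsDualizing (C v) ((FlatBC.L Γ(Y, V) (C v)).obj ω) := fun v => by
    obtain ⟨ω', hω', ⟨e'⟩⟩ := hK' Γ(X, U v.1) (hU v.1).fromSpec
    obtain ⟨a⟩ := nonempty_chart_iso f hV (hU v.1) (e v.1) eω.symm
    obtain ⟨c⟩ := SchCharts.iso_of_tilde (e'.symm ≪≫ a)
    exact isDualizing_of_iso c hω'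
  have hdet : FlatBC.Detects Γ(Y, V) C := SchCharts.detects_of_cover C fun p => by
    have hp : hV.fromSpec p ∈ V := by
      have : hV.fromSpec p ∈ Set.range hV.fromSpec := ⟨p, rfl⟩
      rwa [hV.range_fromSpec] at this
    obtain ⟨v, hv, x, hxU, hx⟩ : ∃ v ∈ s, ∃ x ∈ U v, f x = hV.fromSpec p := by
      simpa using hs hp
    refine ⟨⟨v, hv⟩, (hU v).primeIdealOf ⟨x, hxU⟩, hV.fromSpec.isOpenEmbedding.injective ?_⟩
    exact (congrArg (fun g : Spec Γ(X, U v) ⟶ Y => g ((hU v).primeIdealOf ⟨x, hxU⟩))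
      (IsAffineOpen.SpecMap_appLE_fromSpec f hV (hU v) (e v))).trans
      ((congrArg f ((hU v).fromSpec_primeIdealOf ⟨x, hxU⟩)).trans hx)
  have hfin : ∀ n : ℤ, Module.Finite Γ(Y, V) (Dual.HD Γ(Y, V) ω n) := fun n =>
    finite_of_detects hdet _ fun v =>
      haveI := (hd v).finite_cohomology n
      Module.Finite.equiv (FlatBC.hEquiv Γ(Y, V) (C v) ω n)
  choose a b hab using fun v : s => (hd v).finite_injective_dimension
  obtain ⟨a₀, ha₀⟩ := Finite.exists_ge a
  obtain ⟨b₀, hb₀⟩ := Finite.exists_le b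
  refine FlatBC.isDualizing_of_family (B := C) hdet hfin a₀ b₀ (fun v n hn => ?_)
    (fun v N _ _ _ j hj => hab v N j (Or.inr ((hb₀ v).trans_lt hj))) hd
  haveI := hab v (C v) n (Or.inl (hn.trans_le (ha₀ v)))
  exact (evalShiftEquiv ((FlatBC.L Γ(Y, V) (C v)).obj ω) n).symm.toEquiv.subsingleton

/-- flat local complete intersection morphisms are Gorenstein -/
theorem isGorensteinAt_of_lci (f : X ⟶ Y) [Flat f] (hf : Dual3.IsLCIMor f) (x : X) : Dual3.IsGorensteinAt f x := by
  refine ⟨Flat.stalkMap f x, (Groth.L21.GorensteinScheme.gorenstein_fibre_iff f x).1 ?_⟩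
  obtain ⟨⟨U, hU⟩, ⟨V, hV⟩, e, hxU, hl⟩ := hf x
  letI := (f.appLE V U e).hom.toAlgebra
  haveI : Module.Flat Γ(Y, V) Γ(X, U) := f.flat_appLE hV hU e
  haveI := IsLocallyNoetherian.component_noetherian (X := Y) ⟨V, hV⟩
  have hxV : f x ∈ V := e hxU
  let q := hU.primeIdealOf ⟨x, hxU⟩
  let p : Ideal Γ(Y, V) := q.asIdeal.comap (algebraMap Γ(Y, V) Γ(X, U))
  haveI : q.asIdeal.LiesOver p := ⟨rfl⟩
  obtain ⟨i, hl', hcomm, hflat, P, hP, ⟨eP⟩⟩ := Groth.L07.CIFibre.exists_local_map p q.asIdeal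
  letI := i
  haveI := hl.1
  haveI : IsNoetherianRing (p.ResidueField ⊗[Γ(Y, V)] Γ(X, U)) :=
    Algebra.FiniteType.isNoetherianRing p.ResidueField _
  haveI : IsNoetherianRing (Γ(X, U) ⊗[Γ(Y, V)] p.ResidueField) :=
    isNoetherianRing_of_ringEquiv _ (Algebra.TensorProduct.comm Γ(Y, V) p.ResidueField Γ(X, U)).toRingEquiv
  have hfib : Groth.L21.GorensteinFieldExt.LocGor (p.Fiber Γ(X, U)) :=
    Groth.L21.GorensteinFieldExt.locGor_of_ringEquiv (A := Γ(X, U) ⊗[Γ(Y, V)] p.ResidueField)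
      (Algebra.TensorProduct.comm Γ(Y, V) Γ(X, U) p.ResidueField).toRingEquiv fun P' _ =>
        (Groth.Agent.S1830.result Γ(Y, V) Γ(X, U) hl ⟨p, inferInstance⟩).isGorensteinLocalRing_localization P'
  have h := Groth.L21.GorensteinAscend.isGorensteinLocalRing_of_ringEquiv eP (hfib P)
  letI := (f.stalkMap x).hom.toAlgebra
  letI aX := X.presheaf.algebra_section_stalk (⟨x, hxU⟩ : U)
  letI aY := Y.presheaf.algebra_section_stalk (⟨f x, hxV⟩ : V)
  haveI := hU.isLocalization_stalk ⟨x, hxU⟩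
  haveI := hV.isLocalization_stalk ⟨f x, hxV⟩
  let η := IsLocalization.algEquiv q.asIdeal.primeCompl (Localization.AtPrime q.asIdeal) (X.presheaf.stalk x)
  have hp : (hV.primeIdealOf ⟨f x, hxV⟩).asIdeal = p := by
    have h : hV.primeIdealOf ⟨f x, hxV⟩ = Spec.map (f.appLE V U e) q := by
      refine hV.fromSpec.isOpenEmbedding.injective ((hV.fromSpec_primeIdealOf ⟨f x, hxV⟩).trans ?_)
      exact ((congrArg (fun g : Spec Γ(X, U) ⟶ Y => g q) (IsAffineOpen.SpecMap_appLE_fromSpec f hV hU e)).trans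
        (congrArg f (hU.fromSpec_primeIdealOf ⟨x, hxU⟩))).symm
    rw [h]
    rfl
  have hgerm : ∀ a : Γ(Y, V), f.stalkMap x (Y.presheaf.germ V (f x) hxV a) =
      X.presheaf.germ U x hxU (f.appLE V U e a) := fun a => by
    rw [Scheme.Hom.germ_stalkMap_apply, Scheme.Hom.appLE, CommRingCat.comp_apply]
    exact (X.presheaf.germ_res_apply (homOfLE e) x hxU _).symm
  refine Groth.L21.GorensteinAscend.isGorensteinLocalRing_of_ringEquiv (Ideal.quotientEquiv _ _ η.toRingEquiv ?_) h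
  show (maximalIdeal (Y.presheaf.stalk (f x))).map _ =
    ((maximalIdeal (Localization.AtPrime p)).map _).map _
  rw [← IsLocalization.AtPrime.map_eq_maximalIdeal (hV.primeIdealOf ⟨f x, hxV⟩).asIdeal (Y.presheaf.stalk (f x)),
    ← Localization.AtPrime.map_eq_maximalIdeal, Ideal.map_map, Ideal.map_map, Ideal.map_map, hp]
  refine congrArg (Ideal.map · _) (RingHom.ext fun a => (hgerm a).trans ?_)
  show _ = η (algebraMap (Localization.AtPrime p) (Localization.AtPrime q.asIdeal) (algebraMap Γ(Y, V) _ a))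
  rw [hcomm a, η.commutes]
  rfl

end Groth.L29.SchPull
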