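import Groth.Agent.L29.Dual.SchCharts
import Groth.Agent.L29.Dual.SchStalk
import Groth.Agent.L29.BidualSch.Chart
import Groth.Agent.L22.ExtSh.RestrictHom

/-!
A bounded complex of injective sheaves with coherent cohomology and dualizing stalks is dualizing.
-/

set_option autoImplicit false
set_option backward.defeqAttrib.useBackward true
set_option backward.isDefEq.respectTransparency false
set_option backward.isDefEq.respectTransparency.types false
set_option linter.style.haveILetI false

universe u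

open CategoryTheory CategoryTheory.Limits AlgebraicGeometry

attribute [local instance] HasDerivedCategory.standard

noncomputable section

namespace Groth.L29.SchStalkInj

open Groth.L29.DC Groth.L29.HomD Groth.L00 Groth.L29.SchCharts

/-- maps between derived tildes into bounded injectives vanish outside the range -/
theorem subsingleton_hom {R : CommRingCat.{u}} [PreservesFiniteLimits (tilde.functor R)]
    (J : CochainComplex (Spec R).Modules ℤ) (hJ : ∀ i, Injective (J.X i)) (a b : ℤ) [J.IsStrictlyGE a]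
    [J.IsStrictlyLE b] {N : Dual.D R} (e : DCoh.toD (Spec R) J ≅ (DCoh.tildeD R).obj N)
    (M : ModuleCat.{u} R) (i : ℤ) (hi : i < a ∨ b < i) :
    Subsingleton ((DerivedCategory.singleFunctor (ModuleCat.{u} R) 0).obj M ⟶ N⟦i⟧) := by
  obtain ⟨hf, hff⟩ := TildeD.fullyFaithful (R := R)
  haveI := hf
  haveI := hff
  let P := (TildeAlg.tC (R := R)).obj ((CochainComplex.singleFunctor (ModuleCat.{u} R) 0).obj M)
  let T := J⟦i⟧
  haveI := hJ
  haveI : T.IsStrictlyGE (a - i) := CochainComplex.isStrictlyGE_shift _ a i (a - i) (by omega)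
  haveI : T.IsStrictlyLE (b - i) := CochainComplex.isStrictlyLE_shift _ b i (b - i) (by omega)
  haveI : ∀ k, Injective (T.X k) := fun k => hJ (k + i)
  haveI : T.IsKInjective := CochainComplex.isKInjective_of_injective T (a - i)
  have hP : ∀ k, k ≠ 0 → IsZero (P.X k) := fun k hk =>
    (tilde.functor R).map_isZero (HomologicalComplex.isZero_single_obj_X _ _ _ _ hk)
  have h0 : ∀ f : DerivedCategory.Q.obj P ⟶ DerivedCategory.Q.obj T, f = 0 := fun f => by
    obtain ⟨φ, hφ⟩ := DerAdj.exists_Q_map f
    have : φ = 0 := HomologicalComplex.hom_ext _ _ fun k => by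
      rcases eq_or_ne k 0 with rfl | hk
      · rcases hi with hi | hi
        · exact (T.isZero_of_isStrictlyGE (a - i) 0 (by omega)).eq_of_tgt _ _
        · exact (T.isZero_of_isStrictlyLE (b - i) 0 (by omega)).eq_of_tgt _ _
      · exact (hP k hk).eq_of_src _ _
    rw [← hφ, this, Functor.map_zero]
  let a₁ : DerivedCategory.Q.obj P ≅
      (DCoh.tildeD R).obj ((DerivedCategory.singleFunctor (ModuleCat.{u} R) 0).obj M) :=
    (TildeAlg.qIso _).symm ≪≫ (DCoh.tildeD R).mapIso ((DerivedCategory.singleFunctorIsoCompQ _ 0).app M).symm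
  let a₂ : (DCoh.tildeD R).obj (N⟦i⟧) ≅ DerivedCategory.Q.obj T :=
    ((DCoh.tildeD R).commShiftIso i).app N ≪≫ (shiftFunctor (DCoh.D (Spec R)) i).mapIso e.symm ≪≫
      ((DerivedCategory.Q.commShiftIso i).app J).symm
  refine ⟨fun f g => (DCoh.tildeD R).map_injective ?_⟩
  rw [← cancel_epi a₁.hom, ← cancel_mono a₂.hom, h0 ((a₁.hom ≫ (DCoh.tildeD R).map f) ≫ a₂.hom),
    h0 ((a₁.hom ≫ (DCoh.tildeD R).map g) ≫ a₂.hom)]

variable {X : Scheme.{u}}

/-- the stalk complex over the identity is the stalk complex -/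
def stalkOverIdIso (x : X) : DerSch.stalkOver (𝟙 X) x ≅ Stk.F X x :=
  Functor.isoWhiskerLeft (DerSch.stalkFunctor X x)
    (ModuleCat.restrictScalarsId'.{u} ((𝟙 X : X ⟶ X).stalkMap x).hom (by simp)) ≪≫ Functor.rightUnitor _

/-- stalk complexes of a model of a restriction to an affine chart are flat base changes -/
theorem nonempty_stalk_iso {R : CommRingCat.{u}} [PreservesFiniteLimits (tilde.functor R)] (j : Spec R ⟶ X)
    [IsOpenImmersion j] [PreservesFiniteLimits (Scheme.Modules.restrictFunctor j)] (I : CochainComplex X.Modules ℤ)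
    {N : Dual.D R} (e : (DCoh.restrictD j).obj (DCoh.toD X I) ≅ (DCoh.tildeD R).obj N) (q : Spec R) :
    letI := (KFlat.toStalk R q).toAlgebra
    letI := (PullStalk.φ j q).toAlgebra
    ∀ [Module.Flat R ((Spec R).presheaf.stalk q)] [Module.Flat (X.presheaf.stalk (j q)) ((Spec R).presheaf.stalk q)],
    Nonempty ((FlatBC.L R ((Spec R).presheaf.stalk q)).obj N ≅
      (FlatBC.L (X.presheaf.stalk (j q)) ((Spec R).presheaf.stalk q)).obj
        (DRing.toD ((DerSch.stalkCxOver (𝟙 X) (j q)).obj I))) := by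
  letI : Algebra R ((Spec R).presheaf.stalk q) := (KFlat.toStalk R q).toAlgebra
  letI : Algebra (X.presheaf.stalk (j q)) ((Spec R).presheaf.stalk q) := (PullStalk.φ j q).toAlgebra
  intro _ _
  let Fq := Stk.F (Spec R) q
  haveI : PreservesFiniteLimits Fq := Stk.preservesFiniteLimits (X := Spec R) q
  haveI : PreservesFiniteColimits Fq := Stk.preservesFiniteColimits (X := Spec R) q
  let E := DerivedCategory.Q.objPreimage N
  let eN : DerivedCategory.Q.obj E ≅ N := DerivedCategory.Q.objObjPreimageIso N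
  let J : CochainComplex (Spec R).Modules ℤ := ((Scheme.Modules.restrictFunctor j).mapHomologicalComplex (ComplexShape.up ℤ)).obj I
  let tE := (TildeAlg.tC (R := R)).obj E
  let c : DerivedCategory.Q.obj tE ≅ DerivedCategory.Q.obj J :=
    (TildeAlg.qIso E).symm ≪≫ (DCoh.tildeD R).mapIso eN ≪≫ e.symm ≪≫
      (Scheme.Modules.restrictFunctor j).mapDerivedCategoryFactors.app I
  let lE := FlatBC.ext R ((Spec R).presheaf.stalk q)
  let lX := FlatBC.ext (X.presheaf.stalk (j q)) ((Spec R).presheaf.stalk q)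
  let s₁ : (lE.mapHomologicalComplex (ComplexShape.up ℤ)).obj E ≅
      (Fq.mapHomologicalComplex (ComplexShape.up ℤ)).obj tE :=
    ((NatIso.mapHomologicalComplex (KFlat.tildeStalkIso R q) (ComplexShape.up ℤ)).app E).symm
  let s₂ : (Fq.mapHomologicalComplex (ComplexShape.up ℤ)).obj J ≅
      (lX.mapHomologicalComplex (ComplexShape.up ℤ)).obj ((DerSch.stalkCxOver (𝟙 X) (j q)).obj I) :=
    (NatIso.mapHomologicalComplex (Functor.isoWhiskerRight (Scheme.Modules.restrictFunctorIsoPullback j) Fq ≪≫
      PullStalk.stalkIso j q ≪≫ Functor.isoWhiskerRight (stalkOverIdIso (j q)).symm lX) (ComplexShape.up ℤ)).app I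
  exact ⟨(FlatBC.L R _).mapIso eN.symm ≪≫ lE.mapDerivedCategoryFactors.app E ≪≫ DerivedCategory.Q.mapIso s₁ ≪≫
    (Fq.mapDerivedCategoryFactors.app tE).symm ≪≫ Fq.mapDerivedCategory.mapIso c ≪≫
    Fq.mapDerivedCategoryFactors.app J ≪≫ DerivedCategory.Q.mapIso s₂ ≪≫
    (lX.mapDerivedCategoryFactors.app ((DerSch.stalkCxOver (𝟙 X) (j q)).obj I)).symm⟩

theorem isDualizingSch [IsLocallyNoetherian X]
    [∀ (U : Scheme.{u}) (j : U ⟶ X) [IsOpenImmersion j], PreservesFiniteLimits (Scheme.Modules.restrictFunctor j)]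
    [∀ (R : CommRingCat.{u}), PreservesFiniteLimits (tilde.functor R)]
    (I : CochainComplex X.Modules ℤ) (hI : ∀ i, Injective (I.X i)) (a b : ℤ) [I.IsStrictlyGE a] [I.IsStrictlyLE b]
    (hcoh : DCoh.IsCohD (DCoh.toD X I))
    (hst : ∀ x : X, Dual.IsDualizing (X.presheaf.stalk ((𝟙 X : X ⟶ X).base x))
      (DRing.toD ((DerSch.stalkCxOver (𝟙 X) x).obj I))) :
    Dual2.IsDualizingSch X (DCoh.toD X I) := by
  refine isDualizingSch_of_cover fun x => ?_
  obtain ⟨_, ⟨U, hU, rfl⟩, hxU, -⟩ :=
    X.isBasis_affineOpens.exists_subset_of_mem_open (Set.mem_univ x) isOpen_univ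
  let R := Γ(X, U)
  let j : Spec R ⟶ X := hU.fromSpec
  haveI : IsNoetherianRing R := IsLocallyNoetherian.component_noetherian (X := X) ⟨U, hU⟩
  let J : CochainComplex (Spec R).Modules ℤ := ((Scheme.Modules.restrictFunctor j).mapHomologicalComplex (ComplexShape.up ℤ)).obj I
  have hc : DCoh.IsCohD ((DCoh.restrictD j).obj (DCoh.toD X I)) := fun i =>
    Groth.L16.CohSupport.isCoh_of_iso (HDResIso j _ i).symm (RHomC.isCoh_restrict j (hcoh i))
  obtain ⟨K, hfin, ⟨eK⟩⟩ := Groth.L29.BidualSch.exists_finite_model _ hc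
  let e : (DCoh.restrictD j).obj (DCoh.toD X I) ≅ (DCoh.tildeD R).obj (DRing.toD K) :=
    eK.symm ≪≫ (TildeAlg.qIso K).symm
  haveI : ∀ i, Injective (J.X i) := fun i => by
    haveI := hI i
    exact Groth.L22.ExtSh.injective_restrict j (I.X i)
  haveI : J.IsStrictlyGE a := (CochainComplex.isStrictlyGE_iff _ _).2 fun i hi =>
    (Scheme.Modules.restrictFunctor j).map_isZero (I.isZero_of_isStrictlyGE a i hi)
  haveI : J.IsStrictlyLE b := (CochainComplex.isStrictlyLE_iff _ _).2 fun i hi =>
    (Scheme.Modules.restrictFunctor j).map_isZero (I.isZero_of_isStrictlyLE b i hi)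
  letI : ∀ q : Spec R, Algebra R ((Spec R).presheaf.stalk q) := fun q => (KFlat.toStalk R q).toAlgebra
  haveI hloc : ∀ q : Spec R, IsLocalization.AtPrime ((Spec R).presheaf.stalk q) q.asIdeal :=
    fun q => TorTest.isLocalization_toStalk q
  haveI : ∀ q : Spec R, Module.Flat R ((Spec R).presheaf.stalk q) := fun q =>
    IsLocalization.flat _ q.asIdeal.primeCompl
  refine ⟨R, j, inferInstance, DRing.toD K, hU.opensRange_fromSpec.symm.le hxU, ?_, ⟨e⟩⟩
  refine FlatBC.isDualizing_of_family_of_injDim (B := fun q : Spec R => ((Spec R).presheaf.stalk q))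
    (fun N _ _ hN => ?_) hfin a b (fun M _ _ i hi => ?_) fun q => ?_
  · refine Module.subsingleton_of_localization_maximal (R := R) (M := N)
      (fun (P : Ideal R) [P.IsMaximal] => LocalizedModule P.primeCompl N)
      (fun (P : Ideal R) [P.IsMaximal] => LocalizedModule.mkLinearMap P.primeCompl N) fun P hP => ?_
    haveI := hN ⟨P, hP.isPrime⟩
    haveI := hloc ⟨P, hP.isPrime⟩
    haveI : Subsingleton (TensorProduct R (Localization.AtPrime P) N) :=
      (TensorProduct.congr (IsLocalization.algEquiv P.primeCompl (Localization.AtPrime P)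
        ((Spec R).presheaf.stalk ⟨P, hP.isPrime⟩)).toLinearEquiv (LinearEquiv.refl R N)).toEquiv.subsingleton
    exact (LocalizedModule.equivTensorProduct P.primeCompl N).toEquiv.subsingleton
  · exact subsingleton_hom J inferInstance a b
      (((Scheme.Modules.restrictFunctor j).mapDerivedCategoryFactors.app I).symm ≪≫ e) (ModuleCat.of R M) i hi
  · let x := j q
    letI : Algebra (X.presheaf.stalk x) ((Spec R).presheaf.stalk q) := (PullStalk.φ j q).toAlgebra
    have hbij : Function.Bijective (algebraMap (X.presheaf.stalk x) ((Spec R).presheaf.stalk q)) :=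
      (asIso (j.stalkMap q)).commRingCatIsoToRingEquiv.bijective
    haveI : IsLocalization (⊥ : Submonoid (X.presheaf.stalk x)) (X.presheaf.stalk x) :=
      IsLocalization.self (by simp)
    haveI : IsLocalization (⊥ : Submonoid (X.presheaf.stalk x)) ((Spec R).presheaf.stalk q) :=
      IsLocalization.isLocalization_of_algEquiv _ (AlgEquiv.ofBijective (Algebra.ofId _ _) hbij)
    haveI : Module.Flat (X.presheaf.stalk x) ((Spec R).presheaf.stalk q) := IsLocalization.flat _ (⊥ : Submonoid _)
    haveI := (hst x).isNoetherianRing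
    obtain ⟨w⟩ := nonempty_stalk_iso j I e q
    exact isDualizing_of_iso w.symm (FlatBC.isDualizing_L_localization (⊥ : Submonoid (X.presheaf.stalk x)) (hst x))

end Groth.L29.SchStalkInj
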