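import Groth.Agent.L29.Dual.ResidueShift
import Groth.Agent.L29.Dual.GorensteinFlatBC
import Groth.Agent.L20.RG.DimFlat
import Groth.Agent.L20.RG.StepFacts
import Groth.Agent.L20.RG.DevOps
import Groth.Agent.L03.MiracleQF
import Groth.Agent.L03.GeomRegular
import Groth.Agent.L28.EtTrace.CurveTrdeg
import Groth.Agent.S0342

/-!
The fibre local ring of a smooth algebra at a prime.
-/

set_option autoImplicit false
set_option backward.defeqAttrib.useBackward true
set_option maxSynthPendingDepth 3
set_option linter.style.haveILetI false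

universe u

open CategoryTheory AlgebraicGeometry TensorProduct

set_option backward.isDefEq.respectTransparency false

noncomputable section

namespace Groth.L29.SmoothDegree

variable {A B : Type u} [CommRing A] [CommRing B] [Algebra A B]

/-- the prime of the fibre under the residue field -/
theorem exists_prime_fibre (p : Ideal A) [p.IsPrime] (Q : Ideal B) [Q.IsPrime] [hQ : Q.LiesOver p] :
    ∃ (P : Ideal (p.Fiber B)) (_ : P.IsPrime),
      P.comap (Algebra.TensorProduct.includeRight (R := A) (A := p.ResidueField) (B := B)) = Q ∧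
      Groth.L20.RG.relTrdeg p Q = Algebra.trdeg p.ResidueField (p.Fiber B ⧸ P) := by
  let i : p.ResidueField →ₐ[A] Q.ResidueField := Ideal.ResidueField.mapₐ p Q (Algebra.ofId A B) hQ.over
  letI : Algebra p.ResidueField Q.ResidueField := i.toRingHom.toAlgebra
  haveI : IsScalarTower A p.ResidueField Q.ResidueField := IsScalarTower.of_algebraMap_eq fun r => (i.commutes r).symm
  let φ : p.Fiber B →ₐ[p.ResidueField] Q.ResidueField :=
    Algebra.TensorProduct.lift (Algebra.ofId p.ResidueField Q.ResidueField)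
      (IsScalarTower.toAlgHom A B Q.ResidueField) fun _ _ => Commute.all _ _
  have hφ : ∀ b : B, φ ((1 : p.ResidueField) ⊗ₜ[A] b) = algebraMap B Q.ResidueField b := fun b => by
    simp [φ]
  haveI hP : (RingHom.ker φ).IsPrime := RingHom.ker_isPrime φ
  refine ⟨RingHom.ker φ, hP, ?_, ?_⟩
  · ext b
    show φ ((1 : p.ResidueField) ⊗ₜ[A] b) = 0 ↔ b ∈ Q
    rw [hφ, Ideal.algebraMap_residueField_eq_zero]
  · let j : (p.Fiber B ⧸ RingHom.ker φ) →ₐ[p.ResidueField] Q.ResidueField := Ideal.kerLiftAlg φ
    letI : Algebra (p.Fiber B ⧸ RingHom.ker φ) Q.ResidueField := j.toRingHom.toAlgebra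
    haveI : IsScalarTower p.ResidueField (p.Fiber B ⧸ RingHom.ker φ) Q.ResidueField :=
      IsScalarTower.of_algebraMap_eq (R := p.ResidueField) (S := p.Fiber B ⧸ RingHom.ker φ) (A := Q.ResidueField)
        fun k => (j.commutes k).symm
    haveI : FaithfulSMul (p.Fiber B ⧸ RingHom.ker φ) Q.ResidueField :=
      (faithfulSMul_iff_algebraMap_injective _ _).2 (Ideal.kerLiftAlg_injective φ)
    haveI : Algebra.IsAlgebraic (p.Fiber B ⧸ RingHom.ker φ) Q.ResidueField := ⟨fun x => by
      obtain ⟨a, b, hb, rfl⟩ := IsFractionRing.div_surjective (B ⧸ Q) x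
      obtain ⟨a, rfl⟩ := Ideal.Quotient.mk_surjective a
      obtain ⟨b, rfl⟩ := Ideal.Quotient.mk_surjective b
      have hint : ∀ c : B, IsAlgebraic (p.Fiber B ⧸ RingHom.ker φ) (algebraMap B Q.ResidueField c) := fun c => by
        have e : algebraMap B Q.ResidueField c = algebraMap (p.Fiber B ⧸ RingHom.ker φ) Q.ResidueField
            (Ideal.Quotient.mk _ ((1 : p.ResidueField) ⊗ₜ[A] c)) :=
          (hφ c).symm.trans (by rw [RingHom.algebraMap_toAlgebra]; exact (Ideal.kerLiftAlg_mk φ _).symm)
        rw [e]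
        exact isAlgebraic_algebraMap _
      have e : ∀ c : B, algebraMap (B ⧸ Q) Q.ResidueField (Ideal.Quotient.mk Q c) = algebraMap B Q.ResidueField c :=
        fun c => Ideal.algebraMap_quotient_residueField_mk Q c
      rw [e, e, div_eq_mul_inv]
      exact (hint a).mul (hint b).inv⟩
    show Algebra.trdeg p.ResidueField Q.ResidueField = _
    rw [← trdeg_add_eq p.ResidueField (p.Fiber B ⧸ RingHom.ker φ) (A := Q.ResidueField),
      trdeg_eq_zero (R := p.Fiber B ⧸ RingHom.ker φ) (A := Q.ResidueField), add_zero]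

/-- the fibre local ring of a smooth algebra of relative dimension `n` -/
theorem fibre_local {n : ℕ} (h : FlatCA.SmoothRelDim n A B) (p : Ideal A) [p.IsPrime]
    (P : Ideal (p.Fiber B)) [P.IsPrime] :
    IsRegularLocalRing (Localization.AtPrime P) ∧ ∃ a b : ℕ, a + b = n ∧
      Algebra.trdeg p.ResidueField (p.Fiber B ⧸ P) = a ∧ ringKrullDim (Localization.AtPrime P) = b := by
  haveI := Groth.L20.RG.smooth_of_relDim h
  haveI : Algebra.FiniteType p.ResidueField (p.Fiber B) :=
    inferInstanceAs (Algebra.FiniteType p.ResidueField (p.ResidueField ⊗[A] B))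
  haveI : Algebra.Smooth p.ResidueField (p.Fiber B) :=
    inferInstanceAs (Algebra.Smooth p.ResidueField (p.ResidueField ⊗[A] B))
  haveI : IsRegularRing (p.Fiber B) := Groth.L03.GeomRegular.isRegularRing_of_smooth p.ResidueField (p.Fiber B)
  refine ⟨IsRegularRing.isRegularLocalRing_localization P, ?_⟩
  obtain ⟨a, b, ha, hb, hab⟩ := Groth.L03.MiracleQF.exists_localDim_eq p.ResidueField (p.Fiber B) P
  haveI : SmoothOfRelativeDimension n (Groth.L03.FibreLocalDim.f A B) := h
  have hl : FlatMor.localDim (PrimeSpectrum (p.Fiber B)) ⟨P, inferInstance⟩ = (n : WithBot ℕ∞) :=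
    (Groth.L03.FibreLocalDim.localDim_fiber_eq ⟨p, inferInstance⟩ ⟨P, inferInstance⟩).trans
      (Groth.L20.SmoothDim.main n _ _)
  rw [hab] at hl
  haveI : Algebra.FiniteType p.ResidueField (p.Fiber B ⧸ P) :=
    Algebra.FiniteType.of_surjective (Ideal.Quotient.mkₐ p.ResidueField P) Ideal.Quotient.mk_surjective
  exact ⟨a, b, by exact_mod_cast hl, Groth.L28.EtTrace.trdeg_eq_of_ringKrullDim _ _ a ha, hb⟩

end Groth.L29.SmoothDegree
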