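import Groth.Agent.L29.Dual.TraceModel
import Groth.Agent.L08.Cube.SeesawH0
import Groth.Agent.L22.Cyc.BaseChange

/-!
A Noetherian model whose fibres only have constant functions.
-/

set_option autoImplicit false
set_option linter.style.haveILetI false
set_option backward.isDefEq.respectTransparency false
set_option backward.defeqAttrib.useBackward true
universe u

open CategoryTheory CategoryTheory.Limits AlgebraicGeometry TopologicalSpace Opposite
open scoped Topology

noncomputable section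

namespace Groth.L29.TraceSurj

open Groth.L01.FlatCx (mu mu_eventually_le isLocallyConstant_mu dRank_add_mu)

/-- upper semicontinuity of the fibre dimension of homology -/
theorem dRank_eventually_le {A : Type u} [CommRing A] [IsNoetherianRing A] (P : CochainComplex (ModuleCat.{u} A) ℤ)
    (hP : ∀ i, Module.Finite A (P.X i) ∧ Module.Free A (P.X i)) (j : ℤ) (x : PrimeSpectrum A) :
    ∀ᶠ y in 𝓝 x, CohIII.dRank P j y ≤ CohIII.dRank P j x := by
  haveI := fun i => (hP i).1
  haveI := fun i => (hP i).2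
  haveI : Module.FinitePresentation A (P.X (j + 1)) := Module.finitePresentation_of_finite _ _
  have hi : (ComplexShape.up ℤ).prev j = j - 1 := by simp
  have hl : (ComplexShape.up ℤ).next j = j + 1 := by simp
  filter_upwards [mu_eventually_le (Groth.L01.FlatCx.Coker P (j - 1) j) x,
    mu_eventually_le (Groth.L01.FlatCx.Coker P j (j + 1)) x,
    (isLocallyConstant_mu (P.X (j + 1))).eventually_eq x] with y h1 h2 h3
  have e1 := dRank_add_mu P hi hl x
  have e2 := dRank_add_mu P hi hl y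
  omega

/-- constant functions on the fibres spread to a stage -/
theorem exists_const_stage {A₁ A : Type u} [CommRing A₁] [IsNoetherianRing A₁] [CommRing A] [Algebra A₁ A]
    {X X₁ : Scheme.{u}} (f : X ⟶ Spec (CommRingCat.of A)) (f₁ : X₁ ⟶ Spec (CommRingCat.of A₁)) (g : X ⟶ X₁)
    [IsProper f₁] [Flat f₁] [Surjective f₁] [LocallyOfFinitePresentation f₁]
    (sq : IsPullback g f f₁ (Spec.map (CommRingCat.ofHom (algebraMap A₁ A)))) (d : ℕ)
    (hCM : ∀ x, MoreMor.IsCMAt f₁ x) (hd : Cyc.HasRelDim f₁ d)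
    [GeometricallyReduced f] [GeometricallyConnected f] :
    ∃ (A₂ : Type u) (_ : CommRing A₂) (_ : IsNoetherianRing A₂) (_ : Algebra A₂ A) (X₂ : Scheme.{u})
      (f₂ : X₂ ⟶ Spec (CommRingCat.of A₂)) (g₂ : X ⟶ X₂), IsProper f₂ ∧ Surjective f₂ ∧
        (∀ x, MoreMor.IsCMAt f₂ x) ∧ Cyc.HasRelDim f₂ d ∧
          (∀ (m : Ideal A₂) [m.IsMaximal] (Xk : Scheme.{u}) (fk : Xk ⟶ Spec (CommRingCat.of (A₂ ⧸ m))) (q : Xk ⟶ X₂),
            IsPullback q fk f₂ (Spec.map (CommRingCat.ofHom (algebraMap A₂ (A₂ ⧸ m)))) →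
              Function.Bijective (Coh.toGlobal fk)) ∧
          IsPullback g₂ f f₂ (Spec.map (CommRingCat.ofHom (algebraMap A₂ A))) := by
  classical
  haveI : IsLocallyNoetherian X₁ := LocallyOfFiniteType.isLocallyNoetherian f₁
  let F := Coh.structureModule X₁
  have hL := Groth.L18.Ample.isInvertible_structureModule X₁
  haveI := Groth.L21.Extend.isQCoh_of_isInvertible hL
  obtain ⟨M⟩ := Groth.L17.BC.nonempty_model f₁ F (Groth.L18.Ample.isCoh_of_isInvertible hL)
    (Groth.L08.Cube.flat_sections f₁ hL)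
  haveI : IsProper f := MorphismProperty.of_isPullback sq ‹IsProper f₁›
  -- the rank at points of the image
  have himage : ∀ (K : Type u) [Field K] [Algebra A K] [Algebra A₁ K] [IsScalarTower A₁ A K],
      CohIII.dRank M.L 0 (PrimeSpectrum.comap (algebraMap A₁ K) ⊥) = 1 := by
    intro K _ _ _ _
    let b := Spec.map (CommRingCat.ofHom (algebraMap A K))
    let fK := pullback.snd f b
    haveI : IsProper fK := MorphismProperty.pullback_snd _ _ ‹_›
    haveI : GeometricallyConnected fK := inferInstance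
    haveI : GeometricallyReduced fK := inferInstance
    haveI : Surjective f := MorphismProperty.of_isPullback sq ‹Surjective f₁›
    haveI : Surjective fK := MorphismProperty.pullback_snd _ _ ‹_›
    haveI : Nonempty ↥(pullback f b) :=
      ⟨(fK.surjective (⟨⊥, Ideal.isPrime_bot⟩ : PrimeSpectrum K)).choose⟩
    have hq : IsPullback (pullback.fst f b ≫ g) fK f₁ (Spec.map (CommRingCat.ofHom (algebraMap A₁ K))) := by
      have := (IsPullback.of_hasPullback f b).paste_horiz sq
      rwa [← Spec.map_comp, ← CommRingCat.ofHom_comp, ← IsScalarTower.algebraMap_eq] at this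
    have h := M.finrank_eq_dRank fK (pullback.fst f b ≫ g) hq 0
    rw [Groth.L08.Cube.finrank_HH_zero_of_iso fK (Groth.L08.Cube.bijective_toGlobal_of_geometric fK)
      (Groth.L29.LocFree.pullbackUnitIso _)] at h
    exact h.symm
  let T : Set ↥(Spec (CommRingCat.of A₁)) := {t | 1 < CohIII.dRank M.L 0 t}
  have hT : IsClosed T := by
    refine isOpen_compl_iff.1 (isOpen_iff_mem_nhds.2 fun x hx => ?_)
    filter_upwards [dRank_eventually_le M.L M.finiteFree 0 x] with y hy
    exact fun h => hx (lt_of_lt_of_le (show 1 < _ from h) hy)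
  obtain ⟨I, hI⟩ := (PrimeSpectrum.isClosed_iff_zeroLocus_ideal T).1 hT
  have hImap : I.map (algebraMap A₁ A) = ⊤ := by
    by_contra h
    obtain ⟨m, hm, hIm⟩ := Ideal.exists_le_maximal _ h
    haveI := hm
    letI : Field (A ⧸ m) := Ideal.Quotient.field m
    have ht : PrimeSpectrum.comap (algebraMap A₁ (A ⧸ m)) ⊥ ∈ T := by
      rw [hI]
      intro a ha
      show algebraMap A₁ (A ⧸ m) a = 0
      rw [IsScalarTower.algebraMap_apply A₁ A (A ⧸ m)]
      exact Ideal.Quotient.eq_zero_iff_mem.2 (hIm (Ideal.mem_map_of_mem _ ha))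
    exact absurd (show 1 < _ from ht) (himage (A ⧸ m)).le.not_gt
  obtain ⟨A₂, hN, hA₂⟩ := exists_stage_eq_top I hImap
  haveI := hN
  let φ := Spec.map (CommRingCat.ofHom (algebraMap A₁ (↥A₂)))
  let ψ := Spec.map (CommRingCat.ofHom (algebraMap (↥A₂) A))
  have hψφ : ψ ≫ φ = Spec.map (CommRingCat.ofHom (algebraMap A₁ A)) := by
    rw [← Spec.map_comp]; rfl
  let f₂ := pullback.fst φ f₁
  haveI : IsProper f₂ := MorphismProperty.pullback_fst _ _ ‹_›
  haveI : Surjective f₂ := MorphismProperty.pullback_fst _ _ ‹_›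
  have hq : IsPullback (pullback.snd φ f₁) f₂ f₁ φ := (IsPullback.of_hasPullback φ f₁).flip
  refine ⟨A₂, inferInstance, hN, inferInstance, pullback φ f₁, f₂,
    pullback.lift (f ≫ ψ) g (by rw [Category.assoc, hψφ]; exact sq.w.symm),
    inferInstance, inferInstance,
    fun x => (L02.CMMor.isCMAt_baseChange f₁ φ f₂ _ hq x).2 (hCM _),
    Groth.L22.Cyc.hasRelDim_baseChange hq hd, ?_,
    IsPullback.of_right (by rw [pullback.lift_snd, hψφ]; exact sq) (pullback.lift_fst _ _ _) hq⟩
  intro m hm Xk fk q hk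
  letI : Field (↥A₂ ⧸ m) := Ideal.Quotient.field m
  haveI : IsProper fk := MorphismProperty.of_isPullback hk ‹IsProper f₂›
  haveI : Surjective fk := MorphismProperty.of_isPullback hk ‹Surjective f₂›
  haveI : Nonempty ↥Xk := ⟨(fk.surjective (⟨⊥, Ideal.isPrime_bot⟩ : PrimeSpectrum (↥A₂ ⧸ m))).choose⟩
  have hbig : IsPullback (q ≫ pullback.snd φ f₁) fk f₁ (Spec.map (CommRingCat.ofHom (algebraMap A₁ (↥A₂ ⧸ m)))) := by
    have := hk.paste_horiz hq
    rwa [← Spec.map_comp, ← CommRingCat.ofHom_comp, ← IsScalarTower.algebraMap_eq] at this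
  have hle : CohIII.dRank M.L 0 (PrimeSpectrum.comap (algebraMap A₁ (↥A₂ ⧸ m)) ⊥) ≤ 1 := by
    by_contra h
    have ht : PrimeSpectrum.comap (algebraMap A₁ (↥A₂ ⧸ m)) ⊥ ∈ T := not_le.1 h
    rw [hI] at ht
    refine hm.ne_top (top_le_iff.1 (hA₂.symm.le.trans (Ideal.map_le_iff_le_comap.2 fun a ha => ?_)))
    have h0 : algebraMap A₁ (↥A₂ ⧸ m) a = 0 := ht ha
    rw [IsScalarTower.algebraMap_apply A₁ (↥A₂) (↥A₂ ⧸ m)] at h0
    exact Ideal.mem_comap.2 ((Ideal.Quotient.eq_zero_iff_mem (I := m)).1 h0)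
  have h := M.finrank_eq_dRank fk (q ≫ pullback.snd φ f₁) hbig 0
  letI : Module (↥A₂ ⧸ m) (Coh.HH Xk ((Scheme.Modules.pullback (q ≫ pullback.snd φ f₁)).obj F) 0) :=
    Module.compHom _ (Coh.toGlobal fk)
  letI : Module (↥A₂ ⧸ m) (Coh.HH Xk (Coh.structureModule Xk) 0) := Module.compHom _ (Coh.toGlobal fk)
  let θ := Groth.L29.LocFree.pullbackUnitIso (q ≫ pullback.snd φ f₁)
  let E : Coh.HH Xk ((Scheme.Modules.pullback (q ≫ pullback.snd φ f₁)).obj F) 0 ≃ₗ[↥A₂ ⧸ m]
      Coh.HH Xk (Coh.structureModule Xk) 0 :=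
    { (Groth.L17.BC.HHequiv θ 0).toAddEquiv with
      map_smul' := fun a x => (Groth.L17.BC.HHequiv θ 0).map_smul (Coh.toGlobal fk a) x }
  haveI : Module.Finite (↥A₂ ⧸ m) (Coh.HH Xk (Coh.structureModule Xk) 0) :=
    haveI := M.finite_fibre fk (q ≫ pullback.snd φ f₁) hbig 0
    Module.Finite.equiv E
  have hle' : Module.finrank (↥A₂ ⧸ m) (Coh.HH Xk (Coh.structureModule Xk) 0) ≤ 1 := by
    rw [← E.finrank_eq]; exact h.le.trans hle
  refine (Groth.L08.Cube.bijective_toGlobal_of_finrank fk (le_antisymm hle' ?_)).2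
  haveI : Nontrivial (Coh.HH Xk (Coh.structureModule Xk) 0) := by
    let hT : IsTerminal (⊤ : Opens Xk) := IsTerminal.ofUniqueHom (fun U => homOfLE le_top) (fun _ _ => rfl)
    haveI : Nonempty ((⊤ : Xk.Opens) : Scheme.{u}) := ⟨⟨Classical.arbitrary Xk, trivial⟩⟩
    haveI : Nontrivial (Coh.Γtop Xk) := inferInstanceAs (Nontrivial Γ(Xk, ⊤))
    let e : Coh.HH Xk (Coh.structureModule Xk) 0 ≃+ Coh.Γtop Xk := Sheaf.H.equiv₀ (Coh.toAb (Coh.structureModule Xk)) hT
    exact e.toEquiv.nontrivial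
  exact Module.finrank_pos

end Groth.L29.TraceSurj
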