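import Groth.Agent.L10.RelCan.CMEnd
import Groth.Agent.L14.Quot.Scalar
import Groth.Agent.L20.ModStalk
import Groth.Agent.L17.ClosedPush

/-!
Endomorphisms which are scalars on every stalk are multiplication by a global function.
-/

set_option autoImplicit false
set_option linter.style.haveILetI false
set_option backward.isDefEq.respectTransparency false
set_option backward.isDefEq.respectTransparency.types false
set_option backward.defeqAttrib.useBackward true
universe u

open CategoryTheory CategoryTheory.Limits AlgebraicGeometry TopologicalSpace Opposite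

noncomputable section

namespace Groth.L29.TraceSurj

open Groth.L14.Quot (stMapₗ)
open Groth.L18.Frame (rs ro)

variable {X : Scheme.{u}}

theorem exists_local_scalar [IsLocallyNoetherian X] (ω : X.Modules) (hω : Coh.IsCoh ω)
    (φ : ω ⟶ ω) (x : X) (cx : X.presheaf.stalk x)
    (hx : cx • (LinearMap.id : (Groth.L00.Stk.F X x).obj ω →ₗ[X.presheaf.stalk x] (Groth.L00.Stk.F X x).obj ω) = stMapₗ φ x) :
    ∃ (W : X.Opens) (_ : x ∈ W) (c : Γ(X, W)), ∀ (z : X) (hz : z ∈ W) (q : (Groth.L00.Stk.F X z).obj ω),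
      stMapₗ φ z q = (X.presheaf.germ W z hz c : X.presheaf.stalk z) • q := by
  classical
  haveI := hω.1
  obtain ⟨U, hxU, c₀, rfl⟩ := TopCat.Presheaf.exists_germ_eq X.presheaf cx
  obtain ⟨_, ⟨V, hV, rfl⟩, hxV, hVU⟩ :=
    X.isBasis_affineOpens.exists_subset_of_mem_open (show x ∈ (U : Set X) from hxU) U.2
  replace hV : IsAffineOpen V := hV
  let c : Γ(X, V) := ro (show V ≤ U from hVU) c₀
  haveI : IsNoetherianRing Γ(X, V) := IsLocallyNoetherian.component_noetherian ⟨V, hV⟩
  haveI hfin := Groth.L20.ModStalk.finite_sections ω hω hV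
  obtain ⟨s, hs⟩ := hfin.fg_top
  have hgerm : ∀ (z : X) (hz : z ∈ V) (m : Γ(ω, V)),
      stMapₗ φ z (ω.presheaf.germ V z hz m) = ω.presheaf.germ V z hz (φ.app V m) := fun z hz m =>
    Groth.L17.ClosedPush.stk_map_germ φ z hz m
  have h0 : ∀ m ∈ s, ∃ W : X.Opens, x ∈ W ∧ ∃ h : W ≤ V, rs ω h (φ.app V m) = rs ω h (c • m) := by
    intro m _
    have h1 : ω.presheaf.germ V x hxV (φ.app V m) = ω.presheaf.germ V x hxV (c • m) := by
      refine (hgerm x hxV m).symm.trans ?_
      refine (LinearMap.congr_fun hx.symm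
        (show (Groth.L00.Stk.F X x).obj ω from ω.presheaf.germ V x hxV m)).trans ?_
      refine Eq.trans ?_ (Groth.L20.ModStalk.germ_smul ω hxV c m).symm
      exact congrArg (fun a : X.presheaf.stalk x => a • (ω.presheaf.germ V x hxV m : ω.presheaf.stalk x))
        (TopCat.Presheaf.germ_res_apply X.presheaf _ x hxV c₀).symm
    obtain ⟨W, hW, i, j, h⟩ := TopCat.Presheaf.germ_eq ω.presheaf x hxV hxV _ _ h1
    exact ⟨W, hW, i.le, h⟩
  choose W hxW hWV hW using h0
  let Z : X.Opens := V ⊓ s.attach.inf fun m => W m.1 m.2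
  have hZV : Z ≤ V := inf_le_left
  have hxZ : x ∈ Z := by
    refine ⟨hxV, ?_⟩
    show x ∈ (((s.attach.inf fun m => W m.1 m.2 : X.Opens)) : Set X)
    rw [Opens.coe_finset_inf]
    simp only [Finset.inf_eq_iInf, Set.iInf_eq_iInter, Set.mem_iInter, Function.comp]
    exact fun m _ => hxW _ _
  refine ⟨Z, hxZ, ro hZV c, fun z hz q => ?_⟩
  have hzV : z ∈ V := hZV hz
  have hgens : ∀ m : Γ(ω, V), ω.presheaf.germ V z hzV (φ.app V m) = ω.presheaf.germ V z hzV (c • m) := by
    intro m
    have hm : m ∈ Submodule.span Γ(X, V) (s : Set Γ(ω, V)) := hs.symm ▸ Submodule.mem_top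
    induction hm using Submodule.span_induction with
    | mem m hm =>
      have hzW : z ∈ W m hm := (inf_le_right.trans (Finset.inf_le (Finset.mem_attach s ⟨m, hm⟩)) : Z ≤ W m hm) hz
      have e := congrArg (ω.presheaf.germ (W m hm) z hzW) (hW m hm)
      rwa [Groth.L20.ModStalk.germ_rs, Groth.L20.ModStalk.germ_rs] at e
    | zero => rw [map_zero, smul_zero]
    | add a b _ _ ha hb => rw [map_add, smul_add, map_add, map_add, ha, hb]
    | smul r a _ ha =>
      rw [show φ.app V (r • a) = r • φ.app V a from φ.app_smul r a, Groth.L20.ModStalk.germ_smul, ha, smul_comm c r a]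
      exact (Groth.L20.ModStalk.germ_smul ω hzV r (c • a)).symm
  letI := Groth.L20.ModStalk.stalkModule ω hzV
  haveI := Groth.L20.ModStalk.isLocalizedModule_germ ω hV hzV
  obtain ⟨⟨m, t⟩, ht⟩ := IsLocalizedModule.surj (hV.primeIdealOf ⟨z, hzV⟩).asIdeal.primeCompl
    (Groth.L20.ModStalk.germₗ ω hzV) q
  have hu : IsUnit (X.presheaf.germ V z hzV (t : Γ(X, V))) := by
    letI := X.presheaf.algebra_section_stalk ⟨z, hzV⟩
    haveI := hV.isLocalization_stalk ⟨z, hzV⟩
    exact IsLocalization.map_units (X.presheaf.stalk z) t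
  have ht' : (X.presheaf.germ V z hzV (t : Γ(X, V)) : X.presheaf.stalk z) • q =
      (ω.presheaf.germ V z hzV m : (Groth.L00.Stk.F X z).obj ω) := ht
  refine hu.smul_left_cancel.1 ?_
  rw [← map_smul, ht', hgerm, hgens, Groth.L20.ModStalk.germ_smul, smul_comm, ht']
  exact congrArg (· • (ω.presheaf.germ V z hzV m : ω.presheaf.stalk z))
    (TopCat.Presheaf.germ_res_apply X.presheaf _ z hz c).symm

/-- endomorphisms with scalar stalks are scalars -/
theorem exists_scalar [IsLocallyNoetherian X] (ω : X.Modules) (hω : Coh.IsCoh ω)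
    (hend : ∀ x : X, Groth.L10.RelCan.EndIsScalar (X.presheaf.stalk x) ((Groth.L00.Stk.F X x).obj ω))
    (φ : ω ⟶ ω) : ∃ c : Γ(X, ⊤), φ = Groth.L14.Quot.smulMod ω c := by
  choose cx hcx using fun x => (hend x).2 (stMapₗ φ x)
  choose W hxW c hc using fun x => exists_local_scalar ω hω φ x (cx x) (hcx x)
  have hcz : ∀ (x z : X) (hz : z ∈ W x), X.presheaf.germ (W x) z hz (c x) = cx z := fun x z hz =>
    (hend z).1 (LinearMap.ext fun q => ((hc x z hz q).symm.trans (LinearMap.congr_fun (hcx z) q).symm))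
  obtain ⟨s, hs, -⟩ := TopCat.Sheaf.existsUnique_gluing' X.sheaf W ⊤ (fun x => homOfLE le_top)
    (fun z _ => Opens.mem_iSup.2 ⟨z, hxW z⟩) c fun i j => by
      refine TopCat.Presheaf.section_ext X.sheaf _ _ _ fun z hz => ?_
      exact (TopCat.Presheaf.germ_res_apply X.presheaf _ z hz (c i)).trans
        ((hcz i z hz.1).trans ((hcz j z hz.2).symm.trans
          (TopCat.Presheaf.germ_res_apply X.presheaf _ z hz (c j)).symm))
  refine ⟨s, Groth.L14.Quot.hom_ext_stalk fun x q => ?_⟩
  rw [Groth.L14.Quot.stMapₗ_smulMod, hc x x (hxW x) q]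
  refine congrArg (· • q) ?_
  rw [← hs x]
  exact TopCat.Presheaf.germ_res_apply X.presheaf _ x (hxW x) s

end Groth.L29.TraceSurj
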