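import Groth.Agent.L29.Dual.TraceSurj
import Groth.Agent.L29.Dual.TraceScalar
import Groth.Agent.L10.RelCan.CommuteS2
import Groth.Agent.L02.CMMor.BaseChange
import Groth.Agent.L16.ProperFinite
import Groth.Agent.L21.RR.Coh
import Groth.Agent.L22.Cyc.BaseChange
import Mathlib.RingTheory.SimpleModule.Basic

/-!
Injectivity of the trace when the closed fibres only have constant functions.
-/

set_option autoImplicit false
set_option backward.defeqAttrib.useBackward true
set_option backward.isDefEq.respectTransparency false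
set_option backward.isDefEq.respectTransparency.types false
set_option linter.style.haveILetI false
universe u

open CategoryTheory CategoryTheory.Limits AlgebraicGeometry TopologicalSpace
open scoped TensorProduct

noncomputable section

namespace Groth.L29.TraceSurj

open Groth.L10.RelCan
open Groth.L10.TopDual.Rep (cohFunctor)
open Groth.L16.CohLinear (hmap hmap_comp hmap_id)
open Groth.L17.BC.TensorA (G)
open Groth.L10.RelCan.EW (one el)
open Groth.L10.RelCan.Sections (unit mul)

variable {A : Type u} [CommRing A] {X : Scheme.{u}} [X.Over (Spec (CommRingCat.of A))] {d : ℕ}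

/-- a finite module without non-zero maps to residue fields vanishes -/
theorem subsingleton_of_no_functional {M : Type u} [AddCommGroup M] [Module A M] [Module.Finite A M]
    (h : ∀ (m : Ideal A) [m.IsMaximal] (l : M →ₗ[A] A ⧸ m), l = 0) : Subsingleton M := by
  by_contra hc
  rw [not_subsingleton_iff_nontrivial] at hc
  obtain ⟨P, hP, -⟩ := (eq_top_or_exists_le_coatom (⊥ : Submodule A M)).resolve_left bot_ne_top
  haveI : IsSimpleModule A (M ⧸ P) := isSimpleModule_iff_isCoatom.2 hP
  obtain ⟨I, hI, ⟨e⟩⟩ := isSimpleModule_iff_quot_maximal.1 ‹IsSimpleModule A (M ⧸ P)›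
  haveI := hI
  have h0 := h I (e.toLinearMap ∘ₗ P.mkQ)
  refine hP.1 (eq_top_iff.2 fun z _ => (Submodule.Quotient.mk_eq_zero P).1 (e.injective ?_))
  rw [map_zero]
  exact LinearMap.congr_fun h0 z

variable [(cohFunctor (X := X) A d).IsLeftAdjoint]

/-- if the trace of the structure module is bijective, so is the trace of every module -/
theorem injective_tr (N : ModuleCat.{u} A) [IsIso (cmp (X := X) (d := d) N)]
    (h1 : Function.Bijective (tr A X d (one A))) : Function.Injective (tr A X d N) := by
  let H := Coh.HH X ((RR A X d).obj N) d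
  let L : ModuleCat.{u} A := ModuleCat.of A H
  obtain ⟨z₁, hz₁⟩ := h1.2 (1 : A)
  let q : N →ₗ[A] H :=
    { toFun := fun b => hmap ((RR A X d).map (el N b)) d z₁
      map_add' := fun a b => by
        rw [EW.el_add, Functor.map_add]
        exact Groth.L21.RR.hmap_add _ _ _ _
      map_smul' := fun a b => by
        rw [EW.el_smul, Functor.map_comp, RR_smul_id, hmap_comp, hmap_smulMod]
        exact (Canon.HHlin A ((RR A X d).map (el N b)) d).map_smul a z₁ }
  obtain ⟨φ, hφ, -⟩ := tr_spec (X := X) (d := d) L _ (isQCoh_RR A X d N) (LinearMap.id : H →ₗ[A] H)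
  have hq : φ = (RR A X d).map (ModuleCat.ofHom q) := by
    rw [← cancel_epi (cmp (X := X) (d := d) N)]
    refine EW.hom_ext (G (A := A) (ω₀ A X d)) _ _ fun b => ?_
    rw [← Category.assoc, cmp_el, Category.assoc, ← Category.assoc _ (cmp (X := X) (d := d) N), cmp_el,
      Category.assoc, ← Functor.map_comp]
    refine congrArg ((e₁ A X d).hom ≫ ·) ?_
    rw [EW.el_comp]
    refine tr_ext (isQCoh_RR A X d _) _ _ fun w => ?_
    have hw : w = tr A X d (one A) w • z₁ := h1.1 (by rw [map_smul, hz₁, smul_eq_mul, mul_one])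
    rw [hmap_comp, ← hφ, tr_natural]
    show hmap ((RR A X d).map (el N b)) d w = (tr A X d (one A) w) • q b
    conv_lhs => rw [hw]
    exact (Canon.HHlin A ((RR A X d).map (el N b)) d).map_smul _ z₁
  rw [injective_iff_map_eq_zero]
  intro z hz
  have := hφ z
  rw [hq, tr_natural, hz, map_zero] at this
  exact this

set_option maxHeartbeats 1600000 in
/-- over a Noetherian ring: if the closed fibres only have constant functions the trace is bijective -/
theorem bijective_tr [IsNoetherianRing A] [IsProper (X ↘ Spec (CommRingCat.of A))]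
    [Surjective (X ↘ Spec (CommRingCat.of A))]
    (hCM : ∀ x : X, MoreMor.IsCMAt (X ↘ Spec (CommRingCat.of A)) x)
    (hd : Cyc.HasRelDim (X ↘ Spec (CommRingCat.of A)) d)
    (hconst : ∀ (m : Ideal A) [m.IsMaximal] (Xk : Scheme.{u}) (fk : Xk ⟶ Spec (CommRingCat.of (A ⧸ m))) (q : Xk ⟶ X),
      IsPullback q fk (X ↘ Spec (CommRingCat.of A)) (Spec.map (CommRingCat.ofHom (algebraMap A (A ⧸ m)))) →
        Function.Bijective (Coh.toGlobal fk)) :
    Function.Bijective (tr A X d (one A)) := by
  let f := X ↘ Spec (CommRingCat.of A)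
  have hsurj := surjective_tr (d := d) hCM hd
  haveI : Flat f := (Flat.iff_flat_stalkMap f).2 fun x => (hCM x).1
  haveI : IsLocallyNoetherian X := LocallyOfFiniteType.isLocallyNoetherian f
  haveI := fun (R : CommRingCat.{u}) => Groth.L18.TildeF.tilde_preservesFiniteLimits (R := R)
  -- maps to residue fields
  have key : ∀ (m : Ideal A) [m.IsMaximal] (l : Coh.HH X (ω₀ A X d) d →ₗ[A] A ⧸ m) (z),
      tr A X d (one A) z = 0 → l z = 0 := by
    intro m hm l z hz
    letI : Field (A ⧸ m) := Ideal.Quotient.field m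
    let k : ModuleCat.{u} A := ModuleCat.of A (A ⧸ m)
    let b := Spec.map (CommRingCat.ofHom (algebraMap A (A ⧸ m)))
    let Xk := pullback b f
    let fk : Xk ⟶ Spec (CommRingCat.of (A ⧸ m)) := pullback.fst b f
    letI : Xk.Over (Spec (CommRingCat.of (A ⧸ m))) := ⟨fk⟩
    haveI : IsProper (Xk ↘ Spec (CommRingCat.of (A ⧸ m))) := MorphismProperty.pullback_fst _ _ ‹_›
    haveI : Flat (Xk ↘ Spec (CommRingCat.of (A ⧸ m))) := MorphismProperty.pullback_fst _ _ ‹_›
    haveI : IsLocallyNoetherian Xk := LocallyOfFiniteType.isLocallyNoetherian fk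
    let p : Xk ⟶ X := pullback.snd b f
    have sq : IsPullback p (Xk ↘ Spec (CommRingCat.of (A ⧸ m))) f b := (IsPullback.of_hasPullback b f).flip
    haveI := isIso_cmp_of_cm (X := X) d hCM hd (ModuleCat.of A (A ⧸ m))
    have hω := isDualizingSheaf_ω₀ A X d
    have hP := isDualizingSheaf_baseChange (d := d) sq _ hω
    have hdk := Groth.L22.Cyc.hasRelDim_baseChange sq hd
    have hCMk : ∀ x, MoreMor.IsCMAt (Xk ↘ Spec (CommRingCat.of (A ⧸ m))) x := fun x =>
      (L02.CMMor.isCMAt_baseChange f b _ p sq x).2 (hCM _)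
    obtain ⟨Ψ, -, hΨ⟩ := exists_comparison (d := d) sq
    obtain ⟨φ, hφ, -⟩ := tr_spec k _ (isQCoh_RR A X d _) l
    let P := (Scheme.Modules.pullback p).obj (ω₀ A X d)
    let adj := Scheme.Modules.pullbackPushforwardAdjunction p
    let ψ : P ⟶ P := (adj.homEquiv (ω₀ A X d) P).symm (φ ≫ Ψ.inv)
    obtain ⟨c, hc⟩ := exists_scalar P (isCoh_and_nontrivial d hdk P hP).1
      (fun x => endIsScalar_stalk_of_cm hdk P hP x (hCMk x)) ψ
    obtain ⟨a, ha⟩ := (hconst m Xk fk p sq).2 c
    have hψ : ψ = Formal.smulMod (A ⧸ m) P a := by rw [hc, ← ha]; rfl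
    have hφa : φ = (RR A X d).map (el k a) := by
      rw [← hΨ a]
      have e1 : unit p (ω₀ A X d) ≫ (Coh.push p).map ψ = φ ≫ Ψ.inv :=
        (Adjunction.homEquiv_unit _ _ _ _).symm.trans ((adj.homEquiv _ _).apply_symm_apply _)
      rw [hψ] at e1
      show φ = unit p (ω₀ A X d) ≫ (Coh.push p).map (Formal.smulMod (A ⧸ m) P a) ≫ Ψ.hom
      rw [← Category.assoc, e1, Category.assoc, Ψ.inv_hom_id, Category.comp_id]
    rw [hφ z, hφa, tr_natural, hz, map_zero]
  -- the kernel
  let t := tr A X d (one A)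
  haveI : Module.Finite A (Coh.HH X (ω₀ A X d) d) :=
    Groth.L16.ProperFinite.finite_HH A (isCoh_and_nontrivial d hd _ (isDualizingSheaf_ω₀ A X d)).1 d
  haveI : IsNoetherian A (Coh.HH X (ω₀ A X d) d) := isNoetherian_of_isNoetherianRing_of_finite A _
  haveI : Module.Finite A (LinearMap.ker t) := Module.Finite.iff_fg.2 (IsNoetherian.noetherian _)
  obtain ⟨z₁, hz₁⟩ := hsurj (1 : A)
  haveI : Subsingleton (LinearMap.ker t) := by
    refine subsingleton_of_no_functional (A := A) fun m hm l => LinearMap.ext fun z => ?_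
    let pr : Coh.HH X (ω₀ A X d) d →ₗ[A] LinearMap.ker t :=
      LinearMap.codRestrict (LinearMap.ker t) (LinearMap.id - (LinearMap.toSpanSingleton A _ z₁) ∘ₗ t) fun w => by
        rw [LinearMap.mem_ker, LinearMap.sub_apply, LinearMap.id_apply, LinearMap.comp_apply, map_sub,
          LinearMap.toSpanSingleton_apply, map_smul]
        show t w - t w • t z₁ = 0
        rw [show t z₁ = (1 : A) from hz₁, smul_eq_mul, mul_one, sub_self]
    have hz : t z.1 = 0 := z.2
    have h0 := key m (l ∘ₗ pr) z.1 hz
    have hpr : pr z.1 = z := Subtype.ext (by simp [pr, hz])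
    simpa [hpr] using h0
  refine ⟨(injective_iff_map_eq_zero _).2 fun z hz => ?_, hsurj⟩
  exact congrArg Subtype.val (Subsingleton.elim (⟨z, hz⟩ : LinearMap.ker t) 0)

end Groth.L29.TraceSurj
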