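import Groth.Agent.L29.BC.FlatModel
import Groth.Agent.L02.CMMor.FibreDim
import Groth.Agent.L02.CMMor.BaseChange
import Groth.Agent.L02.CMMor.Locus
import Groth.Agent.L02.Grpd.SliceMax
import Groth.Agent.L07.SyntDim
import Groth.Agent.L19.FibreDimStages
import Groth.Agent.L22.FibreSemicont
import Groth.Agent.L10.ShriekLoc.CM
import Mathlib.RingTheory.Polynomial.Basic

/-!
A Cohen–Macaulay model over a Noetherian ring with non-empty fibres.
-/

set_option autoImplicit false
set_option linter.style.haveILetI false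
set_option backward.isDefEq.respectTransparency false
set_option backward.defeqAttrib.useBackward true
universe u

open CategoryTheory CategoryTheory.Limits AlgebraicGeometry TopologicalSpace

noncomputable section

namespace Groth.L29.TraceSurj

/-- an ideal generating the unit ideal upstairs does so at a finitely generated stage -/
theorem exists_stage_eq_top {A₀ A : Type u} [CommRing A₀] [IsNoetherianRing A₀] [CommRing A] [Algebra A₀ A]
    (I : Ideal A₀) (hI : I.map (algebraMap A₀ A) = ⊤) :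
    ∃ A₁ : Subalgebra A₀ A, IsNoetherianRing A₁ ∧ I.map (algebraMap A₀ A₁) = ⊤ := by
  classical
  have h1 : (1 : A) ∈ Submodule.span A ((algebraMap A₀ A) '' I) := by
    change (1 : A) ∈ I.map (algebraMap A₀ A)
    rw [hI]; trivial
  obtain ⟨c, hc, hsum⟩ := Submodule.mem_span_set.1 h1
  let A₁ : Subalgebra A₀ A := Algebra.adjoin A₀ (c.support.image c : Set A)
  have hfg : A₁.FG := ⟨c.support.image c, rfl⟩
  haveI : Algebra.FiniteType A₀ A₁ := A₁.fg_iff_finiteType.mp hfg
  refine ⟨A₁, Algebra.FiniteType.isNoetherianRing A₀ A₁, (Ideal.eq_top_iff_one _).2 ?_⟩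
  have key : (1 : A₁) = ∑ i ∈ c.support.attach,
      (⟨c i.1, Algebra.subset_adjoin (Finset.mem_image_of_mem c i.2)⟩ : A₁) *
        algebraMap A₀ A₁ (hc i.2).choose := by
    apply Subtype.ext
    simp only [OneMemClass.coe_one, AddSubmonoidClass.coe_finsetSum, MulMemClass.coe_mul,
      Subalgebra.coe_algebraMap]
    rw [← hsum, Finsupp.sum, ← Finset.sum_attach]
    exact Finset.sum_congr rfl fun i _ => by rw [(hc i.2).choose_spec.2, smul_eq_mul]
  rw [key]
  exact Ideal.sum_mem _ fun i _ => Ideal.mul_mem_left _ _ (Ideal.mem_map_of_mem _ (hc i.2).choose_spec.1)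

/-- constant fibre dimension makes all components of all fibres of that dimension -/
theorem hasRelDim_of_fibreDimAt {X Y : Scheme.{u}} (f : X ⟶ Y) [LocallyOfFiniteType f] (d : ℕ)
    (h : ∀ x : X, FlatMor.fibreDimAt f x = d) : Cyc.HasRelDim f d := by
  intro y T hT
  obtain ⟨η, hη⟩ := QuasiSober.sober hT.1 (isClosed_of_mem_irreducibleComponents T hT)
  have he := (f.fiberι y).isEmbedding
  have hy : f (f.fiberι y η) = y := (f.range_fiberι y).subset ⟨η, rfl⟩
  have hd := h (f.fiberι y η)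
  rw [Groth.L22.FibreSemicont.fibreDimAt_eq_iSup] at hd
  have hdim : topologicalKrullDim T =
      topologicalKrullDim (closure ({f.fiberι y η} : Set X) ∩ f ⁻¹' {y} : Set X) := by
    rw [← hη.def]
    refine (Groth.L22.SchemeDim.topologicalKrullDim_eq_of_isEmbedding
      (f := fun v : (closure ({η} : Set (f.fiber y))) => f.fiberι y v.1)
      (he.comp Topology.IsEmbedding.subtypeVal) ?_).symm
    have := he.isInducing.closure_eq_preimage_closure_image {η}
    rw [Set.image_singleton] at this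
    rw [Set.range_comp', Subtype.range_coe, this, Set.image_preimage_eq_inter_range, f.range_fiberι]
  rw [hdim, ← hd]
  letI : Unique {z : X // z ⤳ f.fiberι y η ∧ f z = f (f.fiberι y η)} :=
    { default := ⟨f.fiberι y η, specializes_rfl, rfl⟩
      uniq := fun ⟨z, hz, hfz⟩ => by
        obtain ⟨w, rfl⟩ := (f.range_fiberι y).ge (show z ∈ f ⁻¹' {y} from hfz.trans hy)
        have hw : w ⤳ η := he.isInducing.specializes_iff.1 hz
        have h1 : closure ({η} : Set (f.fiber y)) ⊆ closure {w} :=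
          closure_minimal (Set.singleton_subset_iff.2 hw.mem_closure) isClosed_closure
        have hle : closure ({w} : Set (f.fiber y)) ⊆ T :=
          hT.2 isIrreducible_singleton.closure (hη.def.symm.le.trans h1)
        have hwη := (hw.antisymm (hη.specializes (hle (subset_closure rfl)))).eq
        exact Subtype.ext (congrArg (fun v => f.fiberι y v) hwη) }
  rw [iSup_unique]
  change _ = topologicalKrullDim (closure ({f.fiberι y η} : Set X) ∩ f ⁻¹' {f (f.fiberι y η)} : Set X)
  rw [hy]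

/-- a proper flat Cohen–Macaulay morphism of pure relative dimension with non-empty fibres comes from a
Noetherian base -/
theorem exists_good_model {A : Type u} [CommRing A] {X : Scheme.{u}} (f : X ⟶ Spec (CommRingCat.of A))
    [IsProper f] [Flat f] [LocallyOfFinitePresentation f] [Surjective f] (d : ℕ)
    (hCM : ∀ x : X, MoreMor.IsCMAt f x)
    (hd : ∀ (y : ↥(Spec (CommRingCat.of A))) (Z : Set ↥(f.fiber y)), Z ∈ irreducibleComponents ↥(f.fiber y) →
      topologicalKrullDim ↥Z = (d : WithBot ℕ∞)) :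
    ∃ (A₁ : Type u) (_ : CommRing A₁) (_ : IsNoetherianRing A₁) (_ : Algebra A₁ A) (X₁ : Scheme.{u})
      (f₁ : X₁ ⟶ Spec (CommRingCat.of A₁)) (g : X ⟶ X₁), IsProper f₁ ∧ Flat f₁ ∧ Surjective f₁ ∧
        (∀ x, MoreMor.IsCMAt f₁ x) ∧ Cyc.HasRelDim f₁ d ∧
          IsPullback g f f₁ (Spec.map (CommRingCat.ofHom (algebraMap A₁ A))) := by
  classical
  obtain ⟨A₀, hA₀, X₀, f₀, g, hf₀, hlfp, hflat, sq⟩ := Groth.L29.BC.exists_flat_model f
  haveI := hA₀; haveI := hf₀; haveI := hlfp; haveI := hflat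
  haveI : IsLocallyNoetherian X₀ := LocallyOfFiniteType.isLocallyNoetherian f₀
  -- the bad points
  let U : X₀.Opens := ⟨{x | MoreMor.IsCMAt f₀ x}, L02.Grpd.isOpen_cm f₀⟩
  let fU := U.ι ≫ f₀
  haveI : LocallyOfFinitePresentation fU := MorphismProperty.comp_mem _ _ _ inferInstance inferInstance
  have hUcm : ∀ z : U.toScheme, MoreMor.IsCMAt fU z := fun z => by
    refine (L02.CMMor.isCMAt_openImmersion_comp U.ι f₀ z).2 ?_
    exact z.2
  have hdimU : ∀ z : U.toScheme, FlatMor.fibreDimAt fU z = FlatMor.fibreDimAt f₀ (U.ι z) := fun z =>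
    (Groth.L07.SyntDim.fibreDimAt_congr f₀ fU U.ι (𝟙 _) (by simp [fU]) z).symm
  have hopen : IsOpen (U.ι '' {z : U.toScheme | FlatMor.fibreDimAt fU z = d}) :=
    U.ι.isOpenEmbedding.isOpenMap _
      ((L02.CMMor.isLocallyConstant_fibreDimAt fU hUcm).isOpen_fiber (d : WithBot ℕ∞))
  let good : Set X₀ := {x | MoreMor.IsCMAt f₀ x ∧ FlatMor.fibreDimAt f₀ x = d}
  have hgood : IsOpen good := by
    convert hopen using 1
    ext x
    constructor
    · rintro ⟨hx, hxd⟩
      exact ⟨⟨x, hx⟩, (hdimU ⟨x, hx⟩).trans hxd, rfl⟩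
    · rintro ⟨z, hz, rfl⟩
      exact ⟨z.2, (hdimU z).symm.trans hz⟩
  let T : Set ↥(Spec (CommRingCat.of ↥A₀)) := f₀ '' goodᶜ ∪ (Set.range f₀)ᶜ
  have hT : IsClosed T :=
    (f₀.isClosedMap _ hgood.isClosed_compl).union f₀.isOpenMap.isOpen_range.isClosed_compl
  have hXg : ∀ x : X, g x ∈ good := fun x => by
    refine ⟨(L02.CMMor.isCMAt_baseChange f₀ _ f g sq x).1 (hCM x), ?_⟩
    rw [← Groth.L23.fibreDimAt_of_isPullback sq x, ← Groth.L10.ShriekLoc.localFibreDim_eq]
    exact le_antisymm (Groth.L10.ShriekLoc.localFibreDim_le_of_components hd x)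
      (Groth.L10.ShriekLoc.le_localFibreDim hd x)
  obtain ⟨I, hI⟩ := (PrimeSpectrum.isClosed_iff_zeroLocus_ideal T).1 hT
  have hImap : I.map (algebraMap A₀ A) = ⊤ := by
    by_contra h
    obtain ⟨m, hm, hIm⟩ := Ideal.exists_le_maximal _ h
    let s : ↥(Spec (CommRingCat.of A)) := ⟨m, hm.isPrime⟩
    let t := Spec.map (CommRingCat.ofHom (algebraMap (↥A₀) A)) s
    have ht : t ∈ T := by
      rw [hI]
      exact fun a ha => hIm (Ideal.mem_map_of_mem _ ha)
    obtain ⟨x, hx⟩ := f.surjective s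
    rcases ht with ⟨z, hz, hzt⟩ | ht
    · obtain ⟨x', hx', -⟩ := Scheme.exists_preimage_of_isPullback sq z s hzt
      exact hz (hx' ▸ hXg x')
    · exact ht ⟨g x, by rw [← Scheme.Hom.comp_apply, sq.w, Scheme.Hom.comp_apply, hx]⟩
  obtain ⟨A₁, hN, hA₁⟩ := exists_stage_eq_top I hImap
  haveI := hN
  let φ := Spec.map (CommRingCat.ofHom (algebraMap (↥A₀) (↥A₁)))
  let ψ := Spec.map (CommRingCat.ofHom (algebraMap (↥A₁) A))
  have hψφ : ψ ≫ φ = Spec.map (CommRingCat.ofHom (algebraMap (↥A₀) A)) := by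
    rw [← Spec.map_comp]; rfl
  have hnot : ∀ t, φ t ∉ T := fun t ht => by
    rw [hI] at ht
    exact t.2.ne_top (top_le_iff.1 (hA₁.symm.le.trans (Ideal.map_le_iff_le_comap.2 fun a ha => ht ha)))
  let f₁ := pullback.fst φ f₀
  haveI : IsProper f₁ := MorphismProperty.pullback_fst _ _ ‹_›
  haveI : Flat f₁ := MorphismProperty.pullback_fst _ _ ‹_›
  haveI : LocallyOfFinitePresentation f₁ := MorphismProperty.pullback_fst _ _ ‹_›
  have hq : IsPullback (pullback.snd φ f₀) f₁ f₀ φ := (IsPullback.of_hasPullback φ f₀).flip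
  have hX₁ : ∀ x, pullback.snd φ f₀ x ∈ good := fun x => by
    by_contra h
    exact hnot (f₁ x) (Or.inl ⟨_, h, by rw [← Scheme.Hom.comp_apply, hq.w, Scheme.Hom.comp_apply]⟩)
  refine ⟨A₁, inferInstance, hN, inferInstance, pullback φ f₀, f₁,
    pullback.lift (f ≫ ψ) g (by rw [Category.assoc, hψφ]; exact sq.w.symm),
    inferInstance, inferInstance, ⟨fun t => ?_⟩,
    fun x => (L02.CMMor.isCMAt_baseChange f₀ φ f₁ _ hq x).2 (hX₁ x).1,
    hasRelDim_of_fibreDimAt f₁ d fun x =>
      (Groth.L23.fibreDimAt_of_isPullback hq x).trans (hX₁ x).2,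
    IsPullback.of_right (by rw [pullback.lift_snd, hψφ]; exact sq) (pullback.lift_fst _ _ _) hq⟩
  obtain ⟨z, hz⟩ : φ t ∈ Set.range f₀ := by
    by_contra h
    exact hnot t (Or.inr h)
  obtain ⟨x, -, hx⟩ := Scheme.exists_preimage_of_isPullback hq z t hz
  exact ⟨x, hx⟩

end Groth.L29.TraceSurj
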