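import Groth.Agent.L10.RelCan.BaseChange
import Groth.Agent.L10.RelCan.RightExact
import Groth.Agent.L10.TopDual.Lichtenbaum
import Groth.Agent.L19.Limit.RelDim
import Groth.Agent.L22.Cyc.BaseChange

/-!
Surjectivity of the trace of a Cohen–Macaulay morphism.
-/

set_option autoImplicit false
set_option backward.defeqAttrib.useBackward true
set_option backward.isDefEq.respectTransparency false
set_option backward.isDefEq.respectTransparency.types false
set_option linter.style.haveILetI false
universe u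

open CategoryTheory CategoryTheory.Limits AlgebraicGeometry TopologicalSpace
open scoped TensorProduct

noncomputable section

namespace Groth.L29.TraceSurj

open Groth.L10.RelCan
open Groth.L10.TopDual.Rep (cohFunctor)
open Groth.L16.CohLinear (hmap hmap_comp hmap_id)
open Groth.L17.BC.TensorA (G SecFun bijective_tMap)
open Groth.L01.FlatCx (tMap tMap_tmul)
open Groth.L10.RelCan.EW (one el)
open Groth.L10.RelCan.Sections (unit mul)

variable {A : Type u} [CommRing A] {X : Scheme.{u}} [X.Over (Spec (CommRingCat.of A))]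

/-- top cohomology is right exact -/
theorem surjective_hmap (d : ℕ) [(cohFunctor (X := X) A d).IsLeftAdjoint] {M N : X.Modules}
    (hM : Coh.IsQCoh M) (hN : Coh.IsQCoh N) (φ : M ⟶ N) [Epi φ] : Function.Surjective (hmap φ d) := by
  let F := cohFunctor (X := X) A d
  let φ' : (⟨M, hM⟩ : QCohCat.QCoh X) ⟶ ⟨N, hN⟩ := ObjectProperty.homMk φ
  haveI : Epi φ' := (QCohCat.isQCoh X).ι.epi_of_epi_map (inferInstanceAs (Epi φ))
  have h := (ModuleCat.epi_iff_surjective (F.map φ')).1 inferInstance
  exact h

variable {B : Type u} [CommRing B] [Algebra A B] {X' : Scheme.{u}} [X'.Over (Spec (CommRingCat.of B))]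
  {p : X' ⟶ X} {d : ℕ}
  (hp : IsPullback p (X' ↘ Spec (CommRingCat.of B)) (X ↘ Spec (CommRingCat.of A))
    (Spec.map (CommRingCat.ofHom (algebraMap A B))))

include hp in
/-- linearity of the comparison of cohomology along a base change -/
theorem push_linear {e : ∀ F : X'.Modules, Coh.IsQCoh F → (Coh.HH X' F d ≃+ Coh.HH X ((Coh.push p).obj F) d)}
    (he : ∀ {F G : X'.Modules} (hF : Coh.IsQCoh F) (hG : Coh.IsQCoh G) (φ : F ⟶ G) (z : Coh.HH X' F d),
      e G hG (hmap φ d z) = hmap ((Coh.push p).map φ) d (e F hF z))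
    (F : X'.Modules) (hF : Coh.IsQCoh F) (a : A) (z : Coh.HH X' F d) :
    e F hF (algebraMap A B a • z) = a • e F hF z := by
  rw [← hmap_smulMod F (algebraMap A B a) d z, he hF hF]
  change hmap (mul B p F (algebraMap A B a)) d _ = _
  rw [← smulMod_push hp, hmap_smulMod]

variable [(cohFunctor (X := X) A d).IsLeftAdjoint]

set_option maxHeartbeats 1600000 in
include hp in
/-- the comparison of the direct image of the pullback of the dualizing sheaf -/
theorem exists_comparison [IsIso (cmp (X := X) (d := d) (ModuleCat.of A B))] :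
    ∃ Ψ : (Coh.push p).obj ((Scheme.Modules.pullback p).obj (ω₀ A X d)) ≅ (RR A X d).obj (ModuleCat.of A B),
      (∀ c : B, mul B p _ c ≫ Ψ.hom = Ψ.hom ≫ (RR A X d).map (ModuleCat.ofHom (LinearMap.mulLeft A c))) ∧
      ∀ b : B, unit p (ω₀ A X d) ≫ mul B p _ b ≫ Ψ.hom = (RR A X d).map (el (ModuleCat.of A B) b) := by
  haveI := Sections.isAffineHom hp
  haveI := Groth.L17.PushQCoh.additive_push p
  let w₀ := ω₀ A X d
  let NB : ModuleCat.{u} A := ModuleCat.of A B
  let P := (Scheme.Modules.pullback p).obj w₀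
  have hP : Coh.IsQCoh P := Groth.L16.AffineBC.isQCoh_pullback p w₀
  let M := (Coh.push p).obj P
  haveI := hP
  have hM : Coh.IsQCoh M := Groth.L16.QcqsPush.isQCoh_push P p
  let T := G (A := A) w₀
  obtain ⟨κ, hκ⟩ : ∃ κ : T.obj NB ⟶ M, ∀ b : B, T.map (el NB b) ≫ κ = (e₁ A X d).hom ≫ unit p w₀ ≫ mul B p P b := by
    refine EW.exists_desc (N := NB) T (fun b : NB => (e₁ A X d).hom ≫ unit p w₀ ≫ mul B p P b) (fun b c => ?_) fun a b => ?_
    · rw [Groth.L10.RelCan.mul_add, Preadditive.comp_add, Preadditive.comp_add]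
    · rw [Groth.L17.BC.TensorA.G_smul_id, Algebra.smul_def, ← mul_comp, ← smulMod_push hp]
      change _ = Formal.smulModΓ _ _ ≫ _
      rw [Groth.L16.Rees.smulModΓ_naturality, Category.assoc, Category.assoc]
      rfl
  haveI : IsIso κ := by
    refine Groth.L17.BC.Classes.isIso_of_affine _ fun y => ⟨⊤, trivial, fun U _ hU => ?_⟩
    letI : Module A Γ(w₀, U) := Module.compHom Γ(w₀, U) (Groth.L16.AffineBC.scal A X U)
    obtain ⟨E, hE⟩ := Sections.exists_equiv hp w₀ hU
    let ε : (SecFun (A := A) w₀ U).obj (ModuleCat.of A A) ≃ₗ[A] Γ(w₀, U) :=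
      { toFun := fun s => (e₁ A X d).hom.app U s
        invFun := fun s => (e₁ A X d).inv.app U s
        left_inv := fun s => congr(($((e₁ A X d).hom_inv_id)).app U s)
        right_inv := fun s => congr(($((e₁ A X d).inv_hom_id)).app U s)
        map_add' := fun a b => map_add ((e₁ A X d).hom.app U).hom a b
        map_smul' := fun a s => (e₁ A X d).hom.app_smul _ s }
    let τ : (SecFun (A := A) w₀ U).obj (ModuleCat.of A A) ⊗[A] NB ≃+ B ⊗[A] Γ(w₀, U) :=
      ((TensorProduct.congr ε (LinearEquiv.refl A B)).trans (TensorProduct.comm A Γ(w₀, U) B)).toAddEquiv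
    have hall : ∀ t, κ.app U (tMap (SecFun (A := A) w₀ U) NB t) = E (τ t) := by
      intro t
      induction t using TensorProduct.induction_on with
      | zero =>
        exact ((congrArg (κ.app U) (map_zero _)).trans (map_zero (κ.app U).hom)).trans
          ((congrArg E (map_zero τ)).trans (map_zero E)).symm
      | add a b ha hb =>
        exact ((congrArg (κ.app U) (map_add _ a b)).trans (map_add (κ.app U).hom _ _)).trans
          ((congrArg₂ (· + ·) ha hb).trans ((map_add E _ _).symm.trans (congrArg E (map_add τ a b).symm)))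
      | tmul y b =>
        rw [tMap_tmul]
        refine (congr(($(hκ b)).app U y)).trans ?_
        exact (hE b (ε y)).symm
    have hb : Function.Bijective (fun t => κ.app U (tMap (SecFun (A := A) w₀ U) NB t)) := by
      simp only [hall]
      exact E.bijective.comp τ.bijective
    exact (Function.Bijective.of_comp_iff (f := κ.app U) (bijective_tMap (A := A) w₀ hU NB)).1 hb
  let Ψ : M ≅ (RR A X d).obj NB := (asIso κ).symm ≪≫ asIso (cmp (X := X) (d := d) NB)
  let mB : B → (NB ⟶ NB) := fun c => ModuleCat.ofHom (LinearMap.mulLeft A c)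
  have hΨ : ∀ c : B, mul B p P c ≫ Ψ.hom = Ψ.hom ≫ (RR A X d).map (mB c) := by
    intro c
    rw [← cancel_epi κ]
    refine EW.hom_ext T _ _ fun b => ?_
    have h1 : ∀ b' : B, T.map (el NB b') ≫ κ ≫ Ψ.hom = (e₁ A X d).hom ≫ (RR A X d).map (el NB b') := fun b' => by
      simp [Ψ, cmp_el, T, w₀]
    have h3 : el NB b ≫ mB c = el NB (c * b : B) := EW.el_comp (N := NB) (N' := NB) b (mB c)
    calc T.map (el NB b) ≫ κ ≫ mul B p P c ≫ Ψ.hom
        = T.map (el NB (c * b : B)) ≫ κ ≫ Ψ.hom := by
          rw [← Category.assoc, hκ, ← Category.assoc (T.map (el NB (c * b : B))), hκ]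
          simp only [Category.assoc]
          rw [← Category.assoc (mul B p P b), mul_comp]
      _ = (e₁ A X d).hom ≫ (RR A X d).map (el NB (c * b : B)) := h1 _
      _ = T.map (el NB b) ≫ κ ≫ Ψ.hom ≫ (RR A X d).map (mB c) := by
          rw [← Category.assoc κ, ← Category.assoc, h1, Category.assoc, ← Functor.map_comp, h3]
  refine ⟨Ψ, hΨ, fun b => ?_⟩
  rw [← cancel_epi (e₁ A X d).hom]
  have h1 : T.map (el NB b) ≫ κ ≫ Ψ.hom = (e₁ A X d).hom ≫ (RR A X d).map (el NB b) := by
    simp [Ψ, cmp_el, T, w₀]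
  rw [← h1, ← Category.assoc (T.map (el NB b)), hκ]
  simp only [Category.assoc]
  rfl

set_option maxHeartbeats 1600000 in
include hp in
/-- the functional on the top cohomology of the pullback of the dualizing sheaf -/
theorem exists_functional [IsIso (cmp (X := X) (d := d) (ModuleCat.of A B))] :
    ∃ (t : Coh.HH X' ((Scheme.Modules.pullback p).obj (ω₀ A X d)) d →ₗ[B] B),
      (Function.Surjective (tr A X d (one A)) → Function.Surjective t) ∧
      (Function.Injective (tr A X d (ModuleCat.of A B)) → Function.Injective t) := by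
  haveI := Sections.isAffineHom hp
  let w₀ := ω₀ A X d
  let NB : ModuleCat.{u} A := ModuleCat.of A B
  let P := (Scheme.Modules.pullback p).obj w₀
  have hP : Coh.IsQCoh P := Groth.L16.AffineBC.isQCoh_pullback p w₀
  haveI := hP
  let M := (Coh.push p).obj P
  let mB : B → (NB ⟶ NB) := fun c => ModuleCat.ofHom (LinearMap.mulLeft A c)
  obtain ⟨Ψ, hΨ, -⟩ := exists_comparison (d := d) hp
  obtain ⟨e, he⟩ := exists_push_iso p d
  let tB : Coh.HH X M d →ₗ[A] B := tr A X d NB ∘ₗ Canon.HHlin A Ψ.hom d
  have htB : ∀ (c : B) (z : Coh.HH X M d), tB (hmap (mul B p P c) d z) = c * tB z := fun c z => by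
    change tr A X d NB (hmap Ψ.hom d (hmap (mul B p P c) d z)) = c * tr A X d NB (hmap Ψ.hom d z)
    rw [← hmap_comp, hΨ, hmap_comp, tr_natural]
    rfl
  let t' : Coh.HH X' P d →ₗ[B] B :=
    { toFun := fun z => tB (e P hP z)
      map_add' := fun y z => by rw [map_add, map_add]
      map_smul' := fun c z => by rw [← hmap_smulMod P c d z, he hP hP]; exact htB c _ }
  refine ⟨t', fun hsurj b => ?_, fun hinj => ?_⟩
  · obtain ⟨z₀, hz₀⟩ := hsurj (1 : A)
    let z₁ := hmap ((RR A X d).map (el NB b)) d z₀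
    refine ⟨(e P hP).symm (hmap Ψ.inv d z₁), ?_⟩
    change tr A X d NB (hmap Ψ.hom d (e P hP ((e P hP).symm (hmap Ψ.inv d z₁)))) = b
    rw [AddEquiv.apply_symm_apply, ← hmap_comp, Ψ.inv_hom_id, hmap_id]
    change tr A X d NB (hmap ((RR A X d).map (el NB b)) d z₀) = b
    rw [tr_natural, hz₀]
    exact one_smul A b
  · rw [injective_iff_map_eq_zero]
    intro z hz
    have h1 : hmap Ψ.hom d (e P hP z) = 0 := hinj (hz.trans (map_zero _).symm)
    have h2 := congrArg (hmap Ψ.inv d) h1
    rw [← hmap_comp, Ψ.hom_inv_id, hmap_id, map_zero] at h2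
    exact (e P hP).injective (h2.trans (map_zero _).symm)

include hp in
/-- a surjective trace gives surjective functionals after base change -/
theorem exists_surjective_baseChange [IsIso (cmp (X := X) (d := d) (ModuleCat.of A B))]
    (hsurj : Function.Surjective (tr A X d (one A))) :
    ∃ (F : X'.Modules) (_ : Coh.IsQCoh F) (g : Coh.HH X' F d →ₗ[B] B), Function.Surjective g := by
  haveI := Sections.isAffineHom hp
  obtain ⟨t, ht, -⟩ := exists_functional (d := d) hp
  exact ⟨_, Groth.L16.AffineBC.isQCoh_pullback p _, t, ht hsurj⟩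

omit [(cohFunctor (X := X) A d).IsLeftAdjoint] in
include hp in
/-- a non-zero functional on top cohomology of a fibre gives one with values in the residue ring -/
theorem exists_ne_zero_functional (M : X'.Modules) (hM : Coh.IsQCoh M) (l : Coh.HH X' M d →ₗ[B] B)
    (z : Coh.HH X' M d) (hz : l z ≠ 0) :
    ∃ (F : X.Modules) (_ : Coh.IsQCoh F) (ψ : Coh.HH X F d →ₗ[A] B) (y : Coh.HH X F d), ψ y ≠ 0 := by
  haveI := Sections.isAffineHom hp
  haveI := hM
  obtain ⟨e, he⟩ := exists_push_iso p d
  refine ⟨(Coh.push p).obj M, Groth.L16.QcqsPush.isQCoh_push M p,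
    { toFun := fun y => l ((e M hM).symm y)
      map_add' := fun y w => by rw [map_add, map_add]
      map_smul' := fun a y => by
        obtain ⟨w, rfl⟩ := (e M hM).surjective y
        rw [← push_linear hp he, AddEquiv.symm_apply_apply, AddEquiv.symm_apply_apply, map_smul, RingHom.id_apply]
        exact (Algebra.smul_def a (l w)).symm }, e M hM z, ?_⟩
  change l ((e M hM).symm (e M hM z)) ≠ 0
  rwa [AddEquiv.symm_apply_apply]


set_option maxHeartbeats 1600000 in
/-- over a Noetherian ring the trace of a Cohen–Macaulay morphism with non-empty fibres is surjective -/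
theorem surjective_tr [IsNoetherianRing A] [IsProper (X ↘ Spec (CommRingCat.of A))]
    [Surjective (X ↘ Spec (CommRingCat.of A))]
    (hCM : ∀ x : X, MoreMor.IsCMAt (X ↘ Spec (CommRingCat.of A)) x)
    (hd : Cyc.HasRelDim (X ↘ Spec (CommRingCat.of A)) d) :
    Function.Surjective (tr A X d (one A)) := by
  let f := X ↘ Spec (CommRingCat.of A)
  suffices h : (LinearMap.range (tr A X d (one A)) : Submodule A A) = ⊤ from LinearMap.range_eq_top.1 h
  by_contra h
  obtain ⟨m, hm, hle⟩ := Ideal.exists_le_maximal (LinearMap.range (tr A X d (one A)) : Ideal A) h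
  haveI := hm
  letI : Field (A ⧸ m) := Ideal.Quotient.field m
  let k : ModuleCat.{u} A := ModuleCat.of A (A ⧸ m)
  let π : one A ⟶ k := ModuleCat.ofHom m.mkQ
  haveI : Epi π := (ModuleCat.epi_iff_surjective _).2 (Submodule.mkQ_surjective _)
  haveI := epi_RR_map d hCM hd π
  have htr : ∀ y, tr A X d k y = 0 := fun y => by
    obtain ⟨w, rfl⟩ := surjective_hmap (A := A) d (isQCoh_RR A X d _) (isQCoh_RR A X d _) ((RR A X d).map π) y
    rw [tr_natural]
    exact (Submodule.Quotient.mk_eq_zero m).2 (hle ⟨w, rfl⟩)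
  -- the fibre
  let b := Spec.map (CommRingCat.ofHom (algebraMap A (A ⧸ m)))
  let Xk := pullback b f
  let fk : Xk ⟶ Spec (CommRingCat.of (A ⧸ m)) := pullback.fst b f
  letI : Xk.Over (Spec (CommRingCat.of (A ⧸ m))) := ⟨fk⟩
  haveI : IsProper fk := MorphismProperty.pullback_fst _ _ ‹_›
  haveI : IsLocallyNoetherian Xk := LocallyOfFiniteType.isLocallyNoetherian fk
  have sq : IsPullback (pullback.snd b f) fk f b := (IsPullback.of_hasPullback b f).flip
  haveI : Surjective fk := MorphismProperty.pullback_fst _ _ ‹_›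
  obtain ⟨x₀, -⟩ := fk.surjective (⟨⊥, Ideal.isPrime_bot⟩ : PrimeSpectrum (A ⧸ m))
  -- a component of dimension `d`
  have hdim : ∀ T ∈ irreducibleComponents ↥Xk, topologicalKrullDim T = d := by
    haveI : Subsingleton ↥(Spec (CommRingCat.of (A ⧸ m))) := inferInstanceAs (Subsingleton (PrimeSpectrum (A ⧸ m)))
    let s : ↥(Spec (CommRingCat.of (A ⧸ m))) := ⟨⊥, Ideal.isPrime_bot⟩
    have hpure := Groth.L22.Cyc.hasRelDim_baseChange sq hd
    let h : ↥(fk.fiber s) ≃ₜ ↥Xk := (fk.fiberHomeo s).trans
      ((Homeomorph.setCongr (Set.eq_univ_of_forall fun x => Subsingleton.elim (fk x) s)).trans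
        (Homeomorph.Set.univ _))
    exact fun T hT => Groth.L19.Limit.components_dim_homeomorph h (fun Z hZ => hpure s Z hZ) T hT
  let T := irreducibleComponent x₀
  have hT : IsClosed T := isClosed_irreducibleComponent
  let I := Scheme.IdealSheafData.vanishingIdeal (⟨T, hT⟩ : TopologicalSpace.Closeds Xk)
  let i := I.subschemeι
  have hrange : Set.range i = T := by
    rw [Scheme.IdealSheafData.range_subschemeι, Scheme.IdealSheafData.coe_support_vanishingIdeal]
    first | rfl | exact hT.closure_eq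
  let hi : ↥I.subscheme ≃ₜ ↥T := i.isEmbedding.toHomeomorph.trans (Homeomorph.setCongr hrange)
  haveI : IrreducibleSpace ↥T := Subtype.irreducibleSpace isIrreducible_irreducibleComponent
  haveI : IrreducibleSpace ↥I.subscheme := hi.symm.surjective.irreducibleSpace hi.symm.continuous
  have hZ : topologicalKrullDim ↥I.subscheme = d :=
    (hi.isHomeomorph.topologicalKrullDim_eq).trans
      (hdim T (irreducibleComponent_mem_irreducibleComponents x₀))
  haveI : IsProper (i ≫ fk) := inferInstance
  obtain ⟨M, hM, hnt⟩ := Groth.L10.TopDual.exists_nontrivial_top (A ⧸ m) fk i d hZ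
  obtain ⟨z, hz⟩ := exists_ne (0 : Coh.HH Xk M d)
  obtain ⟨l, hl⟩ := Module.Projective.exists_dual_ne_zero (R := A ⧸ m) hz
  obtain ⟨F, hF, ψ, y, hy⟩ := exists_ne_zero_functional (X := X) sq M hM.1 l z hl
  obtain ⟨φ, hφ, -⟩ := tr_spec k F hF ψ
  exact hy ((hφ y).trans (htr _))

end Groth.L29.TraceSurj
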